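import Mathlib

/-! Structure of a non-abelian minimal normal subgroup `N` of a finite group: `N = T × C` with `T` simple,
`C = C_N(T)`, and every conjugate of `T` is `T` or lies in `C` (helper63). -/

namespace H63.MinNormalFactor

open Subgroup

/-- The conjugate `g T g⁻¹`. -/
def cj {G : Type*} [Group G] (g : G) (T : Subgroup G) : Subgroup G := T.map (MulAut.conj g).toMonoidHom

theorem mem_cj {G : Type*} [Group G] {g : G} {T : Subgroup G} {x : G} : x ∈ cj g T ↔ g⁻¹ * x * g ∈ T := by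
  constructor
  · rintro ⟨t, ht, rfl⟩
    have : g⁻¹ * ((MulAut.conj g).toMonoidHom t) * g = t := by
      simp [MulAut.conj_apply, mul_assoc]
    rw [this]; exact ht
  · intro h
    refine ⟨g⁻¹ * x * g, h, ?_⟩
    simp [MulAut.conj_apply, mul_assoc]

theorem card_cj {G : Type*} [Group G] (g : G) (T : Subgroup G) : Nat.card (cj g T) = Nat.card T :=
  (Nat.card_congr (T.equivMapOfInjective _ (MulAut.conj g).injective).toEquiv).symm

theorem cj_ne_bot {G : Type*} [Group G] {g : G} {T : Subgroup G} (h : T ≠ ⊥) : cj g T ≠ ⊥ := by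
  intro h1
  apply h
  rw [eq_bot_iff]
  intro t ht
  have : g * t * g⁻¹ ∈ cj g T := mem_cj.mpr (by simpa [mul_assoc] using ht)
  rw [h1, mem_bot] at this
  have : t = 1 := by
    have h2 := congrArg (fun y => g⁻¹ * y * g) this
    simpa [mul_assoc] using h2
  exact mem_bot.mpr this

/-- `S` is normalized by (all elements of) `N`. -/
def NormBy {G : Type*} [Group G] (N S : Subgroup G) : Prop := ∀ n ∈ N, ∀ s ∈ S, n * s * n⁻¹ ∈ S

theorem NormBy.cj {G : Type*} [Group G] {N S : Subgroup G} [hN : N.Normal] (h : NormBy N S) (g : G) :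
    NormBy N (cj g S) := by
  intro n hn s hs
  rw [mem_cj] at hs ⊢
  have hn' : g⁻¹ * n * g ∈ N := by simpa using hN.conj_mem n hn g⁻¹
  have := h _ hn' _ hs
  have e : g⁻¹ * n * g * (g⁻¹ * s * g) * (g⁻¹ * n * g)⁻¹ = g⁻¹ * (n * s * n⁻¹) * g := by group
  rwa [e] at this

theorem NormBy.inf {G : Type*} [Group G] {N S S' : Subgroup G} (h : NormBy N S) (h' : NormBy N S') :
    NormBy N (S ⊓ S') := fun n hn s hs => ⟨h n hn s hs.1, h' n hn s hs.2⟩

theorem exists_min {G : Type*} [Group G] [Finite G] (N : Subgroup G) (hNne : N ≠ ⊥) :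
    ∃ T : Subgroup G, T ≤ N ∧ T ≠ ⊥ ∧ NormBy N T ∧
      ∀ S : Subgroup G, S ≤ T → S ≠ ⊥ → NormBy N S → S = T := by
  have hN : N ∈ {T : Subgroup G | T ≤ N ∧ T ≠ ⊥ ∧ NormBy N T} :=
    ⟨le_rfl, hNne, fun n hn s hs => N.mul_mem (N.mul_mem hn hs) (N.inv_mem hn)⟩
  obtain ⟨T, hT, hmin⟩ := Set.Finite.exists_minimal (s := {T : Subgroup G | T ≤ N ∧ T ≠ ⊥ ∧ NormBy N T})
    (Set.toFinite _) ⟨N, hN⟩
  refine ⟨T, hT.1, hT.2.1, hT.2.2, ?_⟩
  intro S hST hSne hSn
  exact le_antisymm hST (hmin ⟨hST.trans hT.1, hSne, hSn⟩ hST)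

/-- Elements of two trivially intersecting subgroups normalizing each other commute. -/
theorem comm_of_inf_eq_bot {G : Type*} [Group G] {A B : Subgroup G} (h : A ⊓ B = ⊥)
    (hAB : NormBy A B) (hBA : NormBy B A) : ∀ a ∈ A, ∀ b ∈ B, a * b = b * a := by
  intro a ha b hb
  have h1 : a * b * a⁻¹ * b⁻¹ ∈ B := B.mul_mem (hAB a ha b hb) (B.inv_mem hb)
  have h2 : a * b * a⁻¹ * b⁻¹ ∈ A := by
    have : a * (b * a⁻¹ * b⁻¹) ∈ A := A.mul_mem ha (hBA b hb _ (A.inv_mem ha))
    simpa [mul_assoc] using this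
  have h3 : a * b * a⁻¹ * b⁻¹ ∈ A ⊓ B := ⟨h2, h1⟩
  rw [h, mem_bot] at h3
  rw [mul_inv_eq_one, mul_inv_eq_iff_eq_mul] at h3
  exact h3

section

variable {G : Type*} [Group G] [Finite G] {N T : Subgroup G}

/-- Package of facts. -/
structure Factor (N T : Subgroup G) : Prop where
  le : T ≤ N
  ne : T ≠ ⊥
  norm : NormBy N T
  min : ∀ S : Subgroup G, S ≤ T → S ≠ ⊥ → NormBy N S → S = T

theorem cj_eq_or_inf_eq_bot (hN : N.Normal) (hT : Factor N T) (g : G) : cj g T = T ∨ cj g T ⊓ T = ⊥ := by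
  by_cases h : cj g T ⊓ T = ⊥
  · exact Or.inr h
  · left
    have h1 := hT.min (cj g T ⊓ T) inf_le_right h ((hT.norm.cj g).inf hT.norm)
    have h2 : T ≤ cj g T := h1.ge.trans inf_le_left
    exact (Subgroup.eq_of_le_of_card_ge h2 (by rw [card_cj])).symm

/-- Conjugates of `T` other than `T` centralize `T`. -/
theorem cj_comm (hN : N.Normal) (hT : Factor N T) {g : G} (hg : cj g T ≠ T) :
    ∀ a ∈ cj g T, ∀ b ∈ T, a * b = b * a := by
  have h := (cj_eq_or_inf_eq_bot hN hT g).resolve_left hg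
  have hle : cj g T ≤ N := by
    intro x hx
    have := hT.le (mem_cj.mp hx)
    have h2 := hN.conj_mem _ this g
    simpa [mul_assoc] using h2
  apply comm_of_inf_eq_bot h
  · intro a ha b hb
    exact hT.norm a (hle ha) b hb
  · intro a ha b hb
    exact hT.norm.cj g a (hT.le ha) b hb

theorem cj_le (hN : N.Normal) (hT : Factor N T) (g : G) : cj g T ≤ N := by
  intro x hx
  have := hT.le (mem_cj.mp hx)
  have h2 := hN.conj_mem _ this g
  simpa [mul_assoc] using h2

/-- The join of all conjugates of `T` is `N` when `N` is minimal normal. -/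
theorem iSup_cj (hN : N.Normal) (hmin : ∀ M : Subgroup G, M.Normal → M ≤ N → M ≠ ⊥ → M = N)
    (hT : Factor N T) : ⨆ g : G, cj g T = N := by
  apply hmin
  · constructor
    intro x hx g
    -- conjugation maps the sup to itself
    have h1 : (⨆ g : G, cj g T).map (MulAut.conj g).toMonoidHom ≤ ⨆ g : G, cj g T := by
      rw [Subgroup.map_iSup]
      apply iSup_le
      intro y
      refine le_trans ?_ (le_iSup _ (g * y))
      intro z hz
      obtain ⟨w, hw, rfl⟩ := hz
      rw [mem_cj]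
      have hw' := mem_cj.mp hw
      have e : (g * y)⁻¹ * ((MulAut.conj g).toMonoidHom w) * (g * y) = y⁻¹ * w * y := by
        simp [MulAut.conj_apply, mul_assoc]
      rw [e]; exact hw'
    apply h1
    exact ⟨x, hx, by simp [MulAut.conj_apply]⟩
  · exact iSup_le (fun g => cj_le hN hT g)
  · intro h
    apply hT.ne
    have h1 : T ≤ ⨆ g : G, cj g T := by
      refine le_trans ?_ (le_iSup _ (1 : G))
      intro x hx
      exact mem_cj.mpr (by simpa using hx)
    rw [h] at h1
    exact le_bot_iff.mp h1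

/-- The centralizer part. -/
def cc (N T : Subgroup G) : Subgroup G := N ⊓ Subgroup.centralizer (T : Set G)

theorem mem_cc {x : G} : x ∈ cc N T ↔ x ∈ N ∧ ∀ t ∈ T, t * x = x * t := by
  rw [cc, Subgroup.mem_inf, Subgroup.mem_centralizer_iff]
  rfl

theorem cj_le_cc (hN : N.Normal) (hT : Factor N T) {g : G} (hg : cj g T ≠ T) : cj g T ≤ cc N T := by
  intro x hx
  rw [mem_cc]
  exact ⟨cj_le hN hT g hx, fun t ht => (cj_comm hN hT hg x hx t ht).symm⟩

theorem sup_cc (hN : N.Normal) (hmin : ∀ M : Subgroup G, M.Normal → M ≤ N → M ≠ ⊥ → M = N)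
    (hT : Factor N T) : T ⊔ cc N T = N := by
  apply le_antisymm (sup_le hT.le inf_le_left)
  rw [← iSup_cj hN hmin hT]
  apply iSup_le
  intro g
  by_cases hg : cj g T = T
  · rw [hg]; exact le_sup_left
  · refine (cj_le_cc hN hT hg).trans ?_
    rw [iSup_cj hN hmin hT]
    exact le_sup_right

/-- every element of `N` is `t * c`. -/
theorem exists_mul (hN : N.Normal) (hmin : ∀ M : Subgroup G, M.Normal → M ≤ N → M ≠ ⊥ → M = N)
    (hT : Factor N T) {n : G} (hn : n ∈ N) : ∃ t ∈ T, ∃ c ∈ cc N T, n = t * c := by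
  let NT : Subgroup G :=
    { carrier := {n | ∃ t ∈ T, ∃ c ∈ cc N T, n = t * c}
      mul_mem' := by
        rintro _ _ ⟨t, ht, c, hc, rfl⟩ ⟨t', ht', c', hc', rfl⟩
        refine ⟨t * t', T.mul_mem ht ht', c * c', (cc N T).mul_mem hc hc', ?_⟩
        have := (mem_cc.mp hc).2 t' ht'
        calc t * c * (t' * c') = t * (c * t') * c' := by group
          _ = t * (t' * c) * c' := by rw [this]
          _ = _ := by group
      one_mem' := ⟨1, T.one_mem, 1, (cc N T).one_mem, by simp⟩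
      inv_mem' := by
        rintro _ ⟨t, ht, c, hc, rfl⟩
        refine ⟨t⁻¹, T.inv_mem ht, c⁻¹, (cc N T).inv_mem hc, ?_⟩
        have := (mem_cc.mp ((cc N T).inv_mem hc)).2 _ (T.inv_mem ht)
        rw [mul_inv_rev, this] }
  have h : T ⊔ cc N T ≤ NT := by
    apply sup_le
    · intro t ht
      exact ⟨t, ht, 1, (cc N T).one_mem, by simp⟩
    · intro c hc
      exact ⟨1, T.one_mem, c, hc, by simp⟩
  rw [sup_cc hN hmin hT] at h
  exact h hn

theorem T_not_comm (hN : N.Normal) (hmin : ∀ M : Subgroup G, M.Normal → M ≤ N → M ≠ ⊥ → M = N)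
    (hT : Factor N T) (hNc : ¬ ∀ a ∈ N, ∀ b ∈ N, a * b = b * a) :
    ¬ ∀ a ∈ T, ∀ b ∈ T, a * b = b * a := by
  intro hTc
  apply hNc
  -- T centralizes N
  have h1 : ∀ a ∈ T, ∀ n ∈ N, a * n = n * a := by
    intro a ha n hn
    obtain ⟨t, ht, c, hc, rfl⟩ := exists_mul hN hmin hT hn
    have h2 := (mem_cc.mp hc).2 a ha
    calc a * (t * c) = (a * t) * c := by group
      _ = (t * a) * c := by rw [hTc a ha t ht]
      _ = t * (a * c) := by group
      _ = t * (c * a) := by rw [h2]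
      _ = _ := by group
  have h2 : N ≤ Subgroup.centralizer (N : Set G) := by
    conv_lhs => rw [← iSup_cj hN hmin hT]
    apply iSup_le
    intro g x hx
    rw [Subgroup.mem_centralizer_iff]
    intro n hn
    have hx' := mem_cj.mp hx
    have hn' : g⁻¹ * n * g ∈ N := by simpa using hN.conj_mem n hn g⁻¹
    have := h1 _ hx' _ hn'
    have e := congrArg (fun y => g * y * g⁻¹) this
    simp only [mul_assoc, inv_mul_cancel_left, mul_inv_cancel_left, mul_inv_cancel, mul_one] at e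
    exact e.symm
  intro a ha b hb
  exact (Subgroup.mem_centralizer_iff.mp (h2 hb)) a ha

theorem inf_cc (hN : N.Normal) (hmin : ∀ M : Subgroup G, M.Normal → M ≤ N → M ≠ ⊥ → M = N)
    (hT : Factor N T) (hNc : ¬ ∀ a ∈ N, ∀ b ∈ N, a * b = b * a) : T ⊓ cc N T = ⊥ := by
  by_contra h
  have hc : NormBy N (cc N T) := by
    intro n hn c hc
    rw [mem_cc] at hc ⊢
    refine ⟨N.mul_mem (N.mul_mem hn hc.1) (N.inv_mem hn), ?_⟩
    intro t ht
    have ht' : n⁻¹ * t * n ∈ T := by
      have := hT.norm n⁻¹ (N.inv_mem hn) t ht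
      simpa using this
    have := hc.2 _ ht'
    have e := congrArg (fun y => n * y * n⁻¹) this
    simp only [mul_assoc, inv_mul_cancel_left, mul_inv_cancel_left, mul_inv_cancel, mul_one] at e
    simpa [mul_assoc] using e
  have h1 := hT.min (T ⊓ cc N T) inf_le_left h (hT.norm.inf hc)
  apply T_not_comm hN hmin hT hNc
  intro a ha b hb
  have hb' : b ∈ T ⊓ cc N T := by rw [h1]; exact hb
  exact (mem_cc.mp hb'.2).2 a ha

/-- `T` is simple: any nontrivial subgroup of `T` normalized by `T` is `T`. -/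
theorem T_simple (hN : N.Normal) (hmin : ∀ M : Subgroup G, M.Normal → M ≤ N → M ≠ ⊥ → M = N)
    (hT : Factor N T) {S : Subgroup G} (hST : S ≤ T) (hS : S ≠ ⊥) (hn : NormBy T S) : S = T := by
  apply hT.min S hST hS
  intro n hnN s hs
  obtain ⟨t, ht, c, hc, rfl⟩ := exists_mul hN hmin hT hnN
  have h1 := (mem_cc.mp hc).2 s (hST hs)
  have e : t * c * s * (t * c)⁻¹ = t * s * t⁻¹ := by
    rw [mul_assoc t c s, ← h1]
    group
  rw [e]
  exact hn t ht s hs

theorem isSimpleGroup (hN : N.Normal) (hmin : ∀ M : Subgroup G, M.Normal → M ≤ N → M ≠ ⊥ → M = N)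
    (hT : Factor N T) : IsSimpleGroup T := by
  have hnt : Nontrivial T := by
    rw [Subgroup.nontrivial_iff_ne_bot]; exact hT.ne
  refine { eq_bot_or_eq_top_of_normal := ?_ }
  intro S hS
  by_cases h : S = ⊥
  · exact Or.inl h
  · right
    have h1 : S.map T.subtype = T := by
      apply T_simple hN hmin hT
      · exact Subgroup.map_subtype_le S
      · intro h2
        exact h ((Subgroup.map_eq_bot_iff_of_injective _ T.subtype_injective).mp h2)
      · rintro t ht _ ⟨s, hs, rfl⟩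
        exact ⟨⟨t, ht⟩ * s * ⟨t, ht⟩⁻¹, hS.conj_mem s hs ⟨t, ht⟩, rfl⟩
    rw [eq_top_iff]
    rintro ⟨t, ht⟩ -
    have : t ∈ S.map T.subtype := by rw [h1]; exact ht
    obtain ⟨s, hs, hst⟩ := this
    have : s = ⟨t, ht⟩ := Subtype.ext hst
    rw [← this]; exact hs

/-- A nonabelian `T` is not a `p`-group. -/
theorem exists_orderOf_prime_ne (hN : N.Normal)
    (hmin : ∀ M : Subgroup G, M.Normal → M ≤ N → M ≠ ⊥ → M = N)
    (hT : Factor N T) (hNc : ¬ ∀ a ∈ N, ∀ b ∈ N, a * b = b * a) (p : ℕ) (hp : p.Prime) :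
    ∃ q : ℕ, q.Prime ∧ q ≠ p ∧ ∃ s ∈ T, orderOf s = q := by
  by_contra hcon
  push Not at hcon
  have : Fact p.Prime := ⟨hp⟩
  have hTp : IsPGroup p T := by
    rw [IsPGroup.iff_card]
    have h0 : Nat.card T ≠ 0 := Nat.card_pos.ne'
    refine ⟨(Nat.card T).primeFactorsList.length, Nat.eq_prime_pow_of_unique_prime_dvd h0 ?_⟩
    intro q hq hqd
    by_contra hqp
    have : Fact q.Prime := ⟨hq⟩
    obtain ⟨s, hs⟩ := exists_prime_orderOf_dvd_card' q hqd
    exact hcon q hq hqp s s.2 (by rw [Subgroup.orderOf_coe, hs])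
  have hnt : Nontrivial T := by
    rw [Subgroup.nontrivial_iff_ne_bot]; exact hT.ne
  have hsimple := isSimpleGroup hN hmin hT
  have hc := hTp.bot_lt_center
  have hctop : Subgroup.center T = ⊤ :=
    (hsimple.eq_bot_or_eq_top_of_normal _ inferInstance).resolve_left hc.ne'
  apply T_not_comm hN hmin hT hNc
  intro a ha b hb
  have : (⟨b, hb⟩ : T) ∈ Subgroup.center T := by rw [hctop]; trivial
  exact congrArg Subtype.val ((Subgroup.mem_center_iff.mp this) ⟨a, ha⟩)

end

end H63.MinNormalFactor
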