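import Cfsg.Agent.Lib.H63.ThreePrimes

/-! Lucido's lemma: three distinct prime divisors of the order of a finite solvable group are not pairwise
non-adjacent in the prime graph (helper63). -/

namespace H63.SolvablePrimes

open Subgroup
open scoped commutatorElement

/-- A nontrivial finite solvable group has a nontrivial normal elementary abelian `t`-subgroup. -/
theorem exists_normal_elementary {G : Type*} [Group G] [Finite G] [Nontrivial G] (hG : Group.IsSolvable G) :
    ∃ t : ℕ, t.Prime ∧ ∃ T : Subgroup G, T.Normal ∧ T ≠ ⊥ ∧ (∀ a ∈ T, a ^ t = 1) ∧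
      (∀ a ∈ T, ∀ b ∈ T, a * b = b * a) := by
  classical
  obtain ⟨n0, hn0⟩ := hG.solvable
  have hex : ∃ n : ℕ, derivedSeries G n = ⊥ := ⟨n0, hn0⟩
  let n := Nat.find hex
  have hn : derivedSeries G n = ⊥ := Nat.find_spec hex
  have hnpos : n ≠ 0 := by
    intro h
    rw [h, derivedSeries_zero] at hn
    exact top_ne_bot hn
  obtain ⟨m, hm⟩ := Nat.exists_eq_succ_of_ne_zero hnpos
  have hmne : derivedSeries G m ≠ ⊥ := Nat.find_min hex (by show m < n; omega)
  have hcomm : ⁅derivedSeries G m, derivedSeries G m⁆ = ⊥ := by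
    rw [← derivedSeries_succ, ← hn, hm]
  let A := derivedSeries G m
  have hAc : ∀ a ∈ A, ∀ b ∈ A, a * b = b * a := by
    intro a ha b hb
    have : ⁅a, b⁆ ∈ ⁅A, A⁆ := Subgroup.commutator_mem_commutator ha hb
    rw [hcomm, Subgroup.mem_bot] at this
    exact commutatorElement_eq_one_iff_mul_comm.mp this
  have hAn : A.Normal := derivedSeries_normal G m
  have hA1 : Nat.card A ≠ 1 := fun h => hmne (Subgroup.card_eq_one.mp h)
  obtain ⟨t, ht, htd⟩ := Nat.exists_prime_and_dvd hA1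
  have : Fact t.Prime := ⟨ht⟩
  obtain ⟨a, ha⟩ := exists_prime_orderOf_dvd_card' t htd
  refine ⟨t, ht, { carrier := {v | v ∈ A ∧ v ^ t = 1}, mul_mem' := ?_, one_mem' := ?_, inv_mem' := ?_ }, ?_, ?_, ?_, ?_⟩
  · rintro x y ⟨hx, hx'⟩ ⟨hy, hy'⟩
    refine ⟨A.mul_mem hx hy, ?_⟩
    rw [(show Commute x y from hAc x hx y hy).mul_pow, hx', hy', one_mul]
  · exact ⟨A.one_mem, one_pow _⟩
  · rintro x ⟨hx, hx'⟩
    exact ⟨A.inv_mem hx, by rw [inv_pow, hx', inv_one]⟩
  · constructor
    rintro x ⟨hx, hx'⟩ g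
    exact ⟨hAn.conj_mem x hx g, by rw [conj_pow, hx', mul_one, mul_inv_cancel]⟩
  · intro h
    have : (a : G) ∈ (⊥ : Subgroup G) := by
      rw [← h]
      refine ⟨a.2, ?_⟩
      have : a ^ t = 1 := orderOf_dvd_iff_pow_eq_one.mp (dvd_of_eq ha)
      rw [← Subgroup.coe_pow, this, Subgroup.coe_one]
    rw [Subgroup.mem_bot] at this
    have h1 : a = 1 := Subtype.ext this
    rw [h1, orderOf_one] at ha
    exact ht.one_lt.ne ha
  · intro x hx; exact hx.2
  · intro x hx y hy; exact hAc x hx.1 y hy.1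

/-- In a solvable group, a proper normal subgroup `K` sits in a normal `M > K` with `M / K` a `t`-group. -/
theorem exists_next {G : Type*} [Group G] [Finite G] (hG : Group.IsSolvable G) (K : Subgroup G) [K.Normal]
    (hK : K ≠ ⊤) : ∃ (M : Subgroup G) (t k : ℕ), M.Normal ∧ K < M ∧ t.Prime ∧ K.relIndex M = t ^ k := by
  have hne : Nontrivial (G ⧸ K) := QuotientGroup.nontrivial_iff.mpr hK
  have hs : Group.IsSolvable (G ⧸ K) := inferInstance
  obtain ⟨t, ht, T, hTn, hTne, hTt, -⟩ := exists_normal_elementary hs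
  have : Fact t.Prime := ⟨ht⟩
  have hTp : IsPGroup t T := by
    intro a
    exact ⟨1, Subtype.ext (by rw [pow_one]; exact hTt a a.2)⟩
  obtain ⟨k, hk⟩ := IsPGroup.iff_card.mp hTp
  let M := T.comap (QuotientGroup.mk' K)
  have hKM : K ≤ M := by
    intro x hx
    show QuotientGroup.mk' K x ∈ T
    rw [(QuotientGroup.eq_one_iff x).mpr hx |> fun h => (h : QuotientGroup.mk' K x = 1)]
    exact T.one_mem
  have hidx : K.relIndex M = Nat.card T := by
    have h1 : M.map (QuotientGroup.mk' K) = T :=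
      Subgroup.map_comap_eq_self_of_surjective (QuotientGroup.mk'_surjective K) T
    have h2 : Nat.card (M.map (QuotientGroup.mk' K)) = (QuotientGroup.mk' K).ker.relIndex M := by
      rw [Subgroup.relIndex_ker]
    rw [h1, QuotientGroup.ker_mk'] at h2
    exact h2.symm
  refine ⟨M, t, k, hTn.comap _, lt_of_le_of_ne hKM ?_, ht, ?_⟩
  · intro h
    have h1 : K.relIndex M = 1 := Subgroup.relIndex_eq_one.mpr h.ge
    rw [hidx] at h1
    exact hTne (Subgroup.card_eq_one.mp h1)
  · exact hidx.trans hk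

/-- Lucido's lemma. -/
theorem lucido {G : Type*} [Group G] [Finite G] (hG : Group.IsSolvable G) {p q r : ℕ} (hp : p.Prime)
    (hq : q.Prime) (hr : r.Prime) (hpq : p ≠ q) (hpr : p ≠ r) (hqr : q ≠ r)
    (hpG : p ∣ Nat.card G) (hqG : q ∣ Nat.card G) (hrG : r ∣ Nat.card G) :
    (∃ y : G, orderOf y = p * q) ∨ (∃ y : G, orderOf y = p * r) ∨ (∃ y : G, orderOf y = q * r) := by
  classical
  -- normal subgroups whose order is divisible by at most one of the primes
  let good : Subgroup G → Prop := fun K => K.Normal ∧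
    ¬ (p ∣ Nat.card K ∧ q ∣ Nat.card K) ∧ ¬ (p ∣ Nat.card K ∧ r ∣ Nat.card K) ∧
    ¬ (q ∣ Nat.card K ∧ r ∣ Nat.card K)
  have hbot : good ⊥ := by
    refine ⟨inferInstance, ?_, ?_, ?_⟩
    · rintro ⟨h1, -⟩
      rw [Subgroup.card_bot, Nat.dvd_one] at h1
      exact hp.one_lt.ne' h1
    · rintro ⟨h1, -⟩
      rw [Subgroup.card_bot, Nat.dvd_one] at h1
      exact hp.one_lt.ne' h1
    · rintro ⟨h1, -⟩
      rw [Subgroup.card_bot, Nat.dvd_one] at h1
      exact hq.one_lt.ne' h1
  obtain ⟨K, hK, hmax⟩ := Set.Finite.exists_maximal (s := {K : Subgroup G | good K}) (Set.toFinite _) ⟨⊥, hbot⟩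
  have hKn : K.Normal := hK.1
  have hKtop : K ≠ ⊤ := by
    rintro rfl
    apply hK.2.1
    rw [Subgroup.card_top]
    exact ⟨hpG, hqG⟩
  obtain ⟨M, t, k, hMn, hKM, ht, hidx⟩ := exists_next hG K hKtop
  have hMbad : ¬ good M := by
    intro h
    exact absurd (hmax h hKM.le) (not_le_of_gt hKM)
  have hcard : Nat.card M = Nat.card K * t ^ k := by
    rw [← hidx]
    have := Subgroup.relIndex_mul_relIndex (⊥ : Subgroup G) K M bot_le hKM.le
    rw [Subgroup.relIndex_bot_left, Subgroup.relIndex_bot_left] at this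
    exact this.symm
  -- a prime dividing |M| divides |K| or equals t
  have hdiv : ∀ s : ℕ, s.Prime → s ∣ Nat.card M → s ∣ Nat.card K ∨ (s = t ∧ s ∣ K.relIndex M) := by
    intro s hs hsM
    rw [hcard, hs.dvd_mul] at hsM
    rcases hsM with h | h
    · exact Or.inl h
    · right
      have h1 := (Nat.prime_dvd_prime_iff_eq hs ht).mp (hs.dvd_of_dvd_pow h)
      exact ⟨h1, by rw [hidx]; exact h⟩
  have hidxG : Nat.card M * M.index = Nat.card G := Subgroup.card_mul_index M
  have hrest : ∀ s : ℕ, s.Prime → s ∣ Nat.card G → ¬ s ∣ Nat.card M → s ∣ M.index := by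
    intro s hs hsG hsM
    rw [← hidxG, hs.dvd_mul] at hsG
    exact hsG.resolve_left hsM
  -- the abstract situation
  have main : ∀ a b c : ℕ, a.Prime → b.Prime → c.Prime → a ≠ b → a ≠ c → b ≠ c →
      c ∣ Nat.card G → ¬ (a ∣ Nat.card K ∧ b ∣ Nat.card K) → ¬ (a ∣ Nat.card K ∧ c ∣ Nat.card K) →
      ¬ (b ∣ Nat.card K ∧ c ∣ Nat.card K) → a ∣ Nat.card M → b ∣ Nat.card M →
      (∃ y : G, orderOf y = a * b) ∨ (∃ y : G, orderOf y = a * c) ∨ (∃ y : G, orderOf y = b * c) := by
    intro a b c ha hb hc hab hac hbc hcG h1 h2 h3 haM hbM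
    rcases hdiv a ha haM with hA | ⟨hA, hA'⟩
    · -- a ∣ |K|, so b = t
      rcases hdiv b hb hbM with hB | ⟨hB, hB'⟩
      · exact absurd ⟨hA, hB⟩ h1
      · have hcM : ¬ c ∣ Nat.card M := by
          intro h
          rcases hdiv c hc h with hC | ⟨hC, -⟩
          · exact h2 ⟨hA, hC⟩
          · exact hbc (hB.trans hC.symm)
        exact H63.ThreePrimes.chain K M hKM.le ha hb hc hab hac hbc hA hB' (hrest c hc hcG hcM)
    · rcases hdiv b hb hbM with hB | ⟨hB, hB'⟩
      · have hcM : ¬ c ∣ Nat.card M := by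
          intro h
          rcases hdiv c hc h with hC | ⟨hC, -⟩
          · exact h3 ⟨hB, hC⟩
          · exact hac (hA.trans hC.symm)
        rcases H63.ThreePrimes.chain K M hKM.le hb ha hc hab.symm hbc hac hB hA' (hrest c hc hcG hcM) with h | h | h
        · left; rwa [mul_comm]
        · right; right; exact h
        · right; left; exact h
      · exact absurd (hA.trans hB.symm) hab
  have hcase : (p ∣ Nat.card M ∧ q ∣ Nat.card M) ∨ (p ∣ Nat.card M ∧ r ∣ Nat.card M) ∨
      (q ∣ Nat.card M ∧ r ∣ Nat.card M) := by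
    by_contra hcon
    push Not at hcon
    apply hMbad
    refine ⟨hMn, ?_, ?_, ?_⟩
    · rintro ⟨h1, h2⟩; exact hcon.1 h1 h2
    · rintro ⟨h1, h2⟩; exact hcon.2.1 h1 h2
    · rintro ⟨h1, h2⟩; exact hcon.2.2 h1 h2
  obtain ⟨-, g1, g2, g3⟩ := hK
  rcases hcase with ⟨h1, h2⟩ | ⟨h1, h2⟩ | ⟨h1, h2⟩
  · exact main p q r hp hq hr hpq hpr hqr hrG g1 g2 g3 h1 h2
  · rcases main p r q hp hr hq hpr hpq hqr.symm hqG g2 g1 (fun h => g3 ⟨h.2, h.1⟩) h1 h2 with h | h | h
    · right; left; exact h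
    · left; exact h
    · right; right; rwa [mul_comm]
  · rcases main q r p hq hr hp hqr hpq.symm hpr.symm hpG g3 (fun h => g1 ⟨h.2, h.1⟩) (fun h => g2 ⟨h.2, h.1⟩) h1 h2 with h | h | h
    · right; right; exact h
    · left; rwa [mul_comm]
    · right; left; rwa [mul_comm]

end H63.SolvablePrimes
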