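import Cfsg.Agent.Lib.H63.J2Cent

set_option autoImplicit false
set_option maxRecDepth 10000

/-! The centralizer of a reflection in the Hall-Janko group modulo its normal extraspecial subgroup. -/

namespace H63.J2

open Quaternion Cfsg.Spor H63.PC H63.JT H63.Ico

/-- frame permutation of the first generator -/
def pi0 : Equiv.Perm (Fin 5) := ⟨![4, 1, 3, 2, 0], ![4, 1, 3, 2, 0], by decide, by decide⟩
/-- frame permutation of the second generator -/
def pi1 : Equiv.Perm (Fin 5) := ⟨![3, 0, 1, 4, 2], ![1, 2, 4, 0, 3], by decide, by decide⟩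

/-- table form -/
noncomputable def pt (P i : Nat) : Nat := Nat.land (Nat.shiftRight P (Nat.mul 3 i)) 7

/-- packed `pi0` -/
def P0t : Nat := 4 + 8 * 1 + 64 * 3 + 512 * 2 + 4096 * 0 + 32768 * 5
/-- packed `pi1` -/
def P1t : Nat := 3 + 8 * 0 + 64 * 1 + 512 * 4 + 4096 * 2 + 32768 * 5

/-- frame check -/
noncomputable def frChk (G P : Nat) : Bool :=
  allN (fun x => Nat.beq (frm.get (ap G x)) (pt P (frm.get x))) 315

set_option maxRecDepth 100000 in
theorem fr0 : frChk (tab2.get 1) P0t = true := by decide +kernel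
set_option maxRecDepth 100000 in
theorem fr1 : frChk (tab2.get 2) P1t = true := by decide +kernel
set_option maxRecDepth 100000 in
theorem frE : allN (fun s => frChk (tabE.get (Nat.succ s)) (0 + 8 * 1 + 64 * 2 + 512 * 3 + 4096 * 4 +
    32768 * 5)) 4 = true := by decide +kernel
set_option maxRecDepth 100000 in
theorem fr_le : allN (fun x => Nat.blt (frm.get x) 6) 315 = true := by decide +kernel
set_option maxRecDepth 100000 in
theorem fr_surj : frm.get 1 = 0 ∧ frm.get 19 = 1 ∧ frm.get 20 = 2 ∧ frm.get 21 = 3 ∧ frm.get 22 = 4 := by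
  decide +kernel

theorem pt0 : ∀ i : Fin 5, pt P0t i = pi0 i := by decide
theorem pt1 : ∀ i : Fin 5, pt P1t i = pi1 i := by decide
theorem pt0' : pt P0t 5 = 5 := by decide
theorem pt1' : pt P1t 5 = 5 := by decide
theorem ptE : ∀ i : Fin 5, pt (0 + 8 * 1 + 64 * 2 + 512 * 3 + 4096 * 4 + 32768 * 5) i = i := by decide
theorem ptE' : pt (0 + 8 * 1 + 64 * 2 + 512 * 3 + 4096 * 4 + 32768 * 5) 5 = 5 := by decide

/-- the points on the frames -/
def DF : Set (Fin 315) := {x | frm.get x < 5}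

/-- the frame of a point -/
noncomputable def frF (x : Fin 315) : Fin 5 := if h : frm.get x < 5 then ⟨frm.get x, h⟩ else 0

theorem frF_val {x : Fin 315} (h : x ∈ DF) : ((frF x : Fin 5) : ℕ) = frm.get x := by
  have h' : frm.get x < 5 := h
  rw [frF, dif_pos h']

theorem fr_aux {G P : ℕ} {σ : Equiv.Perm (Fin 315)} {π : Equiv.Perm (Fin 5)} (hr : Rep 315 G σ)
    (hc : frChk G P = true) (hp : ∀ i : Fin 5, pt P i = π i) (hp' : pt P 5 = 5) (x : Fin 315) :
    (σ x ∈ DF ↔ x ∈ DF) ∧ (x ∈ DF → frF (σ x) = π (frF x)) := by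
  have h1 := Nat.eq_of_beq_eq_true (allN_sound hc x x.2)
  rw [hr x] at h1
  have h2 : frm.get x < 6 := Nat.le_of_ble_eq_true (allN_sound fr_le x x.2)
  by_cases hx : frm.get x < 5
  · have hx' : x ∈ DF := hx
    have h3 : pt P (frm.get x) = π (frF x) := by rw [← frF_val hx', hp]
    rw [h3] at h1
    have h4 : σ x ∈ DF := by
      show frm.get (σ x) < 5
      rw [h1]
      exact (π (frF x)).2
    refine ⟨⟨fun _ => hx', fun _ => h4⟩, fun _ => Fin.ext ?_⟩
    rw [frF_val h4, h1]
  · have hx5 : frm.get x = 5 := by omega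
    rw [hx5, hp'] at h1
    refine ⟨⟨fun h => ?_, fun h => absurd h hx⟩, fun h => absurd h hx⟩
    have : frm.get (σ x) < 5 := h
    omega

theorem blockF : ∀ σ ∈ H2, ∃ π : Equiv.Perm (Fin 5), ∀ x ∈ DF, σ x ∈ DF ∧ frF (σ x) = π (frF x) := by
  intro σ hσ
  obtain ⟨π, hπ⟩ := block_closure (D := DF) (fr := frF) (S := SS2) (by
    rintro σ ⟨s, hs, hr⟩
    interval_cases s
    · exact ⟨pi0, fr_aux hr fr0 pt0 pt0'⟩
    · exact ⟨pi1, fr_aux hr fr1 pt1 pt1'⟩) σ hσ
  exact ⟨π, fun x hx => ⟨(hπ x).1.mpr hx, (hπ x).2 hx⟩⟩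

theorem surjF : ∀ i : Fin 5, ∃ x ∈ DF, frF x = i := by
  obtain ⟨h0, h1, h2, h3, h4⟩ := fr_surj
  have key : ∀ (x : Fin 315) (i : Fin 5), frm.get x = i → ∃ x ∈ DF, frF x = i := by
    intro x i h
    have hx : x ∈ DF := by
      show frm.get x < 5
      rw [h]; exact i.2
    exact ⟨x, hx, Fin.ext ((frF_val hx).trans h)⟩
  intro i
  fin_cases i
  · exact key 1 _ h0
  · exact key 19 _ h1
  · exact key 20 _ h2
  · exact key 21 _ h3
  · exact key 22 _ h4

/-- the action on the frames -/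
noncomputable def psi : H2 →* Equiv.Perm (Fin 5) := (exists_hom H2 DF frF surjF blockF).choose

theorem psi_spec (σ : H2) (x : Fin 315) (hx : x ∈ DF) : (σ : Equiv.Perm (Fin 315)) x ∈ DF ∧
    frF ((σ : Equiv.Perm (Fin 315)) x) = psi σ (frF x) :=
  (exists_hom H2 DF frF surjF blockF).choose_spec σ x hx

theorem psi_unique (σ : H2) (π : Equiv.Perm (Fin 5))
    (h : ∀ x ∈ DF, frF ((σ : Equiv.Perm (Fin 315)) x) = π (frF x)) : psi σ = π := by
  ext1 i
  obtain ⟨x, hx, rfl⟩ := surjF i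
  rw [← h x hx, ← (psi_spec σ x hx).2]

/-- the first generator of the point stabilizer -/
theorem exists_a0 : ∃ a : H2, psi a = pi0 := by
  obtain ⟨σ, hσ, hr⟩ := slp2' 1 (by norm_num)
  exact ⟨⟨σ, hσ⟩, psi_unique _ _ fun x hx => (fr_aux hr fr0 pt0 pt0' x).2 hx⟩

theorem exists_a1 : ∃ a : H2, psi a = pi1 := by
  obtain ⟨σ, hσ, hr⟩ := slp2' 2 (by norm_num)
  exact ⟨⟨σ, hσ⟩, psi_unique _ _ fun x hx => (fr_aux hr fr1 pt1 pt1' x).2 hx⟩

theorem psi_range : psi.range = alternatingGroup (Fin 5) := by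
  have hle : psi.range ≤ alternatingGroup (Fin 5) := by
    rintro _ ⟨⟨σ, hσ⟩, rfl⟩
    have key : ∀ (τ : Equiv.Perm (Fin 315)) (hτ : τ ∈ H2), psi ⟨τ, hτ⟩ ∈ alternatingGroup (Fin 5) := by
      intro τ hτ
      have hτ' := hτ
      rw [H2] at hτ'
      induction hτ' using Subgroup.closure_induction with
      | mem τ hτ1 =>
        obtain ⟨s, hs, hr⟩ := hτ1
        interval_cases s
        · rw [psi_unique ⟨τ, hτ⟩ pi0 fun x hx => (fr_aux hr fr0 pt0 pt0' x).2 hx]
          rw [Equiv.Perm.mem_alternatingGroup]; decide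
        · rw [psi_unique ⟨τ, hτ⟩ pi1 fun x hx => (fr_aux hr fr1 pt1 pt1' x).2 hx]
          rw [Equiv.Perm.mem_alternatingGroup]; decide
      | one =>
        have : (⟨1, hτ⟩ : H2) = 1 := rfl
        rw [this, map_one]; exact one_mem _
      | mul a b ha hb iha ihb =>
        have e : (⟨a * b, hτ⟩ : H2) = ⟨a, ha⟩ * ⟨b, hb⟩ := rfl
        rw [e, map_mul]
        exact mul_mem (iha ha) (ihb hb)
      | inv a ha iha =>
        have e : (⟨a⁻¹, hτ⟩ : H2) = ⟨a, ha⟩⁻¹ := rfl
        rw [e, map_inv]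
        exact inv_mem (iha ha)
    exact key σ hσ
  obtain ⟨a, ha⟩ := exists_a0
  obtain ⟨b, hb⟩ := exists_a1
  have m0 : pi0 ∈ psi.range := ⟨a, ha⟩
  have m1 : pi1 ∈ psi.range := ⟨b, hb⟩
  have hA : Nat.card (alternatingGroup (Fin 5)) = 60 := by
    rw [Nat.card_eq_fintype_card]; decide +kernel
  let K : Subgroup (alternatingGroup (Fin 5)) := psi.range.subgroupOf (alternatingGroup (Fin 5))
  have hK : Nat.card K = Nat.card psi.range := Nat.card_congr (Subgroup.subgroupOfEquivOfLe hle).toEquiv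
  have d2 : 2 ∣ Nat.card psi.range := by
    have h1 : orderOf (⟨pi0, m0⟩ : psi.range) = 2 := by
      haveI : Fact (Nat.Prime 2) := ⟨Nat.prime_two⟩
      rw [Subgroup.orderOf_mk]
      exact orderOf_eq_prime (by decide) (by decide)
    have h2 := orderOf_dvd_natCard (⟨pi0, m0⟩ : psi.range)
    rw [h1] at h2
    exact h2
  have d5 : 5 ∣ Nat.card psi.range := by
    have h1 : orderOf (⟨pi1, m1⟩ : psi.range) = 5 := by
      haveI : Fact (Nat.Prime 5) := ⟨by norm_num⟩
      rw [Subgroup.orderOf_mk]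
      exact orderOf_eq_prime (by decide) (by decide)
    have h2 := orderOf_dvd_natCard (⟨pi1, m1⟩ : psi.range)
    rw [h1] at h2
    exact h2
  have d3 : 3 ∣ Nat.card psi.range := by
    have h1 : orderOf (⟨pi0 * pi1 ^ 2, mul_mem m0 (pow_mem m1 2)⟩ : psi.range) = 3 := by
      haveI : Fact (Nat.Prime 3) := ⟨by norm_num⟩
      rw [Subgroup.orderOf_mk]
      exact orderOf_eq_prime (by decide) (by decide)
    have h2 := orderOf_dvd_natCard (⟨pi0 * pi1 ^ 2, mul_mem m0 (pow_mem m1 2)⟩ : psi.range)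
    rw [h1] at h2
    exact h2
  have d30 : 30 ∣ Nat.card psi.range := by
    have h6 : 2 * 3 ∣ Nat.card psi.range := Nat.Coprime.mul_dvd_of_dvd_of_dvd (by norm_num) d2 d3
    exact Nat.Coprime.mul_dvd_of_dvd_of_dvd (m := 6) (n := 5) (by norm_num) h6 d5
  have hidx : Nat.card K * K.index = 60 := by rw [K.card_mul_index, hA]
  rw [hK] at hidx
  obtain ⟨c, hc⟩ := d30
  have hcc : c * K.index = 2 := by
    rw [hc] at hidx
    have : 30 * (c * K.index) = 30 * 2 := by rw [← mul_assoc]; exact hidx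
    exact Nat.eq_of_mul_eq_mul_left (by norm_num) this
  have hi : K.index = 1 ∨ K.index = 2 := by
    have : K.index ∣ 2 := Dvd.intro_left _ hcc
    exact (Nat.dvd_prime Nat.prime_two).mp this
  have hKtop : K = ⊤ := by
    rcases hi with h | h
    · exact Subgroup.index_eq_one.mp h
    · haveI : K.Normal := Subgroup.normal_of_index_eq_two h
      haveI := alternatingGroup.isSimpleGroup_five
      rcases IsSimpleGroup.eq_bot_or_eq_top_of_normal K inferInstance with h1 | h1
      · rw [h1, Subgroup.index_bot, hA] at h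
        norm_num at h
      · exact h1
  apply le_antisymm hle
  intro x hx
  have : (⟨x, hx⟩ : alternatingGroup (Fin 5)) ∈ K := by rw [hKtop]; exact Subgroup.mem_top _
  exact this

theorem card_ker : Nat.card psi.ker = 32 := by
  have h1 := psi.ker.card_mul_index
  rw [Subgroup.index_ker, card_H2] at h1
  have hA : Nat.card psi.range = 60 := by
    rw [psi_range, Nat.card_eq_fintype_card]; decide +kernel
  rw [hA] at h1
  omega

theorem ker_eq_E : E.subgroupOf H2 = psi.ker := by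
  have hle : E.subgroupOf H2 ≤ psi.ker := by
    have key : E ≤ psi.ker.map H2.subtype := by
      refine (Subgroup.closure_le _).mpr ?_
      rintro σ ⟨s, hs, hr⟩
      have hσ : σ ∈ H2 := SE_le ⟨s, hs, hr⟩
      refine ⟨⟨σ, hσ⟩, ?_, rfl⟩
      rw [SetLike.mem_coe, MonoidHom.mem_ker]
      exact psi_unique _ _ fun x hx => (fr_aux (π := 1) hr (allN_sound frE s hs) ptE ptE' x).2 hx
    rintro ⟨σ, hσ⟩ h
    obtain ⟨τ, hτ, he⟩ := key h
    have : τ = ⟨σ, hσ⟩ := Subtype.ext he
    rwa [← this]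
  have hc : Nat.card (E.subgroupOf H2) = Nat.card psi.ker := by
    rw [card_ker, ← card_E]
    exact Nat.card_congr (Subgroup.subgroupOfEquivOfLe E_le).toEquiv
  exact Subgroup.eq_of_le_of_card_ge hle hc.ge

/-- the property of centralizers -/
def CP5 (C : Type) [Group C] : Prop :=
  ∃ (Q : Subgroup C) (_ : Q.Normal), Nat.card Q = 32 ∧ Cfsg.IsExtraspecial 2 Q ∧
    Nonempty (C ⧸ Q ≃* alternatingGroup (Fin 5))

theorem CP5_H2 : CP5 H2 := by
  refine ⟨psi.ker, inferInstance, card_ker, ?_, ?_⟩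
  · rw [← ker_eq_E]
    exact H56.Heis.isExtraspecial_congr (Subgroup.subgroupOfEquivOfLe E_le).symm extra_E
  · exact ⟨(QuotientGroup.quotientKerEquivRange psi).trans (MulEquiv.subgroupCongr psi_range)⟩

theorem CP5_congr {C C' : Type} [Group C] [Group C'] [Finite C] (e : C ≃* C') (h : CP5 C) : CP5 C' := by
  obtain ⟨Q, hQ, h1, h2, ⟨h3⟩⟩ := h
  have hQ' : (Q.map e.toMonoidHom).Normal := Subgroup.Normal.map hQ _ e.surjective
  refine ⟨Q.map e.toMonoidHom, hQ', ?_, ?_, ?_⟩
  · rw [← h1]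
    exact Nat.card_congr (e.subgroupMap Q).toEquiv.symm
  · exact H56.Heis.isExtraspecial_congr (e.subgroupMap Q) h2
  · exact ⟨(QuotientGroup.congr Q (Q.map e.toMonoidHom) e rfl).symm.trans h3⟩

/-- restriction of an isomorphism to centralizers -/
noncomputable def centCongr {G G' : Type} [Group G] [Group G'] (e : G ≃* G') (z : G) :
    Subgroup.centralizer ({z} : Set G) ≃* Subgroup.centralizer ({e z} : Set G') :=
  (e.subgroupMap _).trans (MulEquiv.subgroupCongr (by
    ext x
    rw [Subgroup.mem_map]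
    constructor
    · rintro ⟨y, hy, rfl⟩
      rw [Subgroup.mem_centralizer_singleton_iff] at hy ⊢
      show e y * e z = e z * e y
      rw [← map_mul, hy, map_mul]
    · intro hx
      refine ⟨e.symm x, ?_, e.apply_symm_apply x⟩
      rw [Subgroup.mem_centralizer_singleton_iff] at hx ⊢
      apply e.injective
      rw [map_mul, map_mul, e.apply_symm_apply]
      exact hx))

set_option maxRecDepth 100000 in
theorem cls12 : clsH.get ((1 : Fin 315) : ℕ) = 1 ∧ clsH.get ((2 : Fin 315) : ℕ) = 1 := by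
  constructor
  · show clsH.get 1 = 1
    decide +kernel
  · show clsH.get 2 = 1
    decide +kernel

/-- the involution of the line `j` in the permutation group -/
noncomputable def zP (j : Fin 315) : P0 := ⟨act (rI j), by
  rw [← map_T0]
  exact ⟨rI j, rI_mem j, rfl⟩⟩

theorem zP_conj (g : P0) (j : Fin 315) : g * zP j * g⁻¹ = zP ((g : Equiv.Perm (Fin 315)) j) := by
  obtain ⟨g, hg⟩ := g
  have hg' := hg
  rw [← map_T0] at hg'
  obtain ⟨f, hf, rfl⟩ := hg'
  apply Subtype.ext
  show act f * act (rI j) * (act f)⁻¹ = act (rI (act f j))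
  rw [← map_mul, ← map_inv, ← map_mul, conj_rI]

set_option maxRecDepth 100000 in
theorem fixz : allN (fun x => Bool.rec (motive := fun _ => Bool)
    (Bool.not (Nat.beq (ap (tabE.get 29) x) x)) true (Nat.blt (clsH.get x) 2)) 315 = true := by
  decide +kernel

theorem act_self (j : Fin 315) : act (rI j) j = j := by
  apply act_eq (u := -1) (by decide)
  apply Subtype.ext
  show ((rf j (mv j) : icoLeech) : Fin 3 → ℍ[ℝ]) = _
  rw [rf_apply, qrefl_self (qip_mv j), coe_smL, map_neg, map_one, neg_smul, one_smul]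

theorem z0_fix {x : Fin 315} (h : z0 x = x) : clsH.get x < 2 := by
  by_contra hcon
  have h1 := allN_sound fixz x x.2
  have h2 : Nat.blt (clsH.get x) 2 = false := by
    cases hb : Nat.blt (clsH.get x) 2 with
    | false => rfl
    | true => exact absurd (Nat.le_of_ble_eq_true hb) hcon
  rw [h2] at h1
  have h3 : ap (tabE.get 29) x = x := by
    rw [rep_z0 x]
    exact congrArg Fin.val h
  have h4 : Bool.not (Nat.beq (ap (tabE.get 29) x) x) = true := h1
  rw [h3, Nat.beq_refl] at h4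
  exact absurd h4 (by decide)

theorem zP_zero : ((zP 0 : P0) : Equiv.Perm (Fin 315)) = z0 := rfl

theorem zP_inj0 {j : Fin 315} (h : zP j = zP 0) : j = 0 := by
  by_contra hj
  have h1 : z0 j = j := by
    rw [← zP_zero, ← h]
    exact act_self j
  have h2 := z0_fix h1
  have h3 : clsH.get j ≠ 0 := by
    intro h3
    obtain ⟨σ, hσ, h4⟩ := (H2_orb 0 j).mpr (by
      rw [h3]; exact clsH_zero)
    apply hj
    rw [← h4]
    exact ok.fix1 σ hσ
  have h5 : clsH.get j = 1 := by omega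
  -- conjugates
  have key : ∀ k : Fin 315, clsH.get k = 1 → zP k = zP 0 := by
    intro k hk
    obtain ⟨σ, hσ, h6⟩ := (H2_orb j k).mpr (h5.trans hk.symm)
    have h7 := zP_conj ⟨σ, ok.h2P hσ⟩ j
    have h8 := zP_conj ⟨σ, ok.h2P hσ⟩ 0
    have h9 : σ 0 = 0 := ok.fix1 σ hσ
    rw [h] at h7
    have h10 : zP (σ j) = zP (σ 0) := h7.symm.trans h8
    rwa [h6, h9] at h10
  have k1 := key 1 (by exact cls12.1)
  have k2 := key 2 (by exact cls12.2)
  have h11 : act (rI 0 * (rI 1 * rI 2)) = 1 := by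
    rw [← act_negP]
    congr 1
    exact Subtype.ext negP_eq.symm
  rw [map_mul, map_mul] at h11
  have e1 : act (rI 1) = z0 := congrArg Subtype.val k1
  have e2 : act (rI 2) = z0 := congrArg Subtype.val k2
  have e0 : act (rI 0) = z0 := rfl
  rw [e0, e1, e2] at h11
  have h12 : z0 * z0 = 1 := by
    rw [← e0, ← map_mul, ← map_one act]
    congr 1
    exact Subtype.ext (rf_mul_self 0)
  rw [h12, mul_one] at h11
  exact z0_ne h11

/-- the involutions of different lines are different -/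
theorem zP_inj : Function.Injective zP := by
  intro j k h
  obtain ⟨σ, hσ, h1⟩ := trans_P0 k 0
  have h2 := zP_conj ⟨σ, hσ⟩ j
  have h3 := zP_conj ⟨σ, hσ⟩ k
  rw [h] at h2
  have h4 : zP (σ j) = zP (σ k) := h2.symm.trans h3
  rw [h1] at h4
  have h5 := zP_inj0 h4
  exact σ.injective (h5.trans h1.symm)

theorem cent_z0 : Subgroup.centralizer ({zP 0} : Set P0) = H2.subgroupOf P0 := by
  ext g
  rw [Subgroup.mem_centralizer_singleton_iff, Subgroup.mem_subgroupOf, mem_H2_iff g.2]
  constructor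
  · intro h
    have h1 := zP_conj g 0
    rw [h, mul_inv_cancel_right] at h1
    exact (zP_inj h1).symm
  · intro h
    have h1 := zP_conj g 0
    rw [h] at h1
    rwa [mul_inv_eq_iff_eq_mul] at h1

/-- structure of the centralizers of reflections -/
theorem cent_refl (f : Equiv.Perm icoLeech) (hf : IsIcoReflection f) (hfm : f ∈ twoJ2) :
    CP5 (Subgroup.centralizer {(QuotientGroup.mk ⟨f, hfm⟩ : Cfsg.Spor.J2)}) := by
  obtain ⟨j, rfl⟩ := (isRefl_iff' f).mp hf
  obtain ⟨σ, hσ, h1⟩ := trans_P0 j 0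
  let e : Cfsg.Spor.J2 ≃* P0 := jiso.trans (MulAut.conj (⟨σ, hσ⟩ : P0))
  have he : e (QuotientGroup.mk ⟨rf j, hfm⟩) = zP 0 := by
    show (⟨σ, hσ⟩ : P0) * jiso (QuotientGroup.mk ⟨rf j, hfm⟩) * (⟨σ, hσ⟩ : P0)⁻¹ = zP 0
    have h2 : jiso (QuotientGroup.mk ⟨rf j, hfm⟩) = zP j := Subtype.ext rfl
    rw [h2, zP_conj, h1]
  have e2 := centCongr e (QuotientGroup.mk ⟨rf j, hfm⟩)
  rw [he, cent_z0] at e2
  exact CP5_congr ((Subgroup.subgroupOfEquivOfLe ok.h2P).symm.trans e2.symm) CP5_H2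

end H63.J2
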