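import Cfsg.Agent.Lib.H63.OutTree

set_option autoImplicit false

/-! Signs, substitution in words. -/

namespace H63.OT

open H63.PC

theorem sign_neg {n : ℕ} (hn : n % 4 = 2) {θ : Equiv.Perm (Fin n)} (h2 : θ * θ = 1) (hf : ∀ i, θ i ≠ i) :
    Equiv.Perm.sign θ = -1 := by
  have h1 : θ ≠ 1 := by
    intro h
    have h0 : 0 < n := by omega
    exact hf ⟨0, h0⟩ (by rw [h]; rfl)
  have ho : orderOf θ = 2 := orderOf_eq_prime (by rw [pow_two, h2]) h1
  obtain ⟨m, hm⟩ := Equiv.Perm.cycleType_prime_order (σ := θ) (by rw [ho]; exact Nat.prime_two)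
  have hs := Equiv.Perm.sum_cycleType θ
  have hsup : θ.support = Finset.univ := by
    ext i
    simp [Equiv.Perm.mem_support, hf i]
  rw [hsup, Finset.card_univ, Fintype.card_fin] at hs
  have hs' := hs
  rw [hm, ho, Multiset.sum_replicate, smul_eq_mul] at hs'
  rw [Equiv.Perm.sign_of_cycleType, hs, hm, ho, Multiset.card_replicate]
  have h3 : Odd (n + (m + 1)) := by
    rw [Nat.odd_iff]
    omega
  exact h3.neg_one_pow

theorem sign_simple {G : Type} [Group G] [Finite G] (hs : IsSimpleGroup G) (hc : 2 < Nat.card G)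
    (f : G →* ℤˣ) (g : G) : f g = 1 := by
  rcases (inferInstance : f.ker.Normal).eq_bot_or_eq_top with h | h
  · exfalso
    have hinj : Function.Injective f := (MonoidHom.ker_eq_bot_iff f).mp h
    have h1 := Nat.card_le_card_of_injective f hinj
    have h2 : Nat.card ℤˣ = 2 := by
      rw [Nat.card_eq_fintype_card]
      rfl
    omega
  · have : g ∈ f.ker := by rw [h]; exact Subgroup.mem_top g
    exact this

/-- substitution of one letter -/
def sub1 (j k : ℕ) : Lx → List Lx
  | .t => .t :: (List.replicate j .y ++ List.replicate k .z)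
  | .T => (List.replicate k .z ++ List.replicate j .Y) ++ [.T]
  | a => [a]

/-- substitution in a word -/
def subw (j k : ℕ) (w : List Lx) : List Lx := w.flatMap (sub1 j k)

theorem subw_prod {G : Type} [Group G] {x y t z : G} (hz : z * z = 1) (j k : ℕ) (w : List Lx) :
    ((subw j k w).map (elx x y t z)).prod = (w.map (elx x y (t * (y ^ j * z ^ k)) z)).prod := by
  have hz' : z⁻¹ = z := inv_eq_of_mul_eq_one_left hz
  induction w with
  | nil => rfl
  | cons a w ih =>
    have e : subw j k (a :: w) = sub1 j k a ++ subw j k w := rfl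
    rw [e, List.map_append, List.prod_append, ih, List.map_cons, List.prod_cons]
    congr 1
    cases a <;> simp [sub1, elx, List.map_replicate, List.prod_replicate, mul_assoc, mul_inv_rev, ← inv_pow, hz']

theorem rel_map {G : Type} [Group G] {x y t z : G} {β : MulAut G} (hx : β x = x) (hy : β y = y) {w : List Lx}
    (hw : Lx.z ∉ w) (h : (w.map (elx x y t z)).prod = 1) : (w.map (elx x y (β t) z)).prod = 1 := by
  have h1 : β ((w.map (elx x y t z)).prod) = 1 := by rw [h, map_one]
  rw [map_list_prod, List.map_map] at h1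
  rw [← h1]
  congr 1
  apply List.map_congr_left
  intro a ha
  cases a with
  | x => exact hx.symm
  | X => show x⁻¹ = β x⁻¹; rw [map_inv, hx]
  | y => exact hy.symm
  | Y => show y⁻¹ = β y⁻¹; rw [map_inv, hy]
  | t => rfl
  | T => show (β t)⁻¹ = β t⁻¹; rw [map_inv]
  | z => exact absurd ha hw

end H63.OT
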