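import Cfsg.Agent.Lib.H63.ZTab
import Cfsg.Agent.Lib.H63.OutHe
import Cfsg.Agent.Lib.H63.HeCentData

set_option autoImplicit false
set_option linter.all false
set_option maxRecDepth 10000
set_option Elab.async false

/-! The centralizer of an involution of the Held group has order at most 21504. -/

namespace H63.HeC
open H63.PC H63.OT H63.MTb H63.ZT H35.Net H63.OutHe H35.HeMain

abbrev LA := H35.HeMain.LA

theorem hzt : Rp 2058 tb_e (ψ (gP .e)) := rl .e

set_option maxRecDepth 100000 in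
theorem q0 : cntA (fun p => Nat.beq (cz MT.get tb_e [] p) (cz MT.get tb_e [] 6)) 2058 0 = 1344 := by decide +kernel

set_option maxRecDepth 100000 in
theorem q1 : Nat.beq (a12 tb_e 6) 7 = true := by decide +kernel

set_option maxRecDepth 100000 in
theorem w2 : Nat.beq (mkMask (cz MT.get tb_e [7, 6]) (cz MT.get tb_e [7, 6] 50) 2058) W6 = true := by decide +kernel

set_option maxRecDepth 100000 in
theorem q2 : cntA (gB MT.get tb_e [7, 6] 2058 160 W6) 2058 0 = 1 := by decide +kernel

set_option maxRecDepth 100000 in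
theorem w3 : Nat.beq (mkMask (cz MT.get tb_e [160, 7, 6]) (cz MT.get tb_e [160, 7, 6] 1) 2058) W8 = true := by decide +kernel

set_option maxRecDepth 100000 in
theorem q3 : cntA (gB MT.get tb_e [160, 7, 6] 2058 173 W8) 2058 0 = 1 := by decide +kernel

set_option maxRecDepth 100000 in
theorem q4 : Nat.beq (a12 tb_e 173) 174 = true := by decide +kernel

set_option maxRecDepth 100000 in
theorem q5 : cntA (fun p => Nat.beq (cz MT.get tb_e [174, 173, 160, 7, 6] p) (cz MT.get tb_e [174, 173, 160, 7, 6] 8)) 2058 0 = 16 := by decide +kernel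

set_option maxRecDepth 100000 in
theorem q6 : Nat.beq (a12 tb_e 8) 11 = true := by decide +kernel

set_option maxRecDepth 100000 in
theorem q7 : cntA (fun p => Nat.beq (cz MT.get tb_e [11, 8, 174, 173, 160, 7, 6] p) (cz MT.get tb_e [11, 8, 174, 173, 160, 7, 6] 258)) 2058 0 = 1 := by decide +kernel

set_option maxRecDepth 100000 in
theorem q8 : Nat.beq (a12 tb_e 258) 81 = true := by decide +kernel

set_option maxRecDepth 100000 in
theorem q9 : cntA (fun p => Nat.beq (cz MT.get tb_e [81, 258, 11, 8, 174, 173, 160, 7, 6] p) (cz MT.get tb_e [81, 258, 11, 8, 174, 173, 160, 7, 6] 434)) 2058 0 = 1 := by decide +kernel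

set_option maxRecDepth 100000 in
theorem q10 : Nat.beq (a12 tb_e 434) 510 = true := by decide +kernel

set_option maxRecDepth 100000 in
theorem q11 : cntA (fun p => Nat.beq (cz MT.get tb_e [510, 434, 81, 258, 11, 8, 174, 173, 160, 7, 6] p) (cz MT.get tb_e [510, 434, 81, 258, 11, 8, 174, 173, 160, 7, 6] 831)) 2058 0 = 1 := by decide +kernel

set_option maxRecDepth 100000 in
theorem q12 : Nat.beq (a12 tb_e 831) 1940 = true := by decide +kernel

set_option maxRecDepth 100000 in
theorem q13 : cntA (fun p => Nat.beq (cz MT.get tb_e [1940, 831, 510, 434, 81, 258, 11, 8, 174, 173, 160, 7, 6] p) (cz MT.get tb_e [1940, 831, 510, 434, 81, 258, 11, 8, 174, 173, 160, 7, 6] 560)) 2058 0 = 1 := by decide +kernel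

set_option maxRecDepth 100000 in
theorem q14 : Nat.beq (a12 tb_e 560) 583 = true := by decide +kernel

set_option maxRecDepth 100000 in
theorem q15 : cntA (fun p => Nat.beq (cz MT.get tb_e [583, 560, 1940, 831, 510, 434, 81, 258, 11, 8, 174, 173, 160, 7, 6] p) (cz MT.get tb_e [583, 560, 1940, 831, 510, 434, 81, 258, 11, 8, 174, 173, 160, 7, 6] 1583)) 2058 0 = 1 := by decide +kernel

set_option maxRecDepth 100000 in
theorem q16 : Nat.beq (a12 tb_e 1583) 1588 = true := by decide +kernel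

set_option maxRecDepth 100000 in
theorem q17 : cntA (fun p => Nat.beq (cz MT.get tb_e [1588, 1583, 583, 560, 1940, 831, 510, 434, 81, 258, 11, 8, 174, 173, 160, 7, 6] p) (cz MT.get tb_e [1588, 1583, 583, 560, 1940, 831, 510, 434, 81, 258, 11, 8, 174, 173, 160, 7, 6] 1920)) 2058 0 = 1 := by decide +kernel

set_option maxRecDepth 100000 in
theorem q18 : Nat.beq (a12 tb_e 1920) 1601 = true := by decide +kernel

set_option maxRecDepth 100000 in
theorem q19 : cntA (fun p => Nat.beq (cz MT.get tb_e [1601, 1920, 1588, 1583, 583, 560, 1940, 831, 510, 434, 81, 258, 11, 8, 174, 173, 160, 7, 6] p) (cz MT.get tb_e [1601, 1920, 1588, 1583, 583, 560, 1940, 831, 510, 434, 81, 258, 11, 8, 174, 173, 160, 7, 6] 1897)) 2058 0 = 1 := by decide +kernel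

set_option maxRecDepth 100000 in
theorem q20 : Nat.beq (a12 tb_e 1897) 1389 = true := by decide +kernel

set_option maxRecDepth 100000 in
theorem q21 : cntA (fun p => Nat.beq (cz MT.get tb_e [1389, 1897, 1601, 1920, 1588, 1583, 583, 560, 1940, 831, 510, 434, 81, 258, 11, 8, 174, 173, 160, 7, 6] p) (cz MT.get tb_e [1389, 1897, 1601, 1920, 1588, 1583, 583, 560, 1940, 831, 510, 434, 81, 258, 11, 8, 174, 173, 160, 7, 6] 2030)) 2058 0 = 1 := by decide +kernel

set_option maxRecDepth 100000 in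
theorem q22 : Nat.beq (a12 tb_e 2030) 1985 = true := by decide +kernel

set_option maxRecDepth 100000 in
theorem q23 : cntA (fun p => Nat.beq (cz MT.get tb_e [1985, 2030, 1389, 1897, 1601, 1920, 1588, 1583, 583, 560, 1940, 831, 510, 434, 81, 258, 11, 8, 174, 173, 160, 7, 6] p) (cz MT.get tb_e [1985, 2030, 1389, 1897, 1601, 1920, 1588, 1583, 583, 560, 1940, 831, 510, 434, 81, 258, 11, 8, 174, 173, 160, 7, 6] 2020)) 2058 0 = 1 := by decide +kernel

set_option maxRecDepth 100000 in
theorem q24 : Nat.beq (a12 tb_e 2020) 1648 = true := by decide +kernel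

set_option maxRecDepth 100000 in
theorem qend : isoChk MT.get FM [1648, 2020, 1985, 2030, 1389, 1897, 1601, 1920, 1588, 1583, 583, 560, 1940, 831, 510, 434, 81, 258, 11, 8, 174, 173, 160, 7, 6] 2058 = true := by decide +kernel

noncomputable abbrev ZZ (l : List ℕ) := FZ MT.get (ψ (gP .e)) l

theorem u25 : Nat.card (ZZ [1648, 2020, 1985, 2030, 1389, 1897, 1601, 1920, 1588, 1583, 583, 560, 1940, 831, 510, 434, 81, 258, 11, 8, 174, 173, 160, 7, 6]) ≤ 1 := fin1 FM_eq (by decide) qend

theorem u24 : Nat.card (ZZ [2020, 1985, 2030, 1389, 1897, 1601, 1920, 1588, 1583, 583, 560, 1940, 831, 510, 434, 81, 258, 11, 8, 174, 173, 160, 7, 6]) ≤ 1 := addz hzt (b := 2020) (by decide) (by norm_num) q24 u25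

theorem u23 : Nat.card (ZZ [1985, 2030, 1389, 1897, 1601, 1920, 1588, 1583, 583, 560, 1940, 831, 510, 434, 81, 258, 11, 8, 174, 173, 160, 7, 6]) ≤ 1 := stepA hzt (by decide) (by norm_num) q23 u24

theorem u22 : Nat.card (ZZ [2030, 1389, 1897, 1601, 1920, 1588, 1583, 583, 560, 1940, 831, 510, 434, 81, 258, 11, 8, 174, 173, 160, 7, 6]) ≤ 1 := addz hzt (b := 2030) (by decide) (by norm_num) q22 u23

theorem u21 : Nat.card (ZZ [1389, 1897, 1601, 1920, 1588, 1583, 583, 560, 1940, 831, 510, 434, 81, 258, 11, 8, 174, 173, 160, 7, 6]) ≤ 1 := stepA hzt (by decide) (by norm_num) q21 u22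

theorem u20 : Nat.card (ZZ [1897, 1601, 1920, 1588, 1583, 583, 560, 1940, 831, 510, 434, 81, 258, 11, 8, 174, 173, 160, 7, 6]) ≤ 1 := addz hzt (b := 1897) (by decide) (by norm_num) q20 u21

theorem u19 : Nat.card (ZZ [1601, 1920, 1588, 1583, 583, 560, 1940, 831, 510, 434, 81, 258, 11, 8, 174, 173, 160, 7, 6]) ≤ 1 := stepA hzt (by decide) (by norm_num) q19 u20

theorem u18 : Nat.card (ZZ [1920, 1588, 1583, 583, 560, 1940, 831, 510, 434, 81, 258, 11, 8, 174, 173, 160, 7, 6]) ≤ 1 := addz hzt (b := 1920) (by decide) (by norm_num) q18 u19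

theorem u17 : Nat.card (ZZ [1588, 1583, 583, 560, 1940, 831, 510, 434, 81, 258, 11, 8, 174, 173, 160, 7, 6]) ≤ 1 := stepA hzt (by decide) (by norm_num) q17 u18

theorem u16 : Nat.card (ZZ [1583, 583, 560, 1940, 831, 510, 434, 81, 258, 11, 8, 174, 173, 160, 7, 6]) ≤ 1 := addz hzt (b := 1583) (by decide) (by norm_num) q16 u17

theorem u15 : Nat.card (ZZ [583, 560, 1940, 831, 510, 434, 81, 258, 11, 8, 174, 173, 160, 7, 6]) ≤ 1 := stepA hzt (by decide) (by norm_num) q15 u16

theorem u14 : Nat.card (ZZ [560, 1940, 831, 510, 434, 81, 258, 11, 8, 174, 173, 160, 7, 6]) ≤ 1 := addz hzt (b := 560) (by decide) (by norm_num) q14 u15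

theorem u13 : Nat.card (ZZ [1940, 831, 510, 434, 81, 258, 11, 8, 174, 173, 160, 7, 6]) ≤ 1 := stepA hzt (by decide) (by norm_num) q13 u14

theorem u12 : Nat.card (ZZ [831, 510, 434, 81, 258, 11, 8, 174, 173, 160, 7, 6]) ≤ 1 := addz hzt (b := 831) (by decide) (by norm_num) q12 u13

theorem u11 : Nat.card (ZZ [510, 434, 81, 258, 11, 8, 174, 173, 160, 7, 6]) ≤ 1 := stepA hzt (by decide) (by norm_num) q11 u12

theorem u10 : Nat.card (ZZ [434, 81, 258, 11, 8, 174, 173, 160, 7, 6]) ≤ 1 := addz hzt (b := 434) (by decide) (by norm_num) q10 u11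

theorem u9 : Nat.card (ZZ [81, 258, 11, 8, 174, 173, 160, 7, 6]) ≤ 1 := stepA hzt (by decide) (by norm_num) q9 u10

theorem u8 : Nat.card (ZZ [258, 11, 8, 174, 173, 160, 7, 6]) ≤ 1 := addz hzt (b := 258) (by decide) (by norm_num) q8 u9

theorem u7 : Nat.card (ZZ [11, 8, 174, 173, 160, 7, 6]) ≤ 1 := stepA hzt (by decide) (by norm_num) q7 u8

theorem u6 : Nat.card (ZZ [8, 174, 173, 160, 7, 6]) ≤ 1 := addz hzt (b := 8) (by decide) (by norm_num) q6 u7

theorem u5 : Nat.card (ZZ [174, 173, 160, 7, 6]) ≤ 16 := stepA hzt (by decide) (by norm_num) q5 u6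

theorem u4 : Nat.card (ZZ [173, 160, 7, 6]) ≤ 16 := addz hzt (b := 173) (by decide) (by norm_num) q4 u5

theorem u3 : Nat.card (ZZ [160, 7, 6]) ≤ 16 := stepB (c := 1) (m := 16) hzt (by decide) (by norm_num) w3 q3 u4

theorem u2 : Nat.card (ZZ [7, 6]) ≤ 16 := stepB (c := 1) (m := 16) hzt (by decide) (by norm_num) w2 q2 u3

theorem u1 : Nat.card (ZZ [6]) ≤ 16 := addz hzt (b := 6) (by decide) (by norm_num) q1 u2

theorem u0 : Nat.card (ZZ []) ≤ 21504 := stepA hzt (by decide) (by norm_num) q0 u1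

/-- the centralizer of `e` -/
abbrev Ce : Subgroup Cfsg.Spor.He := Subgroup.centralizer ({gP .e} : Set Cfsg.Spor.He)

theorem mem_FZ {g : Cfsg.Spor.He} (hg : g ∈ Ce) : ψ g ∈ ZZ [] := by
  rw [Subgroup.mem_centralizer_singleton_iff] at hg
  exact ⟨pres g, by rw [← map_mul, ← map_mul, hg], fun b hb => by simp at hb⟩

theorem card_Ce_le : Nat.card Ce ≤ 21504 := by
  refine le_trans ?_ u0
  exact Nat.card_le_card_of_injective (fun g : Ce => (⟨ψ g, mem_FZ g.2⟩ : ZZ []))
    (fun g h hh => Subtype.ext (ψ_inj (congrArg Subtype.val hh)))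

end H63.HeC
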