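import Cfsg.Agent.Lib.H63.IcoLat

set_option autoImplicit false

/-! Representatives of the 315 lines spanned by the vectors of norm 4. -/

namespace H63.Ico

/-- the representatives -/
def Rlit : List V3 := [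
  ⟨⟨⟨2, 0⟩, ⟨0, 0⟩, ⟨0, 0⟩, ⟨0, 0⟩⟩, ⟨⟨0, 0⟩, ⟨0, 0⟩, ⟨0, 0⟩, ⟨0, 0⟩⟩, ⟨⟨0, 0⟩, ⟨0, 0⟩, ⟨0, 0⟩, ⟨0, 0⟩⟩⟩,
  ⟨⟨⟨0, 0⟩, ⟨0, 0⟩, ⟨0, 0⟩, ⟨0, 0⟩⟩, ⟨⟨2, 0⟩, ⟨0, 0⟩, ⟨0, 0⟩, ⟨0, 0⟩⟩, ⟨⟨0, 0⟩, ⟨0, 0⟩, ⟨0, 0⟩, ⟨0, 0⟩⟩⟩,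
  ⟨⟨⟨0, 0⟩, ⟨0, 0⟩, ⟨0, 0⟩, ⟨0, 0⟩⟩, ⟨⟨0, 0⟩, ⟨0, 0⟩, ⟨0, 0⟩, ⟨0, 0⟩⟩, ⟨⟨2, 0⟩, ⟨0, 0⟩, ⟨0, 0⟩, ⟨0, 0⟩⟩⟩,
  ⟨⟨⟨2, -2⟩, ⟨1, 0⟩, ⟨-1, 1⟩, ⟨1, -1⟩⟩, ⟨⟨-2, 2⟩, ⟨-1, 0⟩, ⟨1, -1⟩, ⟨-1, 1⟩⟩, ⟨⟨0, 0⟩, ⟨0, 0⟩, ⟨0, 0⟩, ⟨0, 0⟩⟩⟩,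
  ⟨⟨⟨2, -2⟩, ⟨1, 0⟩, ⟨-1, 1⟩, ⟨1, -1⟩⟩, ⟨⟨0, 0⟩, ⟨1, 0⟩, ⟨-1, 1⟩, ⟨-1, 1⟩⟩, ⟨⟨0, 0⟩, ⟨0, 0⟩, ⟨0, 0⟩, ⟨0, 0⟩⟩⟩,
  ⟨⟨⟨2, -2⟩, ⟨1, 0⟩, ⟨-1, 1⟩, ⟨1, -1⟩⟩, ⟨⟨0, 0⟩, ⟨-3, 2⟩, ⟨3, -1⟩, ⟨1, -1⟩⟩, ⟨⟨0, 0⟩, ⟨0, 0⟩, ⟨0, 0⟩, ⟨0, 0⟩⟩⟩,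
  ⟨⟨⟨2, -2⟩, ⟨1, 0⟩, ⟨-1, 1⟩, ⟨1, -1⟩⟩, ⟨⟨-2, 2⟩, ⟨1, 0⟩, ⟨1, -1⟩, ⟨-3, 1⟩⟩, ⟨⟨0, 0⟩, ⟨0, 0⟩, ⟨0, 0⟩, ⟨0, 0⟩⟩⟩,
  ⟨⟨⟨2, -2⟩, ⟨1, 0⟩, ⟨-1, 1⟩, ⟨1, -1⟩⟩, ⟨⟨2, -2⟩, ⟨-1, 0⟩, ⟨-1, 1⟩, ⟨3, -1⟩⟩, ⟨⟨0, 0⟩, ⟨0, 0⟩, ⟨0, 0⟩, ⟨0, 0⟩⟩⟩,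
  ⟨⟨⟨2, -2⟩, ⟨1, 0⟩, ⟨-1, 1⟩, ⟨1, -1⟩⟩, ⟨⟨0, 0⟩, ⟨3, -2⟩, ⟨-3, 1⟩, ⟨-1, 1⟩⟩, ⟨⟨0, 0⟩, ⟨0, 0⟩, ⟨0, 0⟩, ⟨0, 0⟩⟩⟩,
  ⟨⟨⟨2, -2⟩, ⟨1, 0⟩, ⟨-1, 1⟩, ⟨1, -1⟩⟩, ⟨⟨0, 0⟩, ⟨-1, 0⟩, ⟨1, -1⟩, ⟨1, -1⟩⟩, ⟨⟨0, 0⟩, ⟨0, 0⟩, ⟨0, 0⟩, ⟨0, 0⟩⟩⟩,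
  ⟨⟨⟨2, -2⟩, ⟨1, 0⟩, ⟨-1, 1⟩, ⟨1, -1⟩⟩, ⟨⟨2, -2⟩, ⟨1, 0⟩, ⟨-1, 1⟩, ⟨1, -1⟩⟩, ⟨⟨0, 0⟩, ⟨0, 0⟩, ⟨0, 0⟩, ⟨0, 0⟩⟩⟩,
  ⟨⟨⟨2, -2⟩, ⟨1, 0⟩, ⟨-1, 1⟩, ⟨1, -1⟩⟩, ⟨⟨0, 0⟩, ⟨0, 0⟩, ⟨0, 0⟩, ⟨0, 0⟩⟩, ⟨⟨-2, 2⟩, ⟨-1, 0⟩, ⟨1, -1⟩, ⟨-1, 1⟩⟩⟩,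
  ⟨⟨⟨2, -2⟩, ⟨1, 0⟩, ⟨-1, 1⟩, ⟨1, -1⟩⟩, ⟨⟨0, 0⟩, ⟨0, 0⟩, ⟨0, 0⟩, ⟨0, 0⟩⟩, ⟨⟨0, 0⟩, ⟨1, 0⟩, ⟨-1, 1⟩, ⟨-1, 1⟩⟩⟩,
  ⟨⟨⟨2, -2⟩, ⟨1, 0⟩, ⟨-1, 1⟩, ⟨1, -1⟩⟩, ⟨⟨0, 0⟩, ⟨0, 0⟩, ⟨0, 0⟩, ⟨0, 0⟩⟩, ⟨⟨0, 0⟩, ⟨-3, 2⟩, ⟨3, -1⟩, ⟨1, -1⟩⟩⟩,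
  ⟨⟨⟨2, -2⟩, ⟨1, 0⟩, ⟨-1, 1⟩, ⟨1, -1⟩⟩, ⟨⟨0, 0⟩, ⟨0, 0⟩, ⟨0, 0⟩, ⟨0, 0⟩⟩, ⟨⟨-2, 2⟩, ⟨1, 0⟩, ⟨1, -1⟩, ⟨-3, 1⟩⟩⟩,
  ⟨⟨⟨2, -2⟩, ⟨1, 0⟩, ⟨-1, 1⟩, ⟨1, -1⟩⟩, ⟨⟨0, 0⟩, ⟨0, 0⟩, ⟨0, 0⟩, ⟨0, 0⟩⟩, ⟨⟨2, -2⟩, ⟨-1, 0⟩, ⟨-1, 1⟩, ⟨3, -1⟩⟩⟩,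
  ⟨⟨⟨2, -2⟩, ⟨1, 0⟩, ⟨-1, 1⟩, ⟨1, -1⟩⟩, ⟨⟨0, 0⟩, ⟨0, 0⟩, ⟨0, 0⟩, ⟨0, 0⟩⟩, ⟨⟨0, 0⟩, ⟨3, -2⟩, ⟨-3, 1⟩, ⟨-1, 1⟩⟩⟩,
  ⟨⟨⟨2, -2⟩, ⟨1, 0⟩, ⟨-1, 1⟩, ⟨1, -1⟩⟩, ⟨⟨0, 0⟩, ⟨0, 0⟩, ⟨0, 0⟩, ⟨0, 0⟩⟩, ⟨⟨0, 0⟩, ⟨-1, 0⟩, ⟨1, -1⟩, ⟨1, -1⟩⟩⟩,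
  ⟨⟨⟨2, -2⟩, ⟨1, 0⟩, ⟨-1, 1⟩, ⟨1, -1⟩⟩, ⟨⟨0, 0⟩, ⟨0, 0⟩, ⟨0, 0⟩, ⟨0, 0⟩⟩, ⟨⟨2, -2⟩, ⟨1, 0⟩, ⟨-1, 1⟩, ⟨1, -1⟩⟩⟩,
  ⟨⟨⟨0, 0⟩, ⟨0, 0⟩, ⟨0, 0⟩, ⟨0, 0⟩⟩, ⟨⟨2, -2⟩, ⟨1, 0⟩, ⟨-1, 1⟩, ⟨1, -1⟩⟩, ⟨⟨-2, 2⟩, ⟨-1, 0⟩, ⟨1, -1⟩, ⟨-1, 1⟩⟩⟩,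
  ⟨⟨⟨0, 0⟩, ⟨0, 0⟩, ⟨0, 0⟩, ⟨0, 0⟩⟩, ⟨⟨2, -2⟩, ⟨1, 0⟩, ⟨-1, 1⟩, ⟨1, -1⟩⟩, ⟨⟨0, 0⟩, ⟨1, 0⟩, ⟨-1, 1⟩, ⟨-1, 1⟩⟩⟩,
  ⟨⟨⟨0, 0⟩, ⟨0, 0⟩, ⟨0, 0⟩, ⟨0, 0⟩⟩, ⟨⟨2, -2⟩, ⟨1, 0⟩, ⟨-1, 1⟩, ⟨1, -1⟩⟩, ⟨⟨0, 0⟩, ⟨-3, 2⟩, ⟨3, -1⟩, ⟨1, -1⟩⟩⟩,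
  ⟨⟨⟨0, 0⟩, ⟨0, 0⟩, ⟨0, 0⟩, ⟨0, 0⟩⟩, ⟨⟨2, -2⟩, ⟨1, 0⟩, ⟨-1, 1⟩, ⟨1, -1⟩⟩, ⟨⟨-2, 2⟩, ⟨1, 0⟩, ⟨1, -1⟩, ⟨-3, 1⟩⟩⟩,
  ⟨⟨⟨0, 0⟩, ⟨0, 0⟩, ⟨0, 0⟩, ⟨0, 0⟩⟩, ⟨⟨2, -2⟩, ⟨1, 0⟩, ⟨-1, 1⟩, ⟨1, -1⟩⟩, ⟨⟨2, -2⟩, ⟨-1, 0⟩, ⟨-1, 1⟩, ⟨3, -1⟩⟩⟩,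
  ⟨⟨⟨0, 0⟩, ⟨0, 0⟩, ⟨0, 0⟩, ⟨0, 0⟩⟩, ⟨⟨2, -2⟩, ⟨1, 0⟩, ⟨-1, 1⟩, ⟨1, -1⟩⟩, ⟨⟨0, 0⟩, ⟨3, -2⟩, ⟨-3, 1⟩, ⟨-1, 1⟩⟩⟩,
  ⟨⟨⟨0, 0⟩, ⟨0, 0⟩, ⟨0, 0⟩, ⟨0, 0⟩⟩, ⟨⟨2, -2⟩, ⟨1, 0⟩, ⟨-1, 1⟩, ⟨1, -1⟩⟩, ⟨⟨0, 0⟩, ⟨-1, 0⟩, ⟨1, -1⟩, ⟨1, -1⟩⟩⟩,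
  ⟨⟨⟨0, 0⟩, ⟨0, 0⟩, ⟨0, 0⟩, ⟨0, 0⟩⟩, ⟨⟨2, -2⟩, ⟨1, 0⟩, ⟨-1, 1⟩, ⟨1, -1⟩⟩, ⟨⟨2, -2⟩, ⟨1, 0⟩, ⟨-1, 1⟩, ⟨1, -1⟩⟩⟩,
  ⟨⟨⟨2, -2⟩, ⟨0, 0⟩, ⟨-1, 1⟩, ⟨3, -1⟩⟩, ⟨⟨1, 0⟩, ⟨0, 0⟩, ⟨0, 0⟩, ⟨0, 0⟩⟩, ⟨⟨0, 0⟩, ⟨-1, 0⟩, ⟨0, 0⟩, ⟨0, 0⟩⟩⟩,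
  ⟨⟨⟨2, -2⟩, ⟨0, 0⟩, ⟨-1, 1⟩, ⟨3, -1⟩⟩, ⟨⟨1, 0⟩, ⟨0, 0⟩, ⟨0, 0⟩, ⟨0, 0⟩⟩, ⟨⟨0, 0⟩, ⟨1, 0⟩, ⟨0, 0⟩, ⟨0, 0⟩⟩⟩,
  ⟨⟨⟨0, 0⟩, ⟨-2, 2⟩, ⟨3, -1⟩, ⟨1, -1⟩⟩, ⟨⟨1, 0⟩, ⟨0, 0⟩, ⟨0, 0⟩, ⟨0, 0⟩⟩, ⟨⟨0, 0⟩, ⟨-1, 0⟩, ⟨0, 0⟩, ⟨0, 0⟩⟩⟩,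
  ⟨⟨⟨0, 0⟩, ⟨-2, 2⟩, ⟨3, -1⟩, ⟨1, -1⟩⟩, ⟨⟨1, 0⟩, ⟨0, 0⟩, ⟨0, 0⟩, ⟨0, 0⟩⟩, ⟨⟨0, 0⟩, ⟨1, 0⟩, ⟨0, 0⟩, ⟨0, 0⟩⟩⟩,
  ⟨⟨⟨0, 0⟩, ⟨-2, 2⟩, ⟨1, -1⟩, ⟨1, -1⟩⟩, ⟨⟨1, 0⟩, ⟨0, 0⟩, ⟨0, 0⟩, ⟨0, 0⟩⟩, ⟨⟨0, 0⟩, ⟨-1, 0⟩, ⟨0, 0⟩, ⟨0, 0⟩⟩⟩,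
  ⟨⟨⟨0, 0⟩, ⟨-2, 2⟩, ⟨1, -1⟩, ⟨1, -1⟩⟩, ⟨⟨1, 0⟩, ⟨0, 0⟩, ⟨0, 0⟩, ⟨0, 0⟩⟩, ⟨⟨0, 0⟩, ⟨1, 0⟩, ⟨0, 0⟩, ⟨0, 0⟩⟩⟩,
  ⟨⟨⟨2, -2⟩, ⟨0, 0⟩, ⟨-1, 1⟩, ⟨1, -1⟩⟩, ⟨⟨1, 0⟩, ⟨0, 0⟩, ⟨0, 0⟩, ⟨0, 0⟩⟩, ⟨⟨0, 0⟩, ⟨-1, 0⟩, ⟨0, 0⟩, ⟨0, 0⟩⟩⟩,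
  ⟨⟨⟨2, -2⟩, ⟨0, 0⟩, ⟨-1, 1⟩, ⟨1, -1⟩⟩, ⟨⟨1, 0⟩, ⟨0, 0⟩, ⟨0, 0⟩, ⟨0, 0⟩⟩, ⟨⟨0, 0⟩, ⟨1, 0⟩, ⟨0, 0⟩, ⟨0, 0⟩⟩⟩,
  ⟨⟨⟨-2, 2⟩, ⟨0, 0⟩, ⟨1, -1⟩, ⟨-1, 1⟩⟩, ⟨⟨1, 0⟩, ⟨0, 0⟩, ⟨0, 0⟩, ⟨0, 0⟩⟩, ⟨⟨0, 0⟩, ⟨-1, 0⟩, ⟨0, 0⟩, ⟨0, 0⟩⟩⟩,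
  ⟨⟨⟨-2, 2⟩, ⟨0, 0⟩, ⟨1, -1⟩, ⟨-1, 1⟩⟩, ⟨⟨1, 0⟩, ⟨0, 0⟩, ⟨0, 0⟩, ⟨0, 0⟩⟩, ⟨⟨0, 0⟩, ⟨1, 0⟩, ⟨0, 0⟩, ⟨0, 0⟩⟩⟩,
  ⟨⟨⟨0, 0⟩, ⟨2, -2⟩, ⟨-1, 1⟩, ⟨-1, 1⟩⟩, ⟨⟨1, 0⟩, ⟨0, 0⟩, ⟨0, 0⟩, ⟨0, 0⟩⟩, ⟨⟨0, 0⟩, ⟨-1, 0⟩, ⟨0, 0⟩, ⟨0, 0⟩⟩⟩,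
  ⟨⟨⟨0, 0⟩, ⟨2, -2⟩, ⟨-1, 1⟩, ⟨-1, 1⟩⟩, ⟨⟨1, 0⟩, ⟨0, 0⟩, ⟨0, 0⟩, ⟨0, 0⟩⟩, ⟨⟨0, 0⟩, ⟨1, 0⟩, ⟨0, 0⟩, ⟨0, 0⟩⟩⟩,
  ⟨⟨⟨0, 0⟩, ⟨2, -2⟩, ⟨-3, 1⟩, ⟨-1, 1⟩⟩, ⟨⟨1, 0⟩, ⟨0, 0⟩, ⟨0, 0⟩, ⟨0, 0⟩⟩, ⟨⟨0, 0⟩, ⟨-1, 0⟩, ⟨0, 0⟩, ⟨0, 0⟩⟩⟩,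
  ⟨⟨⟨0, 0⟩, ⟨2, -2⟩, ⟨-3, 1⟩, ⟨-1, 1⟩⟩, ⟨⟨1, 0⟩, ⟨0, 0⟩, ⟨0, 0⟩, ⟨0, 0⟩⟩, ⟨⟨0, 0⟩, ⟨1, 0⟩, ⟨0, 0⟩, ⟨0, 0⟩⟩⟩,
  ⟨⟨⟨-2, 2⟩, ⟨0, 0⟩, ⟨1, -1⟩, ⟨-3, 1⟩⟩, ⟨⟨1, 0⟩, ⟨0, 0⟩, ⟨0, 0⟩, ⟨0, 0⟩⟩, ⟨⟨0, 0⟩, ⟨-1, 0⟩, ⟨0, 0⟩, ⟨0, 0⟩⟩⟩,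
  ⟨⟨⟨-2, 2⟩, ⟨0, 0⟩, ⟨1, -1⟩, ⟨-3, 1⟩⟩, ⟨⟨1, 0⟩, ⟨0, 0⟩, ⟨0, 0⟩, ⟨0, 0⟩⟩, ⟨⟨0, 0⟩, ⟨1, 0⟩, ⟨0, 0⟩, ⟨0, 0⟩⟩⟩,
  ⟨⟨⟨1, 0⟩, ⟨1, 0⟩, ⟨-1, 1⟩, ⟨1, -1⟩⟩, ⟨⟨1, 0⟩, ⟨0, 0⟩, ⟨0, 0⟩, ⟨0, 0⟩⟩, ⟨⟨-1, 0⟩, ⟨0, 0⟩, ⟨0, 0⟩, ⟨0, 0⟩⟩⟩,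
  ⟨⟨⟨1, 0⟩, ⟨1, 0⟩, ⟨-1, 1⟩, ⟨1, -1⟩⟩, ⟨⟨1, 0⟩, ⟨0, 0⟩, ⟨0, 0⟩, ⟨0, 0⟩⟩, ⟨⟨1, 0⟩, ⟨0, 0⟩, ⟨0, 0⟩, ⟨0, 0⟩⟩⟩,
  ⟨⟨⟨1, 0⟩, ⟨-1, 0⟩, ⟨1, -1⟩, ⟨1, -1⟩⟩, ⟨⟨1, 0⟩, ⟨0, 0⟩, ⟨0, 0⟩, ⟨0, 0⟩⟩, ⟨⟨-1, 0⟩, ⟨0, 0⟩, ⟨0, 0⟩, ⟨0, 0⟩⟩⟩,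
  ⟨⟨⟨1, 0⟩, ⟨-1, 0⟩, ⟨1, -1⟩, ⟨1, -1⟩⟩, ⟨⟨1, 0⟩, ⟨0, 0⟩, ⟨0, 0⟩, ⟨0, 0⟩⟩, ⟨⟨1, 0⟩, ⟨0, 0⟩, ⟨0, 0⟩, ⟨0, 0⟩⟩⟩,
  ⟨⟨⟨-1, 0⟩, ⟨-3, 2⟩, ⟨3, -1⟩, ⟨1, -1⟩⟩, ⟨⟨1, 0⟩, ⟨0, 0⟩, ⟨0, 0⟩, ⟨0, 0⟩⟩, ⟨⟨-1, 0⟩, ⟨0, 0⟩, ⟨0, 0⟩, ⟨0, 0⟩⟩⟩,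
  ⟨⟨⟨-1, 0⟩, ⟨-3, 2⟩, ⟨3, -1⟩, ⟨1, -1⟩⟩, ⟨⟨1, 0⟩, ⟨0, 0⟩, ⟨0, 0⟩, ⟨0, 0⟩⟩, ⟨⟨1, 0⟩, ⟨0, 0⟩, ⟨0, 0⟩, ⟨0, 0⟩⟩⟩,
  ⟨⟨⟨3, -2⟩, ⟨-1, 0⟩, ⟨-1, 1⟩, ⟨3, -1⟩⟩, ⟨⟨1, 0⟩, ⟨0, 0⟩, ⟨0, 0⟩, ⟨0, 0⟩⟩, ⟨⟨-1, 0⟩, ⟨0, 0⟩, ⟨0, 0⟩, ⟨0, 0⟩⟩⟩,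
  ⟨⟨⟨3, -2⟩, ⟨-1, 0⟩, ⟨-1, 1⟩, ⟨3, -1⟩⟩, ⟨⟨1, 0⟩, ⟨0, 0⟩, ⟨0, 0⟩, ⟨0, 0⟩⟩, ⟨⟨1, 0⟩, ⟨0, 0⟩, ⟨0, 0⟩, ⟨0, 0⟩⟩⟩,
  ⟨⟨⟨-3, 2⟩, ⟨1, 0⟩, ⟨1, -1⟩, ⟨-3, 1⟩⟩, ⟨⟨1, 0⟩, ⟨0, 0⟩, ⟨0, 0⟩, ⟨0, 0⟩⟩, ⟨⟨-1, 0⟩, ⟨0, 0⟩, ⟨0, 0⟩, ⟨0, 0⟩⟩⟩,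
  ⟨⟨⟨-3, 2⟩, ⟨1, 0⟩, ⟨1, -1⟩, ⟨-3, 1⟩⟩, ⟨⟨1, 0⟩, ⟨0, 0⟩, ⟨0, 0⟩, ⟨0, 0⟩⟩, ⟨⟨1, 0⟩, ⟨0, 0⟩, ⟨0, 0⟩, ⟨0, 0⟩⟩⟩,
  ⟨⟨⟨1, 0⟩, ⟨3, -2⟩, ⟨-3, 1⟩, ⟨-1, 1⟩⟩, ⟨⟨1, 0⟩, ⟨0, 0⟩, ⟨0, 0⟩, ⟨0, 0⟩⟩, ⟨⟨-1, 0⟩, ⟨0, 0⟩, ⟨0, 0⟩, ⟨0, 0⟩⟩⟩,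
  ⟨⟨⟨1, 0⟩, ⟨3, -2⟩, ⟨-3, 1⟩, ⟨-1, 1⟩⟩, ⟨⟨1, 0⟩, ⟨0, 0⟩, ⟨0, 0⟩, ⟨0, 0⟩⟩, ⟨⟨1, 0⟩, ⟨0, 0⟩, ⟨0, 0⟩, ⟨0, 0⟩⟩⟩,
  ⟨⟨⟨-1, 0⟩, ⟨1, 0⟩, ⟨-1, 1⟩, ⟨-1, 1⟩⟩, ⟨⟨1, 0⟩, ⟨0, 0⟩, ⟨0, 0⟩, ⟨0, 0⟩⟩, ⟨⟨-1, 0⟩, ⟨0, 0⟩, ⟨0, 0⟩, ⟨0, 0⟩⟩⟩,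
  ⟨⟨⟨-1, 0⟩, ⟨1, 0⟩, ⟨-1, 1⟩, ⟨-1, 1⟩⟩, ⟨⟨1, 0⟩, ⟨0, 0⟩, ⟨0, 0⟩, ⟨0, 0⟩⟩, ⟨⟨1, 0⟩, ⟨0, 0⟩, ⟨0, 0⟩, ⟨0, 0⟩⟩⟩,
  ⟨⟨⟨-1, 0⟩, ⟨-1, 0⟩, ⟨1, -1⟩, ⟨-1, 1⟩⟩, ⟨⟨1, 0⟩, ⟨0, 0⟩, ⟨0, 0⟩, ⟨0, 0⟩⟩, ⟨⟨-1, 0⟩, ⟨0, 0⟩, ⟨0, 0⟩, ⟨0, 0⟩⟩⟩,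
  ⟨⟨⟨-1, 0⟩, ⟨-1, 0⟩, ⟨1, -1⟩, ⟨-1, 1⟩⟩, ⟨⟨1, 0⟩, ⟨0, 0⟩, ⟨0, 0⟩, ⟨0, 0⟩⟩, ⟨⟨1, 0⟩, ⟨0, 0⟩, ⟨0, 0⟩, ⟨0, 0⟩⟩⟩,
  ⟨⟨⟨2, -1⟩, ⟨2, -1⟩, ⟨-3, 1⟩, ⟨1, -1⟩⟩, ⟨⟨1, 0⟩, ⟨0, 0⟩, ⟨0, 0⟩, ⟨0, 0⟩⟩, ⟨⟨-2, 1⟩, ⟨1, -1⟩, ⟨0, 0⟩, ⟨-2, 2⟩⟩⟩,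
  ⟨⟨⟨2, -1⟩, ⟨2, -1⟩, ⟨-3, 1⟩, ⟨1, -1⟩⟩, ⟨⟨1, 0⟩, ⟨0, 0⟩, ⟨0, 0⟩, ⟨0, 0⟩⟩, ⟨⟨2, -1⟩, ⟨-1, 1⟩, ⟨0, 0⟩, ⟨2, -2⟩⟩⟩,
  ⟨⟨⟨2, -1⟩, ⟨0, 1⟩, ⟨-1, 1⟩, ⟨1, -1⟩⟩, ⟨⟨1, 0⟩, ⟨0, 0⟩, ⟨0, 0⟩, ⟨0, 0⟩⟩, ⟨⟨-2, 1⟩, ⟨1, -1⟩, ⟨0, 0⟩, ⟨-2, 2⟩⟩⟩,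
  ⟨⟨⟨2, -1⟩, ⟨0, 1⟩, ⟨-1, 1⟩, ⟨1, -1⟩⟩, ⟨⟨1, 0⟩, ⟨0, 0⟩, ⟨0, 0⟩, ⟨0, 0⟩⟩, ⟨⟨2, -1⟩, ⟨-1, 1⟩, ⟨0, 0⟩, ⟨2, -2⟩⟩⟩,
  ⟨⟨⟨-2, 1⟩, ⟨2, -1⟩, ⟨-1, 1⟩, ⟨-3, 1⟩⟩, ⟨⟨1, 0⟩, ⟨0, 0⟩, ⟨0, 0⟩, ⟨0, 0⟩⟩, ⟨⟨-2, 1⟩, ⟨1, -1⟩, ⟨0, 0⟩, ⟨-2, 2⟩⟩⟩,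
  ⟨⟨⟨-2, 1⟩, ⟨2, -1⟩, ⟨-1, 1⟩, ⟨-3, 1⟩⟩, ⟨⟨1, 0⟩, ⟨0, 0⟩, ⟨0, 0⟩, ⟨0, 0⟩⟩, ⟨⟨2, -1⟩, ⟨-1, 1⟩, ⟨0, 0⟩, ⟨2, -2⟩⟩⟩,
  ⟨⟨⟨0, -1⟩, ⟨2, -1⟩, ⟨-1, 1⟩, ⟨-1, 1⟩⟩, ⟨⟨1, 0⟩, ⟨0, 0⟩, ⟨0, 0⟩, ⟨0, 0⟩⟩, ⟨⟨-2, 1⟩, ⟨1, -1⟩, ⟨0, 0⟩, ⟨-2, 2⟩⟩⟩,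
  ⟨⟨⟨0, -1⟩, ⟨2, -1⟩, ⟨-1, 1⟩, ⟨-1, 1⟩⟩, ⟨⟨1, 0⟩, ⟨0, 0⟩, ⟨0, 0⟩, ⟨0, 0⟩⟩, ⟨⟨2, -1⟩, ⟨-1, 1⟩, ⟨0, 0⟩, ⟨2, -2⟩⟩⟩,
  ⟨⟨⟨0, 1⟩, ⟨-2, 1⟩, ⟨1, -1⟩, ⟨1, -1⟩⟩, ⟨⟨1, 0⟩, ⟨0, 0⟩, ⟨0, 0⟩, ⟨0, 0⟩⟩, ⟨⟨-2, 1⟩, ⟨1, -1⟩, ⟨0, 0⟩, ⟨-2, 2⟩⟩⟩,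
  ⟨⟨⟨0, 1⟩, ⟨-2, 1⟩, ⟨1, -1⟩, ⟨1, -1⟩⟩, ⟨⟨1, 0⟩, ⟨0, 0⟩, ⟨0, 0⟩, ⟨0, 0⟩⟩, ⟨⟨2, -1⟩, ⟨-1, 1⟩, ⟨0, 0⟩, ⟨2, -2⟩⟩⟩,
  ⟨⟨⟨2, -1⟩, ⟨-2, 1⟩, ⟨1, -1⟩, ⟨3, -1⟩⟩, ⟨⟨1, 0⟩, ⟨0, 0⟩, ⟨0, 0⟩, ⟨0, 0⟩⟩, ⟨⟨-2, 1⟩, ⟨1, -1⟩, ⟨0, 0⟩, ⟨-2, 2⟩⟩⟩,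
  ⟨⟨⟨2, -1⟩, ⟨-2, 1⟩, ⟨1, -1⟩, ⟨3, -1⟩⟩, ⟨⟨1, 0⟩, ⟨0, 0⟩, ⟨0, 0⟩, ⟨0, 0⟩⟩, ⟨⟨2, -1⟩, ⟨-1, 1⟩, ⟨0, 0⟩, ⟨2, -2⟩⟩⟩,
  ⟨⟨⟨-2, 1⟩, ⟨0, -1⟩, ⟨1, -1⟩, ⟨-1, 1⟩⟩, ⟨⟨1, 0⟩, ⟨0, 0⟩, ⟨0, 0⟩, ⟨0, 0⟩⟩, ⟨⟨-2, 1⟩, ⟨1, -1⟩, ⟨0, 0⟩, ⟨-2, 2⟩⟩⟩,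
  ⟨⟨⟨-2, 1⟩, ⟨0, -1⟩, ⟨1, -1⟩, ⟨-1, 1⟩⟩, ⟨⟨1, 0⟩, ⟨0, 0⟩, ⟨0, 0⟩, ⟨0, 0⟩⟩, ⟨⟨2, -1⟩, ⟨-1, 1⟩, ⟨0, 0⟩, ⟨2, -2⟩⟩⟩,
  ⟨⟨⟨-2, 1⟩, ⟨-2, 1⟩, ⟨3, -1⟩, ⟨-1, 1⟩⟩, ⟨⟨1, 0⟩, ⟨0, 0⟩, ⟨0, 0⟩, ⟨0, 0⟩⟩, ⟨⟨-2, 1⟩, ⟨1, -1⟩, ⟨0, 0⟩, ⟨-2, 2⟩⟩⟩,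
  ⟨⟨⟨-2, 1⟩, ⟨-2, 1⟩, ⟨3, -1⟩, ⟨-1, 1⟩⟩, ⟨⟨1, 0⟩, ⟨0, 0⟩, ⟨0, 0⟩, ⟨0, 0⟩⟩, ⟨⟨2, -1⟩, ⟨-1, 1⟩, ⟨0, 0⟩, ⟨2, -2⟩⟩⟩,
  ⟨⟨⟨1, -1⟩, ⟨-1, 1⟩, ⟨1, -1⟩, ⟨1, -1⟩⟩, ⟨⟨1, 0⟩, ⟨0, 0⟩, ⟨0, 0⟩, ⟨0, 0⟩⟩, ⟨⟨-1, 1⟩, ⟨-2, 1⟩, ⟨2, -2⟩, ⟨0, 0⟩⟩⟩,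
  ⟨⟨⟨1, -1⟩, ⟨-1, 1⟩, ⟨1, -1⟩, ⟨1, -1⟩⟩, ⟨⟨1, 0⟩, ⟨0, 0⟩, ⟨0, 0⟩, ⟨0, 0⟩⟩, ⟨⟨1, -1⟩, ⟨2, -1⟩, ⟨-2, 2⟩, ⟨0, 0⟩⟩⟩,
  ⟨⟨⟨-1, 1⟩, ⟨3, -1⟩, ⟨-1, 1⟩, ⟨-3, 1⟩⟩, ⟨⟨1, 0⟩, ⟨0, 0⟩, ⟨0, 0⟩, ⟨0, 0⟩⟩, ⟨⟨-1, 1⟩, ⟨-2, 1⟩, ⟨2, -2⟩, ⟨0, 0⟩⟩⟩,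
  ⟨⟨⟨-1, 1⟩, ⟨3, -1⟩, ⟨-1, 1⟩, ⟨-3, 1⟩⟩, ⟨⟨1, 0⟩, ⟨0, 0⟩, ⟨0, 0⟩, ⟨0, 0⟩⟩, ⟨⟨1, -1⟩, ⟨2, -1⟩, ⟨-2, 2⟩, ⟨0, 0⟩⟩⟩,
  ⟨⟨⟨1, -1⟩, ⟨1, -1⟩, ⟨-1, 1⟩, ⟨1, -1⟩⟩, ⟨⟨1, 0⟩, ⟨0, 0⟩, ⟨0, 0⟩, ⟨0, 0⟩⟩, ⟨⟨-1, 1⟩, ⟨-2, 1⟩, ⟨2, -2⟩, ⟨0, 0⟩⟩⟩,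
  ⟨⟨⟨1, -1⟩, ⟨1, -1⟩, ⟨-1, 1⟩, ⟨1, -1⟩⟩, ⟨⟨1, 0⟩, ⟨0, 0⟩, ⟨0, 0⟩, ⟨0, 0⟩⟩, ⟨⟨1, -1⟩, ⟨2, -1⟩, ⟨-2, 2⟩, ⟨0, 0⟩⟩⟩,
  ⟨⟨⟨-3, 1⟩, ⟨-1, 1⟩, ⟨3, -1⟩, ⟨-1, 1⟩⟩, ⟨⟨1, 0⟩, ⟨0, 0⟩, ⟨0, 0⟩, ⟨0, 0⟩⟩, ⟨⟨-1, 1⟩, ⟨-2, 1⟩, ⟨2, -2⟩, ⟨0, 0⟩⟩⟩,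
  ⟨⟨⟨-3, 1⟩, ⟨-1, 1⟩, ⟨3, -1⟩, ⟨-1, 1⟩⟩, ⟨⟨1, 0⟩, ⟨0, 0⟩, ⟨0, 0⟩, ⟨0, 0⟩⟩, ⟨⟨1, -1⟩, ⟨2, -1⟩, ⟨-2, 2⟩, ⟨0, 0⟩⟩⟩,
  ⟨⟨⟨3, -1⟩, ⟨1, -1⟩, ⟨-3, 1⟩, ⟨1, -1⟩⟩, ⟨⟨1, 0⟩, ⟨0, 0⟩, ⟨0, 0⟩, ⟨0, 0⟩⟩, ⟨⟨-1, 1⟩, ⟨-2, 1⟩, ⟨2, -2⟩, ⟨0, 0⟩⟩⟩,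
  ⟨⟨⟨3, -1⟩, ⟨1, -1⟩, ⟨-3, 1⟩, ⟨1, -1⟩⟩, ⟨⟨1, 0⟩, ⟨0, 0⟩, ⟨0, 0⟩, ⟨0, 0⟩⟩, ⟨⟨1, -1⟩, ⟨2, -1⟩, ⟨-2, 2⟩, ⟨0, 0⟩⟩⟩,
  ⟨⟨⟨-1, 1⟩, ⟨-1, 1⟩, ⟨1, -1⟩, ⟨-1, 1⟩⟩, ⟨⟨1, 0⟩, ⟨0, 0⟩, ⟨0, 0⟩, ⟨0, 0⟩⟩, ⟨⟨-1, 1⟩, ⟨-2, 1⟩, ⟨2, -2⟩, ⟨0, 0⟩⟩⟩,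
  ⟨⟨⟨-1, 1⟩, ⟨-1, 1⟩, ⟨1, -1⟩, ⟨-1, 1⟩⟩, ⟨⟨1, 0⟩, ⟨0, 0⟩, ⟨0, 0⟩, ⟨0, 0⟩⟩, ⟨⟨1, -1⟩, ⟨2, -1⟩, ⟨-2, 2⟩, ⟨0, 0⟩⟩⟩,
  ⟨⟨⟨1, -1⟩, ⟨-3, 1⟩, ⟨1, -1⟩, ⟨3, -1⟩⟩, ⟨⟨1, 0⟩, ⟨0, 0⟩, ⟨0, 0⟩, ⟨0, 0⟩⟩, ⟨⟨-1, 1⟩, ⟨-2, 1⟩, ⟨2, -2⟩, ⟨0, 0⟩⟩⟩,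
  ⟨⟨⟨1, -1⟩, ⟨-3, 1⟩, ⟨1, -1⟩, ⟨3, -1⟩⟩, ⟨⟨1, 0⟩, ⟨0, 0⟩, ⟨0, 0⟩, ⟨0, 0⟩⟩, ⟨⟨1, -1⟩, ⟨2, -1⟩, ⟨-2, 2⟩, ⟨0, 0⟩⟩⟩,
  ⟨⟨⟨-1, 1⟩, ⟨1, -1⟩, ⟨-1, 1⟩, ⟨-1, 1⟩⟩, ⟨⟨1, 0⟩, ⟨0, 0⟩, ⟨0, 0⟩, ⟨0, 0⟩⟩, ⟨⟨-1, 1⟩, ⟨-2, 1⟩, ⟨2, -2⟩, ⟨0, 0⟩⟩⟩,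
  ⟨⟨⟨-1, 1⟩, ⟨1, -1⟩, ⟨-1, 1⟩, ⟨-1, 1⟩⟩, ⟨⟨1, 0⟩, ⟨0, 0⟩, ⟨0, 0⟩, ⟨0, 0⟩⟩, ⟨⟨1, -1⟩, ⟨2, -1⟩, ⟨-2, 2⟩, ⟨0, 0⟩⟩⟩,
  ⟨⟨⟨1, 0⟩, ⟨0, 0⟩, ⟨0, 0⟩, ⟨0, 0⟩⟩, ⟨⟨2, -2⟩, ⟨0, 0⟩, ⟨-1, 1⟩, ⟨3, -1⟩⟩, ⟨⟨0, 0⟩, ⟨-1, 0⟩, ⟨0, 0⟩, ⟨0, 0⟩⟩⟩,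
  ⟨⟨⟨1, 0⟩, ⟨0, 0⟩, ⟨0, 0⟩, ⟨0, 0⟩⟩, ⟨⟨2, -2⟩, ⟨0, 0⟩, ⟨-1, 1⟩, ⟨3, -1⟩⟩, ⟨⟨0, 0⟩, ⟨1, 0⟩, ⟨0, 0⟩, ⟨0, 0⟩⟩⟩,
  ⟨⟨⟨1, 0⟩, ⟨0, 0⟩, ⟨0, 0⟩, ⟨0, 0⟩⟩, ⟨⟨0, 0⟩, ⟨-2, 2⟩, ⟨3, -1⟩, ⟨1, -1⟩⟩, ⟨⟨0, 0⟩, ⟨-1, 0⟩, ⟨0, 0⟩, ⟨0, 0⟩⟩⟩,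
  ⟨⟨⟨1, 0⟩, ⟨0, 0⟩, ⟨0, 0⟩, ⟨0, 0⟩⟩, ⟨⟨0, 0⟩, ⟨-2, 2⟩, ⟨3, -1⟩, ⟨1, -1⟩⟩, ⟨⟨0, 0⟩, ⟨1, 0⟩, ⟨0, 0⟩, ⟨0, 0⟩⟩⟩,
  ⟨⟨⟨1, 0⟩, ⟨0, 0⟩, ⟨0, 0⟩, ⟨0, 0⟩⟩, ⟨⟨0, 0⟩, ⟨-2, 2⟩, ⟨1, -1⟩, ⟨1, -1⟩⟩, ⟨⟨0, 0⟩, ⟨-1, 0⟩, ⟨0, 0⟩, ⟨0, 0⟩⟩⟩,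
  ⟨⟨⟨1, 0⟩, ⟨0, 0⟩, ⟨0, 0⟩, ⟨0, 0⟩⟩, ⟨⟨0, 0⟩, ⟨-2, 2⟩, ⟨1, -1⟩, ⟨1, -1⟩⟩, ⟨⟨0, 0⟩, ⟨1, 0⟩, ⟨0, 0⟩, ⟨0, 0⟩⟩⟩,
  ⟨⟨⟨1, 0⟩, ⟨0, 0⟩, ⟨0, 0⟩, ⟨0, 0⟩⟩, ⟨⟨2, -2⟩, ⟨0, 0⟩, ⟨-1, 1⟩, ⟨1, -1⟩⟩, ⟨⟨0, 0⟩, ⟨-1, 0⟩, ⟨0, 0⟩, ⟨0, 0⟩⟩⟩,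
  ⟨⟨⟨1, 0⟩, ⟨0, 0⟩, ⟨0, 0⟩, ⟨0, 0⟩⟩, ⟨⟨2, -2⟩, ⟨0, 0⟩, ⟨-1, 1⟩, ⟨1, -1⟩⟩, ⟨⟨0, 0⟩, ⟨1, 0⟩, ⟨0, 0⟩, ⟨0, 0⟩⟩⟩,
  ⟨⟨⟨1, 0⟩, ⟨0, 0⟩, ⟨0, 0⟩, ⟨0, 0⟩⟩, ⟨⟨-2, 2⟩, ⟨0, 0⟩, ⟨1, -1⟩, ⟨-1, 1⟩⟩, ⟨⟨0, 0⟩, ⟨-1, 0⟩, ⟨0, 0⟩, ⟨0, 0⟩⟩⟩,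
  ⟨⟨⟨1, 0⟩, ⟨0, 0⟩, ⟨0, 0⟩, ⟨0, 0⟩⟩, ⟨⟨-2, 2⟩, ⟨0, 0⟩, ⟨1, -1⟩, ⟨-1, 1⟩⟩, ⟨⟨0, 0⟩, ⟨1, 0⟩, ⟨0, 0⟩, ⟨0, 0⟩⟩⟩,
  ⟨⟨⟨1, 0⟩, ⟨0, 0⟩, ⟨0, 0⟩, ⟨0, 0⟩⟩, ⟨⟨0, 0⟩, ⟨2, -2⟩, ⟨-1, 1⟩, ⟨-1, 1⟩⟩, ⟨⟨0, 0⟩, ⟨-1, 0⟩, ⟨0, 0⟩, ⟨0, 0⟩⟩⟩,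
  ⟨⟨⟨1, 0⟩, ⟨0, 0⟩, ⟨0, 0⟩, ⟨0, 0⟩⟩, ⟨⟨0, 0⟩, ⟨2, -2⟩, ⟨-1, 1⟩, ⟨-1, 1⟩⟩, ⟨⟨0, 0⟩, ⟨1, 0⟩, ⟨0, 0⟩, ⟨0, 0⟩⟩⟩,
  ⟨⟨⟨1, 0⟩, ⟨0, 0⟩, ⟨0, 0⟩, ⟨0, 0⟩⟩, ⟨⟨0, 0⟩, ⟨2, -2⟩, ⟨-3, 1⟩, ⟨-1, 1⟩⟩, ⟨⟨0, 0⟩, ⟨-1, 0⟩, ⟨0, 0⟩, ⟨0, 0⟩⟩⟩,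
  ⟨⟨⟨1, 0⟩, ⟨0, 0⟩, ⟨0, 0⟩, ⟨0, 0⟩⟩, ⟨⟨0, 0⟩, ⟨2, -2⟩, ⟨-3, 1⟩, ⟨-1, 1⟩⟩, ⟨⟨0, 0⟩, ⟨1, 0⟩, ⟨0, 0⟩, ⟨0, 0⟩⟩⟩,
  ⟨⟨⟨1, 0⟩, ⟨0, 0⟩, ⟨0, 0⟩, ⟨0, 0⟩⟩, ⟨⟨-2, 2⟩, ⟨0, 0⟩, ⟨1, -1⟩, ⟨-3, 1⟩⟩, ⟨⟨0, 0⟩, ⟨-1, 0⟩, ⟨0, 0⟩, ⟨0, 0⟩⟩⟩,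
  ⟨⟨⟨1, 0⟩, ⟨0, 0⟩, ⟨0, 0⟩, ⟨0, 0⟩⟩, ⟨⟨-2, 2⟩, ⟨0, 0⟩, ⟨1, -1⟩, ⟨-3, 1⟩⟩, ⟨⟨0, 0⟩, ⟨1, 0⟩, ⟨0, 0⟩, ⟨0, 0⟩⟩⟩,
  ⟨⟨⟨1, 0⟩, ⟨0, 0⟩, ⟨0, 0⟩, ⟨0, 0⟩⟩, ⟨⟨1, 0⟩, ⟨1, 0⟩, ⟨-1, 1⟩, ⟨1, -1⟩⟩, ⟨⟨-1, 0⟩, ⟨0, 0⟩, ⟨0, 0⟩, ⟨0, 0⟩⟩⟩,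
  ⟨⟨⟨1, 0⟩, ⟨0, 0⟩, ⟨0, 0⟩, ⟨0, 0⟩⟩, ⟨⟨1, 0⟩, ⟨1, 0⟩, ⟨-1, 1⟩, ⟨1, -1⟩⟩, ⟨⟨1, 0⟩, ⟨0, 0⟩, ⟨0, 0⟩, ⟨0, 0⟩⟩⟩,
  ⟨⟨⟨1, 0⟩, ⟨0, 0⟩, ⟨0, 0⟩, ⟨0, 0⟩⟩, ⟨⟨1, 0⟩, ⟨-1, 0⟩, ⟨1, -1⟩, ⟨1, -1⟩⟩, ⟨⟨-1, 0⟩, ⟨0, 0⟩, ⟨0, 0⟩, ⟨0, 0⟩⟩⟩,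
  ⟨⟨⟨1, 0⟩, ⟨0, 0⟩, ⟨0, 0⟩, ⟨0, 0⟩⟩, ⟨⟨1, 0⟩, ⟨-1, 0⟩, ⟨1, -1⟩, ⟨1, -1⟩⟩, ⟨⟨1, 0⟩, ⟨0, 0⟩, ⟨0, 0⟩, ⟨0, 0⟩⟩⟩,
  ⟨⟨⟨1, 0⟩, ⟨0, 0⟩, ⟨0, 0⟩, ⟨0, 0⟩⟩, ⟨⟨-1, 0⟩, ⟨-3, 2⟩, ⟨3, -1⟩, ⟨1, -1⟩⟩, ⟨⟨-1, 0⟩, ⟨0, 0⟩, ⟨0, 0⟩, ⟨0, 0⟩⟩⟩,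
  ⟨⟨⟨1, 0⟩, ⟨0, 0⟩, ⟨0, 0⟩, ⟨0, 0⟩⟩, ⟨⟨-1, 0⟩, ⟨-3, 2⟩, ⟨3, -1⟩, ⟨1, -1⟩⟩, ⟨⟨1, 0⟩, ⟨0, 0⟩, ⟨0, 0⟩, ⟨0, 0⟩⟩⟩,
  ⟨⟨⟨1, 0⟩, ⟨0, 0⟩, ⟨0, 0⟩, ⟨0, 0⟩⟩, ⟨⟨3, -2⟩, ⟨-1, 0⟩, ⟨-1, 1⟩, ⟨3, -1⟩⟩, ⟨⟨-1, 0⟩, ⟨0, 0⟩, ⟨0, 0⟩, ⟨0, 0⟩⟩⟩,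
  ⟨⟨⟨1, 0⟩, ⟨0, 0⟩, ⟨0, 0⟩, ⟨0, 0⟩⟩, ⟨⟨3, -2⟩, ⟨-1, 0⟩, ⟨-1, 1⟩, ⟨3, -1⟩⟩, ⟨⟨1, 0⟩, ⟨0, 0⟩, ⟨0, 0⟩, ⟨0, 0⟩⟩⟩,
  ⟨⟨⟨1, 0⟩, ⟨0, 0⟩, ⟨0, 0⟩, ⟨0, 0⟩⟩, ⟨⟨-3, 2⟩, ⟨1, 0⟩, ⟨1, -1⟩, ⟨-3, 1⟩⟩, ⟨⟨-1, 0⟩, ⟨0, 0⟩, ⟨0, 0⟩, ⟨0, 0⟩⟩⟩,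
  ⟨⟨⟨1, 0⟩, ⟨0, 0⟩, ⟨0, 0⟩, ⟨0, 0⟩⟩, ⟨⟨-3, 2⟩, ⟨1, 0⟩, ⟨1, -1⟩, ⟨-3, 1⟩⟩, ⟨⟨1, 0⟩, ⟨0, 0⟩, ⟨0, 0⟩, ⟨0, 0⟩⟩⟩,
  ⟨⟨⟨1, 0⟩, ⟨0, 0⟩, ⟨0, 0⟩, ⟨0, 0⟩⟩, ⟨⟨1, 0⟩, ⟨3, -2⟩, ⟨-3, 1⟩, ⟨-1, 1⟩⟩, ⟨⟨-1, 0⟩, ⟨0, 0⟩, ⟨0, 0⟩, ⟨0, 0⟩⟩⟩,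
  ⟨⟨⟨1, 0⟩, ⟨0, 0⟩, ⟨0, 0⟩, ⟨0, 0⟩⟩, ⟨⟨1, 0⟩, ⟨3, -2⟩, ⟨-3, 1⟩, ⟨-1, 1⟩⟩, ⟨⟨1, 0⟩, ⟨0, 0⟩, ⟨0, 0⟩, ⟨0, 0⟩⟩⟩,
  ⟨⟨⟨1, 0⟩, ⟨0, 0⟩, ⟨0, 0⟩, ⟨0, 0⟩⟩, ⟨⟨-1, 0⟩, ⟨1, 0⟩, ⟨-1, 1⟩, ⟨-1, 1⟩⟩, ⟨⟨-1, 0⟩, ⟨0, 0⟩, ⟨0, 0⟩, ⟨0, 0⟩⟩⟩,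
  ⟨⟨⟨1, 0⟩, ⟨0, 0⟩, ⟨0, 0⟩, ⟨0, 0⟩⟩, ⟨⟨-1, 0⟩, ⟨1, 0⟩, ⟨-1, 1⟩, ⟨-1, 1⟩⟩, ⟨⟨1, 0⟩, ⟨0, 0⟩, ⟨0, 0⟩, ⟨0, 0⟩⟩⟩,
  ⟨⟨⟨1, 0⟩, ⟨0, 0⟩, ⟨0, 0⟩, ⟨0, 0⟩⟩, ⟨⟨-1, 0⟩, ⟨-1, 0⟩, ⟨1, -1⟩, ⟨-1, 1⟩⟩, ⟨⟨-1, 0⟩, ⟨0, 0⟩, ⟨0, 0⟩, ⟨0, 0⟩⟩⟩,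
  ⟨⟨⟨1, 0⟩, ⟨0, 0⟩, ⟨0, 0⟩, ⟨0, 0⟩⟩, ⟨⟨-1, 0⟩, ⟨-1, 0⟩, ⟨1, -1⟩, ⟨-1, 1⟩⟩, ⟨⟨1, 0⟩, ⟨0, 0⟩, ⟨0, 0⟩, ⟨0, 0⟩⟩⟩,
  ⟨⟨⟨1, 0⟩, ⟨0, 0⟩, ⟨0, 0⟩, ⟨0, 0⟩⟩, ⟨⟨2, -1⟩, ⟨2, -1⟩, ⟨-3, 1⟩, ⟨1, -1⟩⟩, ⟨⟨-2, 1⟩, ⟨1, -1⟩, ⟨0, 0⟩, ⟨-2, 2⟩⟩⟩,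
  ⟨⟨⟨1, 0⟩, ⟨0, 0⟩, ⟨0, 0⟩, ⟨0, 0⟩⟩, ⟨⟨2, -1⟩, ⟨2, -1⟩, ⟨-3, 1⟩, ⟨1, -1⟩⟩, ⟨⟨2, -1⟩, ⟨-1, 1⟩, ⟨0, 0⟩, ⟨2, -2⟩⟩⟩,
  ⟨⟨⟨1, 0⟩, ⟨0, 0⟩, ⟨0, 0⟩, ⟨0, 0⟩⟩, ⟨⟨2, -1⟩, ⟨0, 1⟩, ⟨-1, 1⟩, ⟨1, -1⟩⟩, ⟨⟨-2, 1⟩, ⟨1, -1⟩, ⟨0, 0⟩, ⟨-2, 2⟩⟩⟩,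
  ⟨⟨⟨1, 0⟩, ⟨0, 0⟩, ⟨0, 0⟩, ⟨0, 0⟩⟩, ⟨⟨2, -1⟩, ⟨0, 1⟩, ⟨-1, 1⟩, ⟨1, -1⟩⟩, ⟨⟨2, -1⟩, ⟨-1, 1⟩, ⟨0, 0⟩, ⟨2, -2⟩⟩⟩,
  ⟨⟨⟨1, 0⟩, ⟨0, 0⟩, ⟨0, 0⟩, ⟨0, 0⟩⟩, ⟨⟨-2, 1⟩, ⟨2, -1⟩, ⟨-1, 1⟩, ⟨-3, 1⟩⟩, ⟨⟨-2, 1⟩, ⟨1, -1⟩, ⟨0, 0⟩, ⟨-2, 2⟩⟩⟩,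
  ⟨⟨⟨1, 0⟩, ⟨0, 0⟩, ⟨0, 0⟩, ⟨0, 0⟩⟩, ⟨⟨-2, 1⟩, ⟨2, -1⟩, ⟨-1, 1⟩, ⟨-3, 1⟩⟩, ⟨⟨2, -1⟩, ⟨-1, 1⟩, ⟨0, 0⟩, ⟨2, -2⟩⟩⟩,
  ⟨⟨⟨1, 0⟩, ⟨0, 0⟩, ⟨0, 0⟩, ⟨0, 0⟩⟩, ⟨⟨0, -1⟩, ⟨2, -1⟩, ⟨-1, 1⟩, ⟨-1, 1⟩⟩, ⟨⟨-2, 1⟩, ⟨1, -1⟩, ⟨0, 0⟩, ⟨-2, 2⟩⟩⟩,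
  ⟨⟨⟨1, 0⟩, ⟨0, 0⟩, ⟨0, 0⟩, ⟨0, 0⟩⟩, ⟨⟨0, -1⟩, ⟨2, -1⟩, ⟨-1, 1⟩, ⟨-1, 1⟩⟩, ⟨⟨2, -1⟩, ⟨-1, 1⟩, ⟨0, 0⟩, ⟨2, -2⟩⟩⟩,
  ⟨⟨⟨1, 0⟩, ⟨0, 0⟩, ⟨0, 0⟩, ⟨0, 0⟩⟩, ⟨⟨0, 1⟩, ⟨-2, 1⟩, ⟨1, -1⟩, ⟨1, -1⟩⟩, ⟨⟨-2, 1⟩, ⟨1, -1⟩, ⟨0, 0⟩, ⟨-2, 2⟩⟩⟩,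
  ⟨⟨⟨1, 0⟩, ⟨0, 0⟩, ⟨0, 0⟩, ⟨0, 0⟩⟩, ⟨⟨0, 1⟩, ⟨-2, 1⟩, ⟨1, -1⟩, ⟨1, -1⟩⟩, ⟨⟨2, -1⟩, ⟨-1, 1⟩, ⟨0, 0⟩, ⟨2, -2⟩⟩⟩,
  ⟨⟨⟨1, 0⟩, ⟨0, 0⟩, ⟨0, 0⟩, ⟨0, 0⟩⟩, ⟨⟨2, -1⟩, ⟨-2, 1⟩, ⟨1, -1⟩, ⟨3, -1⟩⟩, ⟨⟨-2, 1⟩, ⟨1, -1⟩, ⟨0, 0⟩, ⟨-2, 2⟩⟩⟩,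
  ⟨⟨⟨1, 0⟩, ⟨0, 0⟩, ⟨0, 0⟩, ⟨0, 0⟩⟩, ⟨⟨2, -1⟩, ⟨-2, 1⟩, ⟨1, -1⟩, ⟨3, -1⟩⟩, ⟨⟨2, -1⟩, ⟨-1, 1⟩, ⟨0, 0⟩, ⟨2, -2⟩⟩⟩,
  ⟨⟨⟨1, 0⟩, ⟨0, 0⟩, ⟨0, 0⟩, ⟨0, 0⟩⟩, ⟨⟨-2, 1⟩, ⟨0, -1⟩, ⟨1, -1⟩, ⟨-1, 1⟩⟩, ⟨⟨-2, 1⟩, ⟨1, -1⟩, ⟨0, 0⟩, ⟨-2, 2⟩⟩⟩,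
  ⟨⟨⟨1, 0⟩, ⟨0, 0⟩, ⟨0, 0⟩, ⟨0, 0⟩⟩, ⟨⟨-2, 1⟩, ⟨0, -1⟩, ⟨1, -1⟩, ⟨-1, 1⟩⟩, ⟨⟨2, -1⟩, ⟨-1, 1⟩, ⟨0, 0⟩, ⟨2, -2⟩⟩⟩,
  ⟨⟨⟨1, 0⟩, ⟨0, 0⟩, ⟨0, 0⟩, ⟨0, 0⟩⟩, ⟨⟨-2, 1⟩, ⟨-2, 1⟩, ⟨3, -1⟩, ⟨-1, 1⟩⟩, ⟨⟨-2, 1⟩, ⟨1, -1⟩, ⟨0, 0⟩, ⟨-2, 2⟩⟩⟩,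
  ⟨⟨⟨1, 0⟩, ⟨0, 0⟩, ⟨0, 0⟩, ⟨0, 0⟩⟩, ⟨⟨-2, 1⟩, ⟨-2, 1⟩, ⟨3, -1⟩, ⟨-1, 1⟩⟩, ⟨⟨2, -1⟩, ⟨-1, 1⟩, ⟨0, 0⟩, ⟨2, -2⟩⟩⟩,
  ⟨⟨⟨1, 0⟩, ⟨0, 0⟩, ⟨0, 0⟩, ⟨0, 0⟩⟩, ⟨⟨1, -1⟩, ⟨-1, 1⟩, ⟨1, -1⟩, ⟨1, -1⟩⟩, ⟨⟨-1, 1⟩, ⟨-2, 1⟩, ⟨2, -2⟩, ⟨0, 0⟩⟩⟩,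
  ⟨⟨⟨1, 0⟩, ⟨0, 0⟩, ⟨0, 0⟩, ⟨0, 0⟩⟩, ⟨⟨1, -1⟩, ⟨-1, 1⟩, ⟨1, -1⟩, ⟨1, -1⟩⟩, ⟨⟨1, -1⟩, ⟨2, -1⟩, ⟨-2, 2⟩, ⟨0, 0⟩⟩⟩,
  ⟨⟨⟨1, 0⟩, ⟨0, 0⟩, ⟨0, 0⟩, ⟨0, 0⟩⟩, ⟨⟨-1, 1⟩, ⟨3, -1⟩, ⟨-1, 1⟩, ⟨-3, 1⟩⟩, ⟨⟨-1, 1⟩, ⟨-2, 1⟩, ⟨2, -2⟩, ⟨0, 0⟩⟩⟩,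
  ⟨⟨⟨1, 0⟩, ⟨0, 0⟩, ⟨0, 0⟩, ⟨0, 0⟩⟩, ⟨⟨-1, 1⟩, ⟨3, -1⟩, ⟨-1, 1⟩, ⟨-3, 1⟩⟩, ⟨⟨1, -1⟩, ⟨2, -1⟩, ⟨-2, 2⟩, ⟨0, 0⟩⟩⟩,
  ⟨⟨⟨1, 0⟩, ⟨0, 0⟩, ⟨0, 0⟩, ⟨0, 0⟩⟩, ⟨⟨1, -1⟩, ⟨1, -1⟩, ⟨-1, 1⟩, ⟨1, -1⟩⟩, ⟨⟨-1, 1⟩, ⟨-2, 1⟩, ⟨2, -2⟩, ⟨0, 0⟩⟩⟩,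
  ⟨⟨⟨1, 0⟩, ⟨0, 0⟩, ⟨0, 0⟩, ⟨0, 0⟩⟩, ⟨⟨1, -1⟩, ⟨1, -1⟩, ⟨-1, 1⟩, ⟨1, -1⟩⟩, ⟨⟨1, -1⟩, ⟨2, -1⟩, ⟨-2, 2⟩, ⟨0, 0⟩⟩⟩,
  ⟨⟨⟨1, 0⟩, ⟨0, 0⟩, ⟨0, 0⟩, ⟨0, 0⟩⟩, ⟨⟨-3, 1⟩, ⟨-1, 1⟩, ⟨3, -1⟩, ⟨-1, 1⟩⟩, ⟨⟨-1, 1⟩, ⟨-2, 1⟩, ⟨2, -2⟩, ⟨0, 0⟩⟩⟩,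
  ⟨⟨⟨1, 0⟩, ⟨0, 0⟩, ⟨0, 0⟩, ⟨0, 0⟩⟩, ⟨⟨-3, 1⟩, ⟨-1, 1⟩, ⟨3, -1⟩, ⟨-1, 1⟩⟩, ⟨⟨1, -1⟩, ⟨2, -1⟩, ⟨-2, 2⟩, ⟨0, 0⟩⟩⟩,
  ⟨⟨⟨1, 0⟩, ⟨0, 0⟩, ⟨0, 0⟩, ⟨0, 0⟩⟩, ⟨⟨3, -1⟩, ⟨1, -1⟩, ⟨-3, 1⟩, ⟨1, -1⟩⟩, ⟨⟨-1, 1⟩, ⟨-2, 1⟩, ⟨2, -2⟩, ⟨0, 0⟩⟩⟩,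
  ⟨⟨⟨1, 0⟩, ⟨0, 0⟩, ⟨0, 0⟩, ⟨0, 0⟩⟩, ⟨⟨3, -1⟩, ⟨1, -1⟩, ⟨-3, 1⟩, ⟨1, -1⟩⟩, ⟨⟨1, -1⟩, ⟨2, -1⟩, ⟨-2, 2⟩, ⟨0, 0⟩⟩⟩,
  ⟨⟨⟨1, 0⟩, ⟨0, 0⟩, ⟨0, 0⟩, ⟨0, 0⟩⟩, ⟨⟨-1, 1⟩, ⟨-1, 1⟩, ⟨1, -1⟩, ⟨-1, 1⟩⟩, ⟨⟨-1, 1⟩, ⟨-2, 1⟩, ⟨2, -2⟩, ⟨0, 0⟩⟩⟩,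
  ⟨⟨⟨1, 0⟩, ⟨0, 0⟩, ⟨0, 0⟩, ⟨0, 0⟩⟩, ⟨⟨-1, 1⟩, ⟨-1, 1⟩, ⟨1, -1⟩, ⟨-1, 1⟩⟩, ⟨⟨1, -1⟩, ⟨2, -1⟩, ⟨-2, 2⟩, ⟨0, 0⟩⟩⟩,
  ⟨⟨⟨1, 0⟩, ⟨0, 0⟩, ⟨0, 0⟩, ⟨0, 0⟩⟩, ⟨⟨1, -1⟩, ⟨-3, 1⟩, ⟨1, -1⟩, ⟨3, -1⟩⟩, ⟨⟨-1, 1⟩, ⟨-2, 1⟩, ⟨2, -2⟩, ⟨0, 0⟩⟩⟩,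
  ⟨⟨⟨1, 0⟩, ⟨0, 0⟩, ⟨0, 0⟩, ⟨0, 0⟩⟩, ⟨⟨1, -1⟩, ⟨-3, 1⟩, ⟨1, -1⟩, ⟨3, -1⟩⟩, ⟨⟨1, -1⟩, ⟨2, -1⟩, ⟨-2, 2⟩, ⟨0, 0⟩⟩⟩,
  ⟨⟨⟨1, 0⟩, ⟨0, 0⟩, ⟨0, 0⟩, ⟨0, 0⟩⟩, ⟨⟨-1, 1⟩, ⟨1, -1⟩, ⟨-1, 1⟩, ⟨-1, 1⟩⟩, ⟨⟨-1, 1⟩, ⟨-2, 1⟩, ⟨2, -2⟩, ⟨0, 0⟩⟩⟩,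
  ⟨⟨⟨1, 0⟩, ⟨0, 0⟩, ⟨0, 0⟩, ⟨0, 0⟩⟩, ⟨⟨-1, 1⟩, ⟨1, -1⟩, ⟨-1, 1⟩, ⟨-1, 1⟩⟩, ⟨⟨1, -1⟩, ⟨2, -1⟩, ⟨-2, 2⟩, ⟨0, 0⟩⟩⟩,
  ⟨⟨⟨1, 0⟩, ⟨0, 0⟩, ⟨0, 0⟩, ⟨0, 0⟩⟩, ⟨⟨0, 0⟩, ⟨-1, 0⟩, ⟨0, 0⟩, ⟨0, 0⟩⟩, ⟨⟨2, -2⟩, ⟨0, 0⟩, ⟨-1, 1⟩, ⟨3, -1⟩⟩⟩,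
  ⟨⟨⟨1, 0⟩, ⟨0, 0⟩, ⟨0, 0⟩, ⟨0, 0⟩⟩, ⟨⟨0, 0⟩, ⟨1, 0⟩, ⟨0, 0⟩, ⟨0, 0⟩⟩, ⟨⟨2, -2⟩, ⟨0, 0⟩, ⟨-1, 1⟩, ⟨3, -1⟩⟩⟩,
  ⟨⟨⟨1, 0⟩, ⟨0, 0⟩, ⟨0, 0⟩, ⟨0, 0⟩⟩, ⟨⟨0, 0⟩, ⟨-1, 0⟩, ⟨0, 0⟩, ⟨0, 0⟩⟩, ⟨⟨0, 0⟩, ⟨-2, 2⟩, ⟨3, -1⟩, ⟨1, -1⟩⟩⟩,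
  ⟨⟨⟨1, 0⟩, ⟨0, 0⟩, ⟨0, 0⟩, ⟨0, 0⟩⟩, ⟨⟨0, 0⟩, ⟨1, 0⟩, ⟨0, 0⟩, ⟨0, 0⟩⟩, ⟨⟨0, 0⟩, ⟨-2, 2⟩, ⟨3, -1⟩, ⟨1, -1⟩⟩⟩,
  ⟨⟨⟨1, 0⟩, ⟨0, 0⟩, ⟨0, 0⟩, ⟨0, 0⟩⟩, ⟨⟨0, 0⟩, ⟨-1, 0⟩, ⟨0, 0⟩, ⟨0, 0⟩⟩, ⟨⟨0, 0⟩, ⟨-2, 2⟩, ⟨1, -1⟩, ⟨1, -1⟩⟩⟩,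
  ⟨⟨⟨1, 0⟩, ⟨0, 0⟩, ⟨0, 0⟩, ⟨0, 0⟩⟩, ⟨⟨0, 0⟩, ⟨1, 0⟩, ⟨0, 0⟩, ⟨0, 0⟩⟩, ⟨⟨0, 0⟩, ⟨-2, 2⟩, ⟨1, -1⟩, ⟨1, -1⟩⟩⟩,
  ⟨⟨⟨1, 0⟩, ⟨0, 0⟩, ⟨0, 0⟩, ⟨0, 0⟩⟩, ⟨⟨0, 0⟩, ⟨-1, 0⟩, ⟨0, 0⟩, ⟨0, 0⟩⟩, ⟨⟨2, -2⟩, ⟨0, 0⟩, ⟨-1, 1⟩, ⟨1, -1⟩⟩⟩,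
  ⟨⟨⟨1, 0⟩, ⟨0, 0⟩, ⟨0, 0⟩, ⟨0, 0⟩⟩, ⟨⟨0, 0⟩, ⟨1, 0⟩, ⟨0, 0⟩, ⟨0, 0⟩⟩, ⟨⟨2, -2⟩, ⟨0, 0⟩, ⟨-1, 1⟩, ⟨1, -1⟩⟩⟩,
  ⟨⟨⟨1, 0⟩, ⟨0, 0⟩, ⟨0, 0⟩, ⟨0, 0⟩⟩, ⟨⟨0, 0⟩, ⟨-1, 0⟩, ⟨0, 0⟩, ⟨0, 0⟩⟩, ⟨⟨-2, 2⟩, ⟨0, 0⟩, ⟨1, -1⟩, ⟨-1, 1⟩⟩⟩,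
  ⟨⟨⟨1, 0⟩, ⟨0, 0⟩, ⟨0, 0⟩, ⟨0, 0⟩⟩, ⟨⟨0, 0⟩, ⟨1, 0⟩, ⟨0, 0⟩, ⟨0, 0⟩⟩, ⟨⟨-2, 2⟩, ⟨0, 0⟩, ⟨1, -1⟩, ⟨-1, 1⟩⟩⟩,
  ⟨⟨⟨1, 0⟩, ⟨0, 0⟩, ⟨0, 0⟩, ⟨0, 0⟩⟩, ⟨⟨0, 0⟩, ⟨-1, 0⟩, ⟨0, 0⟩, ⟨0, 0⟩⟩, ⟨⟨0, 0⟩, ⟨2, -2⟩, ⟨-1, 1⟩, ⟨-1, 1⟩⟩⟩,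
  ⟨⟨⟨1, 0⟩, ⟨0, 0⟩, ⟨0, 0⟩, ⟨0, 0⟩⟩, ⟨⟨0, 0⟩, ⟨1, 0⟩, ⟨0, 0⟩, ⟨0, 0⟩⟩, ⟨⟨0, 0⟩, ⟨2, -2⟩, ⟨-1, 1⟩, ⟨-1, 1⟩⟩⟩,
  ⟨⟨⟨1, 0⟩, ⟨0, 0⟩, ⟨0, 0⟩, ⟨0, 0⟩⟩, ⟨⟨0, 0⟩, ⟨-1, 0⟩, ⟨0, 0⟩, ⟨0, 0⟩⟩, ⟨⟨0, 0⟩, ⟨2, -2⟩, ⟨-3, 1⟩, ⟨-1, 1⟩⟩⟩,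
  ⟨⟨⟨1, 0⟩, ⟨0, 0⟩, ⟨0, 0⟩, ⟨0, 0⟩⟩, ⟨⟨0, 0⟩, ⟨1, 0⟩, ⟨0, 0⟩, ⟨0, 0⟩⟩, ⟨⟨0, 0⟩, ⟨2, -2⟩, ⟨-3, 1⟩, ⟨-1, 1⟩⟩⟩,
  ⟨⟨⟨1, 0⟩, ⟨0, 0⟩, ⟨0, 0⟩, ⟨0, 0⟩⟩, ⟨⟨0, 0⟩, ⟨-1, 0⟩, ⟨0, 0⟩, ⟨0, 0⟩⟩, ⟨⟨-2, 2⟩, ⟨0, 0⟩, ⟨1, -1⟩, ⟨-3, 1⟩⟩⟩,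
  ⟨⟨⟨1, 0⟩, ⟨0, 0⟩, ⟨0, 0⟩, ⟨0, 0⟩⟩, ⟨⟨0, 0⟩, ⟨1, 0⟩, ⟨0, 0⟩, ⟨0, 0⟩⟩, ⟨⟨-2, 2⟩, ⟨0, 0⟩, ⟨1, -1⟩, ⟨-3, 1⟩⟩⟩,
  ⟨⟨⟨1, 0⟩, ⟨0, 0⟩, ⟨0, 0⟩, ⟨0, 0⟩⟩, ⟨⟨-1, 0⟩, ⟨0, 0⟩, ⟨0, 0⟩, ⟨0, 0⟩⟩, ⟨⟨1, 0⟩, ⟨1, 0⟩, ⟨-1, 1⟩, ⟨1, -1⟩⟩⟩,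
  ⟨⟨⟨1, 0⟩, ⟨0, 0⟩, ⟨0, 0⟩, ⟨0, 0⟩⟩, ⟨⟨1, 0⟩, ⟨0, 0⟩, ⟨0, 0⟩, ⟨0, 0⟩⟩, ⟨⟨1, 0⟩, ⟨1, 0⟩, ⟨-1, 1⟩, ⟨1, -1⟩⟩⟩,
  ⟨⟨⟨1, 0⟩, ⟨0, 0⟩, ⟨0, 0⟩, ⟨0, 0⟩⟩, ⟨⟨-1, 0⟩, ⟨0, 0⟩, ⟨0, 0⟩, ⟨0, 0⟩⟩, ⟨⟨1, 0⟩, ⟨-1, 0⟩, ⟨1, -1⟩, ⟨1, -1⟩⟩⟩,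
  ⟨⟨⟨1, 0⟩, ⟨0, 0⟩, ⟨0, 0⟩, ⟨0, 0⟩⟩, ⟨⟨1, 0⟩, ⟨0, 0⟩, ⟨0, 0⟩, ⟨0, 0⟩⟩, ⟨⟨1, 0⟩, ⟨-1, 0⟩, ⟨1, -1⟩, ⟨1, -1⟩⟩⟩,
  ⟨⟨⟨1, 0⟩, ⟨0, 0⟩, ⟨0, 0⟩, ⟨0, 0⟩⟩, ⟨⟨-1, 0⟩, ⟨0, 0⟩, ⟨0, 0⟩, ⟨0, 0⟩⟩, ⟨⟨-1, 0⟩, ⟨-3, 2⟩, ⟨3, -1⟩, ⟨1, -1⟩⟩⟩,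
  ⟨⟨⟨1, 0⟩, ⟨0, 0⟩, ⟨0, 0⟩, ⟨0, 0⟩⟩, ⟨⟨1, 0⟩, ⟨0, 0⟩, ⟨0, 0⟩, ⟨0, 0⟩⟩, ⟨⟨-1, 0⟩, ⟨-3, 2⟩, ⟨3, -1⟩, ⟨1, -1⟩⟩⟩,
  ⟨⟨⟨1, 0⟩, ⟨0, 0⟩, ⟨0, 0⟩, ⟨0, 0⟩⟩, ⟨⟨-1, 0⟩, ⟨0, 0⟩, ⟨0, 0⟩, ⟨0, 0⟩⟩, ⟨⟨3, -2⟩, ⟨-1, 0⟩, ⟨-1, 1⟩, ⟨3, -1⟩⟩⟩,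
  ⟨⟨⟨1, 0⟩, ⟨0, 0⟩, ⟨0, 0⟩, ⟨0, 0⟩⟩, ⟨⟨1, 0⟩, ⟨0, 0⟩, ⟨0, 0⟩, ⟨0, 0⟩⟩, ⟨⟨3, -2⟩, ⟨-1, 0⟩, ⟨-1, 1⟩, ⟨3, -1⟩⟩⟩,
  ⟨⟨⟨1, 0⟩, ⟨0, 0⟩, ⟨0, 0⟩, ⟨0, 0⟩⟩, ⟨⟨-1, 0⟩, ⟨0, 0⟩, ⟨0, 0⟩, ⟨0, 0⟩⟩, ⟨⟨-3, 2⟩, ⟨1, 0⟩, ⟨1, -1⟩, ⟨-3, 1⟩⟩⟩,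
  ⟨⟨⟨1, 0⟩, ⟨0, 0⟩, ⟨0, 0⟩, ⟨0, 0⟩⟩, ⟨⟨1, 0⟩, ⟨0, 0⟩, ⟨0, 0⟩, ⟨0, 0⟩⟩, ⟨⟨-3, 2⟩, ⟨1, 0⟩, ⟨1, -1⟩, ⟨-3, 1⟩⟩⟩,
  ⟨⟨⟨1, 0⟩, ⟨0, 0⟩, ⟨0, 0⟩, ⟨0, 0⟩⟩, ⟨⟨-1, 0⟩, ⟨0, 0⟩, ⟨0, 0⟩, ⟨0, 0⟩⟩, ⟨⟨1, 0⟩, ⟨3, -2⟩, ⟨-3, 1⟩, ⟨-1, 1⟩⟩⟩,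
  ⟨⟨⟨1, 0⟩, ⟨0, 0⟩, ⟨0, 0⟩, ⟨0, 0⟩⟩, ⟨⟨1, 0⟩, ⟨0, 0⟩, ⟨0, 0⟩, ⟨0, 0⟩⟩, ⟨⟨1, 0⟩, ⟨3, -2⟩, ⟨-3, 1⟩, ⟨-1, 1⟩⟩⟩,
  ⟨⟨⟨1, 0⟩, ⟨0, 0⟩, ⟨0, 0⟩, ⟨0, 0⟩⟩, ⟨⟨-1, 0⟩, ⟨0, 0⟩, ⟨0, 0⟩, ⟨0, 0⟩⟩, ⟨⟨-1, 0⟩, ⟨1, 0⟩, ⟨-1, 1⟩, ⟨-1, 1⟩⟩⟩,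
  ⟨⟨⟨1, 0⟩, ⟨0, 0⟩, ⟨0, 0⟩, ⟨0, 0⟩⟩, ⟨⟨1, 0⟩, ⟨0, 0⟩, ⟨0, 0⟩, ⟨0, 0⟩⟩, ⟨⟨-1, 0⟩, ⟨1, 0⟩, ⟨-1, 1⟩, ⟨-1, 1⟩⟩⟩,
  ⟨⟨⟨1, 0⟩, ⟨0, 0⟩, ⟨0, 0⟩, ⟨0, 0⟩⟩, ⟨⟨-1, 0⟩, ⟨0, 0⟩, ⟨0, 0⟩, ⟨0, 0⟩⟩, ⟨⟨-1, 0⟩, ⟨-1, 0⟩, ⟨1, -1⟩, ⟨-1, 1⟩⟩⟩,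
  ⟨⟨⟨1, 0⟩, ⟨0, 0⟩, ⟨0, 0⟩, ⟨0, 0⟩⟩, ⟨⟨1, 0⟩, ⟨0, 0⟩, ⟨0, 0⟩, ⟨0, 0⟩⟩, ⟨⟨-1, 0⟩, ⟨-1, 0⟩, ⟨1, -1⟩, ⟨-1, 1⟩⟩⟩,
  ⟨⟨⟨1, 0⟩, ⟨0, 0⟩, ⟨0, 0⟩, ⟨0, 0⟩⟩, ⟨⟨-2, 1⟩, ⟨1, -1⟩, ⟨0, 0⟩, ⟨-2, 2⟩⟩, ⟨⟨2, -1⟩, ⟨2, -1⟩, ⟨-3, 1⟩, ⟨1, -1⟩⟩⟩,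
  ⟨⟨⟨1, 0⟩, ⟨0, 0⟩, ⟨0, 0⟩, ⟨0, 0⟩⟩, ⟨⟨2, -1⟩, ⟨-1, 1⟩, ⟨0, 0⟩, ⟨2, -2⟩⟩, ⟨⟨2, -1⟩, ⟨2, -1⟩, ⟨-3, 1⟩, ⟨1, -1⟩⟩⟩,
  ⟨⟨⟨1, 0⟩, ⟨0, 0⟩, ⟨0, 0⟩, ⟨0, 0⟩⟩, ⟨⟨-2, 1⟩, ⟨1, -1⟩, ⟨0, 0⟩, ⟨-2, 2⟩⟩, ⟨⟨2, -1⟩, ⟨0, 1⟩, ⟨-1, 1⟩, ⟨1, -1⟩⟩⟩,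
  ⟨⟨⟨1, 0⟩, ⟨0, 0⟩, ⟨0, 0⟩, ⟨0, 0⟩⟩, ⟨⟨2, -1⟩, ⟨-1, 1⟩, ⟨0, 0⟩, ⟨2, -2⟩⟩, ⟨⟨2, -1⟩, ⟨0, 1⟩, ⟨-1, 1⟩, ⟨1, -1⟩⟩⟩,
  ⟨⟨⟨1, 0⟩, ⟨0, 0⟩, ⟨0, 0⟩, ⟨0, 0⟩⟩, ⟨⟨-2, 1⟩, ⟨1, -1⟩, ⟨0, 0⟩, ⟨-2, 2⟩⟩, ⟨⟨-2, 1⟩, ⟨2, -1⟩, ⟨-1, 1⟩, ⟨-3, 1⟩⟩⟩,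
  ⟨⟨⟨1, 0⟩, ⟨0, 0⟩, ⟨0, 0⟩, ⟨0, 0⟩⟩, ⟨⟨2, -1⟩, ⟨-1, 1⟩, ⟨0, 0⟩, ⟨2, -2⟩⟩, ⟨⟨-2, 1⟩, ⟨2, -1⟩, ⟨-1, 1⟩, ⟨-3, 1⟩⟩⟩,
  ⟨⟨⟨1, 0⟩, ⟨0, 0⟩, ⟨0, 0⟩, ⟨0, 0⟩⟩, ⟨⟨-2, 1⟩, ⟨1, -1⟩, ⟨0, 0⟩, ⟨-2, 2⟩⟩, ⟨⟨0, -1⟩, ⟨2, -1⟩, ⟨-1, 1⟩, ⟨-1, 1⟩⟩⟩,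
  ⟨⟨⟨1, 0⟩, ⟨0, 0⟩, ⟨0, 0⟩, ⟨0, 0⟩⟩, ⟨⟨2, -1⟩, ⟨-1, 1⟩, ⟨0, 0⟩, ⟨2, -2⟩⟩, ⟨⟨0, -1⟩, ⟨2, -1⟩, ⟨-1, 1⟩, ⟨-1, 1⟩⟩⟩,
  ⟨⟨⟨1, 0⟩, ⟨0, 0⟩, ⟨0, 0⟩, ⟨0, 0⟩⟩, ⟨⟨-2, 1⟩, ⟨1, -1⟩, ⟨0, 0⟩, ⟨-2, 2⟩⟩, ⟨⟨0, 1⟩, ⟨-2, 1⟩, ⟨1, -1⟩, ⟨1, -1⟩⟩⟩,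
  ⟨⟨⟨1, 0⟩, ⟨0, 0⟩, ⟨0, 0⟩, ⟨0, 0⟩⟩, ⟨⟨2, -1⟩, ⟨-1, 1⟩, ⟨0, 0⟩, ⟨2, -2⟩⟩, ⟨⟨0, 1⟩, ⟨-2, 1⟩, ⟨1, -1⟩, ⟨1, -1⟩⟩⟩,
  ⟨⟨⟨1, 0⟩, ⟨0, 0⟩, ⟨0, 0⟩, ⟨0, 0⟩⟩, ⟨⟨-2, 1⟩, ⟨1, -1⟩, ⟨0, 0⟩, ⟨-2, 2⟩⟩, ⟨⟨2, -1⟩, ⟨-2, 1⟩, ⟨1, -1⟩, ⟨3, -1⟩⟩⟩,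
  ⟨⟨⟨1, 0⟩, ⟨0, 0⟩, ⟨0, 0⟩, ⟨0, 0⟩⟩, ⟨⟨2, -1⟩, ⟨-1, 1⟩, ⟨0, 0⟩, ⟨2, -2⟩⟩, ⟨⟨2, -1⟩, ⟨-2, 1⟩, ⟨1, -1⟩, ⟨3, -1⟩⟩⟩,
  ⟨⟨⟨1, 0⟩, ⟨0, 0⟩, ⟨0, 0⟩, ⟨0, 0⟩⟩, ⟨⟨-2, 1⟩, ⟨1, -1⟩, ⟨0, 0⟩, ⟨-2, 2⟩⟩, ⟨⟨-2, 1⟩, ⟨0, -1⟩, ⟨1, -1⟩, ⟨-1, 1⟩⟩⟩,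
  ⟨⟨⟨1, 0⟩, ⟨0, 0⟩, ⟨0, 0⟩, ⟨0, 0⟩⟩, ⟨⟨2, -1⟩, ⟨-1, 1⟩, ⟨0, 0⟩, ⟨2, -2⟩⟩, ⟨⟨-2, 1⟩, ⟨0, -1⟩, ⟨1, -1⟩, ⟨-1, 1⟩⟩⟩,
  ⟨⟨⟨1, 0⟩, ⟨0, 0⟩, ⟨0, 0⟩, ⟨0, 0⟩⟩, ⟨⟨-2, 1⟩, ⟨1, -1⟩, ⟨0, 0⟩, ⟨-2, 2⟩⟩, ⟨⟨-2, 1⟩, ⟨-2, 1⟩, ⟨3, -1⟩, ⟨-1, 1⟩⟩⟩,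
  ⟨⟨⟨1, 0⟩, ⟨0, 0⟩, ⟨0, 0⟩, ⟨0, 0⟩⟩, ⟨⟨2, -1⟩, ⟨-1, 1⟩, ⟨0, 0⟩, ⟨2, -2⟩⟩, ⟨⟨-2, 1⟩, ⟨-2, 1⟩, ⟨3, -1⟩, ⟨-1, 1⟩⟩⟩,
  ⟨⟨⟨1, 0⟩, ⟨0, 0⟩, ⟨0, 0⟩, ⟨0, 0⟩⟩, ⟨⟨-1, 1⟩, ⟨-2, 1⟩, ⟨2, -2⟩, ⟨0, 0⟩⟩, ⟨⟨1, -1⟩, ⟨-1, 1⟩, ⟨1, -1⟩, ⟨1, -1⟩⟩⟩,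
  ⟨⟨⟨1, 0⟩, ⟨0, 0⟩, ⟨0, 0⟩, ⟨0, 0⟩⟩, ⟨⟨1, -1⟩, ⟨2, -1⟩, ⟨-2, 2⟩, ⟨0, 0⟩⟩, ⟨⟨1, -1⟩, ⟨-1, 1⟩, ⟨1, -1⟩, ⟨1, -1⟩⟩⟩,
  ⟨⟨⟨1, 0⟩, ⟨0, 0⟩, ⟨0, 0⟩, ⟨0, 0⟩⟩, ⟨⟨-1, 1⟩, ⟨-2, 1⟩, ⟨2, -2⟩, ⟨0, 0⟩⟩, ⟨⟨-1, 1⟩, ⟨3, -1⟩, ⟨-1, 1⟩, ⟨-3, 1⟩⟩⟩,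
  ⟨⟨⟨1, 0⟩, ⟨0, 0⟩, ⟨0, 0⟩, ⟨0, 0⟩⟩, ⟨⟨1, -1⟩, ⟨2, -1⟩, ⟨-2, 2⟩, ⟨0, 0⟩⟩, ⟨⟨-1, 1⟩, ⟨3, -1⟩, ⟨-1, 1⟩, ⟨-3, 1⟩⟩⟩,
  ⟨⟨⟨1, 0⟩, ⟨0, 0⟩, ⟨0, 0⟩, ⟨0, 0⟩⟩, ⟨⟨-1, 1⟩, ⟨-2, 1⟩, ⟨2, -2⟩, ⟨0, 0⟩⟩, ⟨⟨1, -1⟩, ⟨1, -1⟩, ⟨-1, 1⟩, ⟨1, -1⟩⟩⟩,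
  ⟨⟨⟨1, 0⟩, ⟨0, 0⟩, ⟨0, 0⟩, ⟨0, 0⟩⟩, ⟨⟨1, -1⟩, ⟨2, -1⟩, ⟨-2, 2⟩, ⟨0, 0⟩⟩, ⟨⟨1, -1⟩, ⟨1, -1⟩, ⟨-1, 1⟩, ⟨1, -1⟩⟩⟩,
  ⟨⟨⟨1, 0⟩, ⟨0, 0⟩, ⟨0, 0⟩, ⟨0, 0⟩⟩, ⟨⟨-1, 1⟩, ⟨-2, 1⟩, ⟨2, -2⟩, ⟨0, 0⟩⟩, ⟨⟨-3, 1⟩, ⟨-1, 1⟩, ⟨3, -1⟩, ⟨-1, 1⟩⟩⟩,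
  ⟨⟨⟨1, 0⟩, ⟨0, 0⟩, ⟨0, 0⟩, ⟨0, 0⟩⟩, ⟨⟨1, -1⟩, ⟨2, -1⟩, ⟨-2, 2⟩, ⟨0, 0⟩⟩, ⟨⟨-3, 1⟩, ⟨-1, 1⟩, ⟨3, -1⟩, ⟨-1, 1⟩⟩⟩,
  ⟨⟨⟨1, 0⟩, ⟨0, 0⟩, ⟨0, 0⟩, ⟨0, 0⟩⟩, ⟨⟨-1, 1⟩, ⟨-2, 1⟩, ⟨2, -2⟩, ⟨0, 0⟩⟩, ⟨⟨3, -1⟩, ⟨1, -1⟩, ⟨-3, 1⟩, ⟨1, -1⟩⟩⟩,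
  ⟨⟨⟨1, 0⟩, ⟨0, 0⟩, ⟨0, 0⟩, ⟨0, 0⟩⟩, ⟨⟨1, -1⟩, ⟨2, -1⟩, ⟨-2, 2⟩, ⟨0, 0⟩⟩, ⟨⟨3, -1⟩, ⟨1, -1⟩, ⟨-3, 1⟩, ⟨1, -1⟩⟩⟩,
  ⟨⟨⟨1, 0⟩, ⟨0, 0⟩, ⟨0, 0⟩, ⟨0, 0⟩⟩, ⟨⟨-1, 1⟩, ⟨-2, 1⟩, ⟨2, -2⟩, ⟨0, 0⟩⟩, ⟨⟨-1, 1⟩, ⟨-1, 1⟩, ⟨1, -1⟩, ⟨-1, 1⟩⟩⟩,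
  ⟨⟨⟨1, 0⟩, ⟨0, 0⟩, ⟨0, 0⟩, ⟨0, 0⟩⟩, ⟨⟨1, -1⟩, ⟨2, -1⟩, ⟨-2, 2⟩, ⟨0, 0⟩⟩, ⟨⟨-1, 1⟩, ⟨-1, 1⟩, ⟨1, -1⟩, ⟨-1, 1⟩⟩⟩,
  ⟨⟨⟨1, 0⟩, ⟨0, 0⟩, ⟨0, 0⟩, ⟨0, 0⟩⟩, ⟨⟨-1, 1⟩, ⟨-2, 1⟩, ⟨2, -2⟩, ⟨0, 0⟩⟩, ⟨⟨1, -1⟩, ⟨-3, 1⟩, ⟨1, -1⟩, ⟨3, -1⟩⟩⟩,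
  ⟨⟨⟨1, 0⟩, ⟨0, 0⟩, ⟨0, 0⟩, ⟨0, 0⟩⟩, ⟨⟨1, -1⟩, ⟨2, -1⟩, ⟨-2, 2⟩, ⟨0, 0⟩⟩, ⟨⟨1, -1⟩, ⟨-3, 1⟩, ⟨1, -1⟩, ⟨3, -1⟩⟩⟩,
  ⟨⟨⟨1, 0⟩, ⟨0, 0⟩, ⟨0, 0⟩, ⟨0, 0⟩⟩, ⟨⟨-1, 1⟩, ⟨-2, 1⟩, ⟨2, -2⟩, ⟨0, 0⟩⟩, ⟨⟨-1, 1⟩, ⟨1, -1⟩, ⟨-1, 1⟩, ⟨-1, 1⟩⟩⟩,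
  ⟨⟨⟨1, 0⟩, ⟨0, 0⟩, ⟨0, 0⟩, ⟨0, 0⟩⟩, ⟨⟨1, -1⟩, ⟨2, -1⟩, ⟨-2, 2⟩, ⟨0, 0⟩⟩, ⟨⟨-1, 1⟩, ⟨1, -1⟩, ⟨-1, 1⟩, ⟨-1, 1⟩⟩⟩,
  ⟨⟨⟨0, -1⟩, ⟨-1, 0⟩, ⟨1, 0⟩, ⟨1, 0⟩⟩, ⟨⟨2, -1⟩, ⟨0, 0⟩, ⟨-2, 1⟩, ⟨2, -1⟩⟩, ⟨⟨1, 0⟩, ⟨0, 0⟩, ⟨0, 0⟩, ⟨0, 0⟩⟩⟩,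
  ⟨⟨⟨0, -1⟩, ⟨-1, 0⟩, ⟨1, 0⟩, ⟨1, 0⟩⟩, ⟨⟨-2, 1⟩, ⟨0, 0⟩, ⟨2, -1⟩, ⟨-2, 1⟩⟩, ⟨⟨1, 0⟩, ⟨0, 0⟩, ⟨0, 0⟩, ⟨0, 0⟩⟩⟩,
  ⟨⟨⟨0, 0⟩, ⟨1, -1⟩, ⟨-1, 0⟩, ⟨-1, 0⟩⟩, ⟨⟨0, 0⟩, ⟨-2, 1⟩, ⟨2, -1⟩, ⟨2, -1⟩⟩, ⟨⟨1, 0⟩, ⟨0, 0⟩, ⟨0, 0⟩, ⟨0, 0⟩⟩⟩,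
  ⟨⟨⟨0, 0⟩, ⟨1, -1⟩, ⟨-1, 0⟩, ⟨-1, 0⟩⟩, ⟨⟨0, 0⟩, ⟨2, -1⟩, ⟨-2, 1⟩, ⟨-2, 1⟩⟩, ⟨⟨1, 0⟩, ⟨0, 0⟩, ⟨0, 0⟩, ⟨0, 0⟩⟩⟩,
  ⟨⟨⟨1, -1⟩, ⟨0, 0⟩, ⟨-1, 0⟩, ⟨1, 0⟩⟩, ⟨⟨-1, 1⟩, ⟨3, -2⟩, ⟨-2, 1⟩, ⟨-2, 1⟩⟩, ⟨⟨1, 0⟩, ⟨0, 0⟩, ⟨0, 0⟩, ⟨0, 0⟩⟩⟩,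
  ⟨⟨⟨1, -1⟩, ⟨0, 0⟩, ⟨-1, 0⟩, ⟨1, 0⟩⟩, ⟨⟨1, -1⟩, ⟨-3, 2⟩, ⟨2, -1⟩, ⟨2, -1⟩⟩, ⟨⟨1, 0⟩, ⟨0, 0⟩, ⟨0, 0⟩, ⟨0, 0⟩⟩⟩,
  ⟨⟨⟨-1, 0⟩, ⟨0, 1⟩, ⟨1, 0⟩, ⟨-1, 0⟩⟩, ⟨⟨-3, 2⟩, ⟨-1, 1⟩, ⟨2, -1⟩, ⟨-2, 1⟩⟩, ⟨⟨1, 0⟩, ⟨0, 0⟩, ⟨0, 0⟩, ⟨0, 0⟩⟩⟩,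
  ⟨⟨⟨-1, 0⟩, ⟨0, 1⟩, ⟨1, 0⟩, ⟨-1, 0⟩⟩, ⟨⟨3, -2⟩, ⟨1, -1⟩, ⟨-2, 1⟩, ⟨2, -1⟩⟩, ⟨⟨1, 0⟩, ⟨0, 0⟩, ⟨0, 0⟩, ⟨0, 0⟩⟩⟩,
  ⟨⟨⟨1, 0⟩, ⟨0, -1⟩, ⟨-1, 0⟩, ⟨1, 0⟩⟩, ⟨⟨-3, 2⟩, ⟨-1, 1⟩, ⟨2, -1⟩, ⟨-2, 1⟩⟩, ⟨⟨1, 0⟩, ⟨0, 0⟩, ⟨0, 0⟩, ⟨0, 0⟩⟩⟩,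
  ⟨⟨⟨1, 0⟩, ⟨0, -1⟩, ⟨-1, 0⟩, ⟨1, 0⟩⟩, ⟨⟨3, -2⟩, ⟨1, -1⟩, ⟨-2, 1⟩, ⟨2, -1⟩⟩, ⟨⟨1, 0⟩, ⟨0, 0⟩, ⟨0, 0⟩, ⟨0, 0⟩⟩⟩,
  ⟨⟨⟨-1, 1⟩, ⟨0, 0⟩, ⟨1, 0⟩, ⟨-1, 0⟩⟩, ⟨⟨-1, 1⟩, ⟨3, -2⟩, ⟨-2, 1⟩, ⟨-2, 1⟩⟩, ⟨⟨1, 0⟩, ⟨0, 0⟩, ⟨0, 0⟩, ⟨0, 0⟩⟩⟩,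
  ⟨⟨⟨-1, 1⟩, ⟨0, 0⟩, ⟨1, 0⟩, ⟨-1, 0⟩⟩, ⟨⟨1, -1⟩, ⟨-3, 2⟩, ⟨2, -1⟩, ⟨2, -1⟩⟩, ⟨⟨1, 0⟩, ⟨0, 0⟩, ⟨0, 0⟩, ⟨0, 0⟩⟩⟩,
  ⟨⟨⟨0, 0⟩, ⟨-1, 1⟩, ⟨1, 0⟩, ⟨1, 0⟩⟩, ⟨⟨0, 0⟩, ⟨-2, 1⟩, ⟨2, -1⟩, ⟨2, -1⟩⟩, ⟨⟨1, 0⟩, ⟨0, 0⟩, ⟨0, 0⟩, ⟨0, 0⟩⟩⟩,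
  ⟨⟨⟨0, 0⟩, ⟨-1, 1⟩, ⟨1, 0⟩, ⟨1, 0⟩⟩, ⟨⟨0, 0⟩, ⟨2, -1⟩, ⟨-2, 1⟩, ⟨-2, 1⟩⟩, ⟨⟨1, 0⟩, ⟨0, 0⟩, ⟨0, 0⟩, ⟨0, 0⟩⟩⟩,
  ⟨⟨⟨0, 1⟩, ⟨1, 0⟩, ⟨-1, 0⟩, ⟨-1, 0⟩⟩, ⟨⟨2, -1⟩, ⟨0, 0⟩, ⟨-2, 1⟩, ⟨2, -1⟩⟩, ⟨⟨1, 0⟩, ⟨0, 0⟩, ⟨0, 0⟩, ⟨0, 0⟩⟩⟩,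
  ⟨⟨⟨0, 1⟩, ⟨1, 0⟩, ⟨-1, 0⟩, ⟨-1, 0⟩⟩, ⟨⟨-2, 1⟩, ⟨0, 0⟩, ⟨2, -1⟩, ⟨-2, 1⟩⟩, ⟨⟨1, 0⟩, ⟨0, 0⟩, ⟨0, 0⟩, ⟨0, 0⟩⟩⟩,
  ⟨⟨⟨0, -1⟩, ⟨-1, 0⟩, ⟨1, 0⟩, ⟨1, 0⟩⟩, ⟨⟨1, 0⟩, ⟨0, 0⟩, ⟨0, 0⟩, ⟨0, 0⟩⟩, ⟨⟨2, -1⟩, ⟨0, 0⟩, ⟨-2, 1⟩, ⟨2, -1⟩⟩⟩,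
  ⟨⟨⟨0, -1⟩, ⟨-1, 0⟩, ⟨1, 0⟩, ⟨1, 0⟩⟩, ⟨⟨1, 0⟩, ⟨0, 0⟩, ⟨0, 0⟩, ⟨0, 0⟩⟩, ⟨⟨-2, 1⟩, ⟨0, 0⟩, ⟨2, -1⟩, ⟨-2, 1⟩⟩⟩,
  ⟨⟨⟨0, 0⟩, ⟨1, -1⟩, ⟨-1, 0⟩, ⟨-1, 0⟩⟩, ⟨⟨1, 0⟩, ⟨0, 0⟩, ⟨0, 0⟩, ⟨0, 0⟩⟩, ⟨⟨0, 0⟩, ⟨-2, 1⟩, ⟨2, -1⟩, ⟨2, -1⟩⟩⟩,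
  ⟨⟨⟨0, 0⟩, ⟨1, -1⟩, ⟨-1, 0⟩, ⟨-1, 0⟩⟩, ⟨⟨1, 0⟩, ⟨0, 0⟩, ⟨0, 0⟩, ⟨0, 0⟩⟩, ⟨⟨0, 0⟩, ⟨2, -1⟩, ⟨-2, 1⟩, ⟨-2, 1⟩⟩⟩,
  ⟨⟨⟨1, -1⟩, ⟨0, 0⟩, ⟨-1, 0⟩, ⟨1, 0⟩⟩, ⟨⟨1, 0⟩, ⟨0, 0⟩, ⟨0, 0⟩, ⟨0, 0⟩⟩, ⟨⟨-1, 1⟩, ⟨3, -2⟩, ⟨-2, 1⟩, ⟨-2, 1⟩⟩⟩,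
  ⟨⟨⟨1, -1⟩, ⟨0, 0⟩, ⟨-1, 0⟩, ⟨1, 0⟩⟩, ⟨⟨1, 0⟩, ⟨0, 0⟩, ⟨0, 0⟩, ⟨0, 0⟩⟩, ⟨⟨1, -1⟩, ⟨-3, 2⟩, ⟨2, -1⟩, ⟨2, -1⟩⟩⟩,
  ⟨⟨⟨-1, 0⟩, ⟨0, 1⟩, ⟨1, 0⟩, ⟨-1, 0⟩⟩, ⟨⟨1, 0⟩, ⟨0, 0⟩, ⟨0, 0⟩, ⟨0, 0⟩⟩, ⟨⟨-3, 2⟩, ⟨-1, 1⟩, ⟨2, -1⟩, ⟨-2, 1⟩⟩⟩,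
  ⟨⟨⟨-1, 0⟩, ⟨0, 1⟩, ⟨1, 0⟩, ⟨-1, 0⟩⟩, ⟨⟨1, 0⟩, ⟨0, 0⟩, ⟨0, 0⟩, ⟨0, 0⟩⟩, ⟨⟨3, -2⟩, ⟨1, -1⟩, ⟨-2, 1⟩, ⟨2, -1⟩⟩⟩,
  ⟨⟨⟨1, 0⟩, ⟨0, -1⟩, ⟨-1, 0⟩, ⟨1, 0⟩⟩, ⟨⟨1, 0⟩, ⟨0, 0⟩, ⟨0, 0⟩, ⟨0, 0⟩⟩, ⟨⟨-3, 2⟩, ⟨-1, 1⟩, ⟨2, -1⟩, ⟨-2, 1⟩⟩⟩,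
  ⟨⟨⟨1, 0⟩, ⟨0, -1⟩, ⟨-1, 0⟩, ⟨1, 0⟩⟩, ⟨⟨1, 0⟩, ⟨0, 0⟩, ⟨0, 0⟩, ⟨0, 0⟩⟩, ⟨⟨3, -2⟩, ⟨1, -1⟩, ⟨-2, 1⟩, ⟨2, -1⟩⟩⟩,
  ⟨⟨⟨-1, 1⟩, ⟨0, 0⟩, ⟨1, 0⟩, ⟨-1, 0⟩⟩, ⟨⟨1, 0⟩, ⟨0, 0⟩, ⟨0, 0⟩, ⟨0, 0⟩⟩, ⟨⟨-1, 1⟩, ⟨3, -2⟩, ⟨-2, 1⟩, ⟨-2, 1⟩⟩⟩,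
  ⟨⟨⟨-1, 1⟩, ⟨0, 0⟩, ⟨1, 0⟩, ⟨-1, 0⟩⟩, ⟨⟨1, 0⟩, ⟨0, 0⟩, ⟨0, 0⟩, ⟨0, 0⟩⟩, ⟨⟨1, -1⟩, ⟨-3, 2⟩, ⟨2, -1⟩, ⟨2, -1⟩⟩⟩,
  ⟨⟨⟨0, 0⟩, ⟨-1, 1⟩, ⟨1, 0⟩, ⟨1, 0⟩⟩, ⟨⟨1, 0⟩, ⟨0, 0⟩, ⟨0, 0⟩, ⟨0, 0⟩⟩, ⟨⟨0, 0⟩, ⟨-2, 1⟩, ⟨2, -1⟩, ⟨2, -1⟩⟩⟩,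
  ⟨⟨⟨0, 0⟩, ⟨-1, 1⟩, ⟨1, 0⟩, ⟨1, 0⟩⟩, ⟨⟨1, 0⟩, ⟨0, 0⟩, ⟨0, 0⟩, ⟨0, 0⟩⟩, ⟨⟨0, 0⟩, ⟨2, -1⟩, ⟨-2, 1⟩, ⟨-2, 1⟩⟩⟩,
  ⟨⟨⟨0, 1⟩, ⟨1, 0⟩, ⟨-1, 0⟩, ⟨-1, 0⟩⟩, ⟨⟨1, 0⟩, ⟨0, 0⟩, ⟨0, 0⟩, ⟨0, 0⟩⟩, ⟨⟨2, -1⟩, ⟨0, 0⟩, ⟨-2, 1⟩, ⟨2, -1⟩⟩⟩,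
  ⟨⟨⟨0, 1⟩, ⟨1, 0⟩, ⟨-1, 0⟩, ⟨-1, 0⟩⟩, ⟨⟨1, 0⟩, ⟨0, 0⟩, ⟨0, 0⟩, ⟨0, 0⟩⟩, ⟨⟨-2, 1⟩, ⟨0, 0⟩, ⟨2, -1⟩, ⟨-2, 1⟩⟩⟩,
  ⟨⟨⟨2, -1⟩, ⟨0, 0⟩, ⟨-2, 1⟩, ⟨2, -1⟩⟩, ⟨⟨0, -1⟩, ⟨-1, 0⟩, ⟨1, 0⟩, ⟨1, 0⟩⟩, ⟨⟨1, 0⟩, ⟨0, 0⟩, ⟨0, 0⟩, ⟨0, 0⟩⟩⟩,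
  ⟨⟨⟨-2, 1⟩, ⟨0, 0⟩, ⟨2, -1⟩, ⟨-2, 1⟩⟩, ⟨⟨0, -1⟩, ⟨-1, 0⟩, ⟨1, 0⟩, ⟨1, 0⟩⟩, ⟨⟨1, 0⟩, ⟨0, 0⟩, ⟨0, 0⟩, ⟨0, 0⟩⟩⟩,
  ⟨⟨⟨0, 0⟩, ⟨-2, 1⟩, ⟨2, -1⟩, ⟨2, -1⟩⟩, ⟨⟨0, 0⟩, ⟨1, -1⟩, ⟨-1, 0⟩, ⟨-1, 0⟩⟩, ⟨⟨1, 0⟩, ⟨0, 0⟩, ⟨0, 0⟩, ⟨0, 0⟩⟩⟩,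
  ⟨⟨⟨0, 0⟩, ⟨2, -1⟩, ⟨-2, 1⟩, ⟨-2, 1⟩⟩, ⟨⟨0, 0⟩, ⟨1, -1⟩, ⟨-1, 0⟩, ⟨-1, 0⟩⟩, ⟨⟨1, 0⟩, ⟨0, 0⟩, ⟨0, 0⟩, ⟨0, 0⟩⟩⟩,
  ⟨⟨⟨-1, 1⟩, ⟨3, -2⟩, ⟨-2, 1⟩, ⟨-2, 1⟩⟩, ⟨⟨1, -1⟩, ⟨0, 0⟩, ⟨-1, 0⟩, ⟨1, 0⟩⟩, ⟨⟨1, 0⟩, ⟨0, 0⟩, ⟨0, 0⟩, ⟨0, 0⟩⟩⟩,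
  ⟨⟨⟨1, -1⟩, ⟨-3, 2⟩, ⟨2, -1⟩, ⟨2, -1⟩⟩, ⟨⟨1, -1⟩, ⟨0, 0⟩, ⟨-1, 0⟩, ⟨1, 0⟩⟩, ⟨⟨1, 0⟩, ⟨0, 0⟩, ⟨0, 0⟩, ⟨0, 0⟩⟩⟩,
  ⟨⟨⟨-3, 2⟩, ⟨-1, 1⟩, ⟨2, -1⟩, ⟨-2, 1⟩⟩, ⟨⟨-1, 0⟩, ⟨0, 1⟩, ⟨1, 0⟩, ⟨-1, 0⟩⟩, ⟨⟨1, 0⟩, ⟨0, 0⟩, ⟨0, 0⟩, ⟨0, 0⟩⟩⟩,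
  ⟨⟨⟨3, -2⟩, ⟨1, -1⟩, ⟨-2, 1⟩, ⟨2, -1⟩⟩, ⟨⟨-1, 0⟩, ⟨0, 1⟩, ⟨1, 0⟩, ⟨-1, 0⟩⟩, ⟨⟨1, 0⟩, ⟨0, 0⟩, ⟨0, 0⟩, ⟨0, 0⟩⟩⟩,
  ⟨⟨⟨-3, 2⟩, ⟨-1, 1⟩, ⟨2, -1⟩, ⟨-2, 1⟩⟩, ⟨⟨1, 0⟩, ⟨0, -1⟩, ⟨-1, 0⟩, ⟨1, 0⟩⟩, ⟨⟨1, 0⟩, ⟨0, 0⟩, ⟨0, 0⟩, ⟨0, 0⟩⟩⟩,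
  ⟨⟨⟨3, -2⟩, ⟨1, -1⟩, ⟨-2, 1⟩, ⟨2, -1⟩⟩, ⟨⟨1, 0⟩, ⟨0, -1⟩, ⟨-1, 0⟩, ⟨1, 0⟩⟩, ⟨⟨1, 0⟩, ⟨0, 0⟩, ⟨0, 0⟩, ⟨0, 0⟩⟩⟩,
  ⟨⟨⟨-1, 1⟩, ⟨3, -2⟩, ⟨-2, 1⟩, ⟨-2, 1⟩⟩, ⟨⟨-1, 1⟩, ⟨0, 0⟩, ⟨1, 0⟩, ⟨-1, 0⟩⟩, ⟨⟨1, 0⟩, ⟨0, 0⟩, ⟨0, 0⟩, ⟨0, 0⟩⟩⟩,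
  ⟨⟨⟨1, -1⟩, ⟨-3, 2⟩, ⟨2, -1⟩, ⟨2, -1⟩⟩, ⟨⟨-1, 1⟩, ⟨0, 0⟩, ⟨1, 0⟩, ⟨-1, 0⟩⟩, ⟨⟨1, 0⟩, ⟨0, 0⟩, ⟨0, 0⟩, ⟨0, 0⟩⟩⟩,
  ⟨⟨⟨0, 0⟩, ⟨-2, 1⟩, ⟨2, -1⟩, ⟨2, -1⟩⟩, ⟨⟨0, 0⟩, ⟨-1, 1⟩, ⟨1, 0⟩, ⟨1, 0⟩⟩, ⟨⟨1, 0⟩, ⟨0, 0⟩, ⟨0, 0⟩, ⟨0, 0⟩⟩⟩,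
  ⟨⟨⟨0, 0⟩, ⟨2, -1⟩, ⟨-2, 1⟩, ⟨-2, 1⟩⟩, ⟨⟨0, 0⟩, ⟨-1, 1⟩, ⟨1, 0⟩, ⟨1, 0⟩⟩, ⟨⟨1, 0⟩, ⟨0, 0⟩, ⟨0, 0⟩, ⟨0, 0⟩⟩⟩,
  ⟨⟨⟨2, -1⟩, ⟨0, 0⟩, ⟨-2, 1⟩, ⟨2, -1⟩⟩, ⟨⟨0, 1⟩, ⟨1, 0⟩, ⟨-1, 0⟩, ⟨-1, 0⟩⟩, ⟨⟨1, 0⟩, ⟨0, 0⟩, ⟨0, 0⟩, ⟨0, 0⟩⟩⟩,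
  ⟨⟨⟨-2, 1⟩, ⟨0, 0⟩, ⟨2, -1⟩, ⟨-2, 1⟩⟩, ⟨⟨0, 1⟩, ⟨1, 0⟩, ⟨-1, 0⟩, ⟨-1, 0⟩⟩, ⟨⟨1, 0⟩, ⟨0, 0⟩, ⟨0, 0⟩, ⟨0, 0⟩⟩⟩,
  ⟨⟨⟨1, 0⟩, ⟨0, 0⟩, ⟨0, 0⟩, ⟨0, 0⟩⟩, ⟨⟨0, -1⟩, ⟨-1, 0⟩, ⟨1, 0⟩, ⟨1, 0⟩⟩, ⟨⟨2, -1⟩, ⟨0, 0⟩, ⟨-2, 1⟩, ⟨2, -1⟩⟩⟩,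
  ⟨⟨⟨1, 0⟩, ⟨0, 0⟩, ⟨0, 0⟩, ⟨0, 0⟩⟩, ⟨⟨0, -1⟩, ⟨-1, 0⟩, ⟨1, 0⟩, ⟨1, 0⟩⟩, ⟨⟨-2, 1⟩, ⟨0, 0⟩, ⟨2, -1⟩, ⟨-2, 1⟩⟩⟩,
  ⟨⟨⟨1, 0⟩, ⟨0, 0⟩, ⟨0, 0⟩, ⟨0, 0⟩⟩, ⟨⟨0, 0⟩, ⟨1, -1⟩, ⟨-1, 0⟩, ⟨-1, 0⟩⟩, ⟨⟨0, 0⟩, ⟨-2, 1⟩, ⟨2, -1⟩, ⟨2, -1⟩⟩⟩,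
  ⟨⟨⟨1, 0⟩, ⟨0, 0⟩, ⟨0, 0⟩, ⟨0, 0⟩⟩, ⟨⟨0, 0⟩, ⟨1, -1⟩, ⟨-1, 0⟩, ⟨-1, 0⟩⟩, ⟨⟨0, 0⟩, ⟨2, -1⟩, ⟨-2, 1⟩, ⟨-2, 1⟩⟩⟩,
  ⟨⟨⟨1, 0⟩, ⟨0, 0⟩, ⟨0, 0⟩, ⟨0, 0⟩⟩, ⟨⟨1, -1⟩, ⟨0, 0⟩, ⟨-1, 0⟩, ⟨1, 0⟩⟩, ⟨⟨-1, 1⟩, ⟨3, -2⟩, ⟨-2, 1⟩, ⟨-2, 1⟩⟩⟩,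
  ⟨⟨⟨1, 0⟩, ⟨0, 0⟩, ⟨0, 0⟩, ⟨0, 0⟩⟩, ⟨⟨1, -1⟩, ⟨0, 0⟩, ⟨-1, 0⟩, ⟨1, 0⟩⟩, ⟨⟨1, -1⟩, ⟨-3, 2⟩, ⟨2, -1⟩, ⟨2, -1⟩⟩⟩,
  ⟨⟨⟨1, 0⟩, ⟨0, 0⟩, ⟨0, 0⟩, ⟨0, 0⟩⟩, ⟨⟨-1, 0⟩, ⟨0, 1⟩, ⟨1, 0⟩, ⟨-1, 0⟩⟩, ⟨⟨-3, 2⟩, ⟨-1, 1⟩, ⟨2, -1⟩, ⟨-2, 1⟩⟩⟩,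
  ⟨⟨⟨1, 0⟩, ⟨0, 0⟩, ⟨0, 0⟩, ⟨0, 0⟩⟩, ⟨⟨-1, 0⟩, ⟨0, 1⟩, ⟨1, 0⟩, ⟨-1, 0⟩⟩, ⟨⟨3, -2⟩, ⟨1, -1⟩, ⟨-2, 1⟩, ⟨2, -1⟩⟩⟩,
  ⟨⟨⟨1, 0⟩, ⟨0, 0⟩, ⟨0, 0⟩, ⟨0, 0⟩⟩, ⟨⟨1, 0⟩, ⟨0, -1⟩, ⟨-1, 0⟩, ⟨1, 0⟩⟩, ⟨⟨-3, 2⟩, ⟨-1, 1⟩, ⟨2, -1⟩, ⟨-2, 1⟩⟩⟩,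
  ⟨⟨⟨1, 0⟩, ⟨0, 0⟩, ⟨0, 0⟩, ⟨0, 0⟩⟩, ⟨⟨1, 0⟩, ⟨0, -1⟩, ⟨-1, 0⟩, ⟨1, 0⟩⟩, ⟨⟨3, -2⟩, ⟨1, -1⟩, ⟨-2, 1⟩, ⟨2, -1⟩⟩⟩,
  ⟨⟨⟨1, 0⟩, ⟨0, 0⟩, ⟨0, 0⟩, ⟨0, 0⟩⟩, ⟨⟨-1, 1⟩, ⟨0, 0⟩, ⟨1, 0⟩, ⟨-1, 0⟩⟩, ⟨⟨-1, 1⟩, ⟨3, -2⟩, ⟨-2, 1⟩, ⟨-2, 1⟩⟩⟩,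
  ⟨⟨⟨1, 0⟩, ⟨0, 0⟩, ⟨0, 0⟩, ⟨0, 0⟩⟩, ⟨⟨-1, 1⟩, ⟨0, 0⟩, ⟨1, 0⟩, ⟨-1, 0⟩⟩, ⟨⟨1, -1⟩, ⟨-3, 2⟩, ⟨2, -1⟩, ⟨2, -1⟩⟩⟩,
  ⟨⟨⟨1, 0⟩, ⟨0, 0⟩, ⟨0, 0⟩, ⟨0, 0⟩⟩, ⟨⟨0, 0⟩, ⟨-1, 1⟩, ⟨1, 0⟩, ⟨1, 0⟩⟩, ⟨⟨0, 0⟩, ⟨-2, 1⟩, ⟨2, -1⟩, ⟨2, -1⟩⟩⟩,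
  ⟨⟨⟨1, 0⟩, ⟨0, 0⟩, ⟨0, 0⟩, ⟨0, 0⟩⟩, ⟨⟨0, 0⟩, ⟨-1, 1⟩, ⟨1, 0⟩, ⟨1, 0⟩⟩, ⟨⟨0, 0⟩, ⟨2, -1⟩, ⟨-2, 1⟩, ⟨-2, 1⟩⟩⟩,
  ⟨⟨⟨1, 0⟩, ⟨0, 0⟩, ⟨0, 0⟩, ⟨0, 0⟩⟩, ⟨⟨0, 1⟩, ⟨1, 0⟩, ⟨-1, 0⟩, ⟨-1, 0⟩⟩, ⟨⟨2, -1⟩, ⟨0, 0⟩, ⟨-2, 1⟩, ⟨2, -1⟩⟩⟩,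
  ⟨⟨⟨1, 0⟩, ⟨0, 0⟩, ⟨0, 0⟩, ⟨0, 0⟩⟩, ⟨⟨0, 1⟩, ⟨1, 0⟩, ⟨-1, 0⟩, ⟨-1, 0⟩⟩, ⟨⟨-2, 1⟩, ⟨0, 0⟩, ⟨2, -1⟩, ⟨-2, 1⟩⟩⟩,
  ⟨⟨⟨2, -1⟩, ⟨0, 0⟩, ⟨-2, 1⟩, ⟨2, -1⟩⟩, ⟨⟨1, 0⟩, ⟨0, 0⟩, ⟨0, 0⟩, ⟨0, 0⟩⟩, ⟨⟨0, -1⟩, ⟨-1, 0⟩, ⟨1, 0⟩, ⟨1, 0⟩⟩⟩,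
  ⟨⟨⟨-2, 1⟩, ⟨0, 0⟩, ⟨2, -1⟩, ⟨-2, 1⟩⟩, ⟨⟨1, 0⟩, ⟨0, 0⟩, ⟨0, 0⟩, ⟨0, 0⟩⟩, ⟨⟨0, -1⟩, ⟨-1, 0⟩, ⟨1, 0⟩, ⟨1, 0⟩⟩⟩,
  ⟨⟨⟨0, 0⟩, ⟨-2, 1⟩, ⟨2, -1⟩, ⟨2, -1⟩⟩, ⟨⟨1, 0⟩, ⟨0, 0⟩, ⟨0, 0⟩, ⟨0, 0⟩⟩, ⟨⟨0, 0⟩, ⟨1, -1⟩, ⟨-1, 0⟩, ⟨-1, 0⟩⟩⟩,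
  ⟨⟨⟨0, 0⟩, ⟨2, -1⟩, ⟨-2, 1⟩, ⟨-2, 1⟩⟩, ⟨⟨1, 0⟩, ⟨0, 0⟩, ⟨0, 0⟩, ⟨0, 0⟩⟩, ⟨⟨0, 0⟩, ⟨1, -1⟩, ⟨-1, 0⟩, ⟨-1, 0⟩⟩⟩,
  ⟨⟨⟨-1, 1⟩, ⟨3, -2⟩, ⟨-2, 1⟩, ⟨-2, 1⟩⟩, ⟨⟨1, 0⟩, ⟨0, 0⟩, ⟨0, 0⟩, ⟨0, 0⟩⟩, ⟨⟨1, -1⟩, ⟨0, 0⟩, ⟨-1, 0⟩, ⟨1, 0⟩⟩⟩,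
  ⟨⟨⟨1, -1⟩, ⟨-3, 2⟩, ⟨2, -1⟩, ⟨2, -1⟩⟩, ⟨⟨1, 0⟩, ⟨0, 0⟩, ⟨0, 0⟩, ⟨0, 0⟩⟩, ⟨⟨1, -1⟩, ⟨0, 0⟩, ⟨-1, 0⟩, ⟨1, 0⟩⟩⟩,
  ⟨⟨⟨-3, 2⟩, ⟨-1, 1⟩, ⟨2, -1⟩, ⟨-2, 1⟩⟩, ⟨⟨1, 0⟩, ⟨0, 0⟩, ⟨0, 0⟩, ⟨0, 0⟩⟩, ⟨⟨-1, 0⟩, ⟨0, 1⟩, ⟨1, 0⟩, ⟨-1, 0⟩⟩⟩,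
  ⟨⟨⟨3, -2⟩, ⟨1, -1⟩, ⟨-2, 1⟩, ⟨2, -1⟩⟩, ⟨⟨1, 0⟩, ⟨0, 0⟩, ⟨0, 0⟩, ⟨0, 0⟩⟩, ⟨⟨-1, 0⟩, ⟨0, 1⟩, ⟨1, 0⟩, ⟨-1, 0⟩⟩⟩,
  ⟨⟨⟨-3, 2⟩, ⟨-1, 1⟩, ⟨2, -1⟩, ⟨-2, 1⟩⟩, ⟨⟨1, 0⟩, ⟨0, 0⟩, ⟨0, 0⟩, ⟨0, 0⟩⟩, ⟨⟨1, 0⟩, ⟨0, -1⟩, ⟨-1, 0⟩, ⟨1, 0⟩⟩⟩,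
  ⟨⟨⟨3, -2⟩, ⟨1, -1⟩, ⟨-2, 1⟩, ⟨2, -1⟩⟩, ⟨⟨1, 0⟩, ⟨0, 0⟩, ⟨0, 0⟩, ⟨0, 0⟩⟩, ⟨⟨1, 0⟩, ⟨0, -1⟩, ⟨-1, 0⟩, ⟨1, 0⟩⟩⟩,
  ⟨⟨⟨-1, 1⟩, ⟨3, -2⟩, ⟨-2, 1⟩, ⟨-2, 1⟩⟩, ⟨⟨1, 0⟩, ⟨0, 0⟩, ⟨0, 0⟩, ⟨0, 0⟩⟩, ⟨⟨-1, 1⟩, ⟨0, 0⟩, ⟨1, 0⟩, ⟨-1, 0⟩⟩⟩,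
  ⟨⟨⟨1, -1⟩, ⟨-3, 2⟩, ⟨2, -1⟩, ⟨2, -1⟩⟩, ⟨⟨1, 0⟩, ⟨0, 0⟩, ⟨0, 0⟩, ⟨0, 0⟩⟩, ⟨⟨-1, 1⟩, ⟨0, 0⟩, ⟨1, 0⟩, ⟨-1, 0⟩⟩⟩,
  ⟨⟨⟨0, 0⟩, ⟨-2, 1⟩, ⟨2, -1⟩, ⟨2, -1⟩⟩, ⟨⟨1, 0⟩, ⟨0, 0⟩, ⟨0, 0⟩, ⟨0, 0⟩⟩, ⟨⟨0, 0⟩, ⟨-1, 1⟩, ⟨1, 0⟩, ⟨1, 0⟩⟩⟩,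
  ⟨⟨⟨0, 0⟩, ⟨2, -1⟩, ⟨-2, 1⟩, ⟨-2, 1⟩⟩, ⟨⟨1, 0⟩, ⟨0, 0⟩, ⟨0, 0⟩, ⟨0, 0⟩⟩, ⟨⟨0, 0⟩, ⟨-1, 1⟩, ⟨1, 0⟩, ⟨1, 0⟩⟩⟩,
  ⟨⟨⟨2, -1⟩, ⟨0, 0⟩, ⟨-2, 1⟩, ⟨2, -1⟩⟩, ⟨⟨1, 0⟩, ⟨0, 0⟩, ⟨0, 0⟩, ⟨0, 0⟩⟩, ⟨⟨0, 1⟩, ⟨1, 0⟩, ⟨-1, 0⟩, ⟨-1, 0⟩⟩⟩,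
  ⟨⟨⟨-2, 1⟩, ⟨0, 0⟩, ⟨2, -1⟩, ⟨-2, 1⟩⟩, ⟨⟨1, 0⟩, ⟨0, 0⟩, ⟨0, 0⟩, ⟨0, 0⟩⟩, ⟨⟨0, 1⟩, ⟨1, 0⟩, ⟨-1, 0⟩, ⟨-1, 0⟩⟩⟩,
  ⟨⟨⟨1, 0⟩, ⟨0, 0⟩, ⟨0, 0⟩, ⟨0, 0⟩⟩, ⟨⟨2, -1⟩, ⟨0, 0⟩, ⟨-2, 1⟩, ⟨2, -1⟩⟩, ⟨⟨0, -1⟩, ⟨-1, 0⟩, ⟨1, 0⟩, ⟨1, 0⟩⟩⟩,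
  ⟨⟨⟨1, 0⟩, ⟨0, 0⟩, ⟨0, 0⟩, ⟨0, 0⟩⟩, ⟨⟨-2, 1⟩, ⟨0, 0⟩, ⟨2, -1⟩, ⟨-2, 1⟩⟩, ⟨⟨0, -1⟩, ⟨-1, 0⟩, ⟨1, 0⟩, ⟨1, 0⟩⟩⟩,
  ⟨⟨⟨1, 0⟩, ⟨0, 0⟩, ⟨0, 0⟩, ⟨0, 0⟩⟩, ⟨⟨0, 0⟩, ⟨-2, 1⟩, ⟨2, -1⟩, ⟨2, -1⟩⟩, ⟨⟨0, 0⟩, ⟨1, -1⟩, ⟨-1, 0⟩, ⟨-1, 0⟩⟩⟩,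
  ⟨⟨⟨1, 0⟩, ⟨0, 0⟩, ⟨0, 0⟩, ⟨0, 0⟩⟩, ⟨⟨0, 0⟩, ⟨2, -1⟩, ⟨-2, 1⟩, ⟨-2, 1⟩⟩, ⟨⟨0, 0⟩, ⟨1, -1⟩, ⟨-1, 0⟩, ⟨-1, 0⟩⟩⟩,
  ⟨⟨⟨1, 0⟩, ⟨0, 0⟩, ⟨0, 0⟩, ⟨0, 0⟩⟩, ⟨⟨-1, 1⟩, ⟨3, -2⟩, ⟨-2, 1⟩, ⟨-2, 1⟩⟩, ⟨⟨1, -1⟩, ⟨0, 0⟩, ⟨-1, 0⟩, ⟨1, 0⟩⟩⟩,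
  ⟨⟨⟨1, 0⟩, ⟨0, 0⟩, ⟨0, 0⟩, ⟨0, 0⟩⟩, ⟨⟨1, -1⟩, ⟨-3, 2⟩, ⟨2, -1⟩, ⟨2, -1⟩⟩, ⟨⟨1, -1⟩, ⟨0, 0⟩, ⟨-1, 0⟩, ⟨1, 0⟩⟩⟩,
  ⟨⟨⟨1, 0⟩, ⟨0, 0⟩, ⟨0, 0⟩, ⟨0, 0⟩⟩, ⟨⟨-3, 2⟩, ⟨-1, 1⟩, ⟨2, -1⟩, ⟨-2, 1⟩⟩, ⟨⟨-1, 0⟩, ⟨0, 1⟩, ⟨1, 0⟩, ⟨-1, 0⟩⟩⟩,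
  ⟨⟨⟨1, 0⟩, ⟨0, 0⟩, ⟨0, 0⟩, ⟨0, 0⟩⟩, ⟨⟨3, -2⟩, ⟨1, -1⟩, ⟨-2, 1⟩, ⟨2, -1⟩⟩, ⟨⟨-1, 0⟩, ⟨0, 1⟩, ⟨1, 0⟩, ⟨-1, 0⟩⟩⟩,
  ⟨⟨⟨1, 0⟩, ⟨0, 0⟩, ⟨0, 0⟩, ⟨0, 0⟩⟩, ⟨⟨-3, 2⟩, ⟨-1, 1⟩, ⟨2, -1⟩, ⟨-2, 1⟩⟩, ⟨⟨1, 0⟩, ⟨0, -1⟩, ⟨-1, 0⟩, ⟨1, 0⟩⟩⟩,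
  ⟨⟨⟨1, 0⟩, ⟨0, 0⟩, ⟨0, 0⟩, ⟨0, 0⟩⟩, ⟨⟨3, -2⟩, ⟨1, -1⟩, ⟨-2, 1⟩, ⟨2, -1⟩⟩, ⟨⟨1, 0⟩, ⟨0, -1⟩, ⟨-1, 0⟩, ⟨1, 0⟩⟩⟩,
  ⟨⟨⟨1, 0⟩, ⟨0, 0⟩, ⟨0, 0⟩, ⟨0, 0⟩⟩, ⟨⟨-1, 1⟩, ⟨3, -2⟩, ⟨-2, 1⟩, ⟨-2, 1⟩⟩, ⟨⟨-1, 1⟩, ⟨0, 0⟩, ⟨1, 0⟩, ⟨-1, 0⟩⟩⟩,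
  ⟨⟨⟨1, 0⟩, ⟨0, 0⟩, ⟨0, 0⟩, ⟨0, 0⟩⟩, ⟨⟨1, -1⟩, ⟨-3, 2⟩, ⟨2, -1⟩, ⟨2, -1⟩⟩, ⟨⟨-1, 1⟩, ⟨0, 0⟩, ⟨1, 0⟩, ⟨-1, 0⟩⟩⟩,
  ⟨⟨⟨1, 0⟩, ⟨0, 0⟩, ⟨0, 0⟩, ⟨0, 0⟩⟩, ⟨⟨0, 0⟩, ⟨-2, 1⟩, ⟨2, -1⟩, ⟨2, -1⟩⟩, ⟨⟨0, 0⟩, ⟨-1, 1⟩, ⟨1, 0⟩, ⟨1, 0⟩⟩⟩,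
  ⟨⟨⟨1, 0⟩, ⟨0, 0⟩, ⟨0, 0⟩, ⟨0, 0⟩⟩, ⟨⟨0, 0⟩, ⟨2, -1⟩, ⟨-2, 1⟩, ⟨-2, 1⟩⟩, ⟨⟨0, 0⟩, ⟨-1, 1⟩, ⟨1, 0⟩, ⟨1, 0⟩⟩⟩,
  ⟨⟨⟨1, 0⟩, ⟨0, 0⟩, ⟨0, 0⟩, ⟨0, 0⟩⟩, ⟨⟨2, -1⟩, ⟨0, 0⟩, ⟨-2, 1⟩, ⟨2, -1⟩⟩, ⟨⟨0, 1⟩, ⟨1, 0⟩, ⟨-1, 0⟩, ⟨-1, 0⟩⟩⟩,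
  ⟨⟨⟨1, 0⟩, ⟨0, 0⟩, ⟨0, 0⟩, ⟨0, 0⟩⟩, ⟨⟨-2, 1⟩, ⟨0, 0⟩, ⟨2, -1⟩, ⟨-2, 1⟩⟩, ⟨⟨0, 1⟩, ⟨1, 0⟩, ⟨-1, 0⟩, ⟨-1, 0⟩⟩⟩]

end H63.Ico
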