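import Cfsg.Agent.Lib.H63.IcoBase

set_option autoImplicit false

/-! The 120 units of the icosian ring and completeness of the list. -/

namespace H63.Ico

/-- the units -/
def units : List IC := [
  ⟨⟨-1, 0⟩, ⟨0, 0⟩, ⟨0, 0⟩, ⟨0, 0⟩⟩,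
  ⟨⟨-2, 1⟩, ⟨-1, 0⟩, ⟨1, -1⟩, ⟨-1, 1⟩⟩,
  ⟨⟨-1, 0⟩, ⟨1, -1⟩, ⟨-1, 1⟩, ⟨-1, 1⟩⟩,
  ⟨⟨0, 0⟩, ⟨-2, 1⟩, ⟨1, -1⟩, ⟨1, -1⟩⟩,
  ⟨⟨1, -1⟩, ⟨0, 0⟩, ⟨-1, 1⟩, ⟨1, -1⟩⟩,
  ⟨⟨0, 0⟩, ⟨0, 0⟩, ⟨-1, 0⟩, ⟨0, 0⟩⟩,
  ⟨⟨-1, 0⟩, ⟨-1, 1⟩, ⟨1, 0⟩, ⟨0, 0⟩⟩,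
  ⟨⟨-2, 1⟩, ⟨1, -1⟩, ⟨0, 0⟩, ⟨-2, 1⟩⟩,
  ⟨⟨1, -1⟩, ⟨-1, 0⟩, ⟨0, 0⟩, ⟨2, -1⟩⟩,
  ⟨⟨-1, 0⟩, ⟨-2, 1⟩, ⟨2, -1⟩, ⟨1, 0⟩⟩,
  ⟨⟨1, -1⟩, ⟨1, -1⟩, ⟨-2, 1⟩, ⟨1, 0⟩⟩,
  ⟨⟨-2, 1⟩, ⟨-1, 1⟩, ⟨2, -1⟩, ⟨-1, 0⟩⟩,
  ⟨⟨0, 0⟩, ⟨2, -1⟩, ⟨-2, 1⟩, ⟨-1, 0⟩⟩,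
  ⟨⟨-2, 1⟩, ⟨1, 0⟩, ⟨0, 0⟩, ⟨-2, 1⟩⟩,
  ⟨⟨1, -1⟩, ⟨-1, 1⟩, ⟨0, 0⟩, ⟨2, -1⟩⟩,
  ⟨⟨0, 0⟩, ⟨1, -1⟩, ⟨-1, 0⟩, ⟨0, 0⟩⟩,
  ⟨⟨-1, 0⟩, ⟨0, 0⟩, ⟨1, 0⟩, ⟨0, 0⟩⟩,
  ⟨⟨-2, 1⟩, ⟨0, 0⟩, ⟨1, -1⟩, ⟨-1, 1⟩⟩,
  ⟨⟨-1, 0⟩, ⟨2, -1⟩, ⟨-1, 1⟩, ⟨-1, 1⟩⟩,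
  ⟨⟨0, 0⟩, ⟨-1, 1⟩, ⟨1, -1⟩, ⟨1, -1⟩⟩,
  ⟨⟨1, -1⟩, ⟨1, 0⟩, ⟨-1, 1⟩, ⟨1, -1⟩⟩,
  ⟨⟨0, 0⟩, ⟨-1, 0⟩, ⟨0, 0⟩, ⟨1, 0⟩⟩,
  ⟨⟨-1, 1⟩, ⟨0, 0⟩, ⟨0, 0⟩, ⟨-1, 0⟩⟩,
  ⟨⟨-1, 1⟩, ⟨-1, 0⟩, ⟨1, -1⟩, ⟨0, 0⟩⟩,
  ⟨⟨0, 0⟩, ⟨1, -1⟩, ⟨-1, 1⟩, ⟨0, 0⟩⟩,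
  ⟨⟨-1, 1⟩, ⟨1, -1⟩, ⟨-1, 0⟩, ⟨-1, 1⟩⟩,
  ⟨⟨-2, 1⟩, ⟨0, 0⟩, ⟨1, 0⟩, ⟨-1, 1⟩⟩,
  ⟨⟨1, 0⟩, ⟨0, 0⟩, ⟨-1, 0⟩, ⟨1, -1⟩⟩,
  ⟨⟨0, 0⟩, ⟨-1, 1⟩, ⟨1, 0⟩, ⟨1, -1⟩⟩,
  ⟨⟨-1, 1⟩, ⟨-1, 1⟩, ⟨1, -1⟩, ⟨0, 0⟩⟩,
  ⟨⟨0, 0⟩, ⟨1, 0⟩, ⟨-1, 1⟩, ⟨0, 0⟩⟩,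
  ⟨⟨0, 0⟩, ⟨0, 0⟩, ⟨0, 0⟩, ⟨1, 0⟩⟩,
  ⟨⟨-1, 1⟩, ⟨1, 0⟩, ⟨0, 0⟩, ⟨-1, 0⟩⟩,
  ⟨⟨-1, 0⟩, ⟨-2, 1⟩, ⟨2, -1⟩, ⟨0, 0⟩⟩,
  ⟨⟨1, -1⟩, ⟨1, -1⟩, ⟨-2, 1⟩, ⟨0, 0⟩⟩,
  ⟨⟨-1, 0⟩, ⟨0, 0⟩, ⟨0, 0⟩, ⟨-1, 1⟩⟩,
  ⟨⟨1, -1⟩, ⟨-1, 1⟩, ⟨0, 0⟩, ⟨1, -1⟩⟩,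
  ⟨⟨-2, 1⟩, ⟨0, 0⟩, ⟨1, -1⟩, ⟨-2, 1⟩⟩,
  ⟨⟨-1, 0⟩, ⟨2, -1⟩, ⟨-1, 1⟩, ⟨-2, 1⟩⟩,
  ⟨⟨1, -1⟩, ⟨-2, 1⟩, ⟨1, -1⟩, ⟨2, -1⟩⟩,
  ⟨⟨2, -2⟩, ⟨0, 0⟩, ⟨-1, 1⟩, ⟨2, -1⟩⟩,
  ⟨⟨-1, 0⟩, ⟨1, -1⟩, ⟨0, 0⟩, ⟨-1, 1⟩⟩,
  ⟨⟨1, -1⟩, ⟨0, 0⟩, ⟨0, 0⟩, ⟨1, -1⟩⟩,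
  ⟨⟨-1, 0⟩, ⟨-1, 1⟩, ⟨2, -1⟩, ⟨0, 0⟩⟩,
  ⟨⟨1, -1⟩, ⟨2, -1⟩, ⟨-2, 1⟩, ⟨0, 0⟩⟩,
  ⟨⟨0, 0⟩, ⟨-1, 0⟩, ⟨0, 0⟩, ⟨0, 0⟩⟩,
  ⟨⟨-1, 1⟩, ⟨1, -1⟩, ⟨-1, 0⟩, ⟨-2, 1⟩⟩,
  ⟨⟨-2, 1⟩, ⟨0, 0⟩, ⟨1, 0⟩, ⟨-2, 1⟩⟩,
  ⟨⟨2, -1⟩, ⟨-1, 0⟩, ⟨-1, 0⟩, ⟨2, -1⟩⟩,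
  ⟨⟨1, -1⟩, ⟨-2, 1⟩, ⟨1, 0⟩, ⟨2, -1⟩⟩,
  ⟨⟨0, 0⟩, ⟨-2, 1⟩, ⟨1, -1⟩, ⟨1, 0⟩⟩,
  ⟨⟨1, -1⟩, ⟨0, 0⟩, ⟨-1, 1⟩, ⟨1, 0⟩⟩,
  ⟨⟨-1, 1⟩, ⟨-1, 1⟩, ⟨1, -1⟩, ⟨-1, 0⟩⟩,
  ⟨⟨0, 0⟩, ⟨1, 0⟩, ⟨-1, 1⟩, ⟨-1, 0⟩⟩,
  ⟨⟨-2, 1⟩, ⟨-1, 0⟩, ⟨2, -1⟩, ⟨-1, 1⟩⟩,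
  ⟨⟨0, 0⟩, ⟨2, -2⟩, ⟨-2, 1⟩, ⟨-1, 1⟩⟩,
  ⟨⟨0, 0⟩, ⟨-2, 1⟩, ⟨2, -1⟩, ⟨1, -1⟩⟩,
  ⟨⟨2, -1⟩, ⟨1, -1⟩, ⟨-2, 1⟩, ⟨1, -1⟩⟩,
  ⟨⟨-2, 1⟩, ⟨1, -1⟩, ⟨0, 0⟩, ⟨-2, 2⟩⟩,
  ⟨⟨-1, 1⟩, ⟨-2, 1⟩, ⟨2, -2⟩, ⟨0, 0⟩⟩,
  ⟨⟨1, -1⟩, ⟨2, -1⟩, ⟨-2, 2⟩, ⟨0, 0⟩⟩,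
  ⟨⟨2, -1⟩, ⟨-1, 1⟩, ⟨0, 0⟩, ⟨2, -2⟩⟩,
  ⟨⟨-2, 1⟩, ⟨-1, 1⟩, ⟨2, -1⟩, ⟨-1, 1⟩⟩,
  ⟨⟨0, 0⟩, ⟨2, -1⟩, ⟨-2, 1⟩, ⟨-1, 1⟩⟩,
  ⟨⟨0, 0⟩, ⟨-2, 2⟩, ⟨2, -1⟩, ⟨1, -1⟩⟩,
  ⟨⟨2, -1⟩, ⟨1, 0⟩, ⟨-2, 1⟩, ⟨1, -1⟩⟩,
  ⟨⟨0, 0⟩, ⟨-1, 0⟩, ⟨1, -1⟩, ⟨1, 0⟩⟩,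
  ⟨⟨1, -1⟩, ⟨1, -1⟩, ⟨-1, 1⟩, ⟨1, 0⟩⟩,
  ⟨⟨-1, 1⟩, ⟨0, 0⟩, ⟨1, -1⟩, ⟨-1, 0⟩⟩,
  ⟨⟨0, 0⟩, ⟨2, -1⟩, ⟨-1, 1⟩, ⟨-1, 0⟩⟩,
  ⟨⟨-1, 1⟩, ⟨2, -1⟩, ⟨-1, 0⟩, ⟨-2, 1⟩⟩,
  ⟨⟨-2, 1⟩, ⟨1, 0⟩, ⟨1, 0⟩, ⟨-2, 1⟩⟩,
  ⟨⟨2, -1⟩, ⟨0, 0⟩, ⟨-1, 0⟩, ⟨2, -1⟩⟩,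
  ⟨⟨1, -1⟩, ⟨-1, 1⟩, ⟨1, 0⟩, ⟨2, -1⟩⟩,
  ⟨⟨0, 0⟩, ⟨1, 0⟩, ⟨0, 0⟩, ⟨0, 0⟩⟩,
  ⟨⟨-1, 1⟩, ⟨-2, 1⟩, ⟨2, -1⟩, ⟨0, 0⟩⟩,
  ⟨⟨1, 0⟩, ⟨1, -1⟩, ⟨-2, 1⟩, ⟨0, 0⟩⟩,
  ⟨⟨-1, 1⟩, ⟨0, 0⟩, ⟨0, 0⟩, ⟨-1, 1⟩⟩,
  ⟨⟨1, 0⟩, ⟨-1, 1⟩, ⟨0, 0⟩, ⟨1, -1⟩⟩,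
  ⟨⟨-2, 2⟩, ⟨0, 0⟩, ⟨1, -1⟩, ⟨-2, 1⟩⟩,
  ⟨⟨-1, 1⟩, ⟨2, -1⟩, ⟨-1, 1⟩, ⟨-2, 1⟩⟩,
  ⟨⟨1, 0⟩, ⟨-2, 1⟩, ⟨1, -1⟩, ⟨2, -1⟩⟩,
  ⟨⟨2, -1⟩, ⟨0, 0⟩, ⟨-1, 1⟩, ⟨2, -1⟩⟩,
  ⟨⟨-1, 1⟩, ⟨1, -1⟩, ⟨0, 0⟩, ⟨-1, 1⟩⟩,
  ⟨⟨1, 0⟩, ⟨0, 0⟩, ⟨0, 0⟩, ⟨1, -1⟩⟩,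
  ⟨⟨-1, 1⟩, ⟨-1, 1⟩, ⟨2, -1⟩, ⟨0, 0⟩⟩,
  ⟨⟨1, 0⟩, ⟨2, -1⟩, ⟨-2, 1⟩, ⟨0, 0⟩⟩,
  ⟨⟨1, -1⟩, ⟨-1, 0⟩, ⟨0, 0⟩, ⟨1, 0⟩⟩,
  ⟨⟨0, 0⟩, ⟨0, 0⟩, ⟨0, 0⟩, ⟨-1, 0⟩⟩,
  ⟨⟨0, 0⟩, ⟨-1, 0⟩, ⟨1, -1⟩, ⟨0, 0⟩⟩,
  ⟨⟨1, -1⟩, ⟨1, -1⟩, ⟨-1, 1⟩, ⟨0, 0⟩⟩,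
  ⟨⟨0, 0⟩, ⟨1, -1⟩, ⟨-1, 0⟩, ⟨-1, 1⟩⟩,
  ⟨⟨-1, 0⟩, ⟨0, 0⟩, ⟨1, 0⟩, ⟨-1, 1⟩⟩,
  ⟨⟨2, -1⟩, ⟨0, 0⟩, ⟨-1, 0⟩, ⟨1, -1⟩⟩,
  ⟨⟨1, -1⟩, ⟨-1, 1⟩, ⟨1, 0⟩, ⟨1, -1⟩⟩,
  ⟨⟨0, 0⟩, ⟨-1, 1⟩, ⟨1, -1⟩, ⟨0, 0⟩⟩,
  ⟨⟨1, -1⟩, ⟨1, 0⟩, ⟨-1, 1⟩, ⟨0, 0⟩⟩,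
  ⟨⟨1, -1⟩, ⟨0, 0⟩, ⟨0, 0⟩, ⟨1, 0⟩⟩,
  ⟨⟨0, 0⟩, ⟨1, 0⟩, ⟨0, 0⟩, ⟨-1, 0⟩⟩,
  ⟨⟨-1, 1⟩, ⟨-1, 0⟩, ⟨1, -1⟩, ⟨-1, 1⟩⟩,
  ⟨⟨0, 0⟩, ⟨1, -1⟩, ⟨-1, 1⟩, ⟨-1, 1⟩⟩,
  ⟨⟨1, 0⟩, ⟨-2, 1⟩, ⟨1, -1⟩, ⟨1, -1⟩⟩,
  ⟨⟨2, -1⟩, ⟨0, 0⟩, ⟨-1, 1⟩, ⟨1, -1⟩⟩,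
  ⟨⟨1, 0⟩, ⟨0, 0⟩, ⟨-1, 0⟩, ⟨0, 0⟩⟩,
  ⟨⟨0, 0⟩, ⟨-1, 1⟩, ⟨1, 0⟩, ⟨0, 0⟩⟩,
  ⟨⟨-1, 1⟩, ⟨1, -1⟩, ⟨0, 0⟩, ⟨-2, 1⟩⟩,
  ⟨⟨2, -1⟩, ⟨-1, 0⟩, ⟨0, 0⟩, ⟨2, -1⟩⟩,
  ⟨⟨0, 0⟩, ⟨-2, 1⟩, ⟨2, -1⟩, ⟨1, 0⟩⟩,
  ⟨⟨2, -1⟩, ⟨1, -1⟩, ⟨-2, 1⟩, ⟨1, 0⟩⟩,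
  ⟨⟨-1, 1⟩, ⟨-1, 1⟩, ⟨2, -1⟩, ⟨-1, 0⟩⟩,
  ⟨⟨1, 0⟩, ⟨2, -1⟩, ⟨-2, 1⟩, ⟨-1, 0⟩⟩,
  ⟨⟨-1, 1⟩, ⟨1, 0⟩, ⟨0, 0⟩, ⟨-2, 1⟩⟩,
  ⟨⟨2, -1⟩, ⟨-1, 1⟩, ⟨0, 0⟩, ⟨2, -1⟩⟩,
  ⟨⟨1, 0⟩, ⟨1, -1⟩, ⟨-1, 0⟩, ⟨0, 0⟩⟩,
  ⟨⟨0, 0⟩, ⟨0, 0⟩, ⟨1, 0⟩, ⟨0, 0⟩⟩,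
  ⟨⟨-1, 1⟩, ⟨0, 0⟩, ⟨1, -1⟩, ⟨-1, 1⟩⟩,
  ⟨⟨0, 0⟩, ⟨2, -1⟩, ⟨-1, 1⟩, ⟨-1, 1⟩⟩,
  ⟨⟨1, 0⟩, ⟨-1, 1⟩, ⟨1, -1⟩, ⟨1, -1⟩⟩,
  ⟨⟨2, -1⟩, ⟨1, 0⟩, ⟨-1, 1⟩, ⟨1, -1⟩⟩,
  ⟨⟨1, 0⟩, ⟨0, 0⟩, ⟨0, 0⟩, ⟨0, 0⟩⟩]

end H63.Ico
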