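import Cfsg.Agent.Lib.H63.IcoRT
import Cfsg.Agent.Lib.H63.IcoRefl
import Cfsg.Agent.Lib.H63.J2Tab
set_option autoImplicit false
set_option maxRecDepth 100000
/-! Data connecting the four generating reflections with their tables (generated). -/
namespace H63.Ico
open H63.PC H63.JT

/-- the units -/
def UT : GTr IC := (.nd (.nd (.nd (.nd (.nd (.nd (.nd (.lf ⟨⟨-1, 0⟩, ⟨0, 0⟩, ⟨0, 0⟩, ⟨0, 0⟩⟩) (.lf ⟨⟨0, 0⟩, ⟨-2, 2⟩, ⟨2, -1⟩, ⟨1, -1⟩⟩)) (.nd (.lf ⟨⟨-1, 1⟩, ⟨1, 0⟩, ⟨0, 0⟩, ⟨-1, 0⟩⟩) (.lf ⟨⟨1, -1⟩, ⟨1, 0⟩, ⟨-1, 1⟩, ⟨0, 0⟩⟩))) (.nd (.nd (.lf ⟨⟨-1, 0⟩, ⟨0, 0⟩, ⟨1, 0⟩, ⟨0, 0⟩⟩) (.lf ⟨⟨-1, 1⟩, ⟨2, -1⟩, ⟨-1, 1⟩, ⟨-2, 1⟩⟩)) (.nd (.lf ⟨⟨2, -1⟩, ⟨-1, 0⟩, ⟨-1, 0⟩, ⟨2, -1⟩⟩) (.lf ⟨⟨2, -1⟩, ⟨-1, 1⟩, ⟨0, 0⟩,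 ⟨2, -1⟩⟩)))) (.nd (.nd (.nd (.lf ⟨⟨1, -1⟩, ⟨-1, 0⟩, ⟨0, 0⟩, ⟨2, -1⟩⟩) (.lf ⟨⟨2, -1⟩, ⟨0, 0⟩, ⟨-1, 0⟩, ⟨2, -1⟩⟩)) (.nd (.lf ⟨⟨2, -2⟩, ⟨0, 0⟩, ⟨-1, 1⟩, ⟨2, -1⟩⟩) (.lf ⟨⟨0, 0⟩, ⟨-1, 1⟩, ⟨1, 0⟩, ⟨0, 0⟩⟩))) (.nd (.nd (.lf ⟨⟨0, 0⟩, ⟨1, -1⟩, ⟨-1, 1⟩, ⟨0, 0⟩⟩) (.lf ⟨⟨0, 0⟩, ⟨0, 0⟩, ⟨0, 0⟩, ⟨-1, 0⟩⟩)) (.nd (.lf ⟨⟨0, 0⟩, ⟨-2, 1⟩, ⟨2, -1⟩, ⟨1, -1⟩⟩) (.lf ⟨⟨-1, 0⟩, ⟨0, 0⟩, ⟨0, 0⟩, ⟨0, 0⟩⟩))))) (.nd (.nd (.nd (.nd (.lf ⟨⟨1, -1⟩, ⟨0, 0⟩, ⟨-1, 1⟩, ⟨1, -1⟩⟩) (.lf ⟨⟨-1, 1⟩, ⟨0, 0⟩, ⟨1, -1⟩, ⟨-1, 0⟩⟩)) (.nd (.lf ⟨⟨1, -1⟩, ⟨-1, 1⟩, ⟨0, 0⟩, ⟨1, -1⟩⟩) (.lf ⟨⟨0, 0⟩, ⟨1, -1⟩, ⟨-1, 1⟩, ⟨-1, 1⟩⟩))) (.nd (.nd (.lf ⟨⟨1, -1⟩, ⟨1, 0⟩, ⟨-1, 1⟩, ⟨1, -1⟩⟩) (.lf ⟨⟨1, 0⟩, ⟨0, 0⟩, ⟨0, 0⟩, ⟨1, -1⟩⟩)) (.nd (.lf ⟨⟨-1, 1⟩, ⟨-1,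 1⟩, ⟨1, -1⟩, ⟨-1, 0⟩⟩) (.lf ⟨⟨0, 0⟩, ⟨2, -1⟩, ⟨-1, 1⟩, ⟨-1, 1⟩⟩)))) (.nd (.nd (.nd (.lf ⟨⟨0, 0⟩, ⟨2, -1⟩, ⟨-2, 1⟩, ⟨-1, 0⟩⟩) (.lf ⟨⟨1, 0⟩, ⟨1, -1⟩, ⟨-2, 1⟩, ⟨0, 0⟩⟩)) (.nd (.lf ⟨⟨1, -1⟩, ⟨2, -1⟩, ⟨-2, 1⟩, ⟨0, 0⟩⟩) (.lf ⟨⟨2, -1⟩, ⟨1, -1⟩, ⟨-2, 1⟩, ⟨1, 0⟩⟩))) (.nd (.nd (.lf ⟨⟨0, 0⟩, ⟨-1, 1⟩, ⟨1, 0⟩, ⟨1, -1⟩⟩) (.lf ⟨⟨-1, 0⟩, ⟨0, 0⟩, ⟨1, 0⟩, ⟨-1, 1⟩⟩)) (.nd (.lf ⟨⟨1, -1⟩, ⟨2, -1⟩, ⟨-2, 2⟩, ⟨0, 0⟩⟩) (.lf ⟨⟨-1, 0⟩, ⟨0, 0⟩, ⟨0, 0⟩, ⟨0, 0⟩⟩)))))) (.nd (.nd (.nd (.nd (.nd (.lf ⟨⟨-1, 0⟩, ⟨1, -1⟩, ⟨-1, 1⟩, ⟨-1, 1⟩⟩) (.lf ⟨⟨0, 0⟩, ⟨-1, 0⟩, ⟨1, -1⟩, ⟨1, 0⟩⟩)) (.nd (.lf ⟨⟨1, -1⟩, ⟨1, -1⟩, ⟨-2, 1⟩, ⟨0, 0⟩⟩) (.lf ⟨⟨0, 0⟩, ⟨1, 0⟩, ⟨0, 0⟩, ⟨-1, 0⟩⟩))) (.nd (.nd (.lf ⟨⟨-1, 0⟩, ⟨2, -1⟩, ⟨-1, 1⟩, ⟨-1, 1⟩⟩) (.lf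 ⟨⟨2, -1⟩, ⟨0, 0⟩, ⟨-1, 1⟩, ⟨2, -1⟩⟩)) (.nd (.lf ⟨⟨0, 0⟩, ⟨-2, 1⟩, ⟨1, -1⟩, ⟨1, 0⟩⟩) (.lf ⟨⟨0, 0⟩, ⟨0, 0⟩, ⟨1, 0⟩, ⟨0, 0⟩⟩)))) (.nd (.nd (.nd (.lf ⟨⟨1, -1⟩, ⟨1, -1⟩, ⟨-2, 1⟩, ⟨1, 0⟩⟩) (.lf ⟨⟨0, 0⟩, ⟨1, 0⟩, ⟨0, 0⟩, ⟨0, 0⟩⟩)) (.nd (.lf ⟨⟨1, -1⟩, ⟨0, 0⟩, ⟨0, 0⟩, ⟨1, -1⟩⟩) (.lf ⟨⟨2, -1⟩, ⟨-1, 0⟩, ⟨0, 0⟩, ⟨2, -1⟩⟩))) (.nd (.nd (.lf ⟨⟨-2, 1⟩, ⟨0, 0⟩, ⟨1, 0⟩, ⟨-1, 1⟩⟩) (.lf ⟨⟨1, -1⟩, ⟨1, -1⟩, ⟨-1, 1⟩, ⟨0, 0⟩⟩)) (.nd (.lf ⟨⟨-2, 1⟩, ⟨1, -1⟩, ⟨0, 0⟩, ⟨-2, 2⟩⟩) (.lf ⟨⟨-1, 0⟩, ⟨0, 0⟩, ⟨0, 0⟩, ⟨0, 0⟩⟩))))) (.nd (.nd (.nd (.nd (.lf ⟨⟨-1, 0⟩, ⟨-1, 1⟩, ⟨1, 0⟩, ⟨0, 0⟩⟩) (.lf ⟨⟨-1, 1⟩, ⟨2, -1⟩, ⟨-1, 0⟩, ⟨-2, 1⟩⟩)) (.nd (.lf ⟨⟨-1, 0⟩, ⟨2, -1⟩, ⟨-1, 1⟩, ⟨-2, 1⟩⟩) (.lf ⟨⟨2, -1⟩, ⟨0, 0⟩, ⟨-1, 1⟩, ⟨1, -1⟩⟩))) (.nd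 (.nd (.lf ⟨⟨-1, 1⟩, ⟨0, 0⟩, ⟨0, 0⟩, ⟨-1, 0⟩⟩) (.lf ⟨⟨1, 0⟩, ⟨2, -1⟩, ⟨-2, 1⟩, ⟨0, 0⟩⟩)) (.nd (.lf ⟨⟨-2, 1⟩, ⟨-1, 0⟩, ⟨2, -1⟩, ⟨-1, 1⟩⟩) (.lf ⟨⟨2, -1⟩, ⟨1, 0⟩, ⟨-1, 1⟩, ⟨1, -1⟩⟩)))) (.nd (.nd (.nd (.lf ⟨⟨1, -1⟩, ⟨-1, 1⟩, ⟨0, 0⟩, ⟨2, -1⟩⟩) (.lf ⟨⟨1, 0⟩, ⟨-1, 1⟩, ⟨0, 0⟩, ⟨1, -1⟩⟩)) (.nd (.lf ⟨⟨-1, 1⟩, ⟨1, -1⟩, ⟨-1, 0⟩, ⟨-2, 1⟩⟩) (.lf ⟨⟨1, 0⟩, ⟨2, -1⟩, ⟨-2, 1⟩, ⟨-1, 0⟩⟩))) (.nd (.nd (.lf ⟨⟨0, 0⟩, ⟨1, 0⟩, ⟨-1, 1⟩, ⟨0, 0⟩⟩) (.lf ⟨⟨1, -1⟩, ⟨-1, 1⟩, ⟨1, 0⟩, ⟨1, -1⟩⟩)) (.nd (.lf ⟨⟨-2, 1⟩, ⟨-1, 1⟩, ⟨2, -1⟩, ⟨-1, 1⟩⟩) (.lf ⟨⟨-1, 0⟩, ⟨0, 0⟩, ⟨0, 0⟩, ⟨0, 0⟩⟩))))))) (.nd (.nd (.nd (.nd (.nd (.nd (.lf ⟨⟨-2, 1⟩, ⟨-1, 0⟩, ⟨1, -1⟩, ⟨-1, 1⟩⟩) (.lf ⟨⟨2, -1⟩, ⟨1, 0⟩, ⟨-2, 1⟩, ⟨1, -1⟩⟩)) (.nd (.lf ⟨⟨-1, 0⟩, ⟨-2,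 1⟩, ⟨2, -1⟩, ⟨0, 0⟩⟩) (.lf ⟨⟨1, -1⟩, ⟨0, 0⟩, ⟨0, 0⟩, ⟨1, 0⟩⟩))) (.nd (.nd (.lf ⟨⟨-2, 1⟩, ⟨0, 0⟩, ⟨1, -1⟩, ⟨-1, 1⟩⟩) (.lf ⟨⟨1, 0⟩, ⟨-2, 1⟩, ⟨1, -1⟩, ⟨2, -1⟩⟩)) (.nd (.lf ⟨⟨1, -1⟩, ⟨-2, 1⟩, ⟨1, 0⟩, ⟨2, -1⟩⟩) (.lf ⟨⟨1, 0⟩, ⟨1, -1⟩, ⟨-1, 0⟩, ⟨0, 0⟩⟩)))) (.nd (.nd (.nd (.lf ⟨⟨-1, 0⟩, ⟨-2, 1⟩, ⟨2, -1⟩, ⟨1, 0⟩⟩) (.lf ⟨⟨1, -1⟩, ⟨-1, 1⟩, ⟨1, 0⟩, ⟨2, -1⟩⟩)) (.nd (.lf ⟨⟨-1, 0⟩, ⟨1, -1⟩, ⟨0, 0⟩, ⟨-1, 1⟩⟩) (.lf ⟨⟨-1, 1⟩, ⟨1, -1⟩, ⟨0, 0⟩, ⟨-2, 1⟩⟩))) (.nd (.nd (.lf ⟨⟨-1, 1⟩, ⟨1, -1⟩, ⟨-1, 0⟩, ⟨-1, 1⟩⟩) (.lf ⟨⟨0, 0⟩, ⟨-1, 0⟩, ⟨1, -1⟩, ⟨0, 0⟩⟩)) (.nd (.lf ⟨⟨2, -1⟩, ⟨1, -1⟩, ⟨-2, 1⟩, ⟨1, -1⟩⟩) (.lf ⟨⟨-1, 0⟩, ⟨0, 0⟩, ⟨0, 0⟩, ⟨0, 0⟩⟩))))) (.nd (.nd (.nd (.nd (.lf ⟨⟨0, 0⟩, ⟨0, 0⟩, ⟨-1, 0⟩, ⟨0, 0⟩⟩) (.lf ⟨⟨0,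 0⟩, ⟨2, -1⟩, ⟨-1, 1⟩, ⟨-1, 0⟩⟩)) (.nd (.lf ⟨⟨-2, 1⟩, ⟨0, 0⟩, ⟨1, -1⟩, ⟨-2, 1⟩⟩) (.lf ⟨⟨1, 0⟩, ⟨-2, 1⟩, ⟨1, -1⟩, ⟨1, -1⟩⟩))) (.nd (.nd (.lf ⟨⟨0, 0⟩, ⟨-1, 0⟩, ⟨0, 0⟩, ⟨1, 0⟩⟩) (.lf ⟨⟨-1, 1⟩, ⟨-1, 1⟩, ⟨2, -1⟩, ⟨0, 0⟩⟩)) (.nd (.lf ⟨⟨0, 0⟩, ⟨1, 0⟩, ⟨-1, 1⟩, ⟨-1, 0⟩⟩) (.lf ⟨⟨1, 0⟩, ⟨-1, 1⟩, ⟨1, -1⟩, ⟨1, -1⟩⟩)))) (.nd (.nd (.nd (.lf ⟨⟨-2, 1⟩, ⟨1, 0⟩, ⟨0, 0⟩, ⟨-2, 1⟩⟩) (.lf ⟨⟨-1, 1⟩, ⟨0, 0⟩, ⟨0, 0⟩, ⟨-1, 1⟩⟩)) (.nd (.lf ⟨⟨0, 0⟩, ⟨-1, 0⟩, ⟨0, 0⟩, ⟨0, 0⟩⟩) (.lf ⟨⟨-1, 1⟩, ⟨-1, 1⟩, ⟨2, -1⟩, ⟨-1, 0⟩⟩))) (.nd (.nd (.lf ⟨⟨-1, 1⟩, ⟨-1, 1⟩, ⟨1, -1⟩, ⟨0, 0⟩⟩) (.lf ⟨⟨2, -1⟩, ⟨0, 0⟩, ⟨-1, 0⟩, ⟨1, -1⟩⟩)) (.nd (.lf ⟨⟨2, -1⟩, ⟨-1, 1⟩, ⟨0, 0⟩, ⟨2, -2⟩⟩) (.lf ⟨⟨-1, 0⟩, ⟨0, 0⟩, ⟨0, 0⟩, ⟨0, 0⟩⟩)))))) (.nd (.nd (.nd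 (.nd (.nd (.lf ⟨⟨0, 0⟩, ⟨-2, 1⟩, ⟨1, -1⟩, ⟨1, -1⟩⟩) (.lf ⟨⟨1, -1⟩, ⟨1, -1⟩, ⟨-1, 1⟩, ⟨1, 0⟩⟩)) (.nd (.lf ⟨⟨-1, 0⟩, ⟨0, 0⟩, ⟨0, 0⟩, ⟨-1, 1⟩⟩) (.lf ⟨⟨-1, 1⟩, ⟨-1, 0⟩, ⟨1, -1⟩, ⟨-1, 1⟩⟩))) (.nd (.nd (.lf ⟨⟨0, 0⟩, ⟨-1, 1⟩, ⟨1, -1⟩, ⟨1, -1⟩⟩) (.lf ⟨⟨-1, 1⟩, ⟨1, -1⟩, ⟨0, 0⟩, ⟨-1, 1⟩⟩)) (.nd (.lf ⟨⟨1, -1⟩, ⟨0, 0⟩, ⟨-1, 1⟩, ⟨1, 0⟩⟩) (.lf ⟨⟨-1, 1⟩, ⟨0, 0⟩, ⟨1, -1⟩, ⟨-1, 1⟩⟩)))) (.nd (.nd (.nd (.lf ⟨⟨-2, 1⟩, ⟨-1, 1⟩, ⟨2, -1⟩, ⟨-1, 0⟩⟩) (.lf ⟨⟨-1, 1⟩, ⟨-2, 1⟩, ⟨2, -1⟩, ⟨0, 0⟩⟩)) (.nd (.lf ⟨⟨-1, 0⟩, ⟨-1, 1⟩, ⟨2, -1⟩, ⟨0, 0⟩⟩) (.lf ⟨⟨0, 0⟩, ⟨-2, 1⟩, ⟨2, -1⟩, ⟨1, 0⟩⟩))) (.nd (.nd (.lf ⟨⟨1, 0⟩, ⟨0, 0⟩, ⟨-1, 0⟩, ⟨1, -1⟩⟩) (.lf ⟨⟨0, 0⟩, ⟨1, -1⟩, ⟨-1, 0⟩, ⟨-1, 1⟩⟩)) (.nd (.lf ⟨⟨-1, 1⟩, ⟨-2, 1⟩, ⟨2, -2⟩, ⟨0,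 0⟩⟩) (.lf ⟨⟨-1, 0⟩, ⟨0, 0⟩, ⟨0, 0⟩, ⟨0, 0⟩⟩))))) (.nd (.nd (.nd (.nd (.lf ⟨⟨-2, 1⟩, ⟨1, -1⟩, ⟨0, 0⟩, ⟨-2, 1⟩⟩) (.lf ⟨⟨-2, 1⟩, ⟨1, 0⟩, ⟨1, 0⟩, ⟨-2, 1⟩⟩)) (.nd (.lf ⟨⟨1, -1⟩, ⟨-2, 1⟩, ⟨1, -1⟩, ⟨2, -1⟩⟩) (.lf ⟨⟨1, 0⟩, ⟨0, 0⟩, ⟨-1, 0⟩, ⟨0, 0⟩⟩))) (.nd (.nd (.lf ⟨⟨-1, 1⟩, ⟨-1, 0⟩, ⟨1, -1⟩, ⟨0, 0⟩⟩) (.lf ⟨⟨1, -1⟩, ⟨-1, 0⟩, ⟨0, 0⟩, ⟨1, 0⟩⟩)) (.nd (.lf ⟨⟨0, 0⟩, ⟨2, -2⟩, ⟨-2, 1⟩, ⟨-1, 1⟩⟩) (.lf ⟨⟨1, 0⟩, ⟨0, 0⟩, ⟨0, 0⟩, ⟨0, 0⟩⟩)))) (.nd (.nd (.nd (.lf ⟨⟨0, 0⟩, ⟨1, -1⟩, ⟨-1, 0⟩, ⟨0, 0⟩⟩) (.lf ⟨⟨-2, 2⟩, ⟨0, 0⟩, ⟨1, -1⟩, ⟨-2, 1⟩⟩)) (.nd (.lf ⟨⟨-2, 1⟩, ⟨0, 0⟩, ⟨1, 0⟩, ⟨-2, 1⟩⟩) (.lf ⟨⟨-1, 1⟩, ⟨1, 0⟩, ⟨0, 0⟩, ⟨-2, 1⟩⟩))) (.nd (.nd (.lf ⟨⟨0, 0⟩, ⟨0, 0⟩, ⟨0, 0⟩, ⟨1, 0⟩⟩) (.lf ⟨⟨0, 0⟩, ⟨-1, 1⟩, ⟨1, -1⟩, ⟨0,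 0⟩⟩)) (.nd (.lf ⟨⟨0, 0⟩, ⟨2, -1⟩, ⟨-2, 1⟩, ⟨-1, 1⟩⟩) (.lf ⟨⟨-1, 0⟩, ⟨0, 0⟩, ⟨0, 0⟩, ⟨0, 0⟩⟩))))))))
/-- unit factors -/
def uf0 : Tr := (.nd (.nd (.nd (.nd (.nd (.nd (.nd (.nd (.nd (.lf 119) (.lf 104)) (.nd (.lf 67) (.lf 119))) (.nd (.nd (.lf 119) (.lf 119)) (.nd (.lf 92) (.lf 119)))) (.nd (.nd (.nd (.lf 52) (.lf 52)) (.nd (.lf 14) (.lf 119))) (.nd (.nd (.lf 91) (.lf 119)) (.nd (.lf 54) (.lf 119))))) (.nd (.nd (.nd (.nd (.lf 98) (.lf 107)) (.nd (.lf 31) (.lf 119))) (.nd (.nd (.lf 7) (.lf 119)) (.nd (.lf 42) (.lf 119)))) (.nd (.nd (.nd (.lf 70) (.lf 20)) (.nd (.lf 93) (.lf 119))) (.nd (.nd (.lf 10) (.lf 119)) (.nd (.lf 5) (.lf 119)))))) (.nd (.nd (.nd (.nd (.nd (.lf 27) (.lf 48)) (.nd (.lf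 112) (.lf 119))) (.nd (.nd (.lf 7) (.lf 119)) (.nd (.lf 17) (.lf 119)))) (.nd (.nd (.nd (.lf 46) (.lf 46)) (.nd (.lf 109) (.lf 119))) (.nd (.nd (.lf 89) (.lf 119)) (.nd (.lf 26) (.lf 119))))) (.nd (.nd (.nd (.nd (.lf 11) (.lf 38)) (.nd (.lf 31) (.lf 119))) (.nd (.nd (.lf 1) (.lf 119)) (.nd (.lf 113) (.lf 119)))) (.nd (.nd (.nd (.lf 94) (.lf 83)) (.nd (.lf 79) (.lf 119))) (.nd (.nd (.lf 10) (.lf 119)) (.nd (.lf 0) (.lf 119))))))) (.nd (.nd (.nd (.nd (.nd (.nd (.lf 69) (.lf 93)) (.nd (.lf 67) (.lf 119))) (.nd (.nd (.lf 22) (.lf 119)) (.nd (.lf 90) (.lf 119)))) (.nd (.nd (.nd (.lf 79) (.lf 0)) (.nd (.lf 39) (.lf 119))) (.nd (.nd (.lf 87) (.lf 119)) (.nd (.lf 99) (.lf 119))))) (.nd (.nd (.nd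 (.nd (.lf 27) (.lf 18)) (.nd (.lf 31) (.lf 119))) (.nd (.nd (.lf 46) (.lf 119)) (.nd (.lf 105) (.lf 119)))) (.nd (.nd (.nd (.lf 26) (.lf 81)) (.nd (.lf 109) (.lf 119))) (.nd (.nd (.lf 49) (.lf 119)) (.nd (.lf 46) (.lf 119)))))) (.nd (.nd (.nd (.nd (.nd (.lf 27) (.lf 51)) (.nd (.lf 31) (.lf 119))) (.nd (.nd (.lf 37) (.lf 119)) (.nd (.lf 119) (.lf 119)))) (.nd (.nd (.nd (.lf 22) (.lf 50)) (.nd (.lf 105) (.lf 119))) (.nd (.nd (.lf 10) (.lf 119)) (.nd (.lf 33) (.lf 119))))) (.nd (.nd (.nd (.nd (.lf 26) (.lf 37)) (.nd (.lf 119) (.lf 119))) (.nd (.nd (.lf 119) (.lf 119)) (.nd (.lf 12) (.lf 119)))) (.nd (.nd (.nd (.lf 12) (.lf 119)) (.nd (.lf 16) (.lf 119))) (.nd (.nd (.lf 67) (.lf 119)) (.nd (.lf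 99) (.lf 119)))))))) (.nd (.nd (.nd (.nd (.nd (.nd (.nd (.lf 45) (.lf 66)) (.nd (.lf 67) (.lf 119))) (.nd (.nd (.lf 38) (.lf 119)) (.nd (.lf 30) (.lf 119)))) (.nd (.nd (.nd (.lf 88) (.lf 10)) (.nd (.lf 104) (.lf 119))) (.nd (.nd (.lf 37) (.lf 119)) (.nd (.lf 101) (.lf 119))))) (.nd (.nd (.nd (.nd (.lf 96) (.lf 100)) (.nd (.lf 31) (.lf 119))) (.nd (.nd (.lf 70) (.lf 119)) (.nd (.lf 112) (.lf 119)))) (.nd (.nd (.nd (.lf 45) (.lf 82)) (.nd (.lf 46) (.lf 119))) (.nd (.nd (.lf 10) (.lf 119)) (.nd (.lf 70) (.lf 119)))))) (.nd (.nd (.nd (.nd (.nd (.lf 92) (.lf 116)) (.nd (.lf 76) (.lf 119))) (.nd (.nd (.lf 47) (.lf 119)) (.nd (.lf 87) (.lf 119)))) (.nd (.nd (.nd (.lf 119) (.lf 57)) (.nd (.lf 50)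 (.lf 119))) (.nd (.nd (.lf 74) (.lf 119)) (.nd (.lf 72) (.lf 119))))) (.nd (.nd (.nd (.nd (.lf 80) (.lf 94)) (.nd (.lf 113) (.lf 119))) (.nd (.nd (.lf 62) (.lf 119)) (.nd (.lf 43) (.lf 119)))) (.nd (.nd (.nd (.lf 57) (.lf 75)) (.nd (.lf 52) (.lf 119))) (.nd (.nd (.lf 77) (.lf 119)) (.nd (.lf 52) (.lf 119))))))) (.nd (.nd (.nd (.nd (.nd (.nd (.lf 27) (.lf 15)) (.nd (.lf 67) (.lf 119))) (.nd (.nd (.lf 74) (.lf 119)) (.nd (.lf 44) (.lf 119)))) (.nd (.nd (.nd (.lf 105) (.lf 33)) (.nd (.lf 67) (.lf 119))) (.nd (.nd (.lf 33) (.lf 119)) (.nd (.lf 63) (.lf 119))))) (.nd (.nd (.nd (.nd (.lf 45) (.lf 48)) (.nd (.lf 80) (.lf 119))) (.nd (.nd (.lf 66) (.lf 119)) (.nd (.lf 95) (.lf 119)))) (.nd (.nd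 (.nd (.lf 46) (.lf 100)) (.nd (.lf 0) (.lf 119))) (.nd (.nd (.lf 109) (.lf 119)) (.nd (.lf 22) (.lf 119)))))) (.nd (.nd (.nd (.nd (.nd (.lf 94) (.lf 62)) (.nd (.lf 54) (.lf 119))) (.nd (.nd (.lf 20) (.lf 119)) (.nd (.lf 21) (.lf 119)))) (.nd (.nd (.nd (.lf 85) (.lf 71)) (.nd (.lf 88) (.lf 119))) (.nd (.nd (.lf 10) (.lf 119)) (.nd (.lf 26) (.lf 119))))) (.nd (.nd (.nd (.nd (.lf 109) (.lf 49)) (.nd (.lf 108) (.lf 119))) (.nd (.nd (.lf 35) (.lf 119)) (.nd (.lf 7) (.lf 119)))) (.nd (.nd (.nd (.lf 53) (.lf 119)) (.nd (.lf 100) (.lf 119))) (.nd (.nd (.lf 67) (.lf 119)) (.nd (.lf 35) (.lf 119))))))))) (.nd (.nd (.nd (.nd (.nd (.nd (.nd (.nd (.lf 26) (.lf 91)) (.nd (.lf 14) (.lf 119))) (.nd (.nd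 (.lf 37) (.lf 119)) (.nd (.lf 30) (.lf 119)))) (.nd (.nd (.nd (.lf 56) (.lf 119)) (.nd (.lf 63) (.lf 119))) (.nd (.nd (.lf 58) (.lf 119)) (.nd (.lf 4) (.lf 119))))) (.nd (.nd (.nd (.nd (.lf 119) (.lf 17)) (.nd (.lf 40) (.lf 119))) (.nd (.nd (.lf 11) (.lf 119)) (.nd (.lf 112) (.lf 119)))) (.nd (.nd (.nd (.lf 81) (.lf 82)) (.nd (.lf 108) (.lf 119))) (.nd (.nd (.lf 73) (.lf 119)) (.nd (.lf 11) (.lf 119)))))) (.nd (.nd (.nd (.nd (.nd (.lf 27) (.lf 4)) (.nd (.lf 14) (.lf 119))) (.nd (.nd (.lf 71) (.lf 119)) (.nd (.lf 81) (.lf 119)))) (.nd (.nd (.nd (.lf 26) (.lf 22)) (.nd (.lf 65) (.lf 119))) (.nd (.nd (.lf 0) (.lf 119)) (.nd (.lf 110) (.lf 119))))) (.nd (.nd (.nd (.nd (.lf 92) (.lf 69)) (.nd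 (.lf 40) (.lf 119))) (.nd (.nd (.lf 22) (.lf 119)) (.nd (.lf 61) (.lf 119)))) (.nd (.nd (.nd (.lf 37) (.lf 8)) (.nd (.lf 112) (.lf 119))) (.nd (.nd (.lf 73) (.lf 119)) (.nd (.lf 66) (.lf 119))))))) (.nd (.nd (.nd (.nd (.nd (.nd (.lf 34) (.lf 65)) (.nd (.lf 14) (.lf 119))) (.nd (.nd (.lf 59) (.lf 119)) (.nd (.lf 44) (.lf 119)))) (.nd (.nd (.nd (.lf 7) (.lf 7)) (.nd (.lf 91) (.lf 119))) (.nd (.nd (.lf 59) (.lf 119)) (.nd (.lf 56) (.lf 119))))) (.nd (.nd (.nd (.nd (.lf 108) (.lf 89)) (.nd (.lf 40) (.lf 119))) (.nd (.nd (.lf 52) (.lf 119)) (.nd (.lf 78) (.lf 119)))) (.nd (.nd (.nd (.lf 70) (.lf 118)) (.nd (.lf 119) (.lf 119))) (.nd (.nd (.lf 73) (.lf 119)) (.nd (.lf 62) (.lf 119)))))) (.nd (.nd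 (.nd (.nd (.nd (.lf 40) (.lf 97)) (.nd (.lf 56) (.lf 119))) (.nd (.nd (.lf 19) (.lf 119)) (.nd (.lf 104) (.lf 119)))) (.nd (.nd (.nd (.lf 68) (.lf 12)) (.nd (.lf 113) (.lf 119))) (.nd (.nd (.lf 95) (.lf 119)) (.nd (.lf 119) (.lf 119))))) (.nd (.nd (.nd (.nd (.lf 11) (.lf 11)) (.nd (.lf 108) (.lf 119))) (.nd (.nd (.lf 45) (.lf 119)) (.nd (.lf 76) (.lf 119)))) (.nd (.nd (.nd (.lf 52) (.lf 119)) (.nd (.lf 118) (.lf 119))) (.nd (.nd (.lf 105) (.lf 119)) (.nd (.lf 9) (.lf 119)))))))) (.nd (.nd (.nd (.nd (.nd (.nd (.nd (.lf 27) (.lf 52)) (.nd (.lf 93) (.lf 119))) (.nd (.nd (.lf 62) (.lf 119)) (.nd (.lf 84) (.lf 119)))) (.nd (.nd (.nd (.lf 6) (.lf 26)) (.nd (.lf 113) (.lf 119))) (.nd (.nd (.lf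 61) (.lf 119)) (.nd (.lf 2) (.lf 119))))) (.nd (.nd (.nd (.nd (.lf 54) (.lf 117)) (.nd (.lf 98) (.lf 119))) (.nd (.nd (.lf 49) (.lf 119)) (.nd (.lf 53) (.lf 119)))) (.nd (.nd (.nd (.lf 119) (.lf 57)) (.nd (.lf 49) (.lf 119))) (.nd (.nd (.lf 73) (.lf 119)) (.nd (.lf 23) (.lf 119)))))) (.nd (.nd (.nd (.nd (.nd (.lf 42) (.lf 27)) (.nd (.lf 104) (.lf 119))) (.nd (.nd (.lf 57) (.lf 119)) (.nd (.lf 60) (.lf 119)))) (.nd (.nd (.nd (.lf 32) (.lf 92)) (.nd (.lf 66) (.lf 119))) (.nd (.nd (.lf 73) (.lf 119)) (.nd (.lf 7) (.lf 119))))) (.nd (.nd (.nd (.nd (.lf 0) (.lf 5)) (.nd (.lf 74) (.lf 119))) (.nd (.nd (.lf 119) (.lf 119)) (.nd (.lf 90) (.lf 119)))) (.nd (.nd (.nd (.lf 9) (.lf 119)) (.nd (.lf 16)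 (.lf 119))) (.nd (.nd (.lf 14) (.lf 119)) (.nd (.lf 1) (.lf 119))))))) (.nd (.nd (.nd (.nd (.nd (.nd (.lf 27) (.lf 47)) (.nd (.lf 14) (.lf 119))) (.nd (.nd (.lf 53) (.lf 119)) (.nd (.lf 117) (.lf 119)))) (.nd (.nd (.nd (.lf 49) (.lf 23)) (.nd (.lf 70) (.lf 119))) (.nd (.nd (.lf 74) (.lf 119)) (.nd (.lf 53) (.lf 119))))) (.nd (.nd (.nd (.nd (.lf 58) (.lf 97)) (.nd (.lf 40) (.lf 119))) (.nd (.nd (.lf 3) (.lf 119)) (.nd (.lf 65) (.lf 119)))) (.nd (.nd (.nd (.lf 13) (.lf 72)) (.nd (.lf 63) (.lf 119))) (.nd (.nd (.lf 73) (.lf 119)) (.nd (.lf 109) (.lf 119)))))) (.nd (.nd (.nd (.nd (.nd (.lf 44) (.lf 9)) (.nd (.lf 40) (.lf 119))) (.nd (.nd (.lf 53) (.lf 119)) (.nd (.lf 96) (.lf 119)))) (.nd (.nd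 (.nd (.lf 11) (.lf 117)) (.nd (.lf 93) (.lf 119))) (.nd (.nd (.lf 108) (.lf 119)) (.nd (.lf 37) (.lf 119))))) (.nd (.nd (.nd (.nd (.lf 66) (.lf 53)) (.nd (.lf 86) (.lf 119))) (.nd (.nd (.lf 60) (.lf 119)) (.nd (.lf 39) (.lf 119)))) (.nd (.nd (.nd (.lf 26) (.lf 119)) (.nd (.lf 85) (.lf 119))) (.nd (.nd (.lf 66) (.lf 119)) (.nd (.lf 80) (.lf 119))))))))))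
/-- unit factors -/
def uf1 : Tr := (.nd (.nd (.nd (.nd (.nd (.nd (.nd (.nd (.nd (.lf 119) (.lf 94)) (.nd (.lf 114) (.lf 119))) (.nd (.nd (.lf 11) (.lf 119)) (.nd (.lf 95) (.lf 119)))) (.nd (.nd (.nd (.lf 29) (.lf 93)) (.nd (.lf 32) (.lf 119))) (.nd (.nd (.lf 80) (.lf 119)) (.nd (.lf 36) (.lf 119))))) (.nd (.nd (.nd (.nd (.lf 65) (.lf 14)) (.nd (.lf 60) (.lf 119))) (.nd (.nd (.lf 8) (.lf 119)) (.nd (.lf 60) (.lf 119)))) (.nd (.nd (.nd (.lf 56) (.lf 36)) (.nd (.lf 111) (.lf 119))) (.nd (.nd (.lf 49) (.lf 119)) (.nd (.lf 81) (.lf 119)))))) (.nd (.nd (.nd (.nd (.nd (.lf 119) (.lf 110)) (.nd (.lf 73) (.lf 119))) (.nd (.nd (.lf 114) (.lf 119)) (.nd (.lf 46) (.lf 119)))) (.nd (.nd (.nd (.lf 25)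 (.lf 99)) (.nd (.lf 38) (.lf 119))) (.nd (.nd (.lf 116) (.lf 119)) (.nd (.lf 114) (.lf 119))))) (.nd (.nd (.nd (.nd (.lf 78) (.lf 104)) (.nd (.lf 51) (.lf 119))) (.nd (.nd (.lf 119) (.lf 119)) (.nd (.lf 33) (.lf 119)))) (.nd (.nd (.nd (.lf 36) (.lf 63)) (.nd (.lf 111) (.lf 119))) (.nd (.nd (.lf 51) (.lf 119)) (.nd (.lf 112) (.lf 119))))))) (.nd (.nd (.nd (.nd (.nd (.nd (.lf 98) (.lf 119)) (.nd (.lf 10) (.lf 119))) (.nd (.nd (.lf 86) (.lf 119)) (.nd (.lf 24) (.lf 119)))) (.nd (.nd (.nd (.lf 119) (.lf 55)) (.nd (.lf 62) (.lf 119))) (.nd (.nd (.lf 86) (.lf 119)) (.nd (.lf 106) (.lf 119))))) (.nd (.nd (.nd (.nd (.lf 95) (.lf 72)) (.nd (.lf 87) (.lf 119))) (.nd (.nd (.lf 48) (.lf 119)) (.nd (.lf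 87) (.lf 119)))) (.nd (.nd (.nd (.lf 68) (.lf 101)) (.nd (.lf 111) (.lf 119))) (.nd (.nd (.lf 97) (.lf 119)) (.nd (.lf 102) (.lf 119)))))) (.nd (.nd (.nd (.nd (.nd (.lf 88) (.lf 116)) (.nd (.lf 49) (.lf 119))) (.nd (.nd (.lf 39) (.lf 119)) (.nd (.lf 89) (.lf 119)))) (.nd (.nd (.nd (.lf 84) (.lf 66)) (.nd (.lf 75) (.lf 119))) (.nd (.nd (.lf 82) (.lf 119)) (.nd (.lf 41) (.lf 119))))) (.nd (.nd (.nd (.nd (.lf 31) (.lf 96)) (.nd (.lf 81) (.lf 119))) (.nd (.nd (.lf 107) (.lf 119)) (.nd (.lf 89) (.lf 119)))) (.nd (.nd (.nd (.lf 19) (.lf 119)) (.nd (.lf 78) (.lf 119))) (.nd (.nd (.lf 94) (.lf 119)) (.nd (.lf 114) (.lf 119)))))))) (.nd (.nd (.nd (.nd (.nd (.nd (.nd (.lf 97) (.lf 97)) (.nd (.lf 60)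 (.lf 119))) (.nd (.nd (.lf 43) (.lf 119)) (.nd (.lf 108) (.lf 119)))) (.nd (.nd (.nd (.lf 90) (.lf 97)) (.nd (.lf 62) (.lf 119))) (.nd (.nd (.lf 91) (.lf 119)) (.nd (.lf 94) (.lf 119))))) (.nd (.nd (.nd (.nd (.lf 65) (.lf 84)) (.nd (.lf 82) (.lf 119))) (.nd (.nd (.lf 9) (.lf 119)) (.nd (.lf 37) (.lf 119)))) (.nd (.nd (.nd (.lf 106) (.lf 118)) (.nd (.lf 51) (.lf 119))) (.nd (.nd (.lf 119) (.lf 119)) (.nd (.lf 19) (.lf 119)))))) (.nd (.nd (.nd (.nd (.nd (.lf 94) (.lf 103)) (.nd (.lf 85) (.lf 119))) (.nd (.nd (.lf 102) (.lf 119)) (.nd (.lf 73) (.lf 119)))) (.nd (.nd (.nd (.lf 79) (.lf 109)) (.nd (.lf 114) (.lf 119))) (.nd (.nd (.lf 83) (.lf 119)) (.nd (.lf 84) (.lf 119))))) (.nd (.nd (.nd (.nd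 (.lf 73) (.lf 118)) (.nd (.lf 108) (.lf 119))) (.nd (.nd (.lf 21) (.lf 119)) (.nd (.lf 35) (.lf 119)))) (.nd (.nd (.nd (.lf 89) (.lf 105)) (.nd (.lf 94) (.lf 119))) (.nd (.nd (.lf 114) (.lf 119)) (.nd (.lf 70) (.lf 119))))))) (.nd (.nd (.nd (.nd (.nd (.nd (.lf 42) (.lf 106)) (.nd (.lf 64) (.lf 119))) (.nd (.nd (.lf 96) (.lf 119)) (.nd (.lf 95) (.lf 119)))) (.nd (.nd (.nd (.lf 83) (.lf 33)) (.nd (.lf 57) (.lf 119))) (.nd (.nd (.lf 79) (.lf 119)) (.nd (.lf 119) (.lf 119))))) (.nd (.nd (.nd (.nd (.lf 41) (.lf 28)) (.nd (.lf 46) (.lf 119))) (.nd (.nd (.lf 50) (.lf 119)) (.nd (.lf 119) (.lf 119)))) (.nd (.nd (.nd (.lf 113) (.lf 47)) (.nd (.lf 111) (.lf 119))) (.nd (.nd (.lf 108) (.lf 119)) (.nd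 (.lf 64) (.lf 119)))))) (.nd (.nd (.nd (.nd (.nd (.lf 113) (.lf 88)) (.nd (.lf 106) (.lf 119))) (.nd (.nd (.lf 46) (.lf 119)) (.nd (.lf 91) (.lf 119)))) (.nd (.nd (.nd (.lf 119) (.lf 98)) (.nd (.lf 68) (.lf 119))) (.nd (.nd (.lf 106) (.lf 119)) (.nd (.lf 93) (.lf 119))))) (.nd (.nd (.nd (.nd (.lf 85) (.lf 102)) (.nd (.lf 114) (.lf 119))) (.nd (.nd (.lf 118) (.lf 119)) (.nd (.lf 103) (.lf 119)))) (.nd (.nd (.nd (.lf 64) (.lf 119)) (.nd (.lf 78) (.lf 119))) (.nd (.nd (.lf 109) (.lf 119)) (.nd (.lf 90) (.lf 119))))))))) (.nd (.nd (.nd (.nd (.nd (.nd (.nd (.nd (.lf 59) (.lf 0)) (.nd (.lf 119) (.lf 119))) (.nd (.nd (.lf 91) (.lf 119)) (.nd (.lf 96) (.lf 119)))) (.nd (.nd (.nd (.lf 104) (.lf 62))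 (.nd (.lf 97) (.lf 119))) (.nd (.nd (.lf 91) (.lf 119)) (.nd (.lf 69) (.lf 119))))) (.nd (.nd (.nd (.nd (.lf 88) (.lf 71)) (.nd (.lf 16) (.lf 119))) (.nd (.nd (.lf 89) (.lf 119)) (.nd (.lf 58) (.lf 119)))) (.nd (.nd (.nd (.lf 50) (.lf 116)) (.nd (.lf 106) (.lf 119))) (.nd (.nd (.lf 60) (.lf 119)) (.nd (.lf 115) (.lf 119)))))) (.nd (.nd (.nd (.nd (.nd (.lf 40) (.lf 57)) (.nd (.lf 92) (.lf 119))) (.nd (.nd (.lf 99) (.lf 119)) (.nd (.lf 77) (.lf 119)))) (.nd (.nd (.nd (.lf 104) (.lf 78)) (.nd (.lf 103) (.lf 119))) (.nd (.nd (.lf 89) (.lf 119)) (.nd (.lf 110) (.lf 119))))) (.nd (.nd (.nd (.nd (.lf 11) (.lf 101)) (.nd (.lf 24) (.lf 119))) (.nd (.nd (.lf 79) (.lf 119)) (.nd (.lf 45) (.lf 119))))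 (.nd (.nd (.nd (.lf 110) (.lf 76)) (.nd (.lf 50) (.lf 119))) (.nd (.nd (.lf 62) (.lf 119)) (.nd (.lf 77) (.lf 119))))))) (.nd (.nd (.nd (.nd (.nd (.nd (.lf 88) (.lf 75)) (.nd (.lf 103) (.lf 119))) (.nd (.nd (.lf 96) (.lf 119)) (.nd (.lf 10) (.lf 119)))) (.nd (.nd (.nd (.lf 89) (.lf 7)) (.nd (.lf 55) (.lf 119))) (.nd (.nd (.lf 79) (.lf 119)) (.nd (.lf 97) (.lf 119))))) (.nd (.nd (.nd (.nd (.lf 73) (.lf 76)) (.nd (.lf 54) (.lf 119))) (.nd (.nd (.lf 106) (.lf 119)) (.nd (.lf 119) (.lf 119)))) (.nd (.nd (.nd (.lf 80) (.lf 90)) (.nd (.lf 34) (.lf 119))) (.nd (.nd (.lf 95) (.lf 119)) (.nd (.lf 22) (.lf 119)))))) (.nd (.nd (.nd (.nd (.nd (.lf 31) (.lf 54)) (.nd (.lf 69) (.lf 119))) (.nd (.nd (.lf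 54) (.lf 119)) (.nd (.lf 60) (.lf 119)))) (.nd (.nd (.nd (.lf 59) (.lf 65)) (.nd (.lf 69) (.lf 119))) (.nd (.nd (.lf 50) (.lf 119)) (.nd (.lf 86) (.lf 119))))) (.nd (.nd (.nd (.nd (.lf 92) (.lf 19)) (.nd (.lf 82) (.lf 119))) (.nd (.nd (.lf 101) (.lf 119)) (.nd (.lf 57) (.lf 119)))) (.nd (.nd (.nd (.lf 103) (.lf 119)) (.nd (.lf 77) (.lf 119))) (.nd (.nd (.lf 96) (.lf 119)) (.nd (.lf 89) (.lf 119)))))))) (.nd (.nd (.nd (.nd (.nd (.nd (.nd (.lf 44) (.lf 36)) (.nd (.lf 38) (.lf 119))) (.nd (.nd (.lf 86) (.lf 119)) (.nd (.lf 109) (.lf 119)))) (.nd (.nd (.nd (.lf 59) (.lf 87)) (.nd (.lf 55) (.lf 119))) (.nd (.nd (.lf 93) (.lf 119)) (.nd (.lf 75) (.lf 119))))) (.nd (.nd (.nd (.nd (.lf 41) (.lf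 83)) (.nd (.lf 57) (.lf 119))) (.nd (.nd (.lf 84) (.lf 119)) (.nd (.lf 61) (.lf 119)))) (.nd (.nd (.nd (.lf 111) (.lf 2)) (.nd (.lf 69) (.lf 119))) (.nd (.nd (.lf 83) (.lf 119)) (.nd (.lf 99) (.lf 119)))))) (.nd (.nd (.nd (.nd (.nd (.lf 88) (.lf 2)) (.nd (.lf 109) (.lf 119))) (.nd (.nd (.lf 113) (.lf 119)) (.nd (.lf 74) (.lf 119)))) (.nd (.nd (.nd (.lf 29) (.lf 91)) (.nd (.lf 50) (.lf 119))) (.nd (.nd (.lf 103) (.lf 119)) (.nd (.lf 46) (.lf 119))))) (.nd (.nd (.nd (.nd (.lf 39) (.lf 73)) (.nd (.lf 103) (.lf 119))) (.nd (.nd (.lf 107) (.lf 119)) (.nd (.lf 90) (.lf 119)))) (.nd (.nd (.nd (.lf 115) (.lf 119)) (.nd (.lf 77) (.lf 119))) (.nd (.nd (.lf 44) (.lf 119)) (.nd (.lf 82) (.lf 119)))))))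 (.nd (.nd (.nd (.nd (.nd (.nd (.lf 96) (.lf 84)) (.nd (.lf 108) (.lf 119))) (.nd (.nd (.lf 114) (.lf 119)) (.nd (.lf 70) (.lf 119)))) (.nd (.nd (.nd (.lf 75) (.lf 115)) (.nd (.lf 103) (.lf 119))) (.nd (.nd (.lf 2) (.lf 119)) (.nd (.lf 82) (.lf 119))))) (.nd (.nd (.nd (.nd (.lf 41) (.lf 79)) (.nd (.lf 111) (.lf 119))) (.nd (.nd (.lf 59) (.lf 119)) (.nd (.lf 59) (.lf 119)))) (.nd (.nd (.nd (.lf 22) (.lf 31)) (.nd (.lf 13) (.lf 119))) (.nd (.nd (.lf 111) (.lf 119)) (.nd (.lf 67) (.lf 119)))))) (.nd (.nd (.nd (.nd (.nd (.lf 39) (.lf 53)) (.nd (.lf 119) (.lf 119))) (.nd (.nd (.lf 68) (.lf 119)) (.nd (.lf 0) (.lf 119)))) (.nd (.nd (.nd (.lf 98) (.lf 12)) (.nd (.lf 92) (.lf 119))) (.nd (.nd (.lf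 77) (.lf 119)) (.nd (.lf 5) (.lf 119))))) (.nd (.nd (.nd (.nd (.lf 107) (.lf 52)) (.nd (.lf 22) (.lf 119))) (.nd (.nd (.lf 88) (.lf 119)) (.nd (.lf 0) (.lf 119)))) (.nd (.nd (.nd (.lf 46) (.lf 119)) (.nd (.lf 96) (.lf 119))) (.nd (.nd (.lf 38) (.lf 119)) (.nd (.lf 69) (.lf 119))))))))))
/-- unit factors -/
def uf2 : Tr := (.nd (.nd (.nd (.nd (.nd (.nd (.nd (.nd (.nd (.lf 1) (.lf 67)) (.nd (.lf 81) (.lf 1))) (.nd (.nd (.lf 114) (.lf 1)) (.nd (.lf 77) (.lf 1)))) (.nd (.nd (.nd (.lf 110) (.lf 20)) (.nd (.lf 75) (.lf 1))) (.nd (.nd (.lf 83) (.lf 1)) (.nd (.lf 101) (.lf 1))))) (.nd (.nd (.nd (.nd (.lf 52) (.lf 39)) (.nd (.lf 31) (.lf 1))) (.nd (.nd (.lf 4) (.lf 1)) (.nd (.lf 2) (.lf 1)))) (.nd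 (.nd (.nd (.lf 108) (.lf 84)) (.nd (.lf 85) (.lf 1))) (.nd (.nd (.lf 113) (.lf 1)) (.nd (.lf 98) (.lf 1)))))) (.nd (.nd (.nd (.nd (.nd (.lf 6) (.lf 42)) (.nd (.lf 101) (.lf 1))) (.nd (.nd (.lf 8) (.lf 1)) (.nd (.lf 37) (.lf 1)))) (.nd (.nd (.nd (.lf 15) (.lf 19)) (.nd (.lf 35) (.lf 1))) (.nd (.nd (.lf 115) (.lf 1)) (.nd (.lf 93) (.lf 1))))) (.nd (.nd (.nd (.nd (.lf 93) (.lf 102)) (.nd (.lf 100) (.lf 1))) (.nd (.nd (.lf 10) (.lf 1)) (.nd (.lf 33) (.lf 1)))) (.nd (.nd (.nd (.lf 113) (.lf 81)) (.nd (.lf 78) (.lf 1))) (.nd (.nd (.lf 106) (.lf 1)) (.nd (.lf 93) (.lf 1))))))) (.nd (.nd (.nd (.nd (.nd (.nd (.lf 92) (.lf 119)) (.nd (.lf 85) (.lf 1))) (.nd (.nd (.lf 84) (.lf 1)) (.nd (.lf 52) (.lf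 1)))) (.nd (.nd (.nd (.lf 86) (.lf 0)) (.nd (.lf 62) (.lf 1))) (.nd (.nd (.lf 80) (.lf 1)) (.nd (.lf 119) (.lf 1))))) (.nd (.nd (.nd (.nd (.lf 48) (.lf 0)) (.nd (.lf 51) (.lf 1))) (.nd (.nd (.lf 27) (.lf 1)) (.nd (.lf 88) (.lf 1)))) (.nd (.nd (.nd (.lf 106) (.lf 99)) (.nd (.lf 80) (.lf 1))) (.nd (.nd (.lf 108) (.lf 1)) (.nd (.lf 118) (.lf 1)))))) (.nd (.nd (.nd (.nd (.nd (.lf 36) (.lf 41)) (.nd (.lf 107) (.lf 1))) (.nd (.nd (.lf 104) (.lf 1)) (.nd (.lf 84) (.lf 1)))) (.nd (.nd (.nd (.lf 118) (.lf 86)) (.nd (.lf 99) (.lf 1))) (.nd (.nd (.lf 20) (.lf 1)) (.nd (.lf 96) (.lf 1))))) (.nd (.nd (.nd (.nd (.lf 18) (.lf 20)) (.nd (.lf 17) (.lf 1))) (.nd (.nd (.lf 27) (.lf 1)) (.nd (.lf 115) (.lf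 1)))) (.nd (.nd (.nd (.lf 19) (.lf 1)) (.nd (.lf 3) (.lf 1))) (.nd (.nd (.lf 24) (.lf 1)) (.nd (.lf 57) (.lf 1)))))))) (.nd (.nd (.nd (.nd (.nd (.nd (.nd (.lf 119) (.lf 99)) (.nd (.lf 105) (.lf 1))) (.nd (.nd (.lf 109) (.lf 1)) (.nd (.lf 86) (.lf 1)))) (.nd (.nd (.nd (.lf 111) (.lf 99)) (.nd (.lf 82) (.lf 1))) (.nd (.nd (.lf 103) (.lf 1)) (.nd (.lf 20) (.lf 1))))) (.nd (.nd (.nd (.nd (.lf 20) (.lf 1)) (.nd (.lf 76) (.lf 1))) (.nd (.nd (.lf 112) (.lf 1)) (.nd (.lf 79) (.lf 1)))) (.nd (.nd (.nd (.lf 67) (.lf 118)) (.nd (.lf 104) (.lf 1))) (.nd (.nd (.lf 84) (.lf 1)) (.nd (.lf 20) (.lf 1)))))) (.nd (.nd (.nd (.nd (.nd (.lf 0) (.lf 40)) (.nd (.lf 84) (.lf 1))) (.nd (.nd (.lf 72) (.lf 1)) (.nd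 (.lf 115) (.lf 1)))) (.nd (.nd (.nd (.lf 67) (.lf 4)) (.nd (.lf 100) (.lf 1))) (.nd (.nd (.lf 86) (.lf 1)) (.nd (.lf 90) (.lf 1))))) (.nd (.nd (.nd (.nd (.lf 118) (.lf 116)) (.nd (.lf 78) (.lf 1))) (.nd (.nd (.lf 82) (.lf 1)) (.nd (.lf 47) (.lf 1)))) (.nd (.nd (.nd (.lf 118) (.lf 76)) (.nd (.lf 118) (.lf 1))) (.nd (.nd (.lf 99) (.lf 1)) (.nd (.lf 90) (.lf 1))))))) (.nd (.nd (.nd (.nd (.nd (.nd (.lf 95) (.lf 44)) (.nd (.lf 56) (.lf 1))) (.nd (.nd (.lf 31) (.lf 1)) (.nd (.lf 95) (.lf 1)))) (.nd (.nd (.nd (.lf 24) (.lf 18)) (.nd (.lf 92) (.lf 1))) (.nd (.nd (.lf 70) (.lf 1)) (.nd (.lf 97) (.lf 1))))) (.nd (.nd (.nd (.nd (.lf 55) (.lf 117)) (.nd (.lf 82) (.lf 1))) (.nd (.nd (.lf 57) (.lf 1))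 (.nd (.lf 101) (.lf 1)))) (.nd (.nd (.nd (.lf 72) (.lf 83)) (.nd (.lf 111) (.lf 1))) (.nd (.nd (.lf 82) (.lf 1)) (.nd (.lf 97) (.lf 1)))))) (.nd (.nd (.nd (.nd (.nd (.lf 38) (.lf 34)) (.nd (.lf 58) (.lf 1))) (.nd (.nd (.lf 107) (.lf 1)) (.nd (.lf 76) (.lf 1)))) (.nd (.nd (.nd (.lf 57) (.lf 82)) (.nd (.lf 109) (.lf 1))) (.nd (.nd (.lf 86) (.lf 1)) (.nd (.lf 94) (.lf 1))))) (.nd (.nd (.nd (.nd (.lf 103) (.lf 20)) (.nd (.lf 83) (.lf 1))) (.nd (.nd (.lf 59) (.lf 1)) (.nd (.lf 100) (.lf 1)))) (.nd (.nd (.nd (.lf 105) (.lf 1)) (.nd (.lf 81) (.lf 1))) (.nd (.nd (.lf 45) (.lf 1)) (.nd (.lf 72) (.lf 1))))))))) (.nd (.nd (.nd (.nd (.nd (.nd (.nd (.nd (.lf 20) (.lf 0)) (.nd (.lf 76) (.lf 1))) (.nd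 (.nd (.lf 95) (.lf 1)) (.nd (.lf 13) (.lf 1)))) (.nd (.nd (.nd (.lf 92) (.lf 118)) (.nd (.lf 6) (.lf 1))) (.nd (.nd (.lf 81) (.lf 1)) (.nd (.lf 119) (.lf 1))))) (.nd (.nd (.nd (.nd (.lf 47) (.lf 99)) (.nd (.lf 105) (.lf 1))) (.nd (.nd (.lf 93) (.lf 1)) (.nd (.lf 62) (.lf 1)))) (.nd (.nd (.nd (.lf 26) (.lf 119)) (.nd (.lf 81) (.lf 1))) (.nd (.nd (.lf 36) (.lf 1)) (.nd (.lf 119) (.lf 1)))))) (.nd (.nd (.nd (.nd (.nd (.lf 13) (.lf 97)) (.nd (.lf 110) (.lf 1))) (.nd (.nd (.lf 60) (.lf 1)) (.nd (.lf 119) (.lf 1)))) (.nd (.nd (.nd (.lf 61) (.lf 92)) (.nd (.lf 119) (.lf 1))) (.nd (.nd (.lf 112) (.lf 1)) (.nd (.lf 117) (.lf 1))))) (.nd (.nd (.nd (.nd (.lf 90) (.lf 1)) (.nd (.lf 109) (.lf 1))) (.nd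 (.nd (.lf 114) (.lf 1)) (.nd (.lf 77) (.lf 1)))) (.nd (.nd (.nd (.lf 0) (.lf 75)) (.nd (.lf 119) (.lf 1))) (.nd (.nd (.lf 1) (.lf 1)) (.nd (.lf 89) (.lf 1))))))) (.nd (.nd (.nd (.nd (.nd (.nd (.lf 88) (.lf 93)) (.nd (.lf 80) (.lf 1))) (.nd (.nd (.lf 63) (.lf 1)) (.nd (.lf 84) (.lf 1)))) (.nd (.nd (.nd (.lf 49) (.lf 95)) (.nd (.lf 86) (.lf 1))) (.nd (.nd (.lf 78) (.lf 1)) (.nd (.lf 102) (.lf 1))))) (.nd (.nd (.nd (.nd (.lf 66) (.lf 1)) (.nd (.lf 114) (.lf 1))) (.nd (.nd (.lf 74) (.lf 1)) (.nd (.lf 119) (.lf 1)))) (.nd (.nd (.nd (.lf 29) (.lf 77)) (.nd (.lf 76) (.lf 1))) (.nd (.nd (.lf 38) (.lf 1)) (.nd (.lf 87) (.lf 1)))))) (.nd (.nd (.nd (.nd (.nd (.lf 43) (.lf 58)) (.nd (.lf 71) (.lf 1)))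 (.nd (.nd (.lf 89) (.lf 1)) (.nd (.lf 75) (.lf 1)))) (.nd (.nd (.nd (.lf 22) (.lf 80)) (.nd (.lf 83) (.lf 1))) (.nd (.nd (.lf 43) (.lf 1)) (.nd (.lf 92) (.lf 1))))) (.nd (.nd (.nd (.nd (.lf 87) (.lf 60)) (.nd (.lf 77) (.lf 1))) (.nd (.nd (.lf 64) (.lf 1)) (.nd (.lf 119) (.lf 1)))) (.nd (.nd (.nd (.lf 91) (.lf 1)) (.nd (.lf 79) (.lf 1))) (.nd (.nd (.lf 53) (.lf 1)) (.nd (.lf 108) (.lf 1)))))))) (.nd (.nd (.nd (.nd (.nd (.nd (.nd (.lf 119) (.lf 118)) (.nd (.lf 111) (.lf 1))) (.nd (.nd (.lf 110) (.lf 1)) (.nd (.lf 75) (.lf 1)))) (.nd (.nd (.nd (.lf 112) (.lf 20)) (.nd (.lf 79) (.lf 1))) (.nd (.nd (.lf 104) (.lf 1)) (.nd (.lf 1) (.lf 1))))) (.nd (.nd (.nd (.nd (.lf 1) (.lf 1)) (.nd (.lf 85)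 (.lf 1))) (.nd (.nd (.lf 68) (.lf 1)) (.nd (.lf 82) (.lf 1)))) (.nd (.nd (.nd (.lf 94) (.lf 1)) (.nd (.lf 22) (.lf 1))) (.nd (.nd (.lf 77) (.lf 1)) (.nd (.lf 99) (.lf 1)))))) (.nd (.nd (.nd (.nd (.nd (.lf 99) (.lf 59)) (.nd (.lf 83) (.lf 1))) (.nd (.nd (.lf 88) (.lf 1)) (.nd (.lf 11) (.lf 1)))) (.nd (.nd (.nd (.lf 20) (.lf 85)) (.nd (.lf 0) (.lf 1))) (.nd (.nd (.lf 0) (.lf 1)) (.nd (.lf 95) (.lf 1))))) (.nd (.nd (.nd (.nd (.lf 102) (.lf 74)) (.nd (.lf 8) (.lf 1))) (.nd (.nd (.lf 75) (.lf 1)) (.nd (.lf 119) (.lf 1)))) (.nd (.nd (.nd (.lf 116) (.lf 1)) (.nd (.lf 10) (.lf 1))) (.nd (.nd (.lf 77) (.lf 1)) (.nd (.lf 113) (.lf 1))))))) (.nd (.nd (.nd (.nd (.nd (.nd (.lf 11) (.lf 90)) (.nd (.lf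 17) (.lf 1))) (.nd (.nd (.lf 34) (.lf 1)) (.nd (.lf 80) (.lf 1)))) (.nd (.nd (.nd (.lf 39) (.lf 88)) (.nd (.lf 78) (.lf 1))) (.nd (.nd (.lf 2) (.lf 1)) (.nd (.lf 116) (.lf 1))))) (.nd (.nd (.nd (.nd (.lf 97) (.lf 1)) (.nd (.lf 3) (.lf 1))) (.nd (.nd (.lf 41) (.lf 1)) (.nd (.lf 85) (.lf 1)))) (.nd (.nd (.nd (.lf 98) (.lf 79)) (.nd (.lf 29) (.lf 1))) (.nd (.nd (.lf 75) (.lf 1)) (.nd (.lf 91) (.lf 1)))))) (.nd (.nd (.nd (.nd (.nd (.lf 62) (.lf 45)) (.nd (.lf 79) (.lf 1))) (.nd (.nd (.lf 117) (.lf 1)) (.nd (.lf 15) (.lf 1)))) (.nd (.nd (.nd (.lf 96) (.lf 78)) (.nd (.lf 26) (.lf 1))) (.nd (.nd (.lf 79) (.lf 1)) (.nd (.lf 88) (.lf 1))))) (.nd (.nd (.nd (.nd (.lf 90) (.lf 61)) (.nd (.lf 52) (.lf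 1))) (.nd (.nd (.lf 107) (.lf 1)) (.nd (.lf 119) (.lf 1)))) (.nd (.nd (.nd (.lf 97) (.lf 1)) (.nd (.lf 47) (.lf 1))) (.nd (.nd (.lf 103) (.lf 1)) (.nd (.lf 106) (.lf 1))))))))))
/-- unit factors -/
def uf3 : Tr := (.nd (.nd (.nd (.nd (.nd (.nd (.nd (.nd (.nd (.lf 1) (.lf 18)) (.nd (.lf 24) (.lf 1))) (.nd (.nd (.lf 11) (.lf 1)) (.nd (.lf 103) (.lf 1)))) (.nd (.nd (.nd (.lf 13) (.lf 26)) (.nd (.lf 107) (.lf 1))) (.nd (.nd (.lf 27) (.lf 1)) (.nd (.lf 39) (.lf 1))))) (.nd (.nd (.nd (.nd (.lf 6) (.lf 83)) (.nd (.lf 101) (.lf 1))) (.nd (.nd (.lf 77) (.lf 1)) (.nd (.lf 79) (.lf 1)))) (.nd (.nd (.nd (.lf 96) (.lf 61)) (.nd (.lf 79) (.lf 1))) (.nd (.nd (.lf 8) (.lf 1)) (.nd (.lf 17) (.lf 1))))))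 (.nd (.nd (.nd (.nd (.nd (.lf 43) (.lf 20)) (.nd (.lf 81) (.lf 1))) (.nd (.nd (.lf 1) (.lf 1)) (.nd (.lf 20) (.lf 1)))) (.nd (.nd (.nd (.lf 1) (.lf 11)) (.nd (.lf 20) (.lf 1))) (.nd (.nd (.lf 83) (.lf 1)) (.nd (.lf 91) (.lf 1))))) (.nd (.nd (.nd (.nd (.lf 55) (.lf 82)) (.nd (.lf 76) (.lf 1))) (.nd (.nd (.lf 1) (.lf 1)) (.nd (.lf 20) (.lf 1)))) (.nd (.nd (.nd (.lf 98) (.lf 1)) (.nd (.lf 75) (.lf 1))) (.nd (.nd (.lf 10) (.lf 1)) (.nd (.lf 119) (.lf 1))))))) (.nd (.nd (.nd (.nd (.nd (.nd (.lf 30) (.lf 20)) (.nd (.lf 86) (.lf 1))) (.nd (.nd (.lf 79) (.lf 1)) (.nd (.lf 111) (.lf 1)))) (.nd (.nd (.nd (.lf 77) (.lf 0)) (.nd (.lf 104) (.lf 1))) (.nd (.nd (.lf 82) (.lf 1)) (.nd (.lf 99) (.lf 1)))))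 (.nd (.nd (.nd (.nd (.lf 33) (.lf 118)) (.nd (.lf 79) (.lf 1))) (.nd (.nd (.lf 81) (.lf 1)) (.nd (.lf 85) (.lf 1)))) (.nd (.nd (.nd (.lf 94) (.lf 1)) (.nd (.lf 77) (.lf 1))) (.nd (.nd (.lf 15) (.lf 1)) (.nd (.lf 0) (.lf 1)))))) (.nd (.nd (.nd (.nd (.nd (.lf 27) (.lf 76)) (.nd (.lf 72) (.lf 1))) (.nd (.nd (.lf 86) (.lf 1)) (.nd (.lf 83) (.lf 1)))) (.nd (.nd (.nd (.lf 99) (.lf 74)) (.nd (.lf 0) (.lf 1))) (.nd (.nd (.lf 118) (.lf 1)) (.nd (.lf 2) (.lf 1))))) (.nd (.nd (.nd (.nd (.lf 79) (.lf 22)) (.nd (.lf 75) (.lf 1))) (.nd (.nd (.lf 100) (.lf 1)) (.nd (.lf 41) (.lf 1)))) (.nd (.nd (.nd (.lf 75) (.lf 1)) (.nd (.lf 77) (.lf 1))) (.nd (.nd (.lf 115) (.lf 1)) (.nd (.lf 4) (.lf 1)))))))) (.nd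 (.nd (.nd (.nd (.nd (.nd (.nd (.lf 20) (.lf 0)) (.nd (.lf 67) (.lf 1))) (.nd (.nd (.lf 82) (.lf 1)) (.nd (.lf 76) (.lf 1)))) (.nd (.nd (.nd (.lf 84) (.lf 1)) (.nd (.lf 81) (.lf 1))) (.nd (.nd (.lf 57) (.lf 1)) (.nd (.lf 119) (.lf 1))))) (.nd (.nd (.nd (.nd (.lf 0) (.lf 20)) (.nd (.lf 31) (.lf 1))) (.nd (.nd (.lf 6) (.lf 1)) (.nd (.lf 105) (.lf 1)))) (.nd (.nd (.nd (.lf 26) (.lf 99)) (.nd (.lf 72) (.lf 1))) (.nd (.nd (.lf 80) (.lf 1)) (.nd (.lf 118) (.lf 1)))))) (.nd (.nd (.nd (.nd (.nd (.lf 20) (.lf 20)) (.nd (.lf 3) (.lf 1))) (.nd (.nd (.lf 26) (.lf 1)) (.nd (.lf 110) (.lf 1)))) (.nd (.nd (.nd (.lf 22) (.lf 6)) (.nd (.lf 112) (.lf 1))) (.nd (.nd (.lf 17) (.lf 1)) (.nd (.lf 89) (.lf 1)))))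 (.nd (.nd (.nd (.nd (.lf 1) (.lf 86)) (.nd (.lf 84) (.lf 1))) (.nd (.nd (.lf 75) (.lf 1)) (.nd (.lf 109) (.lf 1)))) (.nd (.nd (.nd (.lf 0) (.lf 1)) (.nd (.lf 118) (.lf 1))) (.nd (.nd (.lf 99) (.lf 1)) (.nd (.lf 119) (.lf 1))))))) (.nd (.nd (.nd (.nd (.nd (.nd (.lf 32) (.lf 20)) (.nd (.lf 77) (.lf 1))) (.nd (.nd (.lf 83) (.lf 1)) (.nd (.lf 80) (.lf 1)))) (.nd (.nd (.nd (.lf 76) (.lf 13)) (.nd (.lf 78) (.lf 1))) (.nd (.nd (.lf 75) (.lf 1)) (.nd (.lf 87) (.lf 1))))) (.nd (.nd (.nd (.nd (.lf 35) (.lf 84)) (.nd (.lf 2) (.lf 1))) (.nd (.nd (.lf 29) (.lf 1)) (.nd (.lf 114) (.lf 1)))) (.nd (.nd (.nd (.lf 29) (.lf 1)) (.nd (.lf 57) (.lf 1))) (.nd (.nd (.lf 85) (.lf 1)) (.nd (.lf 119) (.lf 1))))))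 (.nd (.nd (.nd (.nd (.nd (.lf 24) (.lf 81)) (.nd (.lf 86) (.lf 1))) (.nd (.nd (.lf 21) (.lf 1)) (.nd (.lf 44) (.lf 1)))) (.nd (.nd (.nd (.lf 22) (.lf 60)) (.nd (.lf 67) (.lf 1))) (.nd (.nd (.lf 78) (.lf 1)) (.nd (.lf 3) (.lf 1))))) (.nd (.nd (.nd (.nd (.lf 25) (.lf 29)) (.nd (.lf 42) (.lf 1))) (.nd (.nd (.lf 84) (.lf 1)) (.nd (.lf 34) (.lf 1)))) (.nd (.nd (.nd (.lf 23) (.lf 1)) (.nd (.lf 40) (.lf 1))) (.nd (.nd (.lf 82) (.lf 1)) (.nd (.lf 19) (.lf 1))))))))) (.nd (.nd (.nd (.nd (.nd (.nd (.nd (.nd (.lf 119) (.lf 20)) (.nd (.lf 75) (.lf 1))) (.nd (.nd (.lf 6) (.lf 1)) (.nd (.lf 86) (.lf 1)))) (.nd (.nd (.nd (.lf 11) (.lf 119)) (.nd (.lf 82) (.lf 1))) (.nd (.nd (.lf 79) (.lf 1)) (.nd (.lf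 20) (.lf 1))))) (.nd (.nd (.nd (.nd (.lf 13) (.lf 1)) (.nd (.lf 82) (.lf 1))) (.nd (.nd (.lf 64) (.lf 1)) (.nd (.lf 76) (.lf 1)))) (.nd (.nd (.nd (.lf 85) (.lf 1)) (.nd (.lf 84) (.lf 1))) (.nd (.nd (.lf 82) (.lf 1)) (.nd (.lf 119) (.lf 1)))))) (.nd (.nd (.nd (.nd (.nd (.lf 36) (.lf 74)) (.nd (.lf 10) (.lf 1))) (.nd (.nd (.lf 13) (.lf 1)) (.nd (.lf 84) (.lf 1)))) (.nd (.nd (.nd (.lf 6) (.lf 62)) (.nd (.lf 86) (.lf 1))) (.nd (.nd (.lf 8) (.lf 1)) (.nd (.lf 48) (.lf 1))))) (.nd (.nd (.nd (.nd (.lf 66) (.lf 85)) (.nd (.lf 24) (.lf 1))) (.nd (.nd (.lf 43) (.lf 1)) (.nd (.lf 78) (.lf 1)))) (.nd (.nd (.nd (.lf 1) (.lf 116)) (.nd (.lf 20) (.lf 1))) (.nd (.nd (.lf 0) (.lf 1)) (.nd (.lf 101) (.lf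 1))))))) (.nd (.nd (.nd (.nd (.nd (.nd (.lf 28) (.lf 61)) (.nd (.lf 72) (.lf 1))) (.nd (.nd (.lf 77) (.lf 1)) (.nd (.lf 15) (.lf 1)))) (.nd (.nd (.nd (.lf 75) (.lf 52)) (.nd (.lf 10) (.lf 1))) (.nd (.nd (.lf 67) (.lf 1)) (.nd (.lf 55) (.lf 1))))) (.nd (.nd (.nd (.nd (.lf 37) (.lf 78)) (.nd (.lf 15) (.lf 1))) (.nd (.nd (.lf 11) (.lf 1)) (.nd (.lf 82) (.lf 1)))) (.nd (.nd (.nd (.lf 78) (.lf 117)) (.nd (.lf 82) (.lf 1))) (.nd (.nd (.lf 86) (.lf 1)) (.nd (.lf 100) (.lf 1)))))) (.nd (.nd (.nd (.nd (.nd (.lf 31) (.lf 79)) (.nd (.lf 85) (.lf 1))) (.nd (.nd (.lf 102) (.lf 1)) (.nd (.lf 58) (.lf 1)))) (.nd (.nd (.nd (.lf 80) (.lf 34)) (.nd (.lf 86) (.lf 1))) (.nd (.nd (.lf 84) (.lf 1)) (.nd (.lf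 26) (.lf 1))))) (.nd (.nd (.nd (.nd (.lf 116) (.lf 77)) (.nd (.lf 59) (.lf 1))) (.nd (.nd (.lf 78) (.lf 1)) (.nd (.lf 8) (.lf 1)))) (.nd (.nd (.nd (.lf 117) (.lf 1)) (.nd (.lf 45) (.lf 1))) (.nd (.nd (.lf 80) (.lf 1)) (.nd (.lf 71) (.lf 1)))))))) (.nd (.nd (.nd (.nd (.nd (.nd (.nd (.lf 20) (.lf 118)) (.nd (.lf 27) (.lf 1))) (.nd (.nd (.lf 38) (.lf 1)) (.nd (.lf 85) (.lf 1)))) (.nd (.nd (.nd (.lf 36) (.lf 20)) (.nd (.lf 80) (.lf 1))) (.nd (.nd (.lf 31) (.lf 1)) (.nd (.lf 1) (.lf 1))))) (.nd (.nd (.nd (.nd (.lf 1) (.lf 119)) (.nd (.lf 57) (.lf 1))) (.nd (.nd (.lf 79) (.lf 1)) (.nd (.lf 8) (.lf 1)))) (.nd (.nd (.nd (.lf 52) (.lf 0)) (.nd (.lf 108) (.lf 1))) (.nd (.nd (.lf 81) (.lf 1)) (.nd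 (.lf 99) (.lf 1)))))) (.nd (.nd (.nd (.nd (.nd (.lf 0) (.lf 75)) (.nd (.lf 77) (.lf 1))) (.nd (.nd (.lf 13) (.lf 1)) (.nd (.lf 84) (.lf 1)))) (.nd (.nd (.nd (.lf 1) (.lf 41)) (.nd (.lf 20) (.lf 1))) (.nd (.nd (.lf 119) (.lf 1)) (.nd (.lf 29) (.lf 1))))) (.nd (.nd (.nd (.nd (.lf 62) (.lf 79)) (.nd (.lf 27) (.lf 1))) (.nd (.nd (.lf 119) (.lf 1)) (.nd (.lf 10) (.lf 1)))) (.nd (.nd (.nd (.lf 52) (.lf 1)) (.nd (.lf 24) (.lf 1))) (.nd (.nd (.lf 119) (.lf 1)) (.nd (.lf 64) (.lf 1))))))) (.nd (.nd (.nd (.nd (.nd (.nd (.lf 38) (.lf 60)) (.nd (.lf 15) (.lf 1))) (.nd (.nd (.lf 45) (.lf 1)) (.nd (.lf 18) (.lf 1)))) (.nd (.nd (.nd (.lf 59) (.lf 47)) (.nd (.lf 4) (.lf 1))) (.nd (.nd (.lf 10) (.lf 1))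 (.nd (.lf 66) (.lf 1))))) (.nd (.nd (.nd (.nd (.lf 48) (.lf 80)) (.nd (.lf 8) (.lf 1))) (.nd (.nd (.lf 58) (.lf 1)) (.nd (.lf 19) (.lf 1)))) (.nd (.nd (.nd (.lf 62) (.lf 102)) (.nd (.lf 106) (.lf 1))) (.nd (.nd (.lf 83) (.lf 1)) (.nd (.lf 115) (.lf 1)))))) (.nd (.nd (.nd (.nd (.nd (.lf 11) (.lf 77)) (.nd (.lf 119) (.lf 1))) (.nd (.nd (.lf 47) (.lf 1)) (.nd (.lf 31) (.lf 1)))) (.nd (.nd (.nd (.lf 47) (.lf 39)) (.nd (.lf 113) (.lf 1))) (.nd (.nd (.lf 76) (.lf 1)) (.nd (.lf 22) (.lf 1))))) (.nd (.nd (.nd (.nd (.lf 53) (.lf 75)) (.nd (.lf 83) (.lf 1))) (.nd (.nd (.lf 86) (.lf 1)) (.nd (.lf 15) (.lf 1)))) (.nd (.nd (.nd (.lf 71) (.lf 1)) (.nd (.lf 81) (.lf 1))) (.nd (.nd (.lf 84) (.lf 1)) (.nd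 (.lf 53) (.lf 1))))))))))

/-- check of a reflection table -/
noncomputable def chkRef (g T : Nat) (U : Tr) (a n : Nat) : Bool :=
  allN (fun j => decide (V3.smul (UT.get (U.get (Nat.add a j))) (RT.get (ap T (Nat.add a j))) =
    refl (RT.get g) (RT.get (Nat.add a j)))) n

end H63.Ico
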