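import Cfsg.Agent.Lib.H63.J2Full

set_option autoImplicit false
set_option maxRecDepth 10000

/-! Automorphisms of the Hall-Janko group permute the class of 315 involutions. -/

namespace H63.J2

open Quaternion Cfsg.Spor H63.PC H63.Ico H63.JT

set_option maxRecDepth 100000 in
theorem link_zP1 : fullT.get 1 = tabE.get 23 := by decide +kernel

theorem zP1_mem : ((zP 1 : P0) : Equiv.Perm (Fin 315)) ∈ E := by
  obtain ⟨σ, hσ, hr⟩ := slpE' 23 (by norm_num)
  have h := rep_zP 1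
  have e : fullT.get ((1 : Fin 315) : ℕ) = tabE.get 23 := link_zP1
  rw [e] at h
  rwa [h.unique hr]

theorem DF_cls : allN (fun x => Bool.rec (motive := fun _ => Bool) true
    (Nat.beq (clsH.get x) 1) (Nat.blt (frm.get x) 5)) 315 = true := by decide +kernel

theorem zP_mem_E {x : Fin 315} (hx : x ∈ DF) : ((zP x : P0) : Equiv.Perm (Fin 315)) ∈ E := by
  have h1 := allN_sound DF_cls x x.2
  have h2 : Nat.blt (frm.get x) 5 = true := by
    have h3 : frm.get x < 5 := hx
    exact Nat.ble_eq_true_of_le h3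
  rw [h2] at h1
  have h3 : clsH.get x = 1 := Nat.eq_of_beq_eq_true h1
  obtain ⟨σ, hσ, h4⟩ := (H2_orb 1 x).mpr (by
    rw [h3]
    exact cls12.1)
  have h5 := zP_conj ⟨σ, ok.h2P hσ⟩ 1
  have h6 : ((⟨σ, ok.h2P hσ⟩ : P0) : Equiv.Perm (Fin 315)) 1 = x := h4
  rw [h6] at h5
  rw [← h5]
  -- normality of E in H2
  have hE : E.subgroupOf H2 = psi.ker := ker_eq_E
  have hn : (⟨_, E_le zP1_mem⟩ : H2) ∈ psi.ker := by
    rw [← hE]
    exact zP1_mem
  have hn2 := (inferInstance : psi.ker.Normal).conj_mem _ hn ⟨σ, hσ⟩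
  rw [← hE] at hn2
  exact hn2

/-- only the centre of `E` centralizes `E` -/
theorem cent_E {g : P0} (h : ∀ e : P0, (e : Equiv.Perm (Fin 315)) ∈ E → g * e = e * g) :
    g = 1 ∨ g = zP 0 := by
  have h0 : g ∈ Subgroup.centralizer ({zP 0} : Set P0) := by
    rw [Subgroup.mem_centralizer_singleton_iff]
    exact h (zP 0) z0_mem
  rw [cent_z0, Subgroup.mem_subgroupOf] at h0
  have h1 : psi ⟨g, h0⟩ = 1 := by
    apply psi_unique
    intro x hx
    have h2 : (g : Equiv.Perm (Fin 315)) x = x := by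
      have h3 := zP_conj g x
      rw [h (zP x) (zP_mem_E hx), mul_inv_cancel_right] at h3
      exact (zP_inj h3).symm
    show frF ((g : Equiv.Perm (Fin 315)) x) = (1 : Equiv.Perm (Fin 5)) (frF x)
    rw [h2]
    rfl
  have h2 : (⟨g, h0⟩ : H2) ∈ E.subgroupOf H2 := by
    rw [ker_eq_E]
    exact h1
  have h3 : (g : Equiv.Perm (Fin 315)) ∈ E := h2
  rcases center_E h3 (fun e he => by
    have := h ⟨e, ok.h2P (E_le he)⟩ he
    exact congrArg Subtype.val this) with h4 | h4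
  · exact Or.inl (Subtype.ext h4)
  · exact Or.inr (Subtype.ext h4)

theorem fact_two {G : Type*} [Group G] [Finite G] (h1 : 2 ^ 7 ∣ Nat.card G) (h2 : Nat.card G ∣ 604800) :
    (Nat.card G).factorization 2 = 7 := by
  apply le_antisymm
  · have h3 : 2 ^ (Nat.card G).factorization 2 ∣ 604800 := (Nat.ordProj_dvd _ _).trans h2
    by_contra hcon
    have h4 : 2 ^ 8 ∣ 604800 := (pow_dvd_pow 2 (by omega)).trans h3
    exact absurd h4 (by norm_num)
  · exact (Nat.Prime.pow_dvd_iff_le_factorization Nat.prime_two Nat.card_pos.ne').mp h1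

/-- an involution with centralizer of order divisible by 128 is in the centre of a Sylow group -/
theorem exists_sylow {t : P0} (ht : t * t = 1)
    (hc : 2 ^ 7 ∣ Nat.card (Subgroup.centralizer ({t} : Set P0))) :
    ∃ S : Sylow 2 P0, t ∈ S ∧ ∀ s ∈ S, s * t = t * s := by
  haveI : Fact (Nat.Prime 2) := ⟨Nat.prime_two⟩
  set C := Subgroup.centralizer ({t} : Set P0) with hC
  have htC : t ∈ C := by rw [hC, Subgroup.mem_centralizer_singleton_iff]
  have hp : IsPGroup 2 (Subgroup.zpowers (⟨t, htC⟩ : C)) := by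
    intro x
    refine ⟨1, ?_⟩
    obtain ⟨x, k, rfl⟩ := x
    apply Subtype.ext
    show ((⟨t, htC⟩ : C) ^ k) ^ (2 ^ 1) = 1
    have h2 : (⟨t, htC⟩ : C) ^ 2 = 1 := Subtype.ext (by
      show t ^ 2 = 1
      rw [pow_two, ht])
    rw [pow_one, ← zpow_natCast, ← zpow_mul, mul_comm, zpow_mul, zpow_natCast, h2, one_zpow]
  obtain ⟨Q, hQ⟩ := hp.exists_le_sylow
  have hQc : Nat.card Q = 2 ^ 7 := by
    rw [Q.card_eq_multiplicity, fact_two hc (by
      rw [← card_P0]
      exact Subgroup.card_subgroup_dvd_card C)]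
  have hm : Nat.card ((Q : Subgroup C).map C.subtype) = 2 ^ (Nat.card P0).factorization 2 := by
    rw [fact_two (G := P0) (by rw [card_P0]; norm_num) (by rw [card_P0]), ← hQc]
    exact Nat.card_congr ((Q : Subgroup C).equivMapOfInjective C.subtype Subtype.val_injective).symm.toEquiv
  refine ⟨Sylow.ofCard _ hm, ?_, ?_⟩
  · show t ∈ (Q : Subgroup C).map C.subtype
    exact ⟨⟨t, htC⟩, hQ (Subgroup.mem_zpowers _), rfl⟩
  · rintro s hs
    obtain ⟨s, _, rfl⟩ := (hs : s ∈ (Q : Subgroup C).map C.subtype)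
    exact (Subgroup.mem_centralizer_singleton_iff.mp s.2)

open scoped Pointwise in
theorem zclass {t : P0} (ht : t * t = 1) (ht1 : t ≠ 1)
    (hc : 2 ^ 7 ∣ Nat.card (Subgroup.centralizer ({t} : Set P0))) : ∃ j, t = zP j := by
  haveI : Fact (Nat.Prime 2) := ⟨Nat.prime_two⟩
  obtain ⟨S, htS, hS⟩ := exists_sylow ht hc
  have hE : IsPGroup 2 (E.subgroupOf P0) := by
    apply IsPGroup.of_card (n := 5)
    rw [Nat.card_congr (Subgroup.subgroupOfEquivOfLe (E_le.trans ok.h2P)).toEquiv, card_E]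
    norm_num
  obtain ⟨R, hR⟩ := hE.exists_le_sylow
  obtain ⟨g, rfl⟩ := MulAction.exists_smul_eq P0 S R
  have key : ∀ e : P0, (e : Equiv.Perm (Fin 315)) ∈ E → (g * t * g⁻¹) * e = e * (g * t * g⁻¹) := by
    intro e he
    have h1 : e ∈ (g • S : Sylow 2 P0) := hR he
    have h2 : e ∈ MulAut.conj g • (S : Subgroup P0) := h1
    rw [Subgroup.mem_pointwise_smul_iff_inv_smul_mem] at h2
    have h3 : g⁻¹ * e * g ∈ S := by
      have h4 : (MulAut.conj g)⁻¹ • e = g⁻¹ * e * g := by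
        rw [← map_inv, MulAut.smul_def, MulAut.conj_apply, inv_inv]
      rw [← h4]
      exact h2
    have h5 := hS _ h3
    have h6 : e = g * (g⁻¹ * e * g) * g⁻¹ := by group
    rw [h6]
    calc g * t * g⁻¹ * (g * (g⁻¹ * e * g) * g⁻¹) = g * (t * (g⁻¹ * e * g)) * g⁻¹ := by group
      _ = g * ((g⁻¹ * e * g) * t) * g⁻¹ := by rw [h5]
      _ = _ := by group
  rcases cent_E key with h | h
  · exfalso
    apply ht1
    have : t = g⁻¹ * (g * t * g⁻¹) * g := by group
    rw [this, h]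
    group
  · refine ⟨((g⁻¹ : P0) : Equiv.Perm (Fin 315)) 0, ?_⟩
    have : t = g⁻¹ * (g * t * g⁻¹) * g⁻¹⁻¹ := by group
    rw [this, h, zP_conj]

theorem card_cent (j : Fin 315) : 2 ^ 7 ∣ Nat.card (Subgroup.centralizer ({zP j} : Set P0)) := by
  obtain ⟨σ, hσ, h1⟩ := trans_P0 0 j
  have h2 := zP_conj ⟨σ, hσ⟩ 0
  have h3 : ((⟨σ, hσ⟩ : P0) : Equiv.Perm (Fin 315)) 0 = j := h1
  rw [h3] at h2
  have e := centCongr (MulAut.conj (⟨σ, hσ⟩ : P0)) (zP 0)
  have h4 : MulAut.conj (⟨σ, hσ⟩ : P0) (zP 0) = zP j := h2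
  rw [h4] at e
  rw [← Nat.card_congr e.toEquiv, cent_z0,
    Nat.card_congr (Subgroup.subgroupOfEquivOfLe ok.h2P).toEquiv, card_H2]
  norm_num

theorem zP_sq (j : Fin 315) : zP j * zP j = 1 := by
  apply Subtype.ext
  show act (rI j) * act (rI j) = 1
  rw [← map_mul, ← map_one act]
  congr 1
  exact Subtype.ext (rf_mul_self j)

theorem zP_ne (j : Fin 315) : zP j ≠ 1 := by
  intro h
  obtain ⟨σ, hσ, h1⟩ := trans_P0 j 0
  have h2 := zP_conj ⟨σ, hσ⟩ j
  have h3 : ((⟨σ, hσ⟩ : P0) : Equiv.Perm (Fin 315)) j = 0 := h1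
  rw [h3, h, mul_one, mul_inv_cancel] at h2
  exact z0_ne (congrArg Subtype.val h2).symm

/-- the automorphism `α` induces the permutation `τ` of the class -/
def Ind (α : MulAut P0) (τ : Equiv.Perm (Fin 315)) : Prop := ∀ j, α (zP j) = zP (τ j)

theorem exists_ind (α : MulAut P0) : ∃ τ, Ind α τ := by
  have h : ∀ j, ∃ k, α (zP j) = zP k := by
    intro j
    apply zclass
    · rw [← map_mul, zP_sq, map_one]
    · intro h1
      apply zP_ne j
      apply α.injective
      rw [h1, map_one]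
    · rw [← Nat.card_congr (centCongr α (zP j)).toEquiv]
      exact card_cent j
  choose f hf using h
  have hinj : Function.Injective f := by
    intro i j hij
    apply zP_inj
    apply α.injective
    rw [hf, hf, hij]
  exact ⟨Equiv.ofBijective f (Finite.injective_iff_bijective.mp hinj), hf⟩

theorem Ind.apply {α : MulAut P0} {τ : Equiv.Perm (Fin 315)} (h : Ind α τ) (g : P0) (x : Fin 315) :
    (α g : Equiv.Perm (Fin 315)) (τ x) = τ ((g : Equiv.Perm (Fin 315)) x) := by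
  apply zP_inj
  rw [← zP_conj, ← h, ← h, ← zP_conj, map_mul, map_mul, map_inv]

theorem Ind.zap {α : MulAut P0} {τ : Equiv.Perm (Fin 315)} (h : Ind α τ) (j x : Fin 315) :
    τ (((zP j : P0) : Equiv.Perm (Fin 315)) x) = ((zP (τ j) : P0) : Equiv.Perm (Fin 315)) (τ x) := by
  rw [← h.apply, h]

theorem Ind.conj {α : MulAut P0} {τ : Equiv.Perm (Fin 315)} (h : Ind α τ) (g : P0) :
    Ind (MulAut.conj g * α) ((g : Equiv.Perm (Fin 315)) * τ) := by
  intro j
  rw [MulAut.mul_apply, h, MulAut.conj_apply, zP_conj]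
  rfl

end H63.J2
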