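import Cfsg.Agent.Lib.H63.J2Aut
import Cfsg.Agent.Lib.H63.J2U
import Cfsg.Prelude.Def_KGroupFacts

set_option autoImplicit false
set_option maxRecDepth 10000

/-! The outer automorphism group of the Hall-Janko group. -/

namespace H63.J2

open Quaternion Cfsg.Spor H63.PC H63.Ico H63.JT

/-- generating class elements -/
noncomputable def gA : Tr := .nd (.nd (.lf 0) (.lf 3)) (.nd (.lf 91) (.lf 6))

set_option maxRecDepth 100000 in
theorem orbA : orbChk 315 4 (fun s => fullT.get (gA.get s)) clsA.get repA.get parA.get pgA.get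
    depA.get = true := by decide +kernel

set_option maxRecDepth 100000 in
theorem clsA0 : allN (fun x => Nat.beq (clsA.get x) 0) 315 = true := by decide +kernel

/-- four elements of the class -/
noncomputable def S4 : Set P0 := {zP 0, zP 91, zP 3, zP 6}

theorem zP_S4 : ∀ s < 4, ∃ h ∈ S4, Rep 315 (fullT.get (gA.get s)) (h : Equiv.Perm (Fin 315)) := by
  intro s hs
  interval_cases s
  · exact ⟨zP 0, by simp [S4], rep_zP 0⟩
  · exact ⟨zP 91, by simp [S4], rep_zP 91⟩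
  · exact ⟨zP 3, by simp [S4], rep_zP 3⟩
  · exact ⟨zP 6, by simp [S4], rep_zP 6⟩

theorem gen_S4 : Subgroup.closure S4 = ⊤ := by
  set H := (Subgroup.closure S4).map P0.subtype with hH
  have hHc : H = Subgroup.closure (P0.subtype '' S4) := MonoidHom.map_closure _ _
  have horb := orb_iff (H := H) (S := P0.subtype '' S4) orbA hHc (by
    rintro _ ⟨h, hh, rfl⟩
    simp only [S4, Set.mem_insert_iff, Set.mem_singleton_iff] at hh
    rcases hh with rfl | rfl | rfl | rfl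
    · exact ⟨0, by norm_num, rep_zP 0⟩
    · exact ⟨1, by norm_num, rep_zP 91⟩
    · exact ⟨2, by norm_num, rep_zP 3⟩
    · exact ⟨3, by norm_num, rep_zP 6⟩) (by
    intro s hs
    obtain ⟨h, hh, hr⟩ := zP_S4 s hs
    exact ⟨h, ⟨h, Subgroup.subset_closure hh, rfl⟩, hr⟩)
  have hz : ∀ j, zP j ∈ Subgroup.closure S4 := by
    intro j
    obtain ⟨_, ⟨σ, hσ, rfl⟩, h1⟩ := (horb 0 j).mpr (by
      rw [Nat.eq_of_beq_eq_true (allN_sound clsA0 (0 : Fin 315) (0 : Fin 315).2),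
        Nat.eq_of_beq_eq_true (allN_sound clsA0 j j.2)])
    have h2 := zP_conj σ 0
    have h3 : (σ : Equiv.Perm (Fin 315)) 0 = j := h1
    rw [h3] at h2
    rw [← h2]
    exact mul_mem (mul_mem hσ (Subgroup.subset_closure (by simp [S4]))) (inv_mem hσ)
  rw [eq_top_iff]
  rintro ⟨g, hg⟩ _
  have key : ∀ g ∈ Subgroup.closure SS1, g ∈ H := by
    intro g hg
    have : Subgroup.closure SS1 ≤ H := by
      rw [Subgroup.closure_le]
      rintro _ ⟨f, hf, rfl⟩
      simp only [gen4, Set.mem_insert_iff, Set.mem_singleton_iff] at hf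
      rcases hf with rfl | rfl | rfl | rfl
      · exact ⟨zP 105, hz 105, rfl⟩
      · exact ⟨zP 207, hz 207, rfl⟩
      · exact ⟨zP 257, hz 257, rfl⟩
      · exact ⟨zP 292, hz 292, rfl⟩
    exact this hg
  obtain ⟨σ, hσ, h1⟩ := key g hg
  have : σ = ⟨g, hg⟩ := Subtype.ext h1
  rwa [← this]

theorem ind_unique {α β : MulAut P0} {τ ρ : Equiv.Perm (Fin 315)} (hα : Ind α τ) (hβ : Ind β ρ)
    (h0 : τ 0 = ρ 0) (h1 : τ 91 = ρ 91) (h2 : τ 3 = ρ 3) (h3 : τ 6 = ρ 6) : α = β := by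
  have h : α.toMonoidHom = β.toMonoidHom := by
    apply MonoidHom.eq_of_eqOn_dense gen_S4
    intro x hx
    simp only [S4, Set.mem_insert_iff, Set.mem_singleton_iff] at hx
    rcases hx with rfl | rfl | rfl | rfl
    · show α (zP 0) = β (zP 0)
      rw [hα, hβ, h0]
    · show α (zP 91) = β (zP 91)
      rw [hα, hβ, h1]
    · show α (zP 3) = β (zP 3)
      rw [hα, hβ, h2]
    · show α (zP 6) = β (zP 6)
      rw [hα, hβ, h3]
  ext1 x
  exact DFunLike.congr_fun h x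

/-! ### the outer automorphism -/

set_option maxRecDepth 100000 in
theorem th_invol : allN (fun i => band (Nat.blt (ap thT i) 315)
    (Nat.beq (ap thT (ap thT i)) i)) 315 = true := by decide +kernel

/-- the outer automorphism as a permutation -/
noncomputable def th : Equiv.Perm (Fin 315) := (exists_perm_invol th_invol).choose

theorem rep_th : Rep 315 thT th := (exists_perm_invol th_invol).choose_spec

set_option maxRecDepth 100000 in
theorem th_sq_chk : chkMul 315 (tab1.get 0) thT thT = true := by decide +kernel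

theorem th_sq : th * th = 1 := (rep_th.mul rep_th th_sq_chk).unique id1

set_option maxRecDepth 100000 in
theorem th_conj_chk : allN (fun s => allN (fun i => Nat.beq (ap thT (ap (fullT.get (gA.get s)) i))
    (ap (fullT.get (ap thT (gA.get s))) (ap thT i))) 315) 4 = true := by decide +kernel

set_option maxRecDepth 100000 in
theorem th_vals : ap thT 0 = 0 ∧ ap thT 91 = 91 ∧ ap thT 3 = 3 ∧ ap thT 6 = 7 := by decide +kernel

theorem th_0 : th 0 = 0 := Fin.ext ((rep_th 0).symm.trans th_vals.1)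
theorem th_91 : th 91 = 91 := Fin.ext ((rep_th 91).symm.trans th_vals.2.1)
theorem th_3 : th 3 = 3 := Fin.ext ((rep_th 3).symm.trans th_vals.2.2.1)
theorem th_6 : th 6 = 7 := Fin.ext ((rep_th 6).symm.trans th_vals.2.2.2)

theorem th_conj_aux (s : ℕ) (hs : s < 4) (j : Fin 315) (hj : gA.get s = j) (x : Fin 315) :
    th (((zP j : P0) : Equiv.Perm (Fin 315)) x) = ((zP (th j) : P0) : Equiv.Perm (Fin 315)) (th x) := by
  have h1 := Nat.eq_of_beq_eq_true (allN_sound (allN_sound th_conj_chk s hs) x x.2)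
  rw [hj, rep_zP j x, rep_th, rep_th j, rep_th x, rep_zP (th j) (th x)] at h1
  exact Fin.ext h1

theorem th_inv : th⁻¹ = th := by rw [inv_eq_iff_mul_eq_one, th_sq]

theorem th_conj4 {g : P0} (hg : g ∈ S4) : ∃ j, g = zP j ∧
    th * (g : Equiv.Perm (Fin 315)) * th⁻¹ = ((zP (th j) : P0) : Equiv.Perm (Fin 315)) := by
  have key : ∀ s < 4, ∀ j : Fin 315, gA.get s = j →
      th * ((zP j : P0) : Equiv.Perm (Fin 315)) * th⁻¹ = ((zP (th j) : P0) : Equiv.Perm (Fin 315)) := by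
    intro s hs j hj
    ext1 x
    have h := th_conj_aux s hs j hj (th⁻¹ x)
    have e : th (th⁻¹ x) = x := th.apply_symm_apply x
    rw [e] at h
    exact h
  simp only [S4, Set.mem_insert_iff, Set.mem_singleton_iff] at hg
  rcases hg with rfl | rfl | rfl | rfl
  · exact ⟨0, rfl, key 0 (by norm_num) 0 rfl⟩
  · exact ⟨91, rfl, key 1 (by norm_num) 91 rfl⟩
  · exact ⟨3, rfl, key 2 (by norm_num) 3 rfl⟩
  · exact ⟨6, rfl, key 3 (by norm_num) 6 rfl⟩

theorem th_norm : P0.map (MulAut.conj th).toMonoidHom = P0 := by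
  apply Subgroup.eq_of_le_of_card_ge
  · rintro _ ⟨g, hg, rfl⟩
    have h : ∀ x ∈ Subgroup.closure S4, th * (x : Equiv.Perm (Fin 315)) * th⁻¹ ∈ P0 := by
      intro x hx
      induction hx using Subgroup.closure_induction with
      | mem x hx =>
        obtain ⟨j, rfl, h⟩ := th_conj4 hx
        rw [h]
        exact (zP (th j)).2
      | one => simp
      | mul x y _ _ h1 h2 =>
        have : th * ((x * y : P0) : Equiv.Perm (Fin 315)) * th⁻¹ = (th * (x : Equiv.Perm (Fin 315)) * th⁻¹) *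
            (th * (y : Equiv.Perm (Fin 315)) * th⁻¹) := by
          rw [Subgroup.coe_mul]; group
        rw [this]
        exact mul_mem h1 h2
      | inv x _ h1 =>
        have : th * ((x⁻¹ : P0) : Equiv.Perm (Fin 315)) * th⁻¹ = (th * (x : Equiv.Perm (Fin 315)) * th⁻¹)⁻¹ := by
          rw [Subgroup.coe_inv]; group
        rw [this]
        exact inv_mem h1
    exact h ⟨g, hg⟩ (by rw [gen_S4]; exact Subgroup.mem_top _)
  · exact le_of_eq (Nat.card_congr (P0.equivMapOfInjective _ (MulAut.conj th).injective).toEquiv)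

/-- the outer automorphism -/
noncomputable def TH : MulAut P0 :=
  (P0.equivMapOfInjective (MulAut.conj th).toMonoidHom (MulAut.conj th).injective).trans
    (MulEquiv.subgroupCongr th_norm)

theorem TH_coe (g : P0) : ((TH g : P0) : Equiv.Perm (Fin 315)) = th * (g : Equiv.Perm (Fin 315)) * th⁻¹ := rfl

theorem TH_mul (g : P0) (x : Fin 315) : (TH g : Equiv.Perm (Fin 315)) (th x) = th ((g : Equiv.Perm (Fin 315)) x) := by
  rw [TH_coe]
  show th ((g : Equiv.Perm (Fin 315)) (th⁻¹ (th x))) = _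
  rw [show th⁻¹ (th x) = x from th.symm_apply_apply x]

theorem TH_ind : Ind TH th := by
  have h0 : TH (zP 0) = zP (th 0) := by
    apply Subtype.ext
    rw [TH_coe]
    obtain ⟨j, hj, h⟩ := th_conj4 (g := zP 0) (by simp [S4])
    rw [h, zP_inj hj]
  intro j
  obtain ⟨σ, hσ, h1⟩ := trans_P0 0 j
  have h2 := zP_conj ⟨σ, hσ⟩ 0
  have h3 : ((⟨σ, hσ⟩ : P0) : Equiv.Perm (Fin 315)) 0 = j := h1
  rw [← h3, ← zP_conj, map_mul, map_mul, map_inv, h0, zP_conj, TH_mul]

theorem TH_not_inn : TH ∉ Cfsg.Inn P0 := by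
  rintro ⟨g, hg⟩
  have h1 : Ind (MulAut.conj g) (g : Equiv.Perm (Fin 315)) := fun j => by
    rw [MulAut.conj_apply, zP_conj]
  have h2 : ∀ j, (g : Equiv.Perm (Fin 315)) j = th j := by
    intro j
    apply zP_inj
    rw [← h1, ← TH_ind, hg]
  have h3 : (g : Equiv.Perm (Fin 315)) = 1 := by
    apply ok.base g.2
    · exact (h2 0).trans th_0
    · exact (h2 91).trans th_91
    · exact (h2 3).trans th_3
  have h4 := h2 6
  rw [h3, th_6] at h4
  exact absurd (congrArg Fin.val h4) (by decide)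

theorem TH_sq : TH * TH = 1 := by
  ext1 g
  apply Subtype.ext
  rw [MulAut.mul_apply, TH_coe, TH_coe, th_inv]
  calc th * (th * (g : Equiv.Perm (Fin 315)) * th) * th = (th * th) * (g : Equiv.Perm (Fin 315)) * (th * th) := by group
    _ = g := by rw [th_sq, one_mul, mul_one]

/-! ### upper bound -/

theorem Ind.mem_H2 {α : MulAut P0} {τ : Equiv.Perm (Fin 315)} (h : Ind α τ) (h0 : τ 0 = 0) {g : P0}
    (hg : (g : Equiv.Perm (Fin 315)) ∈ H2) : ((α g : P0) : Equiv.Perm (Fin 315)) ∈ H2 := by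
  rw [mem_H2_iff (α g).2]
  have h1 := h.apply g 0
  have h2 : (g : Equiv.Perm (Fin 315)) 0 = 0 := ok.fix1 _ hg
  rw [h0, h2, h0] at h1
  exact h1

set_option maxRecDepth 100000 in
theorem cls91 : clsH.get ((91 : Fin 315) : ℕ) = 3 := by
  show clsH.get 91 = 3
  decide +kernel

theorem Ind.cls {α : MulAut P0} {τ : Equiv.Perm (Fin 315)} (h : Ind α τ) (h0 : τ 0 = 0) :
    clsH.get (τ 91) = 3 := by
  have hc : clsH.get (τ 91) < 6 := Nat.le_of_ble_eq_true (allN_sound clsH_lt (τ 91) (τ 91).2)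
  have h1 : τ '' {x : Fin 315 | clsH.get x = ((3 : Fin 6) : ℕ)} ⊆
      {x : Fin 315 | clsH.get x = ((⟨clsH.get (τ 91), hc⟩ : Fin 6) : ℕ)} := by
    rintro _ ⟨x, hx, rfl⟩
    obtain ⟨σ, hσ, h2⟩ := (H2_orb 91 x).mpr (by
      rw [cls91]
      exact (Eq.symm hx : _))
    have h3 := h.apply ⟨σ, ok.h2P hσ⟩ 91
    have h4 : ((⟨σ, ok.h2P hσ⟩ : P0) : Equiv.Perm (Fin 315)) 91 = x := h2
    rw [h4] at h3
    show clsH.get (τ x) = clsH.get (τ 91)
    exact ((H2_orb (τ 91) (τ x)).mp ⟨_, h.mem_H2 h0 (g := ⟨σ, ok.h2P hσ⟩) hσ, h3⟩).symm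
  have h2 := Set.ncard_le_ncard h1 (Set.toFinite _)
  rw [Set.ncard_image_of_injective _ τ.injective, ncard_cls, ncard_cls] at h2
  have h3 : ∀ c : Fin 6, szH 3 ≤ szH c → c = 3 := by decide
  exact congrArg Fin.val (h3 _ h2)

/-- first relation, for the table `Y` -/
noncomputable def rl1 (A B Y : ℕ) : ℕ :=
  ap B (ap Y (ap A (ap B (ap Y (ap B (ap Y (ap A (ap Y 0))))))))

/-- second relation, for the table `Y` -/
noncomputable def rl2 (A B C Y : ℕ) : ℕ :=
  ap C (ap Y (ap A (ap B (ap Y (ap B (ap Y 91))))))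

set_option maxRecDepth 100000 in
theorem rl1_3 : rl1 (fullT.get 0) (fullT.get 91) (fullT.get 3) = 3 := by decide +kernel

set_option maxRecDepth 100000 in
theorem rl2_6 : rl2 (fullT.get 0) (fullT.get 91) (fullT.get 3) (fullT.get 6) = 6 := by decide +kernel

set_option maxRecDepth 100000 in
theorem rl1_chk : allN (fun y => Bool.rec (motive := fun _ => Bool) true
    (band (Nat.blt (iv3.get y) 12) (band (Nat.blt (ix3.get (iv3.get y)) 12)
      (Nat.beq (ap (tab3.get (ix3.get (iv3.get y))) 3) y)))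
    (Nat.beq (rl1 (fullT.get 0) (fullT.get 91) (fullT.get y)) y)) 315 = true := by decide +kernel

set_option maxRecDepth 100000 in
theorem rl2_chk : allN (fun y => Bool.rec (motive := fun _ => Bool) true
    (Bool.rec (motive := fun _ => Bool) (Nat.beq y 7) true (Nat.beq y 6))
    (Nat.beq (rl2 (fullT.get 0) (fullT.get 91) (fullT.get 3) (fullT.get y)) y)) 315 = true := by
  decide +kernel

/-- first relation for permutations -/
noncomputable def rp1 (a b y x : Fin 315) : Fin 315 :=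
  (zP b).1 ((zP y).1 ((zP a).1 ((zP b).1 ((zP y).1 ((zP b).1 ((zP y).1 ((zP a).1 ((zP y).1 x))))))))

/-- second relation for permutations -/
noncomputable def rp2 (a b c y x : Fin 315) : Fin 315 :=
  (zP c).1 ((zP y).1 ((zP a).1 ((zP b).1 ((zP y).1 ((zP b).1 ((zP y).1 x))))))

theorem rp1_val (y : Fin 315) : rl1 (fullT.get 0) (fullT.get 91) (fullT.get y) = rp1 0 91 y 0 := by
  have h0 := rep_zP 0
  have h91 := rep_zP 91
  have hy := rep_zP y
  have e0 : ((0 : Fin 315) : ℕ) = 0 := rfl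
  have e91 : ((91 : Fin 315) : ℕ) = 91 := rfl
  rw [e0] at h0
  rw [e91] at h91
  have hy0 := hy 0
  rw [e0] at hy0
  rw [rl1, hy0, h0, hy, h91, hy, h91, h0, hy, h91]
  rfl

theorem rp2_val (y : Fin 315) : rl2 (fullT.get 0) (fullT.get 91) (fullT.get 3) (fullT.get y) =
    rp2 0 91 3 y 91 := by
  have h0 := rep_zP 0
  have h91 := rep_zP 91
  have h3 := rep_zP 3
  have hy := rep_zP y
  have e0 : ((0 : Fin 315) : ℕ) = 0 := rfl
  have e91 : ((91 : Fin 315) : ℕ) = 91 := rfl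
  have e3 : ((3 : Fin 315) : ℕ) = 3 := rfl
  rw [e0] at h0
  rw [e91] at h91
  rw [e3] at h3
  have hy0 := hy 91
  rw [e91] at hy0
  rw [rl2, hy0, h91, hy, h91, h0, hy, h3]
  rfl

theorem Ind.rp1 {α : MulAut P0} {τ : Equiv.Perm (Fin 315)} (h : Ind α τ) (a b y x : Fin 315) :
    τ (rp1 a b y x) = H63.J2.rp1 (τ a) (τ b) (τ y) (τ x) := by
  simp only [H63.J2.rp1, h.zap]

theorem Ind.rp2 {α : MulAut P0} {τ : Equiv.Perm (Fin 315)} (h : Ind α τ) (a b c y x : Fin 315) :
    τ (rp2 a b c y x) = H63.J2.rp2 (τ a) (τ b) (τ c) (τ y) (τ x) := by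
  simp only [H63.J2.rp2, h.zap]

theorem rel1 : rp1 0 91 3 0 = 3 := by
  apply Fin.ext
  rw [← rp1_val]
  exact rl1_3

theorem rel2 : rp2 0 91 3 6 91 = 6 := by
  apply Fin.ext
  rw [← rp2_val]
  exact rl2_6

theorem rel1_only (y : Fin 315) (h : rp1 0 91 y 0 = y) : ∃ κ ∈ H3, κ 3 = y := by
  have h1 := allN_sound rl1_chk y y.2
  have h2 : Nat.beq (rl1 (fullT.get 0) (fullT.get 91) (fullT.get y)) y = true := by
    rw [rp1_val, h]
    exact Nat.beq_refl _
  rw [h2] at h1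
  have h3 : band (Nat.blt (iv3.get y) 12) (band (Nat.blt (ix3.get (iv3.get y)) 12)
      (Nat.beq (ap (tab3.get (ix3.get (iv3.get y))) 3) y)) = true := h1
  rw [band_iff, band_iff] at h3
  obtain ⟨κ, hκ, hr⟩ := slp3' _ (Nat.le_of_ble_eq_true h3.2.1)
  refine ⟨κ, hκ, Fin.ext ?_⟩
  rw [← hr 3]
  exact Nat.eq_of_beq_eq_true h3.2.2

theorem rel2_only (y : Fin 315) (h : rp2 0 91 3 y 91 = y) : y = 6 ∨ y = 7 := by
  have h1 := allN_sound rl2_chk y y.2
  have h2 : Nat.beq (rl2 (fullT.get 0) (fullT.get 91) (fullT.get 3) (fullT.get y)) y = true := by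
    rw [rp2_val, h]
    exact Nat.beq_refl _
  rw [h2] at h1
  have h3 : Bool.rec (motive := fun _ => Bool) (Nat.beq y 7) true (Nat.beq y 6) = true := h1
  cases hb : Nat.beq y 6 with
  | true => exact Or.inl (Fin.ext (Nat.eq_of_beq_eq_true hb))
  | false =>
    rw [hb] at h3
    exact Or.inr (Fin.ext (Nat.eq_of_beq_eq_true h3))

theorem upper (α : MulAut P0) : ∃ g : P0, MulAut.conj g * α = 1 ∨ MulAut.conj g * α = TH := by
  obtain ⟨τ, hτ⟩ := exists_ind α
  obtain ⟨g1, hg1, h1⟩ := trans_P0 (τ 0) 0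
  have hτ1 := hτ.conj ⟨g1, hg1⟩
  have h10 : (g1 * τ) 0 = 0 := h1
  have h11 := hτ1.cls h10
  obtain ⟨g2, hg2, h2⟩ := (H2_orb ((g1 * τ) 91) 91).mpr (by rw [cls91]; exact h11)
  have hτ2 := hτ1.conj ⟨g2, ok.h2P hg2⟩
  have h20 : (g2 * (g1 * τ)) 0 = 0 := by
    rw [Equiv.Perm.mul_apply, h10]
    exact ok.fix1 _ hg2
  have h21 : (g2 * (g1 * τ)) 91 = 91 := h2
  have h3 := hτ2.rp1 0 91 3 0
  have e2 : ((⟨g2, ok.h2P hg2⟩ : P0) : Equiv.Perm (Fin 315)) * (((⟨g1, hg1⟩ : P0) : Equiv.Perm (Fin 315)) * τ) =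
    g2 * (g1 * τ) := rfl
  rw [e2] at h3 hτ2
  rw [rel1, h20, h21] at h3
  obtain ⟨κ, hκ, h4⟩ := rel1_only _ h3.symm
  have hκP : κ⁻¹ ∈ P0 := inv_mem (ok.h2P (ok.h32 hκ))
  have hτ3 := hτ2.conj ⟨κ⁻¹, hκP⟩
  have e3 : ((⟨κ⁻¹, hκP⟩ : P0) : Equiv.Perm (Fin 315)) * (g2 * (g1 * τ)) =
    κ⁻¹ * (g2 * (g1 * τ)) := rfl
  rw [e3] at hτ3
  have h30 : (κ⁻¹ * (g2 * (g1 * τ))) 0 = 0 := by
    rw [Equiv.Perm.mul_apply, h20]
    exact ok.fix1 _ (inv_mem (ok.h32 hκ))
  have h31 : (κ⁻¹ * (g2 * (g1 * τ))) 91 = 91 := by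
    rw [Equiv.Perm.mul_apply, h21]
    exact ok.fix2 _ (inv_mem hκ)
  have h32 : (κ⁻¹ * (g2 * (g1 * τ))) 3 = 3 := by
    rw [Equiv.Perm.mul_apply, ← h4]
    exact κ.symm_apply_apply 3
  have h5 := hτ3.rp2 0 91 3 6 91
  rw [rel2, h30, h31, h32] at h5
  have h6 := rel2_only _ h5.symm
  refine ⟨⟨κ⁻¹, hκP⟩ * (⟨g2, ok.h2P hg2⟩ * ⟨g1, hg1⟩), ?_⟩
  have e4 : MulAut.conj ((⟨κ⁻¹, hκP⟩ : P0) * (⟨g2, ok.h2P hg2⟩ * ⟨g1, hg1⟩)) * α =
    MulAut.conj (⟨κ⁻¹, hκP⟩ : P0) * (MulAut.conj (⟨g2, ok.h2P hg2⟩ : P0) *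
      (MulAut.conj (⟨g1, hg1⟩ : P0) * α)) := by
    rw [map_mul, map_mul]
    simp only [mul_assoc]
  rw [e4]
  rcases h6 with h6 | h6
  · left
    exact ind_unique hτ3 (ρ := 1) (fun j => rfl) h30 h31 h32 h6
  · right
    exact ind_unique hτ3 TH_ind (h30.trans th_0.symm) (h31.trans th_91.symm) (h32.trans th_3.symm)
      (h6.trans th_6.symm)

theorem out_P0 : Nat.card (Cfsg.Out P0) = 2 := by
  rw [Cfsg.Out, ← Subgroup.index_eq_card, Subgroup.index_eq_two_iff]
  refine ⟨TH, fun α => ?_⟩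
  obtain ⟨g, hg | hg⟩ := upper α
  · have h1 : α = MulAut.conj g⁻¹ := by
      rw [map_inv]
      exact (inv_eq_of_mul_eq_one_right hg).symm
    right
    refine ⟨⟨g⁻¹, h1.symm⟩, fun h2 => TH_not_inn ?_⟩
    have h3 : TH = α⁻¹ * (α * TH) := by group
    rw [h3]
    exact mul_mem (inv_mem ⟨g⁻¹, h1.symm⟩) h2
  · have h1 : α = MulAut.conj g⁻¹ * TH := by
      rw [← hg, map_inv]
      group
    left
    have h2 : α * TH ∈ Cfsg.Inn P0 := by
      rw [h1, mul_assoc, TH_sq, mul_one]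
      exact ⟨g⁻¹, rfl⟩
    refine ⟨h2, fun h3 => TH_not_inn ?_⟩
    have h4 : TH = α⁻¹ * (α * TH) := by group
    rw [h4]
    exact mul_mem (inv_mem h3) h2

universe u w

/-- outer automorphism groups of isomorphic groups -/
theorem card_out_congr {G : Type u} {G' : Type w} [Group G] [Group G'] (e : G ≃* G') :
    Nat.card (Cfsg.Out G) = Nat.card (Cfsg.Out G') := by
  rw [Cfsg.Out, Cfsg.Out, ← Subgroup.index_eq_card, ← Subgroup.index_eq_card]
  have h : Cfsg.Inn G = (Cfsg.Inn G').comap (MulAut.congr e : MulAut G →* MulAut G') := by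
    ext φ
    constructor
    · rintro ⟨g, rfl⟩
      refine ⟨e g, ?_⟩
      ext x
      simp [MulAut.conj_apply, MulAut.congr]
    · rintro ⟨g, hg⟩
      refine ⟨e.symm g, ?_⟩
      ext x
      have h1 := DFunLike.congr_fun hg (e x)
      have h2 : g * e x * g⁻¹ = e (φ x) := by
        rw [← MulAut.conj_apply, h1]
        simp [MulAut.congr]
      rw [MulAut.conj_apply]
      apply e.injective
      rw [map_mul, map_mul, map_inv, e.apply_symm_apply, h2]
  rw [h, Subgroup.index_comap_of_surjective]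
  exact (MulAut.congr e).surjective

theorem out_J2 : Nat.card (Cfsg.Out Cfsg.Spor.J2) = 2 := by
  rw [card_out_congr jiso, out_P0]

end H63.J2
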