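import Cfsg.Agent.Lib.H63.J2Simple
import Cfsg.Agent.Lib.H63.PermList
import Cfsg.Agent.Lib.H63.J2ETab
import Cfsg.Agent.Lib.H56.Heis

set_option autoImplicit false
set_option maxRecDepth 10000

/-! The centralizer of a reflection in the Hall-Janko group. -/

namespace H63.J2

open Quaternion Cfsg.Spor H63.PC H63.JT H63.Ico
open scoped commutatorElement

set_option maxRecDepth 100000 in
theorem slpF : chkSLP 315 tabF.get paF.get pbF.get 2 21 = true := by decide +kernel
set_option maxRecDepth 100000 in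
theorem slpE : chkSLP 315 tabE.get paE.get pbE.get 4 32 = true := by decide +kernel
set_option maxRecDepth 100000 in
theorem linkF : tabF.get 0 = tab2.get 0 ∧ tabF.get 1 = tab2.get 1 ∧ tabF.get 2 = tab2.get 2 := by
  decide +kernel
set_option maxRecDepth 100000 in
theorem linkE : tabE.get 0 = tab2.get 0 ∧ tabE.get 1 = tabF.get 3 ∧ tabE.get 2 = tabF.get 9 ∧
    tabE.get 3 = tabF.get 15 ∧ tabE.get 4 = tabF.get 20 := by decide +kernel
set_option maxRecDepth 100000 in
theorem lcE : listChk 315 4 32 (fun s => tabE.get (Nat.succ s)) tabE.get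
    (fun s x => ddE.get (Nat.add (Nat.mul 4 x) s)) = true := by decide +kernel

theorem slpF' : ∀ k < 21, ∃ σ ∈ H2, Rep 315 (tabF.get k) σ := by
  apply slp_spec slpF
  intro k hk
  interval_cases k
  · rw [linkF.1]; exact ⟨1, one_mem _, id2⟩
  · rw [linkF.2.1]; exact slp2' 1 (by norm_num)
  · rw [linkF.2.2]; exact slp2' 2 (by norm_num)

/-- generators of the normal extraspecial subgroup -/
def SE : Set (Equiv.Perm (Fin 315)) := {σ | ∃ s < 4, Rep 315 (tabE.get (Nat.succ s)) σ}
/-- the normal extraspecial subgroup -/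
def E : Subgroup (Equiv.Perm (Fin 315)) := Subgroup.closure SE

theorem genE (s : ℕ) (hs : s < 4) : ∃ σ ∈ H2, Rep 315 (tabE.get (Nat.succ s)) σ := by
  interval_cases s
  · show ∃ σ ∈ H2, Rep 315 (tabE.get 1) σ
    rw [linkE.2.1]; exact slpF' 3 (by norm_num)
  · show ∃ σ ∈ H2, Rep 315 (tabE.get 2) σ
    rw [linkE.2.2.1]; exact slpF' 9 (by norm_num)
  · show ∃ σ ∈ H2, Rep 315 (tabE.get 3) σ
    rw [linkE.2.2.2.1]; exact slpF' 15 (by norm_num)
  · show ∃ σ ∈ H2, Rep 315 (tabE.get 4) σ
    rw [linkE.2.2.2.2]; exact slpF' 20 (by norm_num)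

theorem SE_le : SE ⊆ H2 := by
  rintro σ ⟨s, hs, hr⟩
  obtain ⟨τ, hτ, hr'⟩ := genE s hs
  rwa [hr.unique hr']

theorem E_le : E ≤ H2 := (Subgroup.closure_le _).mpr SE_le

theorem slpE' : ∀ k < 32, ∃ σ ∈ E, Rep 315 (tabE.get k) σ := by
  apply slp_spec slpE
  intro k hk
  rcases Nat.eq_zero_or_pos k with rfl | hk0
  · rw [linkE.1]; exact ⟨1, one_mem _, id2⟩
  · obtain ⟨s, rfl⟩ := Nat.exists_eq_succ_of_ne_zero hk0.ne'
    obtain ⟨τ, hτ, hr'⟩ := genE s (by omega)
    exact ⟨τ, Subgroup.subset_closure ⟨s, by omega, hr'⟩, hr'⟩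

theorem idE : Rep 315 (tabE.get 0) 1 := by rw [linkE.1]; exact id2

theorem listE : ∀ g ∈ E, ∃ x < 32, Rep 315 (tabE.get x) g :=
  list_closed lcE (fun _ h => h) (by norm_num) idE (fun x hx => by
    obtain ⟨σ, -, h⟩ := slpE' x hx
    exact ⟨σ, h⟩)

set_option maxRecDepth 100000 in
theorem distE : allN (fun x => allN (fun y => Bool.not (band
    (Nat.beq (ap (tabE.get x) 91) (ap (tabE.get y) 91))
    (Nat.beq (ap (tabE.get x) 3) (ap (tabE.get y) 3)))) x) 32 = true := by decide +kernel

theorem card_E : Nat.card E = 32 := by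
  classical
  choose! t ht ht' using slpE'
  have inj : ∀ x < 32, ∀ y < x, t x ≠ t y := by
    intro x hx y hy he
    have h1 := allN_sound (allN_sound distE x hx) y hy
    have h2 := ht' x hx
    rw [he] at h2
    have e1 : ap (tabE.get x) 91 = ap (tabE.get y) 91 :=
      (h2 91).trans ((ht' y (hy.trans hx) 91).symm)
    have e2 : ap (tabE.get x) 3 = ap (tabE.get y) 3 :=
      (h2 3).trans ((ht' y (hy.trans hx) 3).symm)
    rw [e1, e2, Nat.beq_refl, Nat.beq_refl] at h1
    exact absurd h1 (by decide)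
  have e : Function.Bijective (fun z : Fin 32 => (⟨t z, ht z z.2⟩ : E)) := by
    constructor
    · intro z z' he
      have he' : t z = t z' := congrArg Subtype.val he
      rcases lt_trichotomy (z : ℕ) z' with h | h | h
      · exact absurd he'.symm (inj z' z'.2 z h)
      · exact Fin.ext h
      · exact absurd he' (inj z z.2 z' h)
    · rintro ⟨g, hg⟩
      obtain ⟨z, hz, hr⟩ := listE g hg
      exact ⟨⟨z, hz⟩, Subtype.ext ((ht' z hz).unique hr)⟩
  rw [← Nat.card_eq_of_bijective _ e, Nat.card_fin]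

/-! ### the reflection `0` -/

theorem rI_inv (j : Fin 315) : (rI j)⁻¹ = rI j := Subtype.ext (rf_inv j)

theorem zstep {T T' Gt : ℕ} {j k g : Fin 315} (hT : Rep 315 T (act (rI j)))
    (hG : Rep 315 Gt (act (rI g))) (hk : ap Gt j = k)
    (h : allN (fun i => Nat.beq (ap T' i) (ap Gt (ap T (ap Gt i)))) 315 = true) :
    Rep 315 T' (act (rI k)) := by
  have h1 : act (rI g) j = k := Fin.ext ((hG j).symm.trans hk)
  have h2 : act (rI k) = act (rI g) * act (rI j) * act (rI g) := by
    rw [← h1, ← conj_rI, map_mul, map_mul, rI_inv]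
  intro i
  have h3 := Nat.eq_of_beq_eq_true (allN_sound h i i.2)
  rw [h3, hG i, hT, hG, h2]
  rfl

set_option maxRecDepth 100000 in
theorem zp_link : zpath.get 0 = tab1.get 1 ∧ zpath.get 5 = tabE.get 29 := by decide +kernel

/-- path check -/
noncomputable def zpChk (G k : ℕ) : Bool :=
  allN (fun i => Nat.beq (ap (zpath.get (Nat.succ k)) i)
    (ap (tab1.get G) (ap (zpath.get k) (ap (tab1.get G) i)))) 315

set_option maxRecDepth 100000 in
theorem zp0 : zpChk 2 0 = true := by decide +kernel
set_option maxRecDepth 100000 in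
theorem zp1 : zpChk 1 1 = true := by decide +kernel
set_option maxRecDepth 100000 in
theorem zp2 : zpChk 3 2 = true := by decide +kernel
set_option maxRecDepth 100000 in
theorem zp3 : zpChk 4 3 = true := by decide +kernel
set_option maxRecDepth 100000 in
theorem zp4 : zpChk 1 4 = true := by decide +kernel

set_option maxRecDepth 100000 in
theorem zpts : ap (tab1.get 2) 105 = 191 ∧ ap (tab1.get 1) 191 = 138 ∧ ap (tab1.get 3) 138 = 309 ∧
    ap (tab1.get 4) 309 = 92 ∧ ap (tab1.get 1) 92 = 0 := by decide +kernel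

theorem rep_z0 : Rep 315 (tabE.get 29) (act (rI 0)) := by
  obtain ⟨p0, p1, p2, p3, p4⟩ := zpts
  have h0 : Rep 315 (zpath.get 0) (act (rI 105)) := by rw [zp_link.1]; exact rep0
  have h1 : Rep 315 (zpath.get 1) (act (rI 191)) := zstep h0 rep1 p0 zp0
  have h2 : Rep 315 (zpath.get 2) (act (rI 138)) := zstep h1 rep0 p1 zp1
  have h3 : Rep 315 (zpath.get 3) (act (rI 309)) := zstep h2 rep2 p2 zp2
  have h4 : Rep 315 (zpath.get 4) (act (rI 92)) := zstep h3 rep3 p3 zp3
  have h5 : Rep 315 (zpath.get 5) (act (rI 0)) := zstep h4 rep0 p4 zp4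
  rwa [zp_link.2] at h5

/-- the involution attached to the line `0` -/
noncomputable def z0 : Equiv.Perm (Fin 315) := act (rI 0)

theorem z0_mem : z0 ∈ E := by
  obtain ⟨σ, hσ, hr⟩ := slpE' 29 (by norm_num)
  have : z0 = σ := rep_z0.unique hr
  rw [this]; exact hσ

/-! ### extraspecial -/

set_option maxRecDepth 100000 in
theorem zE_comm : allN (fun s => eqP 315 (tabE.get 29) (tabE.get (Nat.succ s)) (tabE.get (Nat.succ s))
    (tabE.get 29)) 4 = true := by decide +kernel

set_option maxRecDepth 100000 in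
theorem sqE : allN (fun x => Bool.rec (motive := fun _ => Bool)
    (eqP 315 (tabE.get x) (tabE.get x) (tabE.get 29) (tabE.get 0)) true
    (eqP 315 (tabE.get x) (tabE.get x) (tabE.get 0) (tabE.get 0))) 32 = true := by decide +kernel

set_option maxRecDepth 100000 in
theorem ncE : allN (fun x => Bool.rec (motive := fun _ => Bool)
    (Bool.rec (motive := fun _ => Bool)
      (Bool.not (allN (fun s => eqP 315 (tabE.get x) (tabE.get (Nat.succ s))
        (tabE.get (Nat.succ s)) (tabE.get x)) 4)) true (Nat.beq x 29)) true (Nat.beq x 0)) 32 = true := by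
  decide +kernel

theorem z0_comm {g : Equiv.Perm (Fin 315)} (hg : g ∈ E) : z0 * g = g * z0 := by
  have h : E ≤ Subgroup.centralizer {z0} := by
    refine (Subgroup.closure_le _).mpr ?_
    rintro σ ⟨s, hs, hr⟩
    rw [SetLike.mem_coe, Subgroup.mem_centralizer_singleton_iff]
    exact ((eqP_iff rep_z0 hr hr rep_z0).mp (allN_sound zE_comm s hs)).symm
  exact (Subgroup.mem_centralizer_singleton_iff.mp (h hg)).symm

theorem sq_mem {g : Equiv.Perm (Fin 315)} (hg : g ∈ E) : g * g = 1 ∨ g * g = z0 := by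
  obtain ⟨x, hx, hr⟩ := listE g hg
  have h := allN_sound sqE x hx
  cases h1 : eqP 315 (tabE.get x) (tabE.get x) (tabE.get 0) (tabE.get 0) with
  | true =>
    left
    have := (eqP_iff hr hr idE idE).mp h1
    rwa [one_mul] at this
  | false =>
    right
    rw [h1] at h
    have := (eqP_iff hr hr rep_z0 idE).mp h
    rwa [mul_one] at this

theorem center_E {g : Equiv.Perm (Fin 315)} (hg : g ∈ E) (hc : ∀ h ∈ E, g * h = h * g) :
    g = 1 ∨ g = z0 := by
  obtain ⟨x, hx, hr⟩ := listE g hg
  have h := allN_sound ncE x hx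
  cases h1 : Nat.beq x 0 with
  | true =>
    left
    rw [Nat.eq_of_beq_eq_true h1] at hr
    exact hr.unique idE
  | false =>
    rw [h1] at h
    cases h2 : Nat.beq x 29 with
    | true =>
      right
      rw [Nat.eq_of_beq_eq_true h2] at hr
      exact hr.unique rep_z0
    | false =>
      exfalso
      rw [h2] at h
      have h3 : allN (fun s => eqP 315 (tabE.get x) (tabE.get (Nat.succ s))
        (tabE.get (Nat.succ s)) (tabE.get x)) 4 = true := by
        apply allN_complete
        intro s hs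
        obtain ⟨τ, hτ, hr'⟩ := genE s hs
        rw [eqP_iff hr hr' hr' hr]
        exact hc τ (Subgroup.subset_closure ⟨s, hs, hr'⟩)
      rw [h3] at h
      exact absurd h (by decide)

theorem z0_ne : z0 ≠ 1 := by
  intro h
  have h1 : act (rI 0) = 1 := h
  rcases ker_act h1 with h2 | h2
  · have h3 : ((rf 0 (mv 0) : icoLeech) : Fin 3 → ℍ[ℝ]) = mv 0 := by
      have : (rI 0 : Equiv.Perm icoLeech) (mv 0) = mv 0 := by rw [h2]; rfl
      exact congrArg Subtype.val this
    have h4 : rf 0 = 1 := h2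
    have h5 : rf 0 * rf 0 = 1 := rf_mul_self 0
    -- the line 0 vector is negated
    rw [rf_apply, qrefl_self (qip_mv 0)] at h3
    have h6 : negP (mv 0) = mv 0 := Subtype.ext ((negP_apply _).trans h3)
    have h7 := qip_mv 0
    have h8 : ((mv 0 : icoLeech) : Fin 3 → ℍ[ℝ]) = 0 := by
      have h9 : (2 : ℝ) • ((mv 0 : icoLeech) : Fin 3 → ℍ[ℝ]) = 0 := by
        rw [two_smul]
        nth_rewrite 1 [← h3]
        exact neg_add_cancel _
      exact (smul_eq_zero.mp h9).resolve_left (by norm_num)
    rw [h8] at h7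
    have h10 : (((4 : ℝ)) : ℍ[ℝ]) = ((0 : ℝ) : ℍ[ℝ]) := by
      rw [coe_four, Quaternion.coe_zero, ← h7]
      simp [qip]
    have h11 := Quaternion.coe_injective h10
    norm_num at h11
  · have h3 : rf 0 = negP := h2
    -- but then all reflections are conjugate to the central element
    have h4 : rf 0 = rf 1 := by
      obtain ⟨σ, hσ, hj⟩ := trans_P0 0 1
      rw [← map_T0] at hσ
      obtain ⟨f, hf, rfl⟩ := hσ
      rw [← hj, ← conj_rf, h3, negP_comm f.2, mul_inv_cancel_right]
    exact absurd (rf_inj h4) (by decide)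

theorem extra_E : Cfsg.IsExtraspecial 2 E := by
  haveI : Fact (Nat.Prime 2) := ⟨Nat.prime_two⟩
  haveI : Finite E := inferInstance
  have hzc : (⟨z0, z0_mem⟩ : E) ∈ Subgroup.center E := by
    rw [Subgroup.mem_center_iff]
    intro g
    exact Subtype.ext (z0_comm g.2).symm
  have hcen : ∀ g : E, g ∈ Subgroup.center E ↔ g = 1 ∨ g = ⟨z0, z0_mem⟩ := by
    intro g
    constructor
    · intro hg
      rw [Subgroup.mem_center_iff] at hg
      rcases center_E g.2 (fun h hh => (congrArg Subtype.val (hg ⟨h, hh⟩)).symm) with h | h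
      · exact Or.inl (Subtype.ext h)
      · exact Or.inr (Subtype.ext h)
    · rintro (rfl | rfl)
      · exact one_mem _
      · exact hzc
  have hcard : Nat.card (Subgroup.center E) = 2 := by
    have h : ((Subgroup.center E : Subgroup E) : Set E) = {1, ⟨z0, z0_mem⟩} := by
      ext f
      rw [SetLike.mem_coe, hcen]; rfl
    have h2 : Nat.card (Subgroup.center E) = (((Subgroup.center E : Subgroup E) : Set E)).ncard := rfl
    rw [h2, h, Set.ncard_pair]
    intro h
    exact z0_ne (congrArg Subtype.val h).symm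
  apply H3.Extraspecial.isExtraspecial_of _ hcard
  · by_contra hcon
    push Not at hcon
    have h1 : Subgroup.center E = ⊤ := by
      rw [eq_top_iff]
      intro g _
      rw [Subgroup.mem_center_iff]
      intro h
      exact commutatorElement_eq_one_iff_mul_comm.mp (hcon h g)
    rw [h1, Subgroup.card_top, card_E] at hcard
    norm_num at hcard
  · rw [commutator_def, Subgroup.commutator_le]
    intro x _ y _
    have hs : ∀ g : E, g * g ∈ Subgroup.center E := by
      intro g
      rw [hcen]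
      rcases sq_mem g.2 with h | h
      · exact Or.inl (Subtype.ext h)
      · exact Or.inr (Subtype.ext h)
    have h1 := hs (x * y)
    have h2 := hs x
    have h3 := hs y
    have h4 : ⁅x, y⁆ = (x * y * (x * y)) * (y⁻¹ * (x * x)⁻¹ * y) * (y * y)⁻¹ := by
      rw [commutatorElement_def]; group
    rw [h4]
    refine mul_mem (mul_mem h1 ?_) (inv_mem h3)
    have h5 := (Subgroup.mem_center_iff.mp (inv_mem h2)) y
    have h6 : y⁻¹ * (x * x)⁻¹ * y = (x * x)⁻¹ := by
      rw [mul_assoc, ← h5, inv_mul_cancel_left]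
    rw [h6]
    exact inv_mem h2

end H63.J2
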