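import Cfsg.Agent.Lib.H63.J2Cent2
import Cfsg.Agent.Lib.H63.J2AutData

set_option autoImplicit false
set_option maxRecDepth 10000

/-! Tables of the 315 involutions of the Hall-Janko group. -/

namespace H63.J2

open Quaternion Cfsg.Spor H63.PC H63.Ico H63.JT

/-- check of one reflection table: `T` is the table of the transversal element -/
noncomputable def fullChk1 (j T F : ℕ) : Bool :=
  band (Nat.beq (ap T 0) j) (allN (fun i => Nat.beq (ap F (ap T i)) (ap T (ap (tabE.get 29) i))) 315)

/-- check of the reflection tables -/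
noncomputable def fullChk : Bool :=
  allN (fun k => fullChk1 k (tab1.get (ix1.get (iv1.get k))) (fullT.get k)) 315

set_option maxRecDepth 100000 in
theorem fullIx : allN (fun j => Nat.blt (ix1.get (iv1.get j)) 323) 315 = true := by decide +kernel

set_option maxRecDepth 100000 in
theorem full_ok : fullChk = true := by decide +kernel

theorem rep_zP (j : Fin 315) : Rep 315 (fullT.get j) ((zP j : P0) : Equiv.Perm (Fin 315)) := by
  have h1 : ix1.get (iv1.get j) < 323 := Nat.le_of_ble_eq_true (allN_sound fullIx j j.2)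
  have h2 := allN_sound full_ok j j.2
  rw [fullChk1, band_iff] at h2
  obtain ⟨σ, hσ, hr⟩ := slp1' _ h1
  have h3 : σ 0 = j := by
    apply Fin.ext
    rw [← hr 0]
    exact Nat.eq_of_beq_eq_true h2.1
  have h4 := zP_conj ⟨σ, hσ⟩ 0
  have h5 : ((⟨σ, hσ⟩ : P0) : Equiv.Perm (Fin 315)) 0 = j := h3
  rw [h5] at h4
  intro x
  have h6 := Nat.eq_of_beq_eq_true (allN_sound h2.2 (σ⁻¹ x : Fin 315) (σ⁻¹ x).2)
  have h7 : σ (σ⁻¹ x) = x := σ.apply_symm_apply x
  rw [hr (σ⁻¹ x), h7, rep_z0 (σ⁻¹ x), hr] at h6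
  rw [h6, ← h4]
  rfl

end H63.J2
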