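import Cfsg.Agent.Lib.H63.PermChain
set_option autoImplicit false
set_option maxRecDepth 100000
/-! Orbits of the stabilizer of the first base point (generated). -/
namespace H63.JT
open H63.PC
/-- orbit data -/
def clsH : Tr := (.nd (.nd (.nd (.nd (.nd (.nd (.nd (.nd (.nd (.lf 0) (.lf 5)) (.nd (.lf 3) (.lf 0))) (.nd (.nd (.lf 2) (.lf 0)) (.nd (.lf 3) (.lf 0)))) (.nd (.nd (.nd (.lf 2) (.lf 5)) (.nd (.lf 3) (.lf 0))) (.nd (.nd (.lf 3) (.lf 0)) (.nd (.lf 4) (.lf 0))))) (.nd (.nd (.nd (.nd (.lf 2) (.lf 3)) (.nd (.lf 3) (.lf 0))) (.nd (.nd (.lf 2) (.lf 0)) (.nd (.lf 3) (.lf 0)))) (.nd (.nd (.nd (.lf 2) (.lf 3)) (.nd (.lf 3) (.lf 0))) (.nd (.nd (.lf 3) (.lf 0)) (.nd (.lf 4) (.lf 0)))))) (.nd (.nd (.nd (.nd (.nd (.lf 2) (.lf 5)) (.nd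 (.lf 3) (.lf 0))) (.nd (.nd (.lf 2) (.lf 0)) (.nd (.lf 3) (.lf 0)))) (.nd (.nd (.nd (.lf 2) (.lf 5)) (.nd (.lf 3) (.lf 0))) (.nd (.nd (.lf 3) (.lf 0)) (.nd (.lf 4) (.lf 0))))) (.nd (.nd (.nd (.nd (.lf 1) (.lf 3)) (.nd (.lf 3) (.lf 0))) (.nd (.nd (.lf 2) (.lf 0)) (.nd (.lf 3) (.lf 0)))) (.nd (.nd (.nd (.lf 2) (.lf 3)) (.nd (.lf 3) (.lf 0))) (.nd (.nd (.lf 3) (.lf 0)) (.nd (.lf 4) (.lf 0))))))) (.nd (.nd (.nd (.nd (.nd (.nd (.lf 2) (.lf 5)) (.nd (.lf 3) (.lf 0))) (.nd (.nd (.lf 2) (.lf 0)) (.nd (.lf 3) (.lf 0)))) (.nd (.nd (.nd (.lf 2) (.lf 5)) (.nd (.lf 3) (.lf 0))) (.nd (.nd (.lf 3) (.lf 0)) (.nd (.lf 4) (.lf 0))))) (.nd (.nd (.nd (.nd (.lf 1) (.lf 3)) (.nd (.lf 3) (.lf 0))) (.nd (.nd (.lf 2) (.lf 0)) (.nd (.lf 3) (.lf 0)))) (.nd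 (.nd (.nd (.lf 2) (.lf 3)) (.nd (.lf 3) (.lf 0))) (.nd (.nd (.lf 3) (.lf 0)) (.nd (.lf 4) (.lf 0)))))) (.nd (.nd (.nd (.nd (.nd (.lf 2) (.lf 3)) (.nd (.lf 3) (.lf 0))) (.nd (.nd (.lf 2) (.lf 0)) (.nd (.lf 3) (.lf 0)))) (.nd (.nd (.nd (.lf 2) (.lf 3)) (.nd (.lf 3) (.lf 0))) (.nd (.nd (.lf 3) (.lf 0)) (.nd (.lf 4) (.lf 0))))) (.nd (.nd (.nd (.nd (.lf 2) (.lf 5)) (.nd (.lf 3) (.lf 0))) (.nd (.nd (.lf 3) (.lf 0)) (.nd (.lf 4) (.lf 0)))) (.nd (.nd (.nd (.lf 2) (.lf 0)) (.nd (.lf 3) (.lf 0))) (.nd (.nd (.lf 3) (.lf 0)) (.nd (.lf 5) (.lf 0)))))))) (.nd (.nd (.nd (.nd (.nd (.nd (.nd (.lf 1) (.lf 5)) (.nd (.lf 3) (.lf 0))) (.nd (.nd (.lf 2) (.lf 0)) (.nd (.lf 3) (.lf 0)))) (.nd (.nd (.nd (.lf 2) (.lf 5)) (.nd (.lf 3) (.lf 0))) (.nd (.nd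 (.lf 3) (.lf 0)) (.nd (.lf 4) (.lf 0))))) (.nd (.nd (.nd (.nd (.lf 2) (.lf 3)) (.nd (.lf 3) (.lf 0))) (.nd (.nd (.lf 2) (.lf 0)) (.nd (.lf 3) (.lf 0)))) (.nd (.nd (.nd (.lf 2) (.lf 3)) (.nd (.lf 3) (.lf 0))) (.nd (.nd (.lf 3) (.lf 0)) (.nd (.lf 4) (.lf 0)))))) (.nd (.nd (.nd (.nd (.nd (.lf 2) (.lf 5)) (.nd (.lf 3) (.lf 0))) (.nd (.nd (.lf 2) (.lf 0)) (.nd (.lf 3) (.lf 0)))) (.nd (.nd (.nd (.lf 2) (.lf 5)) (.nd (.lf 3) (.lf 0))) (.nd (.nd (.lf 3) (.lf 0)) (.nd (.lf 4) (.lf 0))))) (.nd (.nd (.nd (.nd (.lf 1) (.lf 3)) (.nd (.lf 3) (.lf 0))) (.nd (.nd (.lf 2) (.lf 0)) (.nd (.lf 3) (.lf 0)))) (.nd (.nd (.nd (.lf 2) (.lf 3)) (.nd (.lf 3) (.lf 0))) (.nd (.nd (.lf 3) (.lf 0)) (.nd (.lf 4) (.lf 0))))))) (.nd (.nd (.nd (.nd (.nd (.nd (.lf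 2) (.lf 5)) (.nd (.lf 3) (.lf 0))) (.nd (.nd (.lf 2) (.lf 0)) (.nd (.lf 3) (.lf 0)))) (.nd (.nd (.nd (.lf 2) (.lf 5)) (.nd (.lf 3) (.lf 0))) (.nd (.nd (.lf 3) (.lf 0)) (.nd (.lf 4) (.lf 0))))) (.nd (.nd (.nd (.nd (.lf 1) (.lf 3)) (.nd (.lf 3) (.lf 0))) (.nd (.nd (.lf 2) (.lf 0)) (.nd (.lf 3) (.lf 0)))) (.nd (.nd (.nd (.lf 2) (.lf 3)) (.nd (.lf 3) (.lf 0))) (.nd (.nd (.lf 3) (.lf 0)) (.nd (.lf 4) (.lf 0)))))) (.nd (.nd (.nd (.nd (.nd (.lf 2) (.lf 3)) (.nd (.lf 3) (.lf 0))) (.nd (.nd (.lf 2) (.lf 0)) (.nd (.lf 3) (.lf 0)))) (.nd (.nd (.nd (.lf 2) (.lf 3)) (.nd (.lf 3) (.lf 0))) (.nd (.nd (.lf 3) (.lf 0)) (.nd (.lf 4) (.lf 0))))) (.nd (.nd (.nd (.nd (.lf 2) (.lf 5)) (.nd (.lf 3) (.lf 0))) (.nd (.nd (.lf 3) (.lf 0)) (.nd (.lf 4) (.lf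 0)))) (.nd (.nd (.nd (.lf 2) (.lf 0)) (.nd (.lf 3) (.lf 0))) (.nd (.nd (.lf 3) (.lf 0)) (.nd (.lf 5) (.lf 0))))))))) (.nd (.nd (.nd (.nd (.nd (.nd (.nd (.nd (.lf 1) (.lf 5)) (.nd (.lf 3) (.lf 0))) (.nd (.nd (.lf 2) (.lf 0)) (.nd (.lf 3) (.lf 0)))) (.nd (.nd (.nd (.lf 2) (.lf 5)) (.nd (.lf 3) (.lf 0))) (.nd (.nd (.lf 3) (.lf 0)) (.nd (.lf 4) (.lf 0))))) (.nd (.nd (.nd (.nd (.lf 2) (.lf 3)) (.nd (.lf 3) (.lf 0))) (.nd (.nd (.lf 2) (.lf 0)) (.nd (.lf 3) (.lf 0)))) (.nd (.nd (.nd (.lf 2) (.lf 3)) (.nd (.lf 3) (.lf 0))) (.nd (.nd (.lf 3) (.lf 0)) (.nd (.lf 4) (.lf 0)))))) (.nd (.nd (.nd (.nd (.nd (.lf 2) (.lf 5)) (.nd (.lf 3) (.lf 0))) (.nd (.nd (.lf 2) (.lf 0)) (.nd (.lf 3) (.lf 0)))) (.nd (.nd (.nd (.lf 2) (.lf 5)) (.nd (.lf 3) (.lf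 0))) (.nd (.nd (.lf 3) (.lf 0)) (.nd (.lf 4) (.lf 0))))) (.nd (.nd (.nd (.nd (.lf 1) (.lf 3)) (.nd (.lf 3) (.lf 0))) (.nd (.nd (.lf 2) (.lf 0)) (.nd (.lf 3) (.lf 0)))) (.nd (.nd (.nd (.lf 2) (.lf 3)) (.nd (.lf 3) (.lf 0))) (.nd (.nd (.lf 3) (.lf 0)) (.nd (.lf 4) (.lf 0))))))) (.nd (.nd (.nd (.nd (.nd (.nd (.lf 2) (.lf 5)) (.nd (.lf 3) (.lf 0))) (.nd (.nd (.lf 2) (.lf 0)) (.nd (.lf 3) (.lf 0)))) (.nd (.nd (.nd (.lf 2) (.lf 5)) (.nd (.lf 3) (.lf 0))) (.nd (.nd (.lf 3) (.lf 0)) (.nd (.lf 4) (.lf 0))))) (.nd (.nd (.nd (.nd (.lf 1) (.lf 3)) (.nd (.lf 3) (.lf 0))) (.nd (.nd (.lf 2) (.lf 0)) (.nd (.lf 3) (.lf 0)))) (.nd (.nd (.nd (.lf 2) (.lf 3)) (.nd (.lf 3) (.lf 0))) (.nd (.nd (.lf 3) (.lf 0)) (.nd (.lf 4) (.lf 0)))))) (.nd (.nd (.nd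 (.nd (.nd (.lf 2) (.lf 3)) (.nd (.lf 3) (.lf 0))) (.nd (.nd (.lf 2) (.lf 0)) (.nd (.lf 3) (.lf 0)))) (.nd (.nd (.nd (.lf 2) (.lf 3)) (.nd (.lf 3) (.lf 0))) (.nd (.nd (.lf 3) (.lf 0)) (.nd (.lf 4) (.lf 0))))) (.nd (.nd (.nd (.nd (.lf 2) (.lf 5)) (.nd (.lf 3) (.lf 0))) (.nd (.nd (.lf 3) (.lf 0)) (.nd (.lf 4) (.lf 0)))) (.nd (.nd (.nd (.lf 2) (.lf 0)) (.nd (.lf 3) (.lf 0))) (.nd (.nd (.lf 3) (.lf 0)) (.nd (.lf 5) (.lf 0)))))))) (.nd (.nd (.nd (.nd (.nd (.nd (.nd (.lf 2) (.lf 5)) (.nd (.lf 3) (.lf 0))) (.nd (.nd (.lf 2) (.lf 0)) (.nd (.lf 3) (.lf 0)))) (.nd (.nd (.nd (.lf 2) (.lf 5)) (.nd (.lf 3) (.lf 0))) (.nd (.nd (.lf 3) (.lf 0)) (.nd (.lf 4) (.lf 0))))) (.nd (.nd (.nd (.nd (.lf 1) (.lf 3)) (.nd (.lf 3) (.lf 0))) (.nd (.nd (.lf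 2) (.lf 0)) (.nd (.lf 3) (.lf 0)))) (.nd (.nd (.nd (.lf 2) (.lf 3)) (.nd (.lf 3) (.lf 0))) (.nd (.nd (.lf 3) (.lf 0)) (.nd (.lf 4) (.lf 0)))))) (.nd (.nd (.nd (.nd (.nd (.lf 2) (.lf 3)) (.nd (.lf 3) (.lf 0))) (.nd (.nd (.lf 2) (.lf 0)) (.nd (.lf 3) (.lf 0)))) (.nd (.nd (.nd (.lf 2) (.lf 3)) (.nd (.lf 3) (.lf 0))) (.nd (.nd (.lf 3) (.lf 0)) (.nd (.lf 4) (.lf 0))))) (.nd (.nd (.nd (.nd (.lf 2) (.lf 5)) (.nd (.lf 3) (.lf 0))) (.nd (.nd (.lf 3) (.lf 0)) (.nd (.lf 4) (.lf 0)))) (.nd (.nd (.nd (.lf 2) (.lf 0)) (.nd (.lf 3) (.lf 0))) (.nd (.nd (.lf 3) (.lf 0)) (.nd (.lf 5) (.lf 0))))))) (.nd (.nd (.nd (.nd (.nd (.nd (.lf 2) (.lf 5)) (.nd (.lf 3) (.lf 0))) (.nd (.nd (.lf 2) (.lf 0)) (.nd (.lf 3) (.lf 0)))) (.nd (.nd (.nd (.lf 2) (.lf 5))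 (.nd (.lf 3) (.lf 0))) (.nd (.nd (.lf 3) (.lf 0)) (.nd (.lf 4) (.lf 0))))) (.nd (.nd (.nd (.nd (.lf 1) (.lf 3)) (.nd (.lf 3) (.lf 0))) (.nd (.nd (.lf 2) (.lf 0)) (.nd (.lf 3) (.lf 0)))) (.nd (.nd (.nd (.lf 2) (.lf 3)) (.nd (.lf 3) (.lf 0))) (.nd (.nd (.lf 3) (.lf 0)) (.nd (.lf 4) (.lf 0)))))) (.nd (.nd (.nd (.nd (.nd (.lf 2) (.lf 3)) (.nd (.lf 3) (.lf 0))) (.nd (.nd (.lf 2) (.lf 0)) (.nd (.lf 3) (.lf 0)))) (.nd (.nd (.nd (.lf 2) (.lf 3)) (.nd (.lf 3) (.lf 0))) (.nd (.nd (.lf 3) (.lf 0)) (.nd (.lf 4) (.lf 0))))) (.nd (.nd (.nd (.nd (.lf 2) (.lf 5)) (.nd (.lf 3) (.lf 0))) (.nd (.nd (.lf 3) (.lf 0)) (.nd (.lf 4) (.lf 0)))) (.nd (.nd (.nd (.lf 2) (.lf 0)) (.nd (.lf 3) (.lf 0))) (.nd (.nd (.lf 3) (.lf 0)) (.nd (.lf 5) (.lf 0))))))))))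
/-- orbit data -/
def repH : Tr := (.nd (.nd (.nd (.lf 0) (.lf 219)) (.nd (.lf 3) (.lf 0))) (.nd (.nd (.lf 1) (.lf 251)) (.nd (.lf 91) (.lf 0))))
/-- orbit data -/
def parH : Tr := (.nd (.nd (.nd (.nd (.nd (.nd (.nd (.nd (.nd (.lf 0) (.lf 252)) (.nd (.lf 99) (.lf 0))) (.nd (.nd (.lf 12) (.lf 0)) (.nd (.lf 160) (.lf 0)))) (.nd (.nd (.nd (.lf 80) (.lf 254)) (.nd (.lf 128) (.lf 0))) (.nd (.nd (.lf 120) (.lf 0)) (.nd (.lf 231) (.lf 0))))) (.nd (.nd (.nd (.nd (.lf 54) (.lf 208)) (.nd (.lf 176) (.lf 0))) (.nd (.nd (.lf 3) (.lf 0)) (.nd (.lf 105) (.lf 0)))) (.nd (.nd (.nd (.lf 54) (.lf 96)) (.nd (.lf 277) (.lf 0))) (.nd (.nd (.lf 299) (.lf 0)) (.nd (.lf 236) (.lf 0)))))) (.nd (.nd (.nd (.nd (.nd (.lf 49) (.lf 285)) (.nd (.lf 275) (.lf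 0))) (.nd (.nd (.lf 11) (.lf 0)) (.nd (.lf 302) (.lf 0)))) (.nd (.nd (.nd (.lf 73) (.lf 266)) (.nd (.lf 139) (.lf 0))) (.nd (.nd (.lf 310) (.lf 0)) (.nd (.lf 241) (.lf 0))))) (.nd (.nd (.nd (.nd (.lf 1) (.lf 198)) (.nd (.lf 91) (.lf 0))) (.nd (.nd (.lf 27) (.lf 0)) (.nd (.lf 155) (.lf 0)))) (.nd (.nd (.nd (.lf 46) (.lf 146)) (.nd (.lf 136) (.lf 0))) (.nd (.nd (.lf 177) (.lf 0)) (.nd (.lf 228) (.lf 0))))))) (.nd (.nd (.nd (.nd (.nd (.nd (.lf 43) (.lf 257)) (.nd (.lf 153) (.lf 0))) (.nd (.nd (.lf 85) (.lf 0)) (.nd (.lf 199) (.lf 0)))) (.nd (.nd (.nd (.lf 67) (.lf 262)) (.nd (.lf 105) (.lf 0))) (.nd (.nd (.lf 169) (.lf 0)) (.nd (.lf 249) (.lf 0))))) (.nd (.nd (.nd (.nd (.lf 23) (.lf 114)) (.nd (.lf 134) (.lf 0))) (.nd (.nd (.lf 7)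 (.lf 0)) (.nd (.lf 198) (.lf 0)))) (.nd (.nd (.nd (.lf 27) (.lf 178)) (.nd (.lf 314) (.lf 0))) (.nd (.nd (.lf 91) (.lf 0)) (.nd (.lf 226) (.lf 0)))))) (.nd (.nd (.nd (.nd (.nd (.lf 56) (.lf 148)) (.nd (.lf 310) (.lf 0))) (.nd (.nd (.lf 39) (.lf 0)) (.nd (.lf 281) (.lf 0)))) (.nd (.nd (.nd (.lf 31) (.lf 192)) (.nd (.lf 211) (.lf 0))) (.nd (.nd (.lf 216) (.lf 0)) (.nd (.lf 224) (.lf 0))))) (.nd (.nd (.nd (.nd (.lf 90) (.lf 259)) (.nd (.lf 273) (.lf 0))) (.nd (.nd (.lf 312) (.lf 0)) (.nd (.lf 229) (.lf 0)))) (.nd (.nd (.nd (.lf 81) (.lf 0)) (.nd (.lf 149) (.lf 0))) (.nd (.nd (.lf 195) (.lf 0)) (.nd (.lf 287) (.lf 0)))))))) (.nd (.nd (.nd (.nd (.nd (.nd (.nd (.lf 22) (.lf 251)) (.nd (.lf 217) (.lf 0))) (.nd (.nd (.lf 16) (.lf 0)) (.nd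 (.lf 306) (.lf 0)))) (.nd (.nd (.nd (.lf 65) (.lf 283)) (.nd (.lf 196) (.lf 0))) (.nd (.nd (.lf 140) (.lf 0)) (.nd (.lf 235) (.lf 0))))) (.nd (.nd (.nd (.nd (.lf 73) (.lf 95)) (.nd (.lf 202) (.lf 0))) (.nd (.nd (.lf 6) (.lf 0)) (.nd (.lf 121) (.lf 0)))) (.nd (.nd (.nd (.lf 41) (.lf 172)) (.nd (.lf 276) (.lf 0))) (.nd (.nd (.lf 155) (.lf 0)) (.nd (.lf 238) (.lf 0)))))) (.nd (.nd (.nd (.nd (.nd (.lf 62) (.lf 255)) (.nd (.lf 131) (.lf 0))) (.nd (.nd (.lf 15) (.lf 0)) (.nd (.lf 117) (.lf 0)))) (.nd (.nd (.nd (.lf 76) (.lf 296)) (.nd (.lf 308) (.lf 0))) (.nd (.nd (.lf 205) (.lf 0)) (.nd (.lf 223) (.lf 0))))) (.nd (.nd (.nd (.nd (.lf 20) (.lf 180)) (.nd (.lf 278) (.lf 0))) (.nd (.nd (.lf 29) (.lf 0)) (.nd (.lf 215) (.lf 0)))) (.nd (.nd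 (.nd (.lf 37) (.lf 116)) (.nd (.lf 102) (.lf 0))) (.nd (.nd (.lf 152) (.lf 0)) (.nd (.lf 230) (.lf 0))))))) (.nd (.nd (.nd (.nd (.nd (.nd (.lf 55) (.lf 284)) (.nd (.lf 212) (.lf 0))) (.nd (.nd (.lf 17) (.lf 0)) (.nd (.lf 119) (.lf 0)))) (.nd (.nd (.nd (.lf 71) (.lf 292)) (.nd (.lf 186) (.lf 0))) (.nd (.nd (.lf 122) (.lf 0)) (.nd (.lf 221) (.lf 0))))) (.nd (.nd (.nd (.nd (.lf 1) (.lf 107)) (.nd (.lf 301) (.lf 0))) (.nd (.nd (.lf 10) (.lf 0)) (.nd (.lf 156) (.lf 0)))) (.nd (.nd (.nd (.lf 35) (.lf 168)) (.nd (.lf 110) (.lf 0))) (.nd (.nd (.lf 267) (.lf 0)) (.nd (.lf 240) (.lf 0)))))) (.nd (.nd (.nd (.nd (.nd (.lf 61) (.lf 134)) (.nd (.lf 93) (.lf 0))) (.nd (.nd (.lf 41) (.lf 0)) (.nd (.lf 139) (.lf 0)))) (.nd (.nd (.nd (.lf 39) (.lf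 211)) (.nd (.lf 167) (.lf 0))) (.nd (.nd (.lf 113) (.lf 0)) (.nd (.lf 226) (.lf 0))))) (.nd (.nd (.nd (.nd (.lf 59) (.lf 288)) (.nd (.lf 302) (.lf 0))) (.nd (.nd (.lf 125) (.lf 0)) (.nd (.lf 243) (.lf 0)))) (.nd (.nd (.nd (.lf 77) (.lf 0)) (.nd (.lf 124) (.lf 0))) (.nd (.nd (.lf 307) (.lf 0)) (.nd (.lf 253) (.lf 0))))))))) (.nd (.nd (.nd (.nd (.nd (.nd (.nd (.nd (.lf 0) (.lf 290)) (.nd (.lf 140) (.lf 0))) (.nd (.nd (.lf 78) (.lf 0)) (.nd (.lf 268) (.lf 0)))) (.nd (.nd (.nd (.lf 87) (.lf 261)) (.nd (.lf 132) (.lf 0))) (.nd (.nd (.lf 207) (.lf 0)) (.nd (.lf 219) (.lf 0))))) (.nd (.nd (.nd (.nd (.lf 46) (.lf 166)) (.nd (.lf 123) (.lf 0))) (.nd (.nd (.lf 15) (.lf 0)) (.nd (.lf 206) (.lf 0)))) (.nd (.nd (.nd (.lf 43) (.lf 108)) (.nd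 (.lf 175) (.lf 0))) (.nd (.nd (.lf 106) (.lf 0)) (.nd (.lf 233) (.lf 0)))))) (.nd (.nd (.nd (.nd (.nd (.lf 57) (.lf 256)) (.nd (.lf 194) (.lf 0))) (.nd (.nd (.lf 76) (.lf 0)) (.nd (.lf 144) (.lf 0)))) (.nd (.nd (.nd (.lf 85) (.lf 295)) (.nd (.lf 276) (.lf 0))) (.nd (.nd (.lf 100) (.lf 0)) (.nd (.lf 225) (.lf 0))))) (.nd (.nd (.nd (.nd (.lf 22) (.lf 132)) (.nd (.lf 303) (.lf 0))) (.nd (.nd (.lf 13) (.lf 0)) (.nd (.lf 99) (.lf 0)))) (.nd (.nd (.nd (.lf 49) (.lf 197)) (.nd (.lf 210) (.lf 0))) (.nd (.nd (.lf 205) (.lf 0)) (.nd (.lf 222) (.lf 0))))))) (.nd (.nd (.nd (.nd (.nd (.nd (.lf 51) (.lf 283)) (.nd (.lf 101) (.lf 0))) (.nd (.nd (.lf 5) (.lf 0)) (.nd (.lf 183) (.lf 0)))) (.nd (.nd (.nd (.lf 60) (.lf 291)) (.nd (.lf 133) (.lf 0)))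 (.nd (.nd (.lf 109) (.lf 0)) (.nd (.lf 247) (.lf 0))))) (.nd (.nd (.nd (.nd (.lf 2) (.lf 186)) (.nd (.lf 277) (.lf 0))) (.nd (.nd (.lf 11) (.lf 0)) (.nd (.lf 309) (.lf 0)))) (.nd (.nd (.nd (.lf 38) (.lf 101)) (.nd (.lf 202) (.lf 0))) (.nd (.nd (.lf 314) (.lf 0)) (.nd (.lf 231) (.lf 0)))))) (.nd (.nd (.nd (.nd (.nd (.lf 69) (.lf 191)) (.nd (.lf 106) (.lf 0))) (.nd (.nd (.lf 32) (.lf 0)) (.nd (.lf 114) (.lf 0)))) (.nd (.nd (.nd (.lf 53) (.lf 147)) (.nd (.lf 125) (.lf 0))) (.nd (.nd (.lf 180) (.lf 0)) (.nd (.lf 236) (.lf 0))))) (.nd (.nd (.nd (.nd (.lf 62) (.lf 287)) (.nd (.lf 271) (.lf 0))) (.nd (.nd (.lf 303) (.lf 0)) (.nd (.lf 227) (.lf 0)))) (.nd (.nd (.nd (.lf 6) (.lf 0)) (.nd (.lf 173) (.lf 0))) (.nd (.nd (.lf 109) (.lf 0))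 (.nd (.lf 255) (.lf 0)))))))) (.nd (.nd (.nd (.nd (.nd (.nd (.nd (.lf 0) (.lf 258)) (.nd (.lf 275) (.lf 0))) (.nd (.nd (.lf 4) (.lf 0)) (.nd (.lf 307) (.lf 0)))) (.nd (.nd (.nd (.lf 77) (.lf 261)) (.nd (.lf 217) (.lf 0))) (.nd (.nd (.lf 143) (.lf 0)) (.nd (.lf 235) (.lf 0))))) (.nd (.nd (.nd (.nd (.lf 25) (.lf 102)) (.nd (.lf 172) (.lf 0))) (.nd (.nd (.lf 28) (.lf 0)) (.nd (.lf 108) (.lf 0)))) (.nd (.nd (.nd (.lf 30) (.lf 131)) (.nd (.lf 273) (.lf 0))) (.nd (.nd (.lf 305) (.lf 0)) (.nd (.lf 219) (.lf 0)))))) (.nd (.nd (.nd (.nd (.nd (.lf 59) (.lf 177)) (.nd (.lf 271) (.lf 0))) (.nd (.nd (.lf 16) (.lf 0)) (.nd (.lf 206) (.lf 0)))) (.nd (.nd (.nd (.lf 51) (.lf 113)) (.nd (.lf 95) (.lf 0))) (.nd (.nd (.lf 141) (.lf 0)) (.nd (.lf 243)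 (.lf 0))))) (.nd (.nd (.nd (.nd (.lf 68) (.lf 258)) (.nd (.lf 152) (.lf 0))) (.nd (.nd (.lf 0) (.lf 0)) (.nd (.lf 0) (.lf 0)))) (.nd (.nd (.nd (.lf 3) (.lf 0)) (.nd (.lf 213) (.lf 0))) (.nd (.nd (.lf 176) (.lf 0)) (.nd (.lf 0) (.lf 0))))))) (.nd (.nd (.nd (.nd (.nd (.nd (.lf 74) (.lf 297)) (.nd (.lf 306) (.lf 0))) (.nd (.nd (.lf 80) (.lf 0)) (.nd (.lf 270) (.lf 0)))) (.nd (.nd (.nd (.lf 72) (.lf 266)) (.nd (.lf 203) (.lf 0))) (.nd (.nd (.lf 136) (.lf 0)) (.nd (.lf 225) (.lf 0))))) (.nd (.nd (.nd (.nd (.lf 2) (.lf 167)) (.nd (.lf 104) (.lf 0))) (.nd (.nd (.lf 38) (.lf 0)) (.nd (.lf 179) (.lf 0)))) (.nd (.nd (.nd (.lf 47) (.lf 210)) (.nd (.lf 175) (.lf 0))) (.nd (.nd (.lf 116) (.lf 0)) (.nd (.lf 245) (.lf 0)))))) (.nd (.nd (.nd (.nd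 (.nd (.lf 71) (.lf 122)) (.nd (.lf 117) (.lf 0))) (.nd (.nd (.lf 18) (.lf 0)) (.nd (.lf 280) (.lf 0)))) (.nd (.nd (.nd (.lf 32) (.lf 157)) (.nd (.lf 119) (.lf 0))) (.nd (.nd (.lf 282) (.lf 0)) (.nd (.lf 224) (.lf 0))))) (.nd (.nd (.nd (.nd (.lf 74) (.lf 253)) (.nd (.lf 100) (.lf 0))) (.nd (.nd (.lf 173) (.lf 0)) (.nd (.lf 247) (.lf 0)))) (.nd (.nd (.nd (.lf 8) (.lf 0)) (.nd (.lf 110) (.lf 0))) (.nd (.nd (.lf 209) (.lf 0)) (.nd (.lf 251) (.lf 0))))))))))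
/-- orbit data -/
def pgH : Tr := (.nd (.nd (.nd (.nd (.nd (.nd (.nd (.nd (.nd (.lf 0) (.lf 1)) (.nd (.lf 1) (.lf 0))) (.nd (.nd (.lf 0) (.lf 0)) (.nd (.lf 0) (.lf 0)))) (.nd (.nd (.nd (.lf 0) (.lf 0)) (.nd (.lf 0) (.lf 0))) (.nd (.nd (.lf 1) (.lf 0)) (.nd (.lf 1) (.lf 0))))) (.nd (.nd (.nd (.nd (.lf 1) (.lf 0)) (.nd (.lf 1) (.lf 0))) (.nd (.nd (.lf 1) (.lf 0)) (.nd (.lf 1) (.lf 0)))) (.nd (.nd (.nd (.lf 0) (.lf 1)) (.nd (.lf 1) (.lf 0))) (.nd (.nd (.lf 1) (.lf 0)) (.nd (.lf 0) (.lf 0)))))) (.nd (.nd (.nd (.nd (.nd (.lf 1) (.lf 1)) (.nd (.lf 1) (.lf 0))) (.nd (.nd (.lf 0) (.lf 0)) (.nd (.lf 1) (.lf 0)))) (.nd (.nd (.nd (.lf 1) (.lf 0)) (.nd (.lf 1) (.lf 0))) (.nd (.nd (.lf 0) (.lf 0)) (.nd (.lf 1) (.lf 0))))) (.nd (.nd (.nd (.nd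 (.lf 1) (.lf 1)) (.nd (.lf 0) (.lf 0))) (.nd (.nd (.lf 0) (.lf 0)) (.nd (.lf 0) (.lf 0)))) (.nd (.nd (.nd (.lf 0) (.lf 1)) (.nd (.lf 0) (.lf 0))) (.nd (.nd (.lf 1) (.lf 0)) (.nd (.lf 0) (.lf 0))))))) (.nd (.nd (.nd (.nd (.nd (.nd (.lf 1) (.lf 1)) (.nd (.lf 1) (.lf 0))) (.nd (.nd (.lf 1) (.lf 0)) (.nd (.lf 1) (.lf 0)))) (.nd (.nd (.nd (.lf 1) (.lf 0)) (.nd (.lf 0) (.lf 0))) (.nd (.nd (.lf 0) (.lf 0)) (.nd (.lf 1) (.lf 0))))) (.nd (.nd (.nd (.nd (.lf 1) (.lf 0)) (.nd (.lf 0) (.lf 0))) (.nd (.nd (.lf 1) (.lf 0)) (.nd (.lf 0) (.lf 0)))) (.nd (.nd (.nd (.lf 1) (.lf 0)) (.nd (.lf 0) (.lf 0))) (.nd (.nd (.lf 1) (.lf 0)) (.nd (.lf 1) (.lf 0)))))) (.nd (.nd (.nd (.nd (.nd (.lf 1) (.lf 1)) (.nd (.lf 1) (.lf 0))) (.nd (.nd (.lf 0) (.lf 0))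 (.nd (.lf 1) (.lf 0)))) (.nd (.nd (.nd (.lf 1) (.lf 1)) (.nd (.lf 0) (.lf 0))) (.nd (.nd (.lf 1) (.lf 0)) (.nd (.lf 0) (.lf 0))))) (.nd (.nd (.nd (.nd (.lf 0) (.lf 1)) (.nd (.lf 1) (.lf 0))) (.nd (.nd (.lf 1) (.lf 0)) (.nd (.lf 1) (.lf 0)))) (.nd (.nd (.nd (.lf 1) (.lf 0)) (.nd (.lf 1) (.lf 0))) (.nd (.nd (.lf 1) (.lf 0)) (.nd (.lf 1) (.lf 0)))))))) (.nd (.nd (.nd (.nd (.nd (.nd (.nd (.lf 0) (.lf 0)) (.nd (.lf 1) (.lf 0))) (.nd (.nd (.lf 0) (.lf 0)) (.nd (.lf 0) (.lf 0)))) (.nd (.nd (.nd (.lf 1) (.lf 0)) (.nd (.lf 1) (.lf 0))) (.nd (.nd (.lf 0) (.lf 0)) (.nd (.lf 1) (.lf 0))))) (.nd (.nd (.nd (.nd (.lf 0) (.lf 1)) (.nd (.lf 1) (.lf 0))) (.nd (.nd (.lf 1) (.lf 0)) (.nd (.lf 0) (.lf 0)))) (.nd (.nd (.nd (.lf 1) (.lf 1)) (.nd (.lf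 0) (.lf 0))) (.nd (.nd (.lf 1) (.lf 0)) (.nd (.lf 0) (.lf 0)))))) (.nd (.nd (.nd (.nd (.nd (.lf 0) (.lf 1)) (.nd (.lf 1) (.lf 0))) (.nd (.nd (.lf 0) (.lf 0)) (.nd (.lf 0) (.lf 0)))) (.nd (.nd (.nd (.lf 0) (.lf 0)) (.nd (.lf 1) (.lf 0))) (.nd (.nd (.lf 0) (.lf 0)) (.nd (.lf 1) (.lf 0))))) (.nd (.nd (.nd (.nd (.lf 1) (.lf 0)) (.nd (.lf 1) (.lf 0))) (.nd (.nd (.lf 0) (.lf 0)) (.nd (.lf 0) (.lf 0)))) (.nd (.nd (.nd (.lf 1) (.lf 0)) (.nd (.lf 0) (.lf 0))) (.nd (.nd (.lf 1) (.lf 0)) (.nd (.lf 0) (.lf 0))))))) (.nd (.nd (.nd (.nd (.nd (.nd (.lf 1) (.lf 1)) (.nd (.lf 0) (.lf 0))) (.nd (.nd (.lf 0) (.lf 0)) (.nd (.lf 1) (.lf 0)))) (.nd (.nd (.nd (.lf 1) (.lf 0)) (.nd (.lf 0) (.lf 0))) (.nd (.nd (.lf 0) (.lf 0)) (.nd (.lf 1) (.lf 0)))))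 (.nd (.nd (.nd (.nd (.lf 0) (.lf 1)) (.nd (.lf 0) (.lf 0))) (.nd (.nd (.lf 1) (.lf 0)) (.nd (.lf 1) (.lf 0)))) (.nd (.nd (.nd (.lf 1) (.lf 0)) (.nd (.lf 0) (.lf 0))) (.nd (.nd (.lf 1) (.lf 0)) (.nd (.lf 1) (.lf 0)))))) (.nd (.nd (.nd (.nd (.nd (.lf 0) (.lf 1)) (.nd (.lf 1) (.lf 0))) (.nd (.nd (.lf 0) (.lf 0)) (.nd (.lf 0) (.lf 0)))) (.nd (.nd (.nd (.lf 1) (.lf 1)) (.nd (.lf 1) (.lf 0))) (.nd (.nd (.lf 1) (.lf 0)) (.nd (.lf 0) (.lf 0))))) (.nd (.nd (.nd (.nd (.lf 1) (.lf 0)) (.nd (.lf 0) (.lf 0))) (.nd (.nd (.lf 1) (.lf 0)) (.nd (.lf 1) (.lf 0)))) (.nd (.nd (.nd (.lf 1) (.lf 0)) (.nd (.lf 0) (.lf 0))) (.nd (.nd (.lf 1) (.lf 0)) (.nd (.lf 1) (.lf 0))))))))) (.nd (.nd (.nd (.nd (.nd (.nd (.nd (.nd (.lf 0) (.lf 1)) (.nd (.lf 1) (.lf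 0))) (.nd (.nd (.lf 1) (.lf 0)) (.nd (.lf 0) (.lf 0)))) (.nd (.nd (.nd (.lf 0) (.lf 1)) (.nd (.lf 1) (.lf 0))) (.nd (.nd (.lf 1) (.lf 0)) (.nd (.lf 1) (.lf 0))))) (.nd (.nd (.nd (.nd (.lf 1) (.lf 1)) (.nd (.lf 1) (.lf 0))) (.nd (.nd (.lf 1) (.lf 0)) (.nd (.lf 1) (.lf 0)))) (.nd (.nd (.nd (.lf 0) (.lf 1)) (.nd (.lf 1) (.lf 0))) (.nd (.nd (.lf 1) (.lf 0)) (.nd (.lf 0) (.lf 0)))))) (.nd (.nd (.nd (.nd (.nd (.lf 1) (.lf 1)) (.nd (.lf 1) (.lf 0))) (.nd (.nd (.lf 1) (.lf 0)) (.nd (.lf 1) (.lf 0)))) (.nd (.nd (.nd (.lf 0) (.lf 0)) (.nd (.lf 1) (.lf 0))) (.nd (.nd (.lf 0) (.lf 0)) (.nd (.lf 0) (.lf 0))))) (.nd (.nd (.nd (.nd (.lf 1) (.lf 0)) (.nd (.lf 1) (.lf 0))) (.nd (.nd (.lf 1) (.lf 0)) (.nd (.lf 0) (.lf 0)))) (.nd (.nd (.nd (.lf 0)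 (.lf 1)) (.nd (.lf 0) (.lf 0))) (.nd (.nd (.lf 1) (.lf 0)) (.nd (.lf 1) (.lf 0))))))) (.nd (.nd (.nd (.nd (.nd (.nd (.lf 1) (.lf 1)) (.nd (.lf 0) (.lf 0))) (.nd (.nd (.lf 0) (.lf 0)) (.nd (.lf 1) (.lf 0)))) (.nd (.nd (.nd (.lf 1) (.lf 0)) (.nd (.lf 0) (.lf 0))) (.nd (.nd (.lf 1) (.lf 0)) (.nd (.lf 0) (.lf 0))))) (.nd (.nd (.nd (.nd (.lf 1) (.lf 1)) (.nd (.lf 0) (.lf 0))) (.nd (.nd (.lf 1) (.lf 0)) (.nd (.lf 0) (.lf 0)))) (.nd (.nd (.nd (.lf 1) (.lf 1)) (.nd (.lf 0) (.lf 0))) (.nd (.nd (.lf 1) (.lf 0)) (.nd (.lf 0) (.lf 0)))))) (.nd (.nd (.nd (.nd (.nd (.lf 0) (.lf 1)) (.nd (.lf 0) (.lf 0))) (.nd (.nd (.lf 0) (.lf 0)) (.nd (.lf 1) (.lf 0)))) (.nd (.nd (.nd (.lf 0) (.lf 1)) (.nd (.lf 0) (.lf 0))) (.nd (.nd (.lf 1) (.lf 0)) (.nd (.lf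 1) (.lf 0))))) (.nd (.nd (.nd (.nd (.lf 1) (.lf 0)) (.nd (.lf 0) (.lf 0))) (.nd (.nd (.lf 0) (.lf 0)) (.nd (.lf 1) (.lf 0)))) (.nd (.nd (.nd (.lf 0) (.lf 0)) (.nd (.lf 0) (.lf 0))) (.nd (.nd (.lf 0) (.lf 0)) (.nd (.lf 0) (.lf 0)))))))) (.nd (.nd (.nd (.nd (.nd (.nd (.nd (.lf 0) (.lf 1)) (.nd (.lf 0) (.lf 0))) (.nd (.nd (.lf 0) (.lf 0)) (.nd (.lf 0) (.lf 0)))) (.nd (.nd (.nd (.lf 0) (.lf 0)) (.nd (.lf 0) (.lf 0))) (.nd (.nd (.lf 1) (.lf 0)) (.nd (.lf 0) (.lf 0))))) (.nd (.nd (.nd (.nd (.lf 1) (.lf 1)) (.nd (.lf 0) (.lf 0))) (.nd (.nd (.lf 0) (.lf 0)) (.nd (.lf 0) (.lf 0)))) (.nd (.nd (.nd (.lf 1) (.lf 0)) (.nd (.lf 0) (.lf 0))) (.nd (.nd (.lf 0) (.lf 0)) (.nd (.lf 0) (.lf 0)))))) (.nd (.nd (.nd (.nd (.nd (.lf 0) (.lf 0)) (.nd (.lf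 1) (.lf 0))) (.nd (.nd (.lf 1) (.lf 0)) (.nd (.lf 0) (.lf 0)))) (.nd (.nd (.nd (.lf 0) (.lf 0)) (.nd (.lf 0) (.lf 0))) (.nd (.nd (.lf 1) (.lf 0)) (.nd (.lf 0) (.lf 0))))) (.nd (.nd (.nd (.nd (.lf 1) (.lf 0)) (.nd (.lf 0) (.lf 0))) (.nd (.nd (.lf 0) (.lf 0)) (.nd (.lf 0) (.lf 0)))) (.nd (.nd (.nd (.lf 0) (.lf 0)) (.nd (.lf 1) (.lf 0))) (.nd (.nd (.lf 0) (.lf 0)) (.nd (.lf 0) (.lf 0))))))) (.nd (.nd (.nd (.nd (.nd (.nd (.lf 0) (.lf 0)) (.nd (.lf 1) (.lf 0))) (.nd (.nd (.lf 1) (.lf 0)) (.nd (.lf 1) (.lf 0)))) (.nd (.nd (.nd (.lf 1) (.lf 1)) (.nd (.lf 1) (.lf 0))) (.nd (.nd (.lf 1) (.lf 0)) (.nd (.lf 1) (.lf 0))))) (.nd (.nd (.nd (.nd (.lf 0) (.lf 0)) (.nd (.lf 1) (.lf 0))) (.nd (.nd (.lf 0) (.lf 0)) (.nd (.lf 1) (.lf 0)))) (.nd (.nd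 (.nd (.lf 0) (.lf 1)) (.nd (.lf 0) (.lf 0))) (.nd (.nd (.lf 1) (.lf 0)) (.nd (.lf 0) (.lf 0)))))) (.nd (.nd (.nd (.nd (.nd (.lf 0) (.lf 1)) (.nd (.lf 1) (.lf 0))) (.nd (.nd (.lf 1) (.lf 0)) (.nd (.lf 0) (.lf 0)))) (.nd (.nd (.nd (.lf 1) (.lf 0)) (.nd (.lf 0) (.lf 0))) (.nd (.nd (.lf 1) (.lf 0)) (.nd (.lf 1) (.lf 0))))) (.nd (.nd (.nd (.nd (.lf 1) (.lf 0)) (.nd (.lf 1) (.lf 0))) (.nd (.nd (.lf 1) (.lf 0)) (.nd (.lf 1) (.lf 0)))) (.nd (.nd (.nd (.lf 0) (.lf 0)) (.nd (.lf 1) (.lf 0))) (.nd (.nd (.lf 0) (.lf 0)) (.nd (.lf 1) (.lf 0))))))))))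
/-- orbit data -/
def depH : Tr := (.nd (.nd (.nd (.nd (.nd (.nd (.nd (.nd (.nd (.lf 0) (.lf 5)) (.nd (.lf 6) (.lf 0))) (.nd (.nd (.lf 8) (.lf 0)) (.nd (.lf 8) (.lf 0)))) (.nd (.nd (.nd (.lf 2) (.lf 4)) (.nd (.lf 7) (.lf 0))) (.nd (.nd (.lf 6) (.lf 0)) (.nd (.lf 3) (.lf 0))))) (.nd (.nd (.nd (.nd (.lf 6) (.lf 9)) (.nd (.lf 7) (.lf 0))) (.nd (.nd (.lf 1) (.lf 0)) (.nd (.lf 8) (.lf 0)))) (.nd (.nd (.nd (.lf 6) (.lf 7)) (.nd (.lf 6) (.lf 0))) (.nd (.nd (.lf 8) (.lf 0)) (.nd (.lf 5) (.lf 0)))))) (.nd (.nd (.nd (.nd (.nd (.lf 6) (.lf 5)) (.nd (.lf 5) (.lf 0))) (.nd (.nd (.lf 3) (.lf 0)) (.nd (.lf 7) (.lf 0)))) (.nd (.nd (.nd (.lf 7) (.lf 3)) (.nd (.lf 5) (.lf 0))) (.nd (.nd (.lf 7) (.lf 0)) (.nd (.lf 4) (.lf 0))))) (.nd (.nd (.nd (.nd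 (.lf 1) (.lf 4)) (.nd (.lf 1) (.lf 0))) (.nd (.nd (.lf 6) (.lf 0)) (.nd (.lf 3) (.lf 0)))) (.nd (.nd (.nd (.lf 6) (.lf 6)) (.nd (.lf 6) (.lf 0))) (.nd (.nd (.lf 5) (.lf 0)) (.nd (.lf 5) (.lf 0))))))) (.nd (.nd (.nd (.nd (.nd (.nd (.lf 5) (.lf 5)) (.nd (.lf 7) (.lf 0))) (.nd (.nd (.lf 4) (.lf 0)) (.nd (.lf 8) (.lf 0)))) (.nd (.nd (.nd (.lf 7) (.lf 5)) (.nd (.lf 8) (.lf 0))) (.nd (.nd (.lf 6) (.lf 0)) (.nd (.lf 4) (.lf 0))))) (.nd (.nd (.nd (.nd (.lf 4) (.lf 4)) (.nd (.lf 6) (.lf 0))) (.nd (.nd (.lf 6) (.lf 0)) (.nd (.lf 4) (.lf 0)))) (.nd (.nd (.nd (.lf 6) (.lf 6)) (.nd (.lf 3) (.lf 0))) (.nd (.nd (.lf 1) (.lf 0)) (.nd (.lf 4) (.lf 0)))))) (.nd (.nd (.nd (.nd (.nd (.lf 7) (.lf 7)) (.nd (.lf 7) (.lf 0))) (.nd (.nd (.lf 5) (.lf 0))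 (.nd (.lf 9) (.lf 0)))) (.nd (.nd (.nd (.lf 6) (.lf 9)) (.nd (.lf 6) (.lf 0))) (.nd (.nd (.lf 4) (.lf 0)) (.nd (.lf 4) (.lf 0))))) (.nd (.nd (.nd (.nd (.lf 7) (.lf 3)) (.nd (.lf 7) (.lf 0))) (.nd (.nd (.lf 7) (.lf 0)) (.nd (.lf 6) (.lf 0)))) (.nd (.nd (.nd (.lf 5) (.lf 0)) (.nd (.lf 7) (.lf 0))) (.nd (.nd (.lf 8) (.lf 0)) (.nd (.lf 4) (.lf 0)))))))) (.nd (.nd (.nd (.nd (.nd (.nd (.nd (.lf 2) (.lf 1)) (.nd (.lf 7) (.lf 0))) (.nd (.nd (.lf 7) (.lf 0)) (.nd (.lf 8) (.lf 0)))) (.nd (.nd (.nd (.lf 7) (.lf 3)) (.nd (.lf 9) (.lf 0))) (.nd (.nd (.lf 8) (.lf 0)) (.nd (.lf 3) (.lf 0))))) (.nd (.nd (.nd (.nd (.lf 7) (.lf 8)) (.nd (.lf 5) (.lf 0))) (.nd (.nd (.lf 6) (.lf 0)) (.nd (.lf 6) (.lf 0)))) (.nd (.nd (.nd (.lf 5) (.lf 7)) (.nd (.lf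 5) (.lf 0))) (.nd (.nd (.lf 3) (.lf 0)) (.nd (.lf 5) (.lf 0)))))) (.nd (.nd (.nd (.nd (.nd (.lf 5) (.lf 2)) (.nd (.lf 6) (.lf 0))) (.nd (.nd (.lf 4) (.lf 0)) (.nd (.lf 4) (.lf 0)))) (.nd (.nd (.nd (.lf 6) (.lf 4)) (.nd (.lf 7) (.lf 0))) (.nd (.nd (.lf 5) (.lf 0)) (.nd (.lf 6) (.lf 0))))) (.nd (.nd (.nd (.nd (.lf 5) (.lf 4)) (.nd (.lf 9) (.lf 0))) (.nd (.nd (.lf 6) (.lf 0)) (.nd (.lf 9) (.lf 0)))) (.nd (.nd (.nd (.lf 7) (.lf 2)) (.nd (.lf 4) (.lf 0))) (.nd (.nd (.lf 2) (.lf 0)) (.nd (.lf 6) (.lf 0))))))) (.nd (.nd (.nd (.nd (.nd (.nd (.lf 5) (.lf 4)) (.nd (.lf 5) (.lf 0))) (.nd (.nd (.lf 7) (.lf 0)) (.nd (.lf 3) (.lf 0)))) (.nd (.nd (.nd (.lf 3) (.lf 6)) (.nd (.lf 5) (.lf 0))) (.nd (.nd (.lf 3) (.lf 0)) (.nd (.lf 5) (.lf 0)))))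 (.nd (.nd (.nd (.nd (.lf 1) (.lf 8)) (.nd (.lf 9) (.lf 0))) (.nd (.nd (.lf 6) (.lf 0)) (.nd (.lf 8) (.lf 0)))) (.nd (.nd (.nd (.lf 5) (.lf 6)) (.nd (.lf 8) (.lf 0))) (.nd (.nd (.lf 6) (.lf 0)) (.nd (.lf 6) (.lf 0)))))) (.nd (.nd (.nd (.nd (.nd (.lf 7) (.lf 6)) (.nd (.lf 7) (.lf 0))) (.nd (.nd (.lf 5) (.lf 0)) (.nd (.lf 5) (.lf 0)))) (.nd (.nd (.nd (.lf 5) (.lf 6)) (.nd (.lf 8) (.lf 0))) (.nd (.nd (.lf 7) (.lf 0)) (.nd (.lf 4) (.lf 0))))) (.nd (.nd (.nd (.nd (.lf 2) (.lf 5)) (.nd (.lf 7) (.lf 0))) (.nd (.nd (.lf 6) (.lf 0)) (.nd (.lf 2) (.lf 0)))) (.nd (.nd (.nd (.lf 4) (.lf 0)) (.nd (.lf 9) (.lf 0))) (.nd (.nd (.lf 7) (.lf 0)) (.nd (.lf 3) (.lf 0))))))))) (.nd (.nd (.nd (.nd (.nd (.nd (.nd (.nd (.lf 0) (.lf 4)) (.nd (.lf 8) (.lf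 0))) (.nd (.nd (.lf 6) (.lf 0)) (.nd (.lf 8) (.lf 0)))) (.nd (.nd (.nd (.lf 5) (.lf 4)) (.nd (.lf 8) (.lf 0))) (.nd (.nd (.lf 6) (.lf 0)) (.nd (.lf 1) (.lf 0))))) (.nd (.nd (.nd (.nd (.lf 6) (.lf 6)) (.nd (.lf 8) (.lf 0))) (.nd (.nd (.lf 4) (.lf 0)) (.nd (.lf 6) (.lf 0)))) (.nd (.nd (.nd (.lf 5) (.lf 5)) (.nd (.lf 4) (.lf 0))) (.nd (.nd (.lf 6) (.lf 0)) (.nd (.lf 3) (.lf 0)))))) (.nd (.nd (.nd (.nd (.nd (.lf 7) (.lf 6)) (.nd (.lf 9) (.lf 0))) (.nd (.nd (.lf 6) (.lf 0)) (.nd (.lf 8) (.lf 0)))) (.nd (.nd (.nd (.lf 4) (.lf 4)) (.nd (.lf 5) (.lf 0))) (.nd (.nd (.lf 7) (.lf 0)) (.nd (.lf 2) (.lf 0))))) (.nd (.nd (.nd (.nd (.lf 2) (.lf 8)) (.nd (.lf 6) (.lf 0))) (.nd (.nd (.lf 7) (.lf 0)) (.nd (.lf 6) (.lf 0)))) (.nd (.nd (.nd (.lf 6)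 (.lf 6)) (.nd (.lf 7) (.lf 0))) (.nd (.nd (.lf 5) (.lf 0)) (.nd (.lf 3) (.lf 0))))))) (.nd (.nd (.nd (.nd (.nd (.nd (.lf 4) (.lf 3)) (.nd (.lf 6) (.lf 0))) (.nd (.nd (.lf 5) (.lf 0)) (.nd (.lf 5) (.lf 0)))) (.nd (.nd (.nd (.lf 6) (.lf 5)) (.nd (.lf 7) (.lf 0))) (.nd (.nd (.lf 5) (.lf 0)) (.nd (.lf 5) (.lf 0))))) (.nd (.nd (.nd (.nd (.lf 3) (.lf 5)) (.nd (.lf 6) (.lf 0))) (.nd (.nd (.lf 3) (.lf 0)) (.nd (.lf 7) (.lf 0)))) (.nd (.nd (.nd (.lf 4) (.lf 6)) (.nd (.lf 5) (.lf 0))) (.nd (.nd (.lf 3) (.lf 0)) (.nd (.lf 3) (.lf 0)))))) (.nd (.nd (.nd (.nd (.nd (.lf 6) (.lf 9)) (.nd (.lf 6) (.lf 0))) (.nd (.nd (.lf 3) (.lf 0)) (.nd (.lf 4) (.lf 0)))) (.nd (.nd (.nd (.lf 5) (.lf 8)) (.nd (.lf 6) (.lf 0))) (.nd (.nd (.lf 4) (.lf 0)) (.nd (.lf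 5) (.lf 0))))) (.nd (.nd (.nd (.nd (.lf 5) (.lf 4)) (.nd (.lf 4) (.lf 0))) (.nd (.nd (.lf 6) (.lf 0)) (.nd (.lf 4) (.lf 0)))) (.nd (.nd (.nd (.lf 6) (.lf 0)) (.nd (.lf 7) (.lf 0))) (.nd (.nd (.lf 5) (.lf 0)) (.nd (.lf 2) (.lf 0)))))))) (.nd (.nd (.nd (.nd (.nd (.nd (.nd (.lf 0) (.lf 2)) (.nd (.lf 5) (.lf 0))) (.nd (.nd (.lf 6) (.lf 0)) (.nd (.lf 7) (.lf 0)))) (.nd (.nd (.nd (.lf 4) (.lf 4)) (.nd (.lf 7) (.lf 0))) (.nd (.nd (.lf 5) (.lf 0)) (.nd (.lf 3) (.lf 0))))) (.nd (.nd (.nd (.nd (.lf 3) (.lf 4)) (.nd (.lf 7) (.lf 0))) (.nd (.nd (.lf 8) (.lf 0)) (.nd (.lf 5) (.lf 0)))) (.nd (.nd (.nd (.lf 3) (.lf 6)) (.nd (.lf 7) (.lf 0))) (.nd (.nd (.lf 6) (.lf 0)) (.nd (.lf 1) (.lf 0)))))) (.nd (.nd (.nd (.nd (.nd (.lf 2) (.lf 5)) (.nd (.lf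 4) (.lf 0))) (.nd (.nd (.lf 7) (.lf 0)) (.nd (.lf 6) (.lf 0)))) (.nd (.nd (.nd (.lf 4) (.lf 7)) (.nd (.lf 8) (.lf 0))) (.nd (.nd (.lf 7) (.lf 0)) (.nd (.lf 2) (.lf 0))))) (.nd (.nd (.nd (.nd (.lf 5) (.lf 2)) (.nd (.lf 2) (.lf 0))) (.nd (.nd (.lf 0) (.lf 0)) (.nd (.lf 0) (.lf 0)))) (.nd (.nd (.nd (.lf 1) (.lf 0)) (.nd (.lf 8) (.lf 0))) (.nd (.nd (.lf 7) (.lf 0)) (.nd (.lf 0) (.lf 0))))))) (.nd (.nd (.nd (.nd (.nd (.nd (.lf 5) (.lf 5)) (.nd (.lf 8) (.lf 0))) (.nd (.nd (.lf 2) (.lf 0)) (.nd (.lf 7) (.lf 0)))) (.nd (.nd (.nd (.lf 4) (.lf 3)) (.nd (.lf 7) (.lf 0))) (.nd (.nd (.lf 6) (.lf 0)) (.nd (.lf 2) (.lf 0))))) (.nd (.nd (.nd (.nd (.lf 3) (.lf 8)) (.nd (.lf 8) (.lf 0))) (.nd (.nd (.lf 4) (.lf 0)) (.nd (.lf 8) (.lf 0)))) (.nd (.nd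 (.nd (.lf 4) (.lf 7)) (.nd (.lf 4) (.lf 0))) (.nd (.nd (.lf 2) (.lf 0)) (.nd (.lf 4) (.lf 0)))))) (.nd (.nd (.nd (.nd (.nd (.lf 3) (.lf 3)) (.nd (.lf 4) (.lf 0))) (.nd (.nd (.lf 8) (.lf 0)) (.nd (.lf 5) (.lf 0)))) (.nd (.nd (.nd (.lf 3) (.lf 5)) (.nd (.lf 3) (.lf 0))) (.nd (.nd (.lf 5) (.lf 0)) (.nd (.lf 4) (.lf 0))))) (.nd (.nd (.nd (.nd (.lf 5) (.lf 3)) (.nd (.lf 7) (.lf 0))) (.nd (.nd (.lf 7) (.lf 0)) (.nd (.lf 5) (.lf 0)))) (.nd (.nd (.nd (.lf 7) (.lf 0)) (.nd (.lf 8) (.lf 0))) (.nd (.nd (.lf 7) (.lf 0)) (.nd (.lf 1) (.lf 0))))))))))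
end H63.JT
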