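import Cfsg.Agent.Lib.H63.PermChain
set_option autoImplicit false
set_option maxRecDepth 100000
/-! Exponent hints for the element orders of the Hall-Janko group (generated). -/
namespace H63.JT
open H63.PC
/-- exponents -/
def ex0 : Tr := (.nd (.nd (.nd (.nd (.nd (.nd (.nd (.nd (.lf 154811232734407) (.lf 220772770163850)) (.nd (.lf 224903962610828) (.lf 0))) (.nd (.nd (.lf 222842441075370) (.lf 0)) (.nd (.lf 152474707724970) (.lf 0)))) (.nd (.nd (.nd (.lf 185459582741130) (.lf 150138276981420)) (.nd (.lf 189849546689160) (.lf 0))) (.nd (.nd (.lf 222826303368330) (.lf 0)) (.nd (.lf 220764754970828) (.lf 0))))) (.nd (.nd (.nd (.nd (.lf 222842441075370) (.lf 189840453315210)) (.nd (.lf 187796013484680) (.lf 0))) (.nd (.nd (.lf 154792947788460) (.lf 0)) (.nd (.lf 185451464404140) (.lf 0)))) (.nd (.nd (.nd (.lf 224895938767050) (.lf 185451496000140)) (.nd (.lf 154792947788460) (.lf 0))) (.nd (.nd (.lf 154802076690570) (.lf 0)) (.nd (.lf 224895974279850) (.lf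 0)))))) (.nd (.nd (.nd (.nd (.nd (.lf 222842409494730) (.lf 189840453315210)) (.nd (.lf 224887887801000) (.lf 0))) (.nd (.nd (.lf 150129183869610) (.lf 0)) (.nd (.lf 224903962610828) (.lf 0)))) (.nd (.nd (.nd (.lf 154802076690570) (.lf 187503991237800)) (.nd (.lf 150138276981420) (.lf 0))) (.nd (.nd (.lf 189840382274250) (.lf 0)) (.nd (.lf 220764754970828) (.lf 0))))) (.nd (.nd (.nd (.nd (.lf 224903962610828) (.lf 185450426452680)) (.nd (.lf 150138276981420) (.lf 0))) (.nd (.nd (.lf 220764754970828) (.lf 0)) (.nd (.lf 187786884582570) (.lf 0)))) (.nd (.nd (.nd (.lf 150138276981420) (.lf 220764754970828)) (.nd (.lf 224903962610828) (.lf 0))) (.nd (.nd (.lf 189848468753100) (.lf 0)) (.nd (.lf 154802076690570) (.lf 0))))))) (.nd (.nd (.nd (.nd (.nd (.nd (.lf 222842441075370) (.lf 224903962610828)) (.nd (.lf 189840453315210) (.lf 0))) (.nd (.nd (.lf 220764754970828) (.lf 0)) (.nd (.lf 152456521239210) (.lf 0)))) (.nd (.nd (.nd (.lf 222842409494730) (.lf 185450458033320))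 (.nd (.lf 154811232734408) (.lf 0))) (.nd (.nd (.lf 187521135315660) (.lf 0)) (.nd (.lf 189840382274250) (.lf 0))))) (.nd (.nd (.nd (.nd (.lf 154792947788460) (.lf 185450426452680)) (.nd (.lf 187513080432810) (.lf 0))) (.nd (.nd (.lf 187786884582570) (.lf 0)) (.nd (.lf 152465578822860) (.lf 0)))) (.nd (.nd (.nd (.lf 187513080432810) (.lf 224895974279850)) (.nd (.lf 224903962610828) (.lf 0))) (.nd (.nd (.lf 224895938767050) (.lf 0)) (.nd (.lf 154811232734408) (.lf 0)))))) (.nd (.nd (.nd (.nd (.nd (.lf 187513080432810) (.lf 187796013484680)) (.nd (.lf 224903962610828) (.lf 0))) (.nd (.nd (.lf 185451464404140) (.lf 0)) (.nd (.lf 152474707724970) (.lf 0)))) (.nd (.nd (.nd (.lf 185459582741130) (.lf 185451464404140)) (.nd (.lf 185450458033320) (.lf 0))) (.nd (.nd (.lf 222842409494730) (.lf 0)) (.nd (.lf 154802076690570) (.lf 0))))) (.nd (.nd (.nd (.nd (.lf 189840382274250) (.lf 220780825324200)) (.nd (.lf 187795981904040) (.lf 0))) (.nd (.nd (.lf 224903962610828)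 (.lf 0)) (.nd (.lf 187786884582570) (.lf 0)))) (.nd (.nd (.nd (.lf 150129183869610) (.lf 185459582741130)) (.nd (.lf 189840382274250) (.lf 0))) (.nd (.nd (.lf 187513084349610) (.lf 0)) (.nd (.lf 224895938767050) (.lf 0)))))))) (.nd (.nd (.nd (.nd (.nd (.nd (.nd (.lf 185450426452680) (.lf 154811232734408)) (.nd (.lf 187513084349610) (.lf 0))) (.nd (.nd (.lf 224903962610828) (.lf 0)) (.nd (.lf 189840382274250) (.lf 0)))) (.nd (.nd (.nd (.lf 187513080432810) (.lf 220772770163850)) (.nd (.lf 220772770163850) (.lf 0))) (.nd (.nd (.lf 189840382274250) (.lf 0)) (.nd (.lf 189840382274250) (.lf 0))))) (.nd (.nd (.nd (.nd (.lf 150129183869610) (.lf 152456485711050)) (.nd (.lf 152456485711050) (.lf 0))) (.nd (.nd (.lf 152474707724970) (.lf 0)) (.nd (.lf 224903962610828) (.lf 0)))) (.nd (.nd (.nd (.lf 152465645947020) (.lf 154811232734408)) (.nd (.lf 185451464404140) (.lf 0))) (.nd (.nd (.lf 185459582741130) (.lf 0)) (.nd (.lf 152456521239210) (.lf 0)))))) (.nd (.nd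 (.nd (.nd (.nd (.lf 185459582741130) (.lf 224887887801000)) (.nd (.lf 154802076690570) (.lf 0))) (.nd (.nd (.lf 154792947788460) (.lf 0)) (.nd (.lf 152465578822860) (.lf 0)))) (.nd (.nd (.nd (.lf 224903962610828) (.lf 222842441075370)) (.nd (.lf 220772770163850) (.lf 0))) (.nd (.nd (.lf 220772738583210) (.lf 0)) (.nd (.lf 222826303368330) (.lf 0))))) (.nd (.nd (.nd (.nd (.lf 220764754970828) (.lf 185450426452680)) (.nd (.lf 220772770163850) (.lf 0))) (.nd (.nd (.lf 189840382274250) (.lf 0)) (.nd (.lf 150129152273610) (.lf 0)))) (.nd (.nd (.nd (.lf 220772770163850) (.lf 220764754970828)) (.nd (.lf 189848504281260) (.lf 0))) (.nd (.nd (.lf 150138276981420) (.lf 0)) (.nd (.lf 224903962610828) (.lf 0))))))) (.nd (.nd (.nd (.nd (.nd (.nd (.lf 154811232734408) (.lf 187796013484680)) (.nd (.lf 187778833369740) (.lf 0))) (.nd (.nd (.lf 189840382274250) (.lf 0)) (.nd (.lf 185451464404140) (.lf 0)))) (.nd (.nd (.nd (.lf 187513084349610) (.lf 189849546689160)) (.nd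 (.lf 187796013484680) (.lf 0))) (.nd (.nd (.lf 152474707724970) (.lf 0)) (.nd (.lf 220772738583210) (.lf 0))))) (.nd (.nd (.nd (.nd (.lf 222842441075370) (.lf 152456485711050)) (.nd (.lf 189848468753100) (.lf 0))) (.nd (.nd (.lf 224903962610828) (.lf 0)) (.nd (.lf 187786884582570) (.lf 0)))) (.nd (.nd (.nd (.lf 189848468753100) (.lf 220764754970828)) (.nd (.lf 224903962610828) (.lf 0))) (.nd (.nd (.lf 187513080432810) (.lf 0)) (.nd (.lf 187513084349610) (.lf 0)))))) (.nd (.nd (.nd (.nd (.nd (.lf 185450426452680) (.lf 185450426452680)) (.nd (.lf 224903962610828) (.lf 0))) (.nd (.nd (.lf 224903962610828) (.lf 0)) (.nd (.lf 187786884582570) (.lf 0)))) (.nd (.nd (.nd (.lf 187513080432810) (.lf 152465578822860)) (.nd (.lf 150129183869610) (.lf 0))) (.nd (.nd (.lf 187513084349610) (.lf 0)) (.nd (.lf 187778797841580) (.lf 0))))) (.nd (.nd (.nd (.nd (.lf 222842409494730) (.lf 187503991237800)) (.nd (.lf 154811232734408) (.lf 0))) (.nd (.nd (.lf 189848504281260)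 (.lf 0)) (.nd (.lf 220764754970828) (.lf 0)))) (.nd (.nd (.nd (.lf 154792947788460) (.lf 187513080432810)) (.nd (.lf 187521135315660) (.lf 0))) (.nd (.nd (.lf 154802076690570) (.lf 0)) (.nd (.lf 152465645947020) (.lf 0)))))))))
/-- exponents -/
def ex1 : Tr := (.nd (.nd (.nd (.nd (.nd (.nd (.nd (.nd (.lf 189995609148616) (.lf 187657765955532)) (.nd (.lf 184496703712428) (.lf 0))) (.nd (.nd (.lf 220781850623096) (.lf 0)) (.nd (.lf 149313673799850) (.lf 0)))) (.nd (.nd (.nd (.lf 222980958112391) (.lf 219682419035260)) (.nd (.lf 137059533027207) (.lf 0))) (.nd (.nd (.lf 225025328663756) (.lf 0)) (.nd (.lf 189977355398316) (.lf 0))))) (.nd (.nd (.nd (.nd (.lf 219681343895495) (.lf 137210461203596)) (.nd (.lf 137197037341308) (.lf 0))) (.nd (.nd (.lf 219329156643463) (.lf 0)) (.nd (.lf 187650018028716) (.lf 0)))) (.nd (.nd (.nd (.lf 154801539812556) (.lf 189630498253482)) (.nd (.lf 189699256405196) (.lf 0))) (.nd (.nd (.lf 224903962610828) (.lf 0)) (.nd (.lf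 224905103329226) (.lf 0)))))) (.nd (.nd (.nd (.nd (.nd (.lf 219543908420220) (.lf 189836611603143)) (.nd (.lf 222620111652780) (.lf 0))) (.nd (.nd (.lf 187775072390268) (.lf 0)) (.nd (.lf 225179360274378) (.lf 0)))) (.nd (.nd (.nd (.lf 136853895023816) (.lf 187650018028716)) (.nd (.lf 152337263404999) (.lf 0))) (.nd (.nd (.lf 225179977043146) (.lf 0)) (.nd (.lf 222972368161996) (.lf 0))))) (.nd (.nd (.nd (.nd (.lf 185299867847340) (.lf 224835846776778)) (.nd (.lf 154811237059786) (.lf 0))) (.nd (.nd (.lf 150252930496684) (.lf 0)) (.nd (.lf 131720150828936) (.lf 0)))) (.nd (.nd (.nd (.lf 224836378589868) (.lf 222843518880906)) (.nd (.lf 131424564594567) (.lf 0))) (.nd (.nd (.lf 224813478868940) (.lf 0)) (.nd (.lf 189849009826506) (.lf 0))))))) (.nd (.nd (.nd (.nd (.nd (.nd (.lf 224903962610828) (.lf 184496703712428)) (.nd (.lf 224895087191944) (.lf 0))) (.nd (.nd (.lf 134666492807292) (.lf 0)) (.nd (.lf 184496675072682) (.lf 0)))) (.nd (.nd (.nd (.lf 220781845727096)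 (.lf 185596484824236)) (.nd (.lf 152337297099900) (.lf 0))) (.nd (.nd (.lf 189634831895756) (.lf 0)) (.nd (.lf 136866830122188) (.lf 0))))) (.nd (.nd (.nd (.nd (.lf 187637585922732) (.lf 154513541921996)) (.nd (.lf 219681884260983) (.lf 0))) (.nd (.nd (.lf 225162712370380) (.lf 0)) (.nd (.lf 131424530693292) (.lf 0)))) (.nd (.nd (.nd (.lf 219681884260983) (.lf 132458851368103)) (.nd (.lf 189839916452556) (.lf 0))) (.nd (.nd (.lf 224827789847756) (.lf 0)) (.nd (.lf 225033950104716) (.lf 0)))))) (.nd (.nd (.nd (.nd (.nd (.lf 219398919735420) (.lf 225179942554796)) (.nd (.lf 222627357031564) (.lf 0))) (.nd (.nd (.lf 222962366839980) (.lf 0)) (.nd (.lf 154673764681676) (.lf 0)))) (.nd (.nd (.nd (.lf 137063000999848) (.lf 154672383569100)) (.nd (.lf 131438019652744) (.lf 0))) (.nd (.nd (.lf 220781845727096) (.lf 0)) (.nd (.lf 154809861130890) (.lf 0))))) (.nd (.nd (.nd (.nd (.lf 189840923347656) (.lf 224903943587959)) (.nd (.lf 187637585922732) (.lf 0))) (.nd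 (.nd (.lf 219681800374983) (.lf 0)) (.nd (.lf 219681047480970) (.lf 0)))) (.nd (.nd (.nd (.lf 137210377324458) (.lf 150252895651708)) (.nd (.lf 189978391652295) (.lf 0))) (.nd (.nd (.lf 219672401717128) (.lf 0)) (.nd (.lf 224836383702220) (.lf 0)))))))) (.nd (.nd (.nd (.nd (.nd (.nd (.nd (.lf 220773344914636) (.lf 152612180232135)) (.nd (.lf 184137184626823) (.lf 0))) (.nd (.nd (.lf 187796552468343) (.lf 0)) (.nd (.lf 154788420177100) (.lf 0)))) (.nd (.nd (.nd (.lf 137209119033258) (.lf 132476786149288)) (.nd (.lf 189974067334346) (.lf 0))) (.nd (.nd (.lf 189857096305356) (.lf 0)) (.nd (.lf 225020526513356) (.lf 0))))) (.nd (.nd (.nd (.nd (.lf 219397541907064) (.lf 222627357030343)) (.nd (.lf 184496975301836) (.lf 0))) (.nd (.nd (.lf 224836383832743) (.lf 0)) (.nd (.lf 189633674266759) (.lf 0)))) (.nd (.nd (.nd (.lf 152590736672940) (.lf 137063084625064)) (.nd (.lf 131446615100620) (.lf 0))) (.nd (.nd (.lf 219682354023626) (.lf 0)) (.nd (.lf 189994266954956)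 (.lf 0)))))) (.nd (.nd (.nd (.nd (.nd (.lf 150252895651708) (.lf 224905098196856)) (.nd (.lf 225024020227980) (.lf 0))) (.nd (.nd (.lf 187657802775207) (.lf 0)) (.nd (.lf 220635903609996) (.lf 0)))) (.nd (.nd (.nd (.lf 135011370847436) (.lf 222843483368106)) (.nd (.lf 148961402321548) (.lf 0))) (.nd (.nd (.lf 154811237189500) (.lf 0)) (.nd (.lf 219682351925111) (.lf 0))))) (.nd (.nd (.nd (.nd (.lf 219536391916668) (.lf 220773344914636)) (.nd (.lf 136856893683628) (.lf 0))) (.nd (.nd (.lf 137080986962119) (.lf 0)) (.nd (.lf 132467390909127) (.lf 0)))) (.nd (.nd (.nd (.lf 225170317691591) (.lf 224836316592071)) (.nd (.lf 222958941031548) (.lf 0))) (.nd (.nd (.lf 224836378589868) (.lf 0)) (.nd (.lf 189974067203276) (.lf 0))))))) (.nd (.nd (.nd (.nd (.nd (.nd (.lf 189972787014828) (.lf 187778294664396)) (.nd (.lf 225171302303658) (.lf 0))) (.nd (.nd (.lf 189650900069580) (.lf 0)) (.nd (.lf 225158506204300) (.lf 0)))) (.nd (.nd (.nd (.lf 136935583296716) (.lf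 224896479825096)) (.nd (.lf 189995607166076) (.lf 0))) (.nd (.nd (.lf 154467572362410) (.lf 0)) (.nd (.lf 154811237189500) (.lf 0))))) (.nd (.nd (.nd (.nd (.lf 220781850623096) (.lf 219682389675176)) (.nd (.lf 224903723207370) (.lf 0))) (.nd (.nd (.lf 189720643291815) (.lf 0)) (.nd (.lf 135020025776040) (.lf 0)))) (.nd (.nd (.nd (.lf 154811153284300) (.lf 224905019226056)) (.nd (.lf 187773730213068) (.lf 0))) (.nd (.nd (.lf 131424531040167) (.lf 0)) (.nd (.lf 137072986585722) (.lf 0)))))) (.nd (.nd (.nd (.nd (.nd (.lf 137209085347788) (.lf 189839916714696)) (.nd (.lf 137196502568140) (.lf 0))) (.nd (.nd (.lf 189995609128076) (.lf 0)) (.nd (.lf 184488920124615) (.lf 0)))) (.nd (.nd (.nd (.lf 136934205476040) (.lf 148960346680444)) (.nd (.lf 185321256700039) (.lf 0))) (.nd (.nd (.lf 219535016184522) (.lf 0)) (.nd (.lf 131574119845068) (.lf 0))))) (.nd (.nd (.nd (.nd (.lf 225041382427335) (.lf 131566874045640)) (.nd (.lf 154788420177100) (.lf 0))) (.nd (.nd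 (.lf 137081075321036) (.lf 0)) (.nd (.lf 185596220460236) (.lf 0)))) (.nd (.nd (.nd (.lf 185596148090743) (.lf 225179914258375)) (.nd (.lf 189994535536586) (.lf 0))) (.nd (.nd (.lf 189642884828295) (.lf 0)) (.nd (.lf 148948606504076) (.lf 0)))))))))
/-- exponents -/
def ex2 : Tr := (.nd (.nd (.nd (.nd (.nd (.nd (.nd (.nd (.lf 184131550496712) (.lf 277809082313896)) (.nd (.lf 136935010454266) (.lf 0))) (.nd (.nd (.lf 157963120200327) (.lf 0)) (.nd (.lf 152488426384042) (.lf 0)))) (.nd (.nd (.nd (.lf 134874734972071) (.lf 184686457040047)) (.nd (.lf 187641363102456) (.lf 0))) (.nd (.nd (.lf 222696915531978) (.lf 0)) (.nd (.lf 189858891430607) (.lf 0))))) (.nd (.nd (.nd (.nd (.lf 222821434970031) (.lf 134874768388012)) (.nd (.lf 193155410995146) (.lf 0))) (.nd (.nd (.lf 222857212365943) (.lf 0)) (.nd (.lf 189871021522892) (.lf 0)))) (.nd (.nd (.nd (.lf 224814875576970) (.lf 152474707724970)) (.nd (.lf 136856893683628) (.lf 0))) (.nd (.nd (.lf 193284174150906)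 (.lf 0)) (.nd (.lf 184131634363512) (.lf 0)))))) (.nd (.nd (.nd (.nd (.nd (.lf 152465693276842) (.lf 187505381788280)) (.nd (.lf 272303756454522) (.lf 0))) (.nd (.nd (.lf 228322793289679) (.lf 0)) (.nd (.lf 184694590831239) (.lf 0)))) (.nd (.nd (.nd (.lf 184372420999340) (.lf 134860004436090)) (.nd (.lf 184715666171820) (.lf 0))) (.nd (.nd (.lf 220772738583210) (.lf 0)) (.nd (.lf 187503991257768) (.lf 0))))) (.nd (.nd (.nd (.nd (.lf 192950005901308) (.lf 187658537708791)) (.nd (.lf 189630501288696) (.lf 0))) (.nd (.nd (.lf 150115423127415) (.lf 0)) (.nd (.lf 152800619834511) (.lf 0)))) (.nd (.nd (.nd (.lf 150266673343626) (.lf 134860004436090)) (.nd (.lf 154802041162410) (.lf 0))) (.nd (.nd (.lf 132799041022632) (.lf 0)) (.nd (.lf 219338820320396) (.lf 0))))))) (.nd (.nd (.nd (.nd (.nd (.nd (.lf 132467469559932) (.lf 187638393645711)) (.nd (.lf 187649984473770) (.lf 0))) (.nd (.nd (.lf 187658537578362) (.lf 0)) (.nd (.lf 187650485686191) (.lf 0)))) (.nd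 (.nd (.nd (.lf 220421119571884) (.lf 187649984473770)) (.nd (.lf 187513084349610) (.lf 0))) (.nd (.nd (.lf 148947234433704) (.lf 0)) (.nd (.lf 185579219680378) (.lf 0))))) (.nd (.nd (.nd (.nd (.lf 184695013549996) (.lf 148960952766463)) (.nd (.lf 152329601940687) (.lf 0))) (.nd (.nd (.lf 277809399302855) (.lf 0)) (.nd (.lf 228339964607151) (.lf 0)))) (.nd (.nd (.nd (.lf 275425694231242) (.lf 132468733086327)) (.nd (.lf 222980873897898) (.lf 0))) (.nd (.nd (.lf 222826267855530) (.lf 0)) (.nd (.lf 187443289294767) (.lf 0)))))) (.nd (.nd (.nd (.nd (.nd (.lf 134894934730951) (.lf 184694590831239)) (.nd (.lf 187658658105991) (.lf 0))) (.nd (.nd (.lf 132810983377527) (.lf 0)) (.nd (.lf 220643086477260) (.lf 0)))) (.nd (.nd (.nd (.lf 150119969683320) (.lf 275975452131272)) (.nd (.lf 275610142945162) (.lf 0))) (.nd (.nd (.lf 140358672437167) (.lf 0)) (.nd (.lf 187499608189095) (.lf 0))))) (.nd (.nd (.nd (.nd (.lf 184373545175751) (.lf 272311574657196)) (.nd (.lf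 219664637275260) (.lf 0))) (.nd (.nd (.lf 134874734972071) (.lf 0)) (.nd (.lf 184682113838970) (.lf 0)))) (.nd (.nd (.nd (.lf 140370984794232) (.lf 150137740110588)) (.nd (.lf 148952331029623) (.lf 0))) (.nd (.nd (.lf 189849511176360) (.lf 0)) (.nd (.lf 187649950919370) (.lf 0)))))))) (.nd (.nd (.nd (.nd (.nd (.nd (.nd (.lf 148952329465767) (.lf 273777450003628)) (.nd (.lf 184694512188076) (.lf 0))) (.nd (.nd (.lf 185804459125370) (.lf 0)) (.nd (.lf 220656757930671) (.lf 0)))) (.nd (.nd (.nd (.lf 189849008057034) (.lf 152465646254026)) (.nd (.lf 185450426452680) (.lf 0))) (.nd (.nd (.lf 132458849435559) (.lf 0)) (.nd (.lf 131428057262760) (.lf 0))))) (.nd (.nd (.nd (.nd (.lf 134667239455482) (.lf 150150658686890)) (.nd (.lf 278140685974138) (.lf 0))) (.nd (.nd (.lf 187808092833786) (.lf 0)) (.nd (.lf 192932740790439) (.lf 0)))) (.nd (.nd (.nd (.lf 187659058662540) (.lf 219390295898314)) (.nd (.lf 152451870063279) (.lf 0))) (.nd (.nd (.lf 228319518444287)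 (.lf 0)) (.nd (.lf 152451927287679) (.lf 0)))))) (.nd (.nd (.nd (.nd (.nd (.lf 131713711525802) (.lf 148969995401082)) (.nd (.lf 135216978635895) (.lf 0))) (.nd (.nd (.lf 148952364644524) (.lf 0)) (.nd (.lf 158306801796988) (.lf 0)))) (.nd (.nd (.nd (.lf 187778833369740) (.lf 136934205337512)) (.nd (.lf 148960915925130) (.lf 0))) (.nd (.nd (.lf 152809209759687) (.lf 0)) (.nd (.lf 187641430080138) (.lf 0))))) (.nd (.nd (.nd (.nd (.lf 275391955390412) (.lf 228323825975210)) (.nd (.lf 223179268131964) (.lf 0))) (.nd (.nd (.lf 189836122819327) (.lf 0)) (.nd (.lf 272313690663546) (.lf 0)))) (.nd (.nd (.nd (.lf 222834311464842) (.lf 134894934723271)) (.nd (.lf 184350610553082) (.lf 0))) (.nd (.nd (.lf 137231361637519) (.lf 0)) (.nd (.lf 152488429390476) (.lf 0))))))) (.nd (.nd (.nd (.nd (.nd (.nd (.lf 193500271847567) (.lf 225157212471292)) (.nd (.lf 222843030383274) (.lf 0))) (.nd (.nd (.lf 189849546689160) (.lf 0)) (.nd (.lf 189848420416167) (.lf 0)))) (.nd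 (.nd (.nd (.lf 137064342916264) (.lf 278152726882935)) (.nd (.lf 219390360061834) (.lf 0))) (.nd (.nd (.lf 131574924872442) (.lf 0)) (.nd (.lf 152810518383740) (.lf 0))))) (.nd (.nd (.nd (.nd (.lf 149327305289642) (.lf 134894850845832)) (.nd (.lf 187503955376760) (.lf 0))) (.nd (.nd (.lf 219522399906556) (.lf 0)) (.nd (.lf 150403491540906) (.lf 0)))) (.nd (.nd (.nd (.lf 224904564223095) (.lf 193030855118074)) (.nd (.lf 219672723885180) (.lf 0))) (.nd (.nd (.lf 185450156227212) (.lf 0)) (.nd (.lf 278152816005032) (.lf 0)))))) (.nd (.nd (.nd (.nd (.nd (.lf 228684133797807) (.lf 187786886556330)) (.nd (.lf 184475147880312) (.lf 0))) (.nd (.nd (.lf 135203565239034) (.lf 0)) (.nd (.lf 136935008872655) (.lf 0)))) (.nd (.nd (.nd (.lf 187649261271687) (.lf 152465645947020)) (.nd (.lf 150115459967655) (.lf 0))) (.nd (.nd (.lf 152451870063279) (.lf 0)) (.nd (.lf 187671461276407) (.lf 0))))) (.nd (.nd (.nd (.nd (.lf 149304597195471) (.lf 272311529285544)) (.nd (.lf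 136943013365884) (.lf 0))) (.nd (.nd (.lf 184694238849672) (.lf 0)) (.nd (.lf 148961402321548) (.lf 0)))) (.nd (.nd (.nd (.lf 187533211913466) (.lf 189869675498151)) (.nd (.lf 225179947673463) (.lf 0))) (.nd (.nd (.lf 220764754970828) (.lf 0)) (.nd (.lf 154811153284300) (.lf 0)))))))))
/-- exponents -/
def ex3 : Tr := (.nd (.nd (.nd (.nd (.nd (.nd (.nd (.nd (.lf 187775832816812) (.lf 224814825240440)) (.nd (.lf 228339999214335) (.lf 0))) (.nd (.nd (.lf 225170857361402) (.lf 0)) (.nd (.lf 281233032269767) (.lf 0)))) (.nd (.nd (.nd (.lf 220780503223415) (.lf 228319597416367)) (.nd (.lf 189650597349514) (.lf 0))) (.nd (.nd (.lf 219681045609212) (.lf 0)) (.nd (.lf 187797360922487) (.lf 0))))) (.nd (.nd (.nd (.nd (.lf 225020444584647) (.lf 187786888530090)) (.nd (.lf 137231402303407) (.lf 0))) (.nd (.nd (.lf 190185308990090) (.lf 0)) (.nd (.lf 275741105770380) (.lf 0)))) (.nd (.nd (.nd (.lf 277831988606887) (.lf 131721487742855)) (.nd (.lf 150130442160890)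 (.lf 0))) (.nd (.nd (.lf 152465578822860) (.lf 0)) (.nd (.lf 193001549395880) (.lf 0)))))) (.nd (.nd (.nd (.nd (.nd (.lf 187650018036399) (.lf 219544361282247)) (.nd (.lf 135018949617544) (.lf 0))) (.nd (.nd (.lf 224917449116415) (.lf 0)) (.nd (.lf 225178692856567) (.lf 0)))) (.nd (.nd (.nd (.lf 277832035650167) (.lf 187778833369740)) (.nd (.lf 187649989717194) (.lf 0))) (.nd (.nd (.lf 140380200544202) (.lf 0)) (.nd (.lf 228683380750282) (.lf 0))))) (.nd (.nd (.nd (.nd (.lf 132458815868044) (.lf 222636198897544)) (.nd (.lf 223185769319167) (.lf 0))) (.nd (.nd (.lf 187649984605434) (.lf 0)) (.nd (.lf 148960333843084) (.lf 0)))) (.nd (.nd (.nd (.lf 222614744779384) (.lf 131733844185007)) (.nd (.lf 152327666780104) (.lf 0))) (.nd (.nd (.lf 158306734673100) (.lf 0)) (.nd (.lf 154824863419050) (.lf 0))))))) (.nd (.nd (.nd (.nd (.nd (.nd (.lf 224917497489615) (.lf 187786884582570)) (.nd (.lf 228340051519695) (.lf 0))) (.nd (.nd (.lf 193284981697194) (.lf 0))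 (.nd (.lf 225179981368524) (.lf 0)))) (.nd (.nd (.nd (.lf 224882466531964) (.lf 154449884974279)) (.nd (.lf 222835698748074) (.lf 0))) (.nd (.nd (.lf 148947180747980) (.lf 0)) (.nd (.lf 220772770163850) (.lf 0))))) (.nd (.nd (.nd (.nd (.lf 220488798881928) (.lf 150274370473159)) (.nd (.lf 193284981566124) (.lf 0))) (.nd (.nd (.lf 187650023271594) (.lf 0)) (.nd (.lf 187649984474319) (.lf 0)))) (.nd (.nd (.nd (.lf 277797088526287) (.lf 131699945471180)) (.nd (.lf 187651328748714) (.lf 0))) (.nd (.nd (.lf 278152768957687) (.lf 0)) (.nd (.lf 222636219595384) (.lf 0)))))) (.nd (.nd (.nd (.nd (.nd (.lf 136921620196039) (.lf 135238448565452)) (.nd (.lf 277830957697740) (.lf 0))) (.nd (.nd (.lf 278163497986687) (.lf 0)) (.nd (.lf 277810560798600) (.lf 0)))) (.nd (.nd (.nd (.lf 150412045355148) (.lf 193284981566124)) (.nd (.lf 149303943736519) (.lf 0))) (.nd (.nd (.lf 219352519199402) (.lf 0)) (.nd (.lf 152327666760904) (.lf 0))))) (.nd (.nd (.nd (.nd (.lf 225193721788282)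 (.lf 187787423559594)) (.nd (.lf 275955943713535) (.lf 0))) (.nd (.nd (.lf 158315900086410) (.lf 0)) (.nd (.lf 222842946497274) (.lf 0)))) (.nd (.nd (.nd (.lf 225034721995434) (.lf 187436662049420)) (.nd (.lf 136887804939002) (.lf 0))) (.nd (.nd (.lf 219315924944840) (.lf 0)) (.nd (.lf 278154026921212) (.lf 0)))))))) (.nd (.nd (.nd (.nd (.nd (.nd (.nd (.lf 135224897613007) (.lf 278154027248887)) (.nd (.lf 152800166980730) (.lf 0))) (.nd (.nd (.lf 222627357050764) (.lf 0)) (.nd (.lf 187650018160554) (.lf 0)))) (.nd (.nd (.nd (.lf 275741070261420) (.lf 150119987595468)) (.nd (.lf 275739728391335) (.lf 0))) (.nd (.nd (.lf 140372365461452) (.lf 0)) (.nd (.lf 220772770163850) (.lf 0))))) (.nd (.nd (.nd (.nd (.lf 131583431060172) (.lf 137197503936455)) (.nd (.lf 219419890978730) (.lf 0))) (.nd (.nd (.lf 187796013484680) (.lf 0)) (.nd (.lf 220421119571884) (.lf 0)))) (.nd (.nd (.nd (.lf 187808095193087) (.lf 189642849101772)) (.nd (.lf 277797083611087) (.lf 0)))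 (.nd (.nd (.lf 220430483376890) (.lf 0)) (.nd (.lf 137197503936455) (.lf 0)))))) (.nd (.nd (.nd (.nd (.nd (.lf 154459905370250) (.lf 187775886086087)) (.nd (.lf 225170905102202) (.lf 0))) (.nd (.nd (.lf 224835036220535) (.lf 0)) (.nd (.lf 187650018036399) (.lf 0)))) (.nd (.nd (.nd (.lf 187786884582570) (.lf 131583514946172)) (.nd (.lf 150120054688908) (.lf 0))) (.nd (.nd (.lf 222971795517354) (.lf 0)) (.nd (.lf 222842171609087) (.lf 0))))) (.nd (.nd (.nd (.nd (.lf 222636821424042) (.lf 137197624733612)) (.nd (.lf 277809439746215) (.lf 0))) (.nd (.nd (.lf 185460924938895) (.lf 0)) (.nd (.lf 187658607962799) (.lf 0)))) (.nd (.nd (.nd (.lf 131699945471180) (.lf 152314451635324)) (.nd (.lf 228333223659720) (.lf 0))) (.nd (.nd (.lf 222857123560652) (.lf 0)) (.nd (.lf 281267920488367) (.lf 0))))))) (.nd (.nd (.nd (.nd (.nd (.nd (.lf 140372281576652) (.lf 224895100025464)) (.nd (.lf 135238537346252) (.lf 0))) (.nd (.nd (.lf 224886492138634) (.lf 0)) (.nd (.lf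 222834440449194) (.lf 0)))) (.nd (.nd (.nd (.lf 131700012599180) (.lf 187671996181164)) (.nd (.lf 187534559186175) (.lf 0))) (.nd (.nd (.lf 189849544927914) (.lf 0)) (.nd (.lf 272334430141612) (.lf 0))))) (.nd (.nd (.nd (.nd (.lf 184476503935114) (.lf 132475980860615)) (.nd (.lf 228683332354042) (.lf 0))) (.nd (.nd (.lf 277831899458807) (.lf 0)) (.nd (.lf 189858970382207) (.lf 0)))) (.nd (.nd (.nd (.lf 135224844339967) (.lf 192950063364812)) (.nd (.lf 187659111279279) (.lf 0))) (.nd (.nd (.lf 150257951078344) (.lf 0)) (.nd (.lf 281129953263535) (.lf 0)))))) (.nd (.nd (.nd (.nd (.nd (.lf 193284530555055) (.lf 135204711681962)) (.nd (.lf 187649984475084) (.lf 0))) (.nd (.nd (.lf 184715755433132) (.lf 0)) (.nd (.lf 277831952072647) (.lf 0)))) (.nd (.nd (.nd (.lf 184717097282732) (.lf 187649936030922)) (.nd (.lf 135011366370439) (.lf 0))) (.nd (.nd (.lf 224903962610828) (.lf 0)) (.nd (.lf 184496675072682) (.lf 0))))) (.nd (.nd (.nd (.nd (.lf 131721462808492)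 (.lf 187650521345199)) (.nd (.lf 219696163650682) (.lf 0))) (.nd (.nd (.lf 192951351965692) (.lf 0)) (.nd (.lf 224887888149240) (.lf 0)))) (.nd (.nd (.nd (.lf 187522425202940) (.lf 187649984474364)) (.nd (.lf 136935049300655) (.lf 0))) (.nd (.nd (.lf 132458815868044) (.lf 0)) (.nd (.lf 219390295898314) (.lf 0)))))))))
/-- exponents -/
def ex4 : Tr := (.nd (.nd (.nd (.nd (.nd (.nd (.nd (.nd (.lf 223177950689962) (.lf 187534022322426)) (.nd (.lf 273411388124328) (.lf 0))) (.nd (.nd (.lf 223200810085512) (.lf 0)) (.nd (.lf 137196418680776) (.lf 0)))) (.nd (.nd (.nd (.lf 187651326513036) (.lf 281118352517372)) (.nd (.lf 154802041162410) (.lf 0))) (.nd (.nd (.lf 154793490251772) (.lf 0)) (.nd (.lf 225178687634087) (.lf 0))))) (.nd (.nd (.nd (.nd (.lf 185439449754282) (.lf 187453842164360)) (.nd (.lf 222979884239016) (.lf 0))) (.nd (.nd (.lf 132819900672680) (.lf 0)) (.nd (.lf 280980996401068) (.lf 0)))) (.nd (.nd (.nd (.lf 222855828122362) (.lf 193284986669706))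 (.nd (.lf 150129147358415) (.lf 0))) (.nd (.nd (.lf 187649481157290) (.lf 0)) (.nd (.lf 224828597259002) (.lf 0)))))) (.nd (.nd (.nd (.nd (.nd (.lf 224819199592316) (.lf 220772805954696)) (.nd (.lf 272303825682319) (.lf 0))) (.nd (.nd (.lf 220781451673512) (.lf 0)) (.nd (.lf 187650487941288) (.lf 0)))) (.nd (.nd (.nd (.lf 193285599164586) (.lf 150274726406826)) (.nd (.lf 219419896483759) (.lf 0))) (.nd (.nd (.lf 188002171923114) (.lf 0)) (.nd (.lf 185321256700039) (.lf 0))))) (.nd (.nd (.nd (.nd (.lf 154802160597135) (.lf 187650471033487)) (.nd (.lf 280980999567612) (.lf 0))) (.nd (.nd (.lf 152465693145772) (.lf 0)) (.nd (.lf 277809937951434) (.lf 0)))) (.nd (.nd (.nd (.lf 136935008565882) (.lf 275413346077306)) (.nd (.lf 187993581857964) (.lf 0))) (.nd (.nd (.lf 184715666171820) (.lf 0)) (.nd (.lf 152456969289642) (.lf 0))))))) (.nd (.nd (.nd (.nd (.nd (.nd (.lf 225158418431111) (.lf 192950063364812)) (.nd (.lf 228684728020143) (.lf 0))) (.nd (.nd (.lf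 222629506874031) (.lf 0)) (.nd (.lf 281266851707642) (.lf 0)))) (.nd (.nd (.nd (.lf 275619468978426) (.lf 192950058011271)) (.nd (.lf 220794218662650) (.lf 0))) (.nd (.nd (.lf 187649984473770) (.lf 0)) (.nd (.lf 187650471033487) (.lf 0))))) (.nd (.nd (.nd (.nd (.lf 187659881261226) (.lf 193009298143482)) (.nd (.lf 187670650735791) (.lf 0))) (.nd (.nd (.lf 225171387239036) (.lf 0)) (.nd (.lf 187505297902248) (.lf 0)))) (.nd (.nd (.nd (.lf 275619504630474) (.lf 273403301497594)) (.nd (.lf 278152816347847) (.lf 0))) (.nd (.nd (.lf 187787423435439) (.lf 0)) (.nd (.lf 187658037405903) (.lf 0)))))) (.nd (.nd (.nd (.nd (.nd (.lf 275403947617530) (.lf 281255849275338)) (.nd (.lf 220759835051944) (.lf 0))) (.nd (.nd (.lf 275406066984876) (.lf 0)) (.nd (.lf 154549963509754) (.lf 0)))) (.nd (.nd (.nd (.lf 150266136165036) (.lf 152351076756687)) (.nd (.lf 192940581103786) (.lf 0))) (.nd (.nd (.lf 184695582084988) (.lf 0)) (.nd (.lf 152473347017386) (.lf 0))))) (.nd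 (.nd (.nd (.nd (.lf 157970952342186) (.lf 152456485711050)) (.nd (.lf 275397592272812) (.lf 0))) (.nd (.nd (.lf 184351535561356) (.lf 0)) (.nd (.lf 152810518383740) (.lf 0)))) (.nd (.nd (.nd (.lf 187657800699015) (.lf 152830682376874)) (.nd (.lf 135224754875055) (.lf 0))) (.nd (.nd (.lf 187649984473770) (.lf 0)) (.nd (.lf 228675550870663) (.lf 0)))))))) (.nd (.nd (.nd (.nd (.nd (.nd (.nd (.lf 157971706989231) (.lf 185459519564490)) (.nd (.lf 281237410990727) (.lf 0))) (.nd (.nd (.lf 154458426886831) (.lf 0)) (.nd (.lf 272311655246472) (.lf 0)))) (.nd (.nd (.nd (.lf 150275749280460) (.lf 152350990568106)) (.nd (.lf 150412045355148) (.lf 0))) (.nd (.nd (.lf 152488431299242) (.lf 0)) (.nd (.lf 187809518811306) (.lf 0))))) (.nd (.nd (.nd (.nd (.lf 193284981361351) (.lf 185451047202696)) (.nd (.lf 273754765316012) (.lf 0))) (.nd (.nd (.lf 152800650230442) (.lf 0)) (.nd (.lf 224886511880314) (.lf 0)))) (.nd (.nd (.nd (.lf 150129152273610) (.lf 187659916900522))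 (.nd (.lf 185460893329327) (.lf 0))) (.nd (.nd (.lf 132813184564367) (.lf 0)) (.nd (.lf 158298146515626) (.lf 0)))))) (.nd (.nd (.nd (.nd (.nd (.lf 154811232734408) (.lf 189869674113672)) (.nd (.lf 187649984473770) (.lf 0))) (.nd (.nd (.lf 187649984473770) (.lf 0)) (.nd (.lf 137219015473788) (.lf 0)))) (.nd (.nd (.nd (.lf 185781704129226) (.lf 275757032509322)) (.nd (.lf 187796013361836) (.lf 0))) (.nd (.nd (.lf 187779368406156) (.lf 0)) (.nd (.lf 149303979933692) (.lf 0))))) (.nd (.nd (.nd (.nd (.lf 225172242017407) (.lf 187659916397191)) (.nd (.lf 272333351222012) (.lf 0))) (.nd (.nd (.lf 152817799833738) (.lf 0)) (.nd (.lf 192941384305276) (.lf 0)))) (.nd (.nd (.nd (.lf 187670888884879) (.lf 187503991237800)) (.nd (.lf 137217708828588) (.lf 0))) (.nd (.nd (.lf 224917412554671) (.lf 0)) (.nd (.lf 187808900360874) (.lf 0))))))) (.nd (.nd (.nd (.nd (.nd (.nd (.lf 278163414100687) (.lf 132820467764396)) (.nd (.lf 137081612176556) (.lf 0))) (.nd (.nd (.lf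 189849007721130) (.lf 0)) (.nd (.lf 189835353304263) (.lf 0)))) (.nd (.nd (.nd (.lf 275619588377226) (.lf 188002173889194)) (.nd (.lf 220429176994426) (.lf 0))) (.nd (.nd (.lf 185794591958952) (.lf 0)) (.nd (.lf 189986393083020) (.lf 0))))) (.nd (.nd (.nd (.nd (.lf 189650902364151) (.lf 193009567115914)) (.nd (.lf 228698329434828) (.lf 0))) (.nd (.nd (.lf 187650068380335) (.lf 0)) (.nd (.lf 184488886446031) (.lf 0)))) (.nd (.nd (.nd (.lf 190192605431722) (.lf 220794218662650)) (.nd (.lf 187797360922487) (.lf 0))) (.nd (.nd (.lf 223165037574826) (.lf 0)) (.nd (.lf 275756974320812) (.lf 0)))))) (.nd (.nd (.nd (.nd (.nd (.lf 185451579157116) (.lf 273433985273772)) (.nd (.lf 222636821424042) (.lf 0))) (.nd (.nd (.lf 275941595851386) (.lf 0)) (.nd (.lf 184488886446031) (.lf 0)))) (.nd (.nd (.nd (.lf 187658574400170) (.lf 187649984473770)) (.nd (.lf 220794245019530) (.lf 0))) (.nd (.nd (.lf 275756907210920) (.lf 0)) (.nd (.lf 152590787521191) (.lf 0))))) (.nd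 (.nd (.nd (.nd (.lf 184342826232447) (.lf 187503991257768)) (.nd (.lf 187636327631532) (.lf 0))) (.nd (.nd (.lf 187649984473770) (.lf 0)) (.nd (.lf 187659918682794) (.lf 0)))) (.nd (.nd (.nd (.lf 225170815954127) (.lf 152349681814191)) (.nd (.lf 273403301497594) (.lf 0))) (.nd (.nd (.lf 189986446682799) (.lf 0)) (.nd (.lf 131458927479471) (.lf 0)))))))))
/-- exponents -/
def ex5 : Tr := (.nd (.nd (.nd (.nd (.nd (.nd (.nd (.nd (.lf 152830682376874) (.lf 187641424752586)) (.nd (.lf 189849544600236) (.lf 0))) (.nd (.nd (.lf 134997930192042) (.lf 0)) (.nd (.lf 187649939393656) (.lf 0)))) (.nd (.nd (.nd (.lf 224835841850058) (.lf 278154913034127)) (.nd (.lf 187513080432810) (.lf 0))) (.nd (.nd (.lf 275610914716410) (.lf 0)) (.nd (.lf 275474010327215) (.lf 0))))) (.nd (.nd (.nd (.nd (.lf 187650023258056) (.lf 187657984069626)) (.nd (.lf 131575462022268) (.lf 0))) (.nd (.nd (.lf 189711649537146) (.lf 0)) (.nd (.lf 152817768237738) (.lf 0)))) (.nd (.nd (.nd (.lf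 272299528334026) (.lf 137197037341308)) (.nd (.lf 272312950106871) (.lf 0))) (.nd (.nd (.lf 281099834664876) (.lf 0)) (.nd (.lf 187786584567727) (.lf 0)))))) (.nd (.nd (.nd (.nd (.nd (.lf 187637183576716) (.lf 137218514254458)) (.nd (.lf 222629542406031) (.lf 0))) (.nd (.nd (.lf 135010059995052) (.lf 0)) (.nd (.lf 187650018028716) (.lf 0)))) (.nd (.nd (.nd (.lf 277818477423226) (.lf 222843430029258)) (.nd (.lf 140358669994746) (.lf 0))) (.nd (.nd (.lf 134654922116298) (.lf 0)) (.nd (.lf 152465651517575) (.lf 0))))) (.nd (.nd (.nd (.nd (.lf 275955943713535) (.lf 224917449116415)) (.nd (.lf 187993581877935) (.lf 0))) (.nd (.nd (.lf 273413233608874) (.lf 0)) (.nd (.lf 189642849101772) (.lf 0)))) (.nd (.nd (.nd (.lf 278146323251082) (.lf 152830682376874)) (.nd (.lf 184372420999340) (.lf 0))) (.nd (.nd (.lf 222683232643836) (.lf 0)) (.nd (.lf 193284936477322) (.lf 0))))))) (.nd (.nd (.nd (.nd (.nd (.nd (.lf 222835698726796) (.lf 157954043869130)) (.nd (.lf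 185451494944711) (.lf 0))) (.nd (.nd (.lf 275472905318314) (.lf 0)) (.nd (.lf 185450913135226) (.lf 0)))) (.nd (.nd (.nd (.lf 219338791955658) (.lf 185471633160876)) (.nd (.lf 187649984481996) (.lf 0))) (.nd (.nd (.lf 228667425804282) (.lf 0)) (.nd (.lf 184488921954991) (.lf 0))))) (.nd (.nd (.nd (.nd (.lf 219398468708991) (.lf 277797136927402)) (.nd (.lf 277809130556026) (.lf 0))) (.nd (.nd (.lf 187780175658951) (.lf 0)) (.nd (.lf 150129687048108) (.lf 0)))) (.nd (.nd (.nd (.lf 184145291291847) (.lf 223169865240495)) (.nd (.lf 157954079358890) (.lf 0))) (.nd (.nd (.lf 189986930195628) (.lf 0)) (.nd (.lf 187796013361836) (.lf 0)))))) (.nd (.nd (.nd (.nd (.nd (.lf 193273438636746) (.lf 189650639170216)) (.nd (.lf 228323861526410) (.lf 0))) (.nd (.nd (.lf 220772738583210) (.lf 0)) (.nd (.lf 184488921894906) (.lf 0)))) (.nd (.nd (.nd (.lf 224836345035468) (.lf 275954512100010)) (.nd (.lf 281118410051532) (.lf 0))) (.nd (.nd (.lf 187658542950648) (.lf 0))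 (.nd (.lf 158306806712460) (.lf 0))))) (.nd (.nd (.nd (.nd (.lf 193285011974311) (.lf 187521135315660)) (.nd (.lf 185471901280968) (.lf 0))) (.nd (.nd (.lf 185450961537274) (.lf 0)) (.nd (.lf 187641399902076) (.lf 0)))) (.nd (.nd (.nd (.lf 222835698610087) (.lf 275769293588730)) (.nd (.lf 223177117170351) (.lf 0))) (.nd (.nd (.lf 190185323954127) (.lf 0)) (.nd (.lf 154802074921098) (.lf 0)))))))) (.nd (.nd (.nd (.nd (.nd (.nd (.nd (.lf 187513084349610) (.lf 224903962610828)) (.nd (.lf 189848551606951) (.lf 0))) (.nd (.nd (.lf 273413233608874) (.lf 0)) (.nd (.lf 223199425637032) (.lf 0)))) (.nd (.nd (.nd (.lf 158306767710892) (.lf 154466262166186)) (.nd (.lf 184488840317607) (.lf 0))) (.nd (.nd (.lf 220780830587640) (.lf 0)) (.nd (.lf 185450458033320) (.lf 0))))) (.nd (.nd (.nd (.nd (.lf 275741105770380) (.lf 187638410422911)) (.nd (.lf 152453297896111) (.lf 0))) (.nd (.nd (.lf 220795673509002) (.lf 0)) (.nd (.lf 185438107926410) (.lf 0)))) (.nd (.nd (.nd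 (.lf 154802076690570) (.lf 152809209638824)) (.nd (.lf 185472944483580) (.lf 0))) (.nd (.nd (.lf 228331881146568) (.lf 0)) (.nd (.lf 187649449818106) (.lf 0)))))) (.nd (.nd (.nd (.nd (.nd (.lf 189848504281260) (.lf 224896567193592)) (.nd (.lf 187641346436986) (.lf 0))) (.nd (.nd (.lf 228676893387912) (.lf 0)) (.nd (.lf 185460924938895) (.lf 0)))) (.nd (.nd (.nd (.lf 157964510472874) (.lf 228683599024122)) (.nd (.lf 190192106928300) (.lf 0))) (.nd (.nd (.lf 134676394835148) (.lf 0)) (.nd (.lf 281255846344872) (.lf 0))))) (.nd (.nd (.nd (.nd (.lf 273412399869095) (.lf 228331998456487)) (.nd (.lf 152624528271498) (.lf 0))) (.nd (.nd (.lf 187649533462698) (.lf 0)) (.nd (.lf 193277822947212) (.lf 0)))) (.nd (.nd (.nd (.lf 222842409494730) (.lf 187512512294794)) (.nd (.lf 152474707726335) (.lf 0))) (.nd (.nd (.lf 222688864565928) (.lf 0)) (.nd (.lf 193305921484970) (.lf 0))))))) (.nd (.nd (.nd (.nd (.nd (.nd (.lf 152816962931450) (.lf 193483086735306)) (.nd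 (.lf 189849005969271) (.lf 0))) (.nd (.nd (.lf 193498887932586) (.lf 0)) (.nd (.lf 185472944483580) (.lf 0)))) (.nd (.nd (.nd (.lf 193272180542151) (.lf 225020444584647)) (.nd (.lf 228331912407802) (.lf 0))) (.nd (.nd (.lf 228331864361596) (.lf 0)) (.nd (.lf 273755488831402) (.lf 0))))) (.nd (.nd (.nd (.nd (.lf 275749726234536) (.lf 184496670157482)) (.nd (.lf 187501002914476) (.lf 0))) (.nd (.nd (.lf 185451050338474) (.lf 0)) (.nd (.lf 187993579892647) (.lf 0)))) (.nd (.nd (.nd (.lf 187774543624906) (.lf 225179981368524)) (.nd (.lf 193305917556650) (.lf 0))) (.nd (.nd (.lf 158297641233615) (.lf 0)) (.nd (.lf 192941350955722) (.lf 0)))))) (.nd (.nd (.nd (.nd (.nd (.lf 187522475534508) (.lf 131583431060172)) (.nd (.lf 275955943713535) (.lf 0))) (.nd (.nd (.lf 152465694044074) (.lf 0)) (.nd (.lf 193306003541247) (.lf 0)))) (.nd (.nd (.nd (.lf 281095588055676) (.lf 228331109525626)) (.nd (.lf 187672767941751) (.lf 0))) (.nd (.nd (.lf 192928504646316) (.lf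 0)) (.nd (.lf 152466993358791) (.lf 0))))) (.nd (.nd (.nd (.nd (.lf 275735468735176) (.lf 150130492492458)) (.nd (.lf 152487170976424) (.lf 0))) (.nd (.nd (.lf 275748890376106) (.lf 0)) (.nd (.lf 150129147358415) (.lf 0)))) (.nd (.nd (.nd (.lf 272312463690922) (.lf 219329696943303)) (.nd (.lf 187993581858735) (.lf 0))) (.nd (.nd (.lf 184145858579628) (.lf 0)) (.nd (.lf 185803146570378) (.lf 0)))))))))
end H63.JT
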