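import Cfsg.Agent.Lib.H63.OutTree2

set_option autoImplicit false
set_option linter.all false

/-! Kernel-checked upper and lower bounds for the order of the automorphism group of a relation
given by rows of bits, and of groups generated by packed tables. -/

namespace H63.MTb

open H63.PC H63.OT H35.Net

variable {n : ℕ}

/-! ### generic counting -/

theorem card_le_of {H K : Subgroup (Equiv.Perm (Fin n))} {b : Fin n} {c : ℕ}
    (hc : {q : Fin n | ∃ σ ∈ H, σ b = q}.ncard ≤ c) (hK : ∀ σ ∈ H, σ b = b → σ ∈ K) :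
    Nat.card H ≤ c * Nat.card K := by
  classical
  have hs : ∀ q : {q : Fin n | ∃ σ ∈ H, σ b = q}, ∃ σ : H, (σ : Equiv.Perm (Fin n)) b = q := by
    rintro ⟨q, σ, hσ, h⟩; exact ⟨⟨σ, hσ⟩, h⟩
  choose s hs using hs
  let f : H → {q : Fin n | ∃ σ ∈ H, σ b = q} × K := fun h =>
    (⟨(h : Equiv.Perm (Fin n)) b, h, h.2, rfl⟩,
      ⟨((s ⟨(h : Equiv.Perm (Fin n)) b, h, h.2, rfl⟩ : H) : Equiv.Perm (Fin n))⁻¹ * h, hK _
        (H.mul_mem (H.inv_mem (s _).2) h.2) (by
          rw [Equiv.Perm.mul_apply, Equiv.Perm.inv_eq_iff_eq, hs])⟩)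
  have hf : Function.Injective f := by
    intro h h' hh
    have h1 : (⟨(h : Equiv.Perm (Fin n)) b, h, h.2, rfl⟩ : {q : Fin n | ∃ σ ∈ H, σ b = q}) =
      ⟨(h' : Equiv.Perm (Fin n)) b, h', h'.2, rfl⟩ := congrArg Prod.fst hh
    have h2 := congrArg (fun z => ((Prod.snd z : K) : Equiv.Perm (Fin n))) hh
    have h3 : ((s ⟨(h : Equiv.Perm (Fin n)) b, h, h.2, rfl⟩ : H) : Equiv.Perm (Fin n))⁻¹ * h =
      ((s ⟨(h' : Equiv.Perm (Fin n)) b, h', h'.2, rfl⟩ : H) : Equiv.Perm (Fin n))⁻¹ * h' := h2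
    rw [h1] at h3
    exact Subtype.ext (mul_left_cancel h3)
  calc Nat.card H ≤ Nat.card ({q : Fin n | ∃ σ ∈ H, σ b = q} × K) := Nat.card_le_card_of_injective f hf
    _ = {q : Fin n | ∃ σ ∈ H, σ b = q}.ncard * Nat.card K := by rw [Nat.card_prod]; rfl
    _ ≤ _ := Nat.mul_le_mul_right _ hc

theorem card_ge_of {H K : Subgroup (Equiv.Perm (Fin n))} {b : Fin n} {c : ℕ} {R : Set (Fin n)}
    (hc : c ≤ R.ncard) (hR : ∀ q ∈ R, ∃ σ ∈ H, σ b = q) (hK : K ≤ H) (hb : ∀ σ ∈ K, σ b = b) :
    c * Nat.card K ≤ Nat.card H := by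
  classical
  have hs : ∀ q : R, ∃ σ : H, (σ : Equiv.Perm (Fin n)) b = q := by
    rintro ⟨q, hq⟩
    obtain ⟨σ, hσ, h⟩ := hR q hq
    exact ⟨⟨σ, hσ⟩, h⟩
  choose s hs using hs
  let f : R × K → H := fun z => s z.1 * ⟨z.2, hK z.2.2⟩
  have hf : Function.Injective f := by
    rintro ⟨q, k⟩ ⟨q', k'⟩ hh
    have h0 : ((s q * ⟨k, hK k.2⟩ : H) : Equiv.Perm (Fin n)) = ((s q' * ⟨k', hK k'.2⟩ : H) : Equiv.Perm (Fin n)) :=
      congrArg Subtype.val hh
    have h1 : ((s q : H) : Equiv.Perm (Fin n)) * (k : Equiv.Perm (Fin n)) = (s q' : H) * (k' : Equiv.Perm (Fin n)) := h0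
    have h2 := congrArg (fun ρ : Equiv.Perm (Fin n) => ρ b) h1
    have h3 : ((s q : H) : Equiv.Perm (Fin n)) ((k : Equiv.Perm (Fin n)) b) =
      ((s q' : H) : Equiv.Perm (Fin n)) ((k' : Equiv.Perm (Fin n)) b) := h2
    rw [hb _ k.2, hb _ k'.2, hs, hs] at h3
    have h4 : q = q' := Subtype.ext h3
    subst h4
    exact Prod.ext rfl (Subtype.ext (mul_left_cancel h1))
  calc c * Nat.card K ≤ R.ncard * Nat.card K := Nat.mul_le_mul_right _ hc
    _ = Nat.card (R × K) := by rw [Nat.card_prod]; rfl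
    _ ≤ _ := Nat.card_le_card_of_injective f hf

/-! ### the relation -/

/-- the check that a table preserves the relation -/
noncomputable def presT (M : ℕ → ℕ) (n T : ℕ) : Bool :=
  allN (fun u => force (M (a12 T u)) fun A => force (M u) fun B =>
    allN (fun v => Nat.beq (bt A (a12 T v)) (bt B v)) n) n

theorem pres_of_tab {M : ℕ → ℕ} {T : ℕ} {σ : Equiv.Perm (Fin n)} (h : Rp n T σ) (hc : presT M n T = true) :
    Pres M σ := by
  intro u v
  have h1 := allN_sound hc u u.2
  simp only [force_eq] at h1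
  have h2 := Nat.eq_of_beq_eq_true (allN_sound h1 v v.2)
  rw [bt_eq_iff, h u, h v] at h2
  exact h2

/-- automorphisms fixing the points of a list -/
def FixG (M : ℕ → ℕ) (n : ℕ) (l : List ℕ) : Subgroup (Equiv.Perm (Fin n)) where
  carrier := {σ | Pres M σ ∧ ∀ b : Fin n, (b : ℕ) ∈ l → σ b = b}
  one_mem' := ⟨Pres.one M, fun _ _ => rfl⟩
  mul_mem' := fun {σ τ} h1 h2 => ⟨h1.1.mul h2.1, fun b hb => by
    rw [Equiv.Perm.mul_apply, h2.2 b hb, h1.2 b hb]⟩
  inv_mem' := fun {σ} h => ⟨h.1.inv, fun b hb => by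
    rw [Equiv.Perm.inv_eq_iff_eq, h.2 b hb]⟩

theorem FixG.bit {M : ℕ → ℕ} {l : List ℕ} {σ : Equiv.Perm (Fin n)} (h : σ ∈ FixG M n l) {b : ℕ} (hb : b ∈ l)
    (hbn : b < n) (p : Fin n) : (M b).testBit (σ p) = (M b).testBit p := by
  have h1 := h.1 ⟨b, hbn⟩ p
  rw [h.2 ⟨b, hbn⟩ hb] at h1
  exact h1

/-- colour of a point relative to a list of points -/
noncomputable def col (M : ℕ → ℕ) (l : List ℕ) (p : ℕ) : ℕ :=
  List.rec (motive := fun _ => ℕ) 0 (fun b _ ih => Nat.add (Nat.mul 3 ih)
    (Bool.rec (motive := fun _ => ℕ) (bt (M b) p) 2 (Nat.beq p b))) l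

theorem col_inv {M : ℕ → ℕ} {l : List ℕ} {σ : Equiv.Perm (Fin n)} (h : σ ∈ FixG M n l) (hl : ∀ b ∈ l, b < n)
    (p : Fin n) : col M l (σ p) = col M l p := by
  have key : ∀ l' : List ℕ, (∀ b ∈ l', b ∈ l) → col M l' (σ p) = col M l' p := by
    intro l'
    induction l' with
    | nil => intro _; rfl
    | cons b l' ih =>
      intro h'
      have hb := h' b (by simp)
      have ih' := ih (fun c hc => h' c (by simp [hc]))
      have e1 : bt (M b) (σ p) = bt (M b) p := bt_eq_iff.mpr (FixG.bit h hb (hl b hb) p)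
      have e2 : Nat.beq (σ p) b = Nat.beq p b := by
        have : ((σ p : ℕ) = b) ↔ ((p : ℕ) = b) := by
          have h2 := h.2 ⟨b, hl b hb⟩ hb
          constructor
          · intro h3
            have h4 : σ p = ⟨b, hl b hb⟩ := Fin.ext h3
            rw [← h2] at h4
            exact congrArg Fin.val (σ.injective h4)
          · intro h3
            have h4 : p = ⟨b, hl b hb⟩ := Fin.ext h3
            rw [h4, h2]
        cases hc : Nat.beq (σ p) b with
        | true => rw [this.mp (Nat.eq_of_beq_eq_true hc), Nat.beq_refl]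
        | false =>
          cases hd : Nat.beq (p : ℕ) b with
          | false => rfl
          | true =>
            rw [this.mpr (Nat.eq_of_beq_eq_true hd), Nat.beq_refl] at hc
            exact absurd hc (by decide)
      change Nat.add (Nat.mul 3 (col M l' (σ p))) (Bool.rec (motive := fun _ => ℕ) (bt (M b) (σ p)) 2 (Nat.beq (σ p) b)) =
        Nat.add (Nat.mul 3 (col M l' p)) (Bool.rec (motive := fun _ => ℕ) (bt (M b) p) 2 (Nat.beq p b))
      rw [ih', e1, e2]
  exact key l (fun _ h => h)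

/-- the class of `b` for an invariant colouring -/
theorem cell {H : Subgroup (Equiv.Perm (Fin n))} {f : ℕ → ℕ} (hf : ∀ σ ∈ H, ∀ p : Fin n, f (σ p) = f p)
    {b : Fin n} {c : ℕ} (hc : cntA (fun p => Nat.beq (f p) (f b)) n 0 = c) :
    {q : Fin n | ∃ σ ∈ H, σ b = q}.ncard ≤ c := by
  classical
  have h1 : {q : Fin n | ∃ σ ∈ H, σ b = q} ⊆
      ((Finset.univ.filter fun q : Fin n => Nat.beq (f q) (f b) = true : Finset (Fin n)) : Set (Fin n)) := by
    rintro q ⟨σ, hσ, rfl⟩
    simp only [Finset.coe_filter, Finset.mem_univ, true_and, Set.mem_setOf_eq]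
    rw [hf σ hσ]
    exact Nat.beq_refl _
  refine (Set.ncard_le_ncard h1 (Finset.finite_toSet _)).trans ?_
  rw [Set.ncard_coe_finset, ← hc, cntA_spec, zero_add, Finset.card_filter,
    Finset.sum_range (fun i => if (Nat.beq (f i) (f b)) = true then 1 else 0)]

theorem level_up {M : ℕ → ℕ} {l : List ℕ} {f : ℕ → ℕ} (hf : ∀ σ ∈ FixG M n l, ∀ p : Fin n, f (σ p) = f p)
    {b c m : ℕ} (hb : b < n) (hc : cntA (fun p => Nat.beq (f p) (f b)) n 0 = c)
    (hm : Nat.card (FixG M n (b :: l)) ≤ m) : Nat.card (FixG M n l) ≤ c * m := by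
  refine (card_le_of (K := FixG M n (b :: l)) (b := ⟨b, hb⟩) (cell hf hc) ?_).trans (Nat.mul_le_mul_left _ hm)
  intro σ hσ hs
  refine ⟨hσ.1, fun b' hb' => ?_⟩
  rcases List.mem_cons.mp hb' with h | h
  · have : b' = ⟨b, hb⟩ := Fin.ext h
    rw [this]; exact hs
  · exact hσ.2 b' h

/-- mask of a colour class -/
noncomputable def mkMask (f : ℕ → ℕ) (v n : ℕ) : ℕ :=
  Nat.rec (motive := fun _ => ℕ) 0 (fun p ih => Bool.rec (motive := fun _ => ℕ) ih
    (Nat.lor ih (Nat.shiftLeft 1 p)) (Nat.beq (f p) v)) n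

theorem one_shift_testBit (p q : ℕ) : (Nat.shiftLeft 1 p).testBit q = decide (q = p) := by
  have h : Nat.shiftLeft 1 p = 1 <<< p := rfl
  rw [h, Nat.one_shiftLeft, Nat.testBit_two_pow]
  exact decide_eq_decide.mpr eq_comm

theorem mkMask_spec (f : ℕ → ℕ) (v n q : ℕ) : (mkMask f v n).testBit q = true ↔ q < n ∧ f q = v := by
  induction n with
  | zero =>
    have h0 : mkMask f v 0 = 0 := rfl
    rw [h0, Nat.zero_testBit]
    simp
  | succ n ih =>
    have e : mkMask f v (n + 1) = Bool.rec (motive := fun _ => ℕ) (mkMask f v n)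
      (Nat.lor (mkMask f v n) (Nat.shiftLeft 1 n)) (Nat.beq (f n) v) := rfl
    rw [e]
    cases hb : Nat.beq (f n) v with
    | true =>
      have h1 := Nat.eq_of_beq_eq_true hb
      show (mkMask f v n ||| Nat.shiftLeft 1 n).testBit q = true ↔ _
      rw [Nat.testBit_or, Bool.or_eq_true, ih, one_shift_testBit, decide_eq_true_eq]
      constructor
      · rintro (h | h)
        · exact ⟨by omega, h.2⟩
        · subst h; exact ⟨by omega, h1⟩
      · rintro ⟨h2, h3⟩
        rcases Nat.lt_or_ge q n with h4 | h4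
        · exact Or.inl ⟨h4, h3⟩
        · exact Or.inr (by omega)
    | false =>
      have h1 : f n ≠ v := fun h => by rw [h, Nat.beq_refl] at hb; exact absurd hb (by decide)
      show (mkMask f v n).testBit q = true ↔ _
      rw [ih]
      constructor
      · rintro ⟨h2, h3⟩; exact ⟨by omega, h3⟩
      · rintro ⟨h2, h3⟩
        refine ⟨?_, h3⟩
        rcases Nat.lt_or_ge q n with h4 | h4
        · exact h4
        · exfalso
          have : q = n := by omega
          subst this
          exact h1 h3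

/-- number of bits `< n` -/
noncomputable def cntM (W n : ℕ) : ℕ := cntA (fun q => Nat.beq (bt W q) 1) n 0

theorem cntM_spec (W n : ℕ) : cntM W n = ∑ q : Fin n, if W.testBit q = true then 1 else 0 := by
  rw [cntM, cntA_spec, zero_add, Finset.sum_range (fun i => if (Nat.beq (bt W i) 1) = true then 1 else 0)]
  apply Finset.sum_congr rfl
  intro i _
  congr 1
  apply propext
  rw [← bt_one]
  exact ⟨Nat.eq_of_beq_eq_true, fun h => by rw [h]; rfl⟩

theorem cntM_inv {M : ℕ → ℕ} {S : ℕ} {σ : Equiv.Perm (Fin n)} (hP : Pres M σ)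
    (hS : ∀ p : Fin n, S.testBit (σ p) = S.testBit p) (p : Fin n) :
    cntM (Nat.land (M (σ p)) S) n = cntM (Nat.land (M p) S) n := by
  have e : ∀ a b : ℕ, Nat.land a b = a &&& b := fun _ _ => rfl
  rw [cntM_spec, cntM_spec, ← Equiv.sum_comp σ]
  apply Finset.sum_congr rfl
  intro q _
  rw [e, e, Nat.testBit_and, Nat.testBit_and, hP p q, hS q]

/-- refined colour -/
noncomputable def col1 (M : ℕ → ℕ) (l : List ℕ) (S n p : ℕ) : ℕ :=
  Nat.add (Nat.mul 1024 (col M l p)) (cntM (Nat.land (M p) S) n)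

theorem col1_inv {M : ℕ → ℕ} {l : List ℕ} {v : ℕ} (hl : ∀ b ∈ l, b < n) {σ : Equiv.Perm (Fin n)}
    (hσ : σ ∈ FixG M n l) (p : Fin n) :
    col1 M l (mkMask (col M l) v n) n (σ p) = col1 M l (mkMask (col M l) v n) n p := by
  have h1 := col_inv hσ hl p
  have h2 := cntM_inv (S := mkMask (col M l) v n) hσ.1 (fun q => by
    apply Bool.eq_iff_iff.mpr
    rw [mkMask_spec, mkMask_spec, col_inv hσ hl q]
    exact ⟨fun h => ⟨q.2, h.2⟩, fun h => ⟨(σ q).2, h.2⟩⟩) p
  rw [col1, col1, h1, h2]

/-- entry with 32 bits -/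
noncomputable def a32 (T i : ℕ) : ℕ := Nat.land (Nat.shiftRight T (Nat.mul 32 i)) 4294967295

/-- the table of a colouring -/
noncomputable def tabChk (M : ℕ → ℕ) (l : List ℕ) (v n T : ℕ) : Bool :=
  force (mkMask (col M l) v n) fun S => allN (fun p => Nat.beq (a32 T p) (col1 M l S n p)) n

theorem tab_inv {M : ℕ → ℕ} {l : List ℕ} {v T : ℕ} (hl : ∀ b ∈ l, b < n) (h : tabChk M l v n T = true)
    {σ : Equiv.Perm (Fin n)} (hσ : σ ∈ FixG M n l) (p : Fin n) : a32 T (σ p) = a32 T p := by
  rw [tabChk, force_eq] at h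
  rw [Nat.eq_of_beq_eq_true (allN_sound h (σ p) (σ p).2), Nat.eq_of_beq_eq_true (allN_sound h p p.2)]
  exact col1_inv hl hσ p

/-- points which are alone in their class -/
noncomputable def sglChk (T n : ℕ) (F : List ℕ) : Bool :=
  List.rec (motive := fun _ => Bool) true (fun b _ ih => band (Nat.blt b n)
    (band (allN (fun p => Bool.rec (motive := fun _ => Bool) (Bool.not (Nat.beq (a32 T p) (a32 T b))) true
      (Nat.beq p b)) n) ih)) F

theorem sgl {T : ℕ} {H : Subgroup (Equiv.Perm (Fin n))} (hf : ∀ σ ∈ H, ∀ p : Fin n, a32 T (σ p) = a32 T p)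
    {F : List ℕ} (h : sglChk T n F = true) {σ : Equiv.Perm (Fin n)} (hσ : σ ∈ H) :
    ∀ b : Fin n, (b : ℕ) ∈ F → σ b = b := by
  induction F with
  | nil => intro b hb; simp at hb
  | cons a F ih =>
    have h' : band (Nat.blt a n) (band (allN (fun p => Bool.rec (motive := fun _ => Bool)
      (Bool.not (Nat.beq (a32 T p) (a32 T a))) true (Nat.beq p a)) n) (sglChk T n F)) = true := h
    rw [band_iff, band_iff] at h'
    obtain ⟨_, h1, h2⟩ := h'
    intro b hb
    rcases List.mem_cons.mp hb with h3 | h3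
    · have h4 := allN_sound h1 (σ b) (σ b).2
      cases hc : Nat.beq (σ b) a with
      | true => exact Fin.ext ((Nat.eq_of_beq_eq_true hc).trans h3.symm)
      | false =>
        rw [hc] at h4
        have h5 : Bool.not (Nat.beq (a32 T (σ b)) (a32 T a)) = true := h4
        rw [hf σ hσ b, h3, Nat.beq_refl] at h5
        exact absurd h5 (by decide)
    · exact ih h2 b h3

/-- the points with the adjacencies of `p` to the points of the list -/
noncomputable def iso (M : ℕ → ℕ) (F : ℕ) (l : List ℕ) (p : ℕ) : ℕ :=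
  List.rec (motive := fun _ => ℕ) F (fun b _ ih => Nat.land (Bool.rec (motive := fun _ => ℕ)
    (Nat.xor F (M b)) (M b) (Nat.beq (bt (M b) p) 1)) ih) l

theorem iso_spec {M : ℕ → ℕ} {l : List ℕ} {σ : Equiv.Perm (Fin n)} (hl : ∀ b ∈ l, b < n)
    (h : σ ∈ FixG M n l) (p : Fin n) : (iso M (2 ^ n - 1) l p).testBit (σ p) = true := by
  have key : ∀ l' : List ℕ, (∀ b ∈ l', b ∈ l) → (iso M (2 ^ n - 1) l' p).testBit (σ p) = true := by
    intro l'
    induction l' with
    | nil =>
      intro _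
      show (2 ^ n - 1 : ℕ).testBit (σ p) = true
      rw [Nat.testBit_two_pow_sub_one]
      simp
    | cons b l' ih =>
      intro h'
      have hb := h' b (by simp)
      show (Nat.land (Bool.rec (motive := fun _ => ℕ) (Nat.xor (2 ^ n - 1) (M b)) (M b) (Nat.beq (bt (M b) p) 1))
        (iso M (2 ^ n - 1) l' p)).testBit (σ p) = true
      have e : ∀ a b : ℕ, Nat.land a b = a &&& b := fun _ _ => rfl
      rw [e, Nat.testBit_and, ih (fun c hc => h' c (by simp [hc])), Bool.and_true]
      have h1 := FixG.bit h hb (hl b hb) p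
      cases hc : Nat.beq (bt (M b) p) 1 with
      | true =>
        show (M b).testBit (σ p) = true
        rw [h1]
        exact bt_one.mp (Nat.eq_of_beq_eq_true hc)
      | false =>
        have h2 : (M b).testBit p = false := by
          cases hh : (M b).testBit p with
          | false => rfl
          | true => rw [bt_one.mpr hh] at hc; exact absurd hc (by decide)
        show ((2 ^ n - 1) ^^^ (M b)).testBit (σ p) = true
        rw [Nat.testBit_xor, h1, h2, Nat.testBit_two_pow_sub_one]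
        simp
  exact key l (fun _ h => h)

/-- all points are determined -/
noncomputable def isoChk (M : ℕ → ℕ) (F : ℕ) (l : List ℕ) (n : ℕ) : Bool :=
  allN (fun p => Bool.rec (motive := fun _ => Bool) (Nat.beq (iso M F l p) (Nat.shiftLeft 1 p)) true
    (List.rec (motive := fun _ => Bool) false (fun b _ ih => Bool.rec (motive := fun _ => Bool) ih true
      (Nat.beq b p)) l)) n

theorem mem_of_recB {l : List ℕ} {p : ℕ} (h : (List.rec (motive := fun _ => Bool) false
    (fun b _ ih => Bool.rec (motive := fun _ => Bool) ih true (Nat.beq b p)) l : Bool) = true) : p ∈ l := by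
  induction l with
  | nil => exact absurd (show false = true from h) (by decide)
  | cons b l ih =>
    cases hb : Nat.beq b p with
    | true => rw [Nat.eq_of_beq_eq_true hb]; exact List.mem_cons_self
    | false =>
      have h' : (Bool.rec (motive := fun _ => Bool) (List.rec (motive := fun _ => Bool) false
        (fun b _ ih => Bool.rec (motive := fun _ => Bool) ih true (Nat.beq b p)) l) true (Nat.beq b p) : Bool) = true := h
      rw [hb] at h'
      exact List.mem_cons_of_mem _ (ih h')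

theorem eq_one {M : ℕ → ℕ} {l : List ℕ} {F : ℕ} (hF : F = 2 ^ n - 1) (hl : ∀ b ∈ l, b < n)
    (hc : isoChk M F l n = true) {σ : Equiv.Perm (Fin n)} (h : σ ∈ FixG M n l) : σ = 1 := by
  subst hF
  ext p
  have h1 := allN_sound hc p p.2
  rw [Equiv.Perm.one_apply]
  cases hm : (List.rec (motive := fun _ => Bool) false
    (fun b _ ih => Bool.rec (motive := fun _ => Bool) ih true (Nat.beq b (p : ℕ))) l : Bool) with
  | true => rw [h.2 p (mem_of_recB hm)]
  | false =>
    rw [hm] at h1
    have h2 : Nat.beq (iso M (2 ^ n - 1) l p) (Nat.shiftLeft 1 p) = true := h1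
    have h3 := iso_spec hl h p
    rw [Nat.eq_of_beq_eq_true h2, one_shift_testBit, decide_eq_true_eq] at h3
    exact h3

/-- the last level -/
theorem last {M : ℕ → ℕ} {l : List ℕ} {v T F : ℕ} {G : List ℕ} (hF : F = 2 ^ n - 1) (hl : ∀ b ∈ l, b < n)
    (hG : ∀ b ∈ G, b < n) (ht : tabChk M l v n T = true) (hs : sglChk T n G = true)
    (hi : isoChk M F G n = true) : Nat.card (FixG M n l) ≤ 1 := by
  have h1 : FixG M n l = ⊥ := by
    rw [eq_bot_iff]
    intro σ hσ
    rw [Subgroup.mem_bot]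
    refine eq_one hF hG hi ⟨hσ.1, sgl (fun σ hσ p => tab_inv hl ht hσ p) hs hσ⟩
  rw [h1, Subgroup.card_bot]

/-! ### lower bounds -/

/-- permutations fixing the points of a list -/
def Fx (n : ℕ) (l : List ℕ) : Subgroup (Equiv.Perm (Fin n)) where
  carrier := {σ | ∀ b : Fin n, (b : ℕ) ∈ l → σ b = b}
  one_mem' := fun _ _ => rfl
  mul_mem' := fun {σ τ} h1 h2 b hb => by rw [Equiv.Perm.mul_apply, h2 b hb, h1 b hb]
  inv_mem' := fun {σ} h b hb => by rw [Equiv.Perm.inv_eq_iff_eq, h b hb]

variable {L : Type}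

/-- image of a mask under a word -/
noncomputable def imgW (TL : L → ℕ) (w : List L) (n R : ℕ) : ℕ :=
  Nat.rec (motive := fun _ => ℕ) 0 (fun i ih => Bool.rec (motive := fun _ => ℕ) ih
    (Nat.lor ih (Nat.shiftLeft 1 (evw TL w i))) (Nat.beq (bt R i) 1)) n

theorem imgW_spec {TL : L → ℕ} {w : List L} {n R q : ℕ} (h : (imgW TL w n R).testBit q = true) :
    ∃ i < n, R.testBit i = true ∧ evw TL w i = q := by
  induction n with
  | zero =>
    have h0 : imgW TL w 0 R = 0 := rfl
    rw [h0, Nat.zero_testBit] at h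
    exact absurd h (by decide)
  | succ n ih =>
    have e : imgW TL w (n + 1) R = Bool.rec (motive := fun _ => ℕ) (imgW TL w n R)
      (Nat.lor (imgW TL w n R) (Nat.shiftLeft 1 (evw TL w n))) (Nat.beq (bt R n) 1) := rfl
    rw [e] at h
    cases hb : Nat.beq (bt R n) 1 with
    | true =>
      rw [hb] at h
      have h' : (imgW TL w n R ||| Nat.shiftLeft 1 (evw TL w n)).testBit q = true := h
      rw [Nat.testBit_or, Bool.or_eq_true, one_shift_testBit, decide_eq_true_eq] at h'
      rcases h' with h' | h'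
      · obtain ⟨i, hi, h1⟩ := ih h'
        exact ⟨i, Nat.lt_succ_of_lt hi, h1⟩
      · exact ⟨n, Nat.lt_succ_self n, bt_one.mp (Nat.eq_of_beq_eq_true hb), h'.symm⟩
    | false =>
      rw [hb] at h
      obtain ⟨i, hi, h1⟩ := ih h
      exact ⟨i, Nat.lt_succ_of_lt hi, h1⟩

/-- one round -/
noncomputable def stepW (TL : L → ℕ) (ws : List (List L)) (n : ℕ) : ℕ → ℕ :=
  List.rec (motive := fun _ => ℕ → ℕ) (fun R => R)
    (fun w _ ih R => force (Nat.lor R (imgW TL w n R)) ih) ws

/-- rounds -/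
noncomputable def reachW (TL : L → ℕ) (ws : List (List L)) (n k : ℕ) : ℕ → ℕ :=
  Nat.rec (motive := fun _ => ℕ → ℕ) (fun R => R) (fun _ ih R => force (stepW TL ws n R) ih) k

section
variable {TL : L → ℕ} {π : L → Equiv.Perm (Fin n)} {K : Subgroup (Equiv.Perm (Fin n))} {b : Fin n}

theorem stepW_spec (h : ∀ a, Rp n (TL a) (π a)) {ws : List (List L)} (hw : ∀ w ∈ ws, (w.map π).prod ∈ K) {R : ℕ}
    (hR : ∀ q, R.testBit q = true → ∃ σ ∈ K, (σ b : ℕ) = q) :
    ∀ q, (stepW TL ws n R).testBit q = true → ∃ σ ∈ K, (σ b : ℕ) = q := by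
  induction ws generalizing R with
  | nil => exact hR
  | cons w ws ih =>
    intro q hq
    have hq' : (force (Nat.lor R (imgW TL w n R)) (stepW TL ws n)).testBit q = true := hq
    rw [force_eq] at hq'
    refine ih (fun w hw' => hw w (by simp [hw'])) ?_ q hq'
    intro q hq
    have hq'' : (R ||| imgW TL w n R).testBit q = true := hq
    rw [Nat.testBit_or, Bool.or_eq_true] at hq''
    rcases hq'' with h1 | h1
    · exact hR q h1
    · obtain ⟨i, hi, h2, h3⟩ := imgW_spec h1
      obtain ⟨σ, hσ, h4⟩ := hR i h2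
      refine ⟨(w.map π).prod * σ, K.mul_mem (hw w (by simp)) hσ, ?_⟩
      rw [Equiv.Perm.mul_apply, ← evw_spec h, h4, h3]

theorem reachW_spec (h : ∀ a, Rp n (TL a) (π a)) {ws : List (List L)} (hw : ∀ w ∈ ws, (w.map π).prod ∈ K)
    {k R : ℕ} (hR : ∀ q, R.testBit q = true → ∃ σ ∈ K, (σ b : ℕ) = q) :
    ∀ q, (reachW TL ws n k R).testBit q = true → ∃ σ ∈ K, (σ b : ℕ) = q := by
  induction k generalizing R with
  | zero => exact hR
  | succ k ih =>
    intro q hq
    have hq' : (force (stepW TL ws n R) (reachW TL ws n k)).testBit q = true := hq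
    rw [force_eq] at hq'
    exact ih (stepW_spec h hw hR) q hq'

end

/-- all words fix all points -/
noncomputable def fixW (TL : L → ℕ) (ws : List (List L)) (l : List ℕ) : Bool :=
  List.rec (motive := fun _ => Bool) true (fun w _ ih => band (List.rec (motive := fun _ => Bool) true
    (fun b _ ih2 => band (Nat.beq (evw TL w b) b) ih2) l) ih) ws

theorem fixW_spec {TL : L → ℕ} {l : List ℕ} : ∀ {ws : List (List L)}, fixW TL ws l = true →
    ∀ w ∈ ws, ∀ b ∈ l, evw TL w b = b := by
  intro ws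
  induction ws with
  | nil => intro _ w hw; simp at hw
  | cons w ws ih =>
    intro h
    have h' : band (List.rec (motive := fun _ => Bool) true
      (fun b _ ih2 => band (Nat.beq (evw TL w b) b) ih2) l) (fixW TL ws l) = true := h
    rw [band_iff] at h'
    intro w' hw' b hb
    rcases List.mem_cons.mp hw' with rfl | hw'
    · have key : ∀ l : List ℕ, (List.rec (motive := fun _ => Bool) true
          (fun b _ ih2 => band (Nat.beq (evw TL w' b) b) ih2) l : Bool) = true → ∀ b ∈ l, evw TL w' b = b := by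
        intro l
        induction l with
        | nil => intro _ b hb; simp at hb
        | cons a l ihl =>
          intro h b hb
          have h2 : band (Nat.beq (evw TL w' a) a) (List.rec (motive := fun _ => Bool) true
            (fun b _ ih2 => band (Nat.beq (evw TL w' b) b) ih2) l) = true := h
          rw [band_iff] at h2
          rcases List.mem_cons.mp hb with rfl | hb
          · exact Nat.eq_of_beq_eq_true h2.1
          · exact ihl h2.2 b hb
      exact key l h'.1 b hb
    · exact ih h'.2 w' hw' b hb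

/-- one level of a lower bound -/
theorem level_low {TL : L → ℕ} {π : L → Equiv.Perm (Fin n)} (h : ∀ a, Rp n (TL a) (π a))
    {H : Subgroup (Equiv.Perm (Fin n))} {ws : List (List L)} (hw : ∀ w ∈ ws, (w.map π).prod ∈ H)
    {l : List ℕ} (hfx : fixW TL ws l = true) {b c k m : ℕ} (hb : b < n)
    (hc : Nat.ble c (cntM (reachW TL ws n k (Nat.shiftLeft 1 b)) n) = true)
    (hm : m ≤ Nat.card (H ⊓ Fx n (b :: l) : Subgroup (Equiv.Perm (Fin n)))) :
    c * m ≤ Nat.card (H ⊓ Fx n l : Subgroup (Equiv.Perm (Fin n))) := by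
  classical
  refine (Nat.mul_le_mul_left c hm).trans ?_
  have hK : ∀ w ∈ ws, (w.map π).prod ∈ H ⊓ Fx n l := by
    intro w hw'
    refine ⟨hw w hw', ?_⟩
    intro b' hb'
    apply Fin.ext
    rw [← evw_spec h]
    exact fixW_spec hfx w hw' b' hb'
  refine card_ge_of (b := ⟨b, hb⟩)
    (R := {q : Fin n | (reachW TL ws n k (Nat.shiftLeft 1 b)).testBit q = true}) ?_ ?_ ?_ ?_
  · refine (Nat.le_of_ble_eq_true hc).trans (le_of_eq ?_)
    rw [cntM_spec, ← Finset.card_filter, ← Set.ncard_coe_finset]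
    congr 1
    ext q
    simp
  · intro q hq
    obtain ⟨σ, hσ, h1⟩ := reachW_spec (b := ⟨b, hb⟩) h hK (R := Nat.shiftLeft 1 b) (by
      intro q hq
      rw [one_shift_testBit, decide_eq_true_eq] at hq
      exact ⟨1, one_mem _, hq.symm⟩) q hq
    exact ⟨σ, hσ, Fin.ext h1⟩
  · intro σ hσ
    exact ⟨hσ.1, fun b' hb' => hσ.2 b' (by simp [hb'])⟩
  · intro σ hσ
    exact hσ.2 ⟨b, hb⟩ (by simp)

end H63.MTb
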