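import Cfsg.Agent.Lib.H63.MarggrafNum

/-! Marggraf's theorem: a primitive group with a Jordan set of size strictly between 1 and half the degree contains the
alternating group (helper63). -/

namespace H63.Marggraf

open Finset MulAction Pointwise

section basic

variable {G Ω : Type*} [Group G] [MulAction G Ω] [DecidableEq Ω]

/-- Elementary form of Jordan sets. -/
def IsJ (G : Type*) {Ω : Type*} [Group G] [MulAction G Ω] (Γ : Finset Ω) : Prop :=
  ∀ x ∈ Γ, ∀ y ∈ Γ, ∃ g : G, (∀ z, z ∉ Γ → g • z = z) ∧ g • x = y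

theorem IsJ.smul {Γ : Finset Ω} (h : IsJ G Γ) (g : G) : IsJ G (g • Γ) := by
  intro x hx y hy
  rw [← Finset.inv_smul_mem_iff] at hx hy
  obtain ⟨k, hk, hkx⟩ := h _ hx _ hy
  refine ⟨g * k * g⁻¹, ?_, ?_⟩
  · intro z hz
    have : g⁻¹ • z ∉ Γ := by rwa [Finset.inv_smul_mem_iff]
    rw [mul_smul, mul_smul, hk _ this, smul_inv_smul]
  · rw [mul_smul, mul_smul, hkx, smul_inv_smul]

theorem IsJ.union {Γ Γ' : Finset Ω} (h : IsJ G Γ) (h' : IsJ G Γ') {p : Ω} (hp : p ∈ Γ) (hp' : p ∈ Γ') :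
    IsJ G (Γ ∪ Γ') := by
  have key : ∀ x ∈ Γ ∪ Γ', ∃ g : G, (∀ z, z ∉ Γ ∪ Γ' → g • z = z) ∧ g • x = p := by
    intro x hx
    rcases Finset.mem_union.mp hx with hx | hx
    · obtain ⟨g, hg, hgx⟩ := h x hx p hp
      exact ⟨g, fun z hz => hg z (fun hz' => hz (Finset.mem_union_left _ hz')), hgx⟩
    · obtain ⟨g, hg, hgx⟩ := h' x hx p hp'
      exact ⟨g, fun z hz => hg z (fun hz' => hz (Finset.mem_union_right _ hz')), hgx⟩
  intro x hx y hy
  obtain ⟨g, hg, hgx⟩ := key x hx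
  obtain ⟨k, hk, hky⟩ := key y hy
  refine ⟨k⁻¹ * g, ?_, ?_⟩
  · intro z hz
    rw [mul_smul, hg z hz, inv_smul_eq_iff, hk z hz]
  · rw [mul_smul, hgx, inv_smul_eq_iff, hky]

/-- `G` can map any set of at most `t` points in any injective way. -/
def TT (G : Type*) (Ω : Type*) [Group G] [MulAction G Ω] (t : ℕ) : Prop :=
  ∀ U : Finset Ω, U.card ≤ t → ∀ f : Ω → Ω, Set.InjOn f (U : Set Ω) → ∃ g : G, ∀ u ∈ U, g • u = f u

theorem TT.succ {t : ℕ} (h : TT G Ω t)
    (h1 : ∀ X : Finset Ω, X.card = t → ∀ y z, y ∉ X → z ∉ X → ∃ g : G, (∀ x ∈ X, g • x = x) ∧ g • y = z) :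
    TT G Ω (t + 1) := by
  intro U hU f hf
  rcases Nat.lt_or_ge U.card (t + 1) with hlt | hge
  · exact h U (by omega) f hf
  · have hUc : U.card = t + 1 := le_antisymm hU hge
    obtain ⟨u, hu⟩ : U.Nonempty := by rw [← Finset.card_pos]; omega
    have hE : (U.erase u).card = t := by rw [Finset.card_erase_of_mem hu, hUc]; rfl
    have hf' : Set.InjOn f ((U.erase u : Finset Ω) : Set Ω) :=
      hf.mono (by exact_mod_cast Finset.erase_subset u U)
    obtain ⟨g0, hg0⟩ := h (U.erase u) hE.le f hf'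
    have hX : ((U.erase u).image f).card = t := by rw [Finset.card_image_of_injOn hf', hE]
    obtain ⟨g1, hg1, hg1'⟩ := h1 ((U.erase u).image f) hX (g0 • u) (f u) (by
      intro hcon
      obtain ⟨w, hw, hw'⟩ := Finset.mem_image.mp hcon
      rw [← hg0 w hw] at hw'
      have := MulAction.injective g0 hw'
      rw [this] at hw
      exact Finset.notMem_erase u U hw) (by
      intro hcon
      obtain ⟨w, hw, hw'⟩ := Finset.mem_image.mp hcon
      have := hf (Finset.mem_coe.mpr (Finset.mem_of_mem_erase hw)) (Finset.mem_coe.mpr hu) hw'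
      rw [this] at hw
      exact Finset.notMem_erase u U hw)
    refine ⟨g1 * g0, ?_⟩
    intro w hw
    rw [mul_smul]
    by_cases hwu : w = u
    · rw [hwu, hg1']
    · have hw' : w ∈ U.erase u := Finset.mem_erase.mpr ⟨hwu, hw⟩
      rw [hg0 w hw']
      exact hg1 _ (Finset.mem_image_of_mem f hw')

/-- Mapping a pair `A ⊆ U` to a pair `A' ⊆ U'`. -/
theorem TT.exists_smul {t : ℕ} (h : TT G Ω t) {A U A' U' : Finset Ω} (hA : A ⊆ U) (hA' : A' ⊆ U')
    (hU : U.card ≤ t) (hUU : U.card = U'.card) (hAA : A.card = A'.card) : ∃ g : G, g • A = A' ∧ g • U = U' := by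
  have e1 : A ≃ A' := Finset.equivOfCardEq hAA
  have hD : (U \ A).card = (U' \ A').card := by
    rw [Finset.card_sdiff_of_subset hA, Finset.card_sdiff_of_subset hA', hUU, hAA]
  have e2 : (U \ A : Finset Ω) ≃ (U' \ A' : Finset Ω) := Finset.equivOfCardEq hD
  let f : Ω → Ω := fun x => if hx : x ∈ A then (e1 ⟨x, hx⟩ : Ω) else if hx' : x ∈ U \ A then (e2 ⟨x, hx'⟩ : Ω) else x
  have hf1 : ∀ x (hx : x ∈ A), f x = e1 ⟨x, hx⟩ := fun x hx => by simp [f, hx]
  have hf2 : ∀ x (hx : x ∈ U \ A), f x = e2 ⟨x, hx⟩ := fun x hx => by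
    have : x ∉ A := (Finset.mem_sdiff.mp hx).2
    have hxU : x ∈ U := (Finset.mem_sdiff.mp hx).1
    simp [f, this, hxU]
  have hfinj : Set.InjOn f (U : Set Ω) := by
    intro x hx y hy hxy
    have hx := Finset.mem_coe.mp hx
    have hy := Finset.mem_coe.mp hy
    by_cases hxA : x ∈ A
    · by_cases hyA : y ∈ A
      · rw [hf1 x hxA, hf1 y hyA] at hxy
        have := e1.injective (Subtype.ext hxy)
        exact congrArg Subtype.val this
      · have hy' : y ∈ U \ A := Finset.mem_sdiff.mpr ⟨hy, hyA⟩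
        rw [hf1 x hxA, hf2 y hy'] at hxy
        have h1 := (e1 ⟨x, hxA⟩).2
        have h2 := (e2 ⟨y, hy'⟩).2
        rw [hxy] at h1
        exact absurd h1 (Finset.mem_sdiff.mp h2).2
    · have hx' : x ∈ U \ A := Finset.mem_sdiff.mpr ⟨hx, hxA⟩
      by_cases hyA : y ∈ A
      · rw [hf1 y hyA, hf2 x hx'] at hxy
        have h1 := (e1 ⟨y, hyA⟩).2
        have h2 := (e2 ⟨x, hx'⟩).2
        rw [← hxy] at h1
        exact absurd h1 (Finset.mem_sdiff.mp h2).2
      · have hy' : y ∈ U \ A := Finset.mem_sdiff.mpr ⟨hy, hyA⟩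
        rw [hf2 x hx', hf2 y hy'] at hxy
        have := e2.injective (Subtype.ext hxy)
        exact congrArg Subtype.val this
  obtain ⟨g, hg⟩ := h U hU f hfinj
  refine ⟨g, ?_, ?_⟩
  · apply Finset.eq_of_subset_of_card_le
    · intro x hx
      obtain ⟨y, hy, rfl⟩ := Finset.mem_smul_finset.mp hx
      rw [hg y (hA hy), hf1 y hy]
      exact (e1 _).2
    · rw [Finset.card_smul_finset, hAA]
  · apply Finset.eq_of_subset_of_card_le
    · intro x hx
      obtain ⟨y, hy, rfl⟩ := Finset.mem_smul_finset.mp hx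
      rw [hg y hy]
      by_cases hyA : y ∈ A
      · rw [hf1 y hyA]
        exact hA' (e1 _).2
      · rw [hf2 y (Finset.mem_sdiff.mpr ⟨hy, hyA⟩)]
        exact Finset.sdiff_subset (e2 _).2
    · rw [Finset.card_smul_finset, hUU]

end basic

end H63.Marggraf
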