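import Cfsg.Agent.Lib.H63.Marggraf

/-! Counting lemma for Marggraf's theorem (helper63). -/

namespace H63.Marggraf

open Finset MulAction Pointwise

section count

variable {G Ω : Type*} [Group G] [MulAction G Ω] [Fintype Ω] [DecidableEq Ω]

open Classical in
/-- The orbit of `Γ`. -/
noncomputable def orb (G : Type*) {Ω : Type*} [Group G] [MulAction G Ω] [Fintype Ω] [DecidableEq Ω] (Γ : Finset Ω) :
    Finset (Finset Ω) := Finset.univ.filter (fun s => ∃ g : G, g • Γ = s)

theorem mem_orb {Γ s : Finset Ω} : s ∈ orb G Γ ↔ ∃ g : G, g • Γ = s := by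
  simp [orb]

theorem smul_mem_orb {Γ s : Finset Ω} (g : G) (hs : s ∈ orb G Γ) : g • s ∈ orb G Γ := by
  obtain ⟨k, rfl⟩ := mem_orb.mp hs
  exact mem_orb.mpr ⟨g * k, mul_smul g k Γ⟩

theorem card_of_mem_orb {Γ s : Finset Ω} (hs : s ∈ orb G Γ) : s.card = Γ.card := by
  obtain ⟨k, rfl⟩ := mem_orb.mp hs
  exact Finset.card_smul_finset k Γ

/-- Number of members of the orbit of `Γ` meeting `U` exactly in `A`. -/
noncomputable def cnt (G : Type*) {Ω : Type*} [Group G] [MulAction G Ω] [Fintype Ω] [DecidableEq Ω] (Γ U A : Finset Ω) :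
    ℕ := ((orb G Γ).filter (fun s => s ∩ U = A)).card

theorem cnt_smul (Γ U A : Finset Ω) (g : G) : cnt G Γ (g • U) (g • A) = cnt G Γ U A := by
  unfold cnt
  symm
  apply Finset.card_bij (fun s _ => g • s)
  · intro s hs
    rw [Finset.mem_filter] at hs ⊢
    refine ⟨smul_mem_orb g hs.1, ?_⟩
    rw [← Finset.smul_finset_inter, hs.2]
  · intro s _ s' _ h
    exact smul_left_cancel g h
  · intro s hs
    rw [Finset.mem_filter] at hs
    refine ⟨g⁻¹ • s, ?_, smul_inv_smul g s⟩
    rw [Finset.mem_filter]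
    refine ⟨smul_mem_orb g⁻¹ hs.1, ?_⟩
    apply smul_left_cancel g
    rw [Finset.smul_finset_inter, smul_inv_smul, hs.2]

theorem cnt_eq {t : ℕ} (h : TT G Ω t) {Γ A U A' U' : Finset Ω} (hA : A ⊆ U) (hA' : A' ⊆ U')
    (hU : U.card ≤ t) (hUU : U.card = U'.card) (hAA : A.card = A'.card) : cnt G Γ U A = cnt G Γ U' A' := by
  obtain ⟨g, hg1, hg2⟩ := h.exists_smul hA hA' hU hUU hAA
  rw [← hg1, ← hg2, cnt_smul]

theorem cnt_insert {Γ U A : Finset Ω} {x : Ω} (hx : x ∉ U) (hA : A ⊆ U) :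
    cnt G Γ U A = cnt G Γ (insert x U) A + cnt G Γ (insert x U) (insert x A) := by
  unfold cnt
  rw [← Finset.card_union_of_disjoint]
  · congr 1
    ext s
    simp only [Finset.mem_union, Finset.mem_filter]
    have hxA : x ∉ A := fun h => hx (hA h)
    by_cases hxs : x ∈ s
    · rw [Finset.inter_insert_of_mem hxs]
      constructor
      · rintro ⟨h1, h2⟩
        exact Or.inr ⟨h1, by rw [h2]⟩
      · rintro (⟨h1, h2⟩ | ⟨h1, h2⟩)
        · exact absurd (h2 ▸ Finset.mem_insert_self x _) hxA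
        · refine ⟨h1, ?_⟩
          have h3 : x ∉ s ∩ U := fun h => hx (Finset.mem_inter.mp h).2
          rw [← Finset.erase_insert h3, h2, Finset.erase_insert hxA]
    · rw [Finset.inter_insert_of_notMem hxs]
      constructor
      · rintro ⟨h1, h2⟩
        exact Or.inl ⟨h1, h2⟩
      · rintro (⟨h1, h2⟩ | ⟨h1, h2⟩)
        · exact ⟨h1, h2⟩
        · exfalso
          have : x ∈ s ∩ U := by rw [h2]; exact Finset.mem_insert_self x A
          exact hxs (Finset.mem_inter.mp this).1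
  · rw [Finset.disjoint_left]
    intro s hs hs'
    rw [Finset.mem_filter] at hs hs'
    have h := hs.2.symm.trans hs'.2
    exact hx (hA (h ▸ Finset.mem_insert_self x A))

theorem sum_cnt_insert {Γ U A : Finset Ω} (hA : A ⊆ U) :
    ∑ x ∈ Uᶜ, cnt G Γ (insert x U) (insert x A) = (Γ.card - A.card) * cnt G Γ U A := by
  have h1 : ∀ x ∈ Uᶜ, cnt G Γ (insert x U) (insert x A) =
      (((orb G Γ).filter (fun s => s ∩ U = A)).filter (fun s => x ∈ s)).card := by
    intro x hx
    have hx' : x ∉ U := Finset.mem_compl.mp hx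
    have hxA : x ∉ A := fun h => hx' (hA h)
    unfold cnt
    congr 1
    ext s
    simp only [Finset.mem_filter]
    constructor
    · rintro ⟨h1, h2⟩
      have hxs : x ∈ s := by
        have : x ∈ s ∩ insert x U := by rw [h2]; exact Finset.mem_insert_self x A
        exact (Finset.mem_inter.mp this).1
      rw [Finset.inter_insert_of_mem hxs] at h2
      have h3 : x ∉ s ∩ U := fun h => hx' (Finset.mem_inter.mp h).2
      exact ⟨⟨h1, by rw [← Finset.erase_insert h3, h2, Finset.erase_insert hxA]⟩, hxs⟩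
    · rintro ⟨⟨h1, h2⟩, h3⟩
      exact ⟨h1, by rw [Finset.inter_insert_of_mem h3, h2]⟩
  rw [Finset.sum_congr rfl h1]
  have h2 := Finset.sum_card_bipartiteAbove_eq_sum_card_bipartiteBelow (s := Uᶜ)
    (t := (orb G Γ).filter (fun s => s ∩ U = A)) (fun x s => x ∈ s)
  unfold Finset.bipartiteAbove Finset.bipartiteBelow at h2
  rw [h2]
  have h3 : ∀ s ∈ (orb G Γ).filter (fun s => s ∩ U = A), (Uᶜ.filter (fun x => x ∈ s)).card = Γ.card - A.card := by
    intro s hs
    rw [Finset.mem_filter] at hs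
    have h4 : Uᶜ.filter (fun x => x ∈ s) = s \ (s ∩ U) := by
      ext x
      simp only [Finset.mem_filter, Finset.mem_compl, Finset.mem_sdiff, Finset.mem_inter]
      tauto
    rw [h4, Finset.card_sdiff_of_subset Finset.inter_subset_left, hs.2, card_of_mem_orb hs.1]
  rw [Finset.sum_congr rfl h3, Finset.sum_const, smul_eq_mul, mul_comm]
  rfl

/-- In a `t`-fold transitive group with a set `Γ` of size `m < n/2`, for each set `T` with `t + 1` points and `β ∈ T`
some translate of `Γ` meets `T` exactly in `β`. -/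
theorem exists_inter_eq {t : ℕ} (h : TT G Ω t) (ht : 2 ≤ t) {Γ : Finset Ω} (hm : 1 ≤ Γ.card)
    (hΓ : 2 * Γ.card < Fintype.card Ω) (htn : t + Γ.card ≤ Fintype.card Ω) {T : Finset Ω} (hT : T.card = t + 1)
    {β : Ω} (hβ : β ∈ T) : ∃ g : G, (g • Γ) ∩ T = {β} := by
  by_contra hcon
  -- a nested chain of subsets of `T` starting with `β`
  obtain ⟨W, hW⟩ : ∃ W : ℕ → Finset Ω, (∀ j, 1 ≤ j → j ≤ t + 1 → (W j).card = j ∧ W j ⊆ T) ∧ W 1 = {β} ∧
      (∀ j, 1 ≤ j → j ≤ t → ∃ x ∈ T, x ∉ W j ∧ W (j + 1) = insert x (W j)) := by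
    have hstep : ∀ S : Finset Ω, ∃ S' : Finset Ω, (S ⊆ T → S.card < T.card → ∃ x ∈ T, x ∉ S ∧ S' = insert x S) := by
      intro S
      by_cases hS : S ⊆ T ∧ S.card < T.card
      · obtain ⟨x, hx, hxS⟩ := Finset.exists_mem_notMem_of_card_lt_card hS.2
        exact ⟨insert x S, fun _ _ => ⟨x, hx, hxS, rfl⟩⟩
      · exact ⟨S, fun h1 h2 => absurd ⟨h1, h2⟩ hS⟩
    choose F hF using hstep
    let W : ℕ → Finset Ω := fun j => Nat.rec (motive := fun _ => Finset Ω) {β} (fun _ S => F S) (j - 1)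
    have hW1 : W 1 = {β} := rfl
    have hWs : ∀ j, 1 ≤ j → W (j + 1) = F (W j) := by
      intro j hj
      obtain ⟨k, rfl⟩ : ∃ k, j = k + 1 := ⟨j - 1, by omega⟩
      rfl
    have hmain : ∀ j, 1 ≤ j → j ≤ t + 1 → (W j).card = j ∧ W j ⊆ T := by
      intro j
      induction j with
      | zero => intro h; omega
      | succ j ih =>
        intro _ hj
        rcases Nat.eq_zero_or_pos j with h0 | h0
        · subst h0
          rw [zero_add, hW1]
          exact ⟨Finset.card_singleton β, Finset.singleton_subset_iff.mpr hβ⟩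
        · obtain ⟨ih1, ih2⟩ := ih h0 (by omega)
          obtain ⟨x, hxT, hx, hFx⟩ := hF (W j) ih2 (by rw [ih1, hT]; omega)
          rw [hWs j h0, hFx]
          exact ⟨by rw [Finset.card_insert_of_notMem hx, ih1],
            Finset.insert_subset_iff.mpr ⟨hxT, ih2⟩⟩
    refine ⟨W, hmain, hW1, ?_⟩
    intro j hj1 hj2
    obtain ⟨ih1, ih2⟩ := hmain j hj1 (by omega)
    obtain ⟨x, hxT, hx, hFx⟩ := hF (W j) ih2 (by rw [ih1, hT]; omega)
    exact ⟨x, hxT, hx, by rw [hWs j hj1, hFx]⟩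
  obtain ⟨hW1, hWβ, hW2⟩ := hW
  -- sets of size `t` and subsets of given size
  obtain ⟨U, hUT, hUc⟩ := Finset.exists_subset_card_eq (show t ≤ T.card by omega)
  obtain ⟨x0, hx0⟩ : U.Nonempty := by rw [← Finset.card_pos]; omega
  have hV : (U.erase x0).card = t - 1 := by rw [Finset.card_erase_of_mem hx0, hUc]
  have hB : ∀ a, ∃ A : Finset Ω, a ≤ t → A ⊆ U ∧ A.card = a := by
    intro a
    by_cases ha : a ≤ t
    · obtain ⟨A, hA1, hA2⟩ := Finset.exists_subset_card_eq (show a ≤ U.card by omega)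
      exact ⟨A, fun _ => ⟨hA1, hA2⟩⟩
    · exact ⟨∅, fun h => absurd h ha⟩
  choose A hA using hB
  have hB' : ∀ a, ∃ A : Finset Ω, a < t → A ⊆ U.erase x0 ∧ A.card = a := by
    intro a
    by_cases ha : a < t
    · obtain ⟨A, hA1, hA2⟩ := Finset.exists_subset_card_eq (show a ≤ (U.erase x0).card by omega)
      exact ⟨A, fun _ => ⟨hA1, hA2⟩⟩
    · exact ⟨∅, fun h => absurd h ha⟩
  choose A' hA' using hB'
  let c : ℕ → ℕ := fun a => cnt G Γ U (A a)
  have hc : ∀ U' B : Finset Ω, B ⊆ U' → U'.card = t → cnt G Γ U' B = c B.card := by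
    intro U' B hBU hU'
    have hle : B.card ≤ t := by rw [← hU']; exact Finset.card_le_card hBU
    exact cnt_eq h hBU (hA B.card hle).1 hU'.le (by rw [hU', hUc]) ((hA B.card hle).2).symm
  have h1 : ∀ a, a < t → c (a + 1) * (Fintype.card Ω - Γ.card - t + a + 1) = c a * (Γ.card - a) := by
    intro a ha
    obtain ⟨hA1, hA2⟩ := hA' a ha
    have e1 : ∀ x ∈ (U.erase x0)ᶜ, cnt G Γ (insert x (U.erase x0)) (insert x (A' a)) = c (a + 1) := by
      intro x hx
      have hx' : x ∉ U.erase x0 := Finset.mem_compl.mp hx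
      rw [hc _ _ (Finset.insert_subset_insert x hA1) (by rw [Finset.card_insert_of_notMem hx', hV]; omega),
        Finset.card_insert_of_notMem (fun h => hx' (hA1 h)), hA2]
    have e2 := sum_cnt_insert (G := G) (Γ := Γ) hA1
    rw [Finset.sum_congr rfl e1, Finset.sum_const, Finset.card_compl, hV, hA2, smul_eq_mul] at e2
    have e3 : c a + c (a + 1) = cnt G Γ (U.erase x0) (A' a) := by
      rw [cnt_insert (Finset.notMem_erase x0 U) hA1]
      congr 1
      · rw [hc _ _ (hA1.trans (Finset.subset_insert _ _)) (by rw [Finset.card_insert_of_notMem (Finset.notMem_erase x0 U), hV]; omega), hA2]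
      · rw [e1 x0 (Finset.mem_compl.mpr (Finset.notMem_erase x0 U))]
    rw [← e3] at e2
    by_cases hle : a ≤ Γ.card
    · have e4 : Fintype.card Ω - (t - 1) = (Fintype.card Ω - Γ.card - t + a + 1) + (Γ.card - a) := by omega
      rw [e4] at e2
      have e5 : (Fintype.card Ω - Γ.card - t + a + 1) * c (a + 1) + (Γ.card - a) * c (a + 1) =
        (Γ.card - a) * c a + (Γ.card - a) * c (a + 1) := by rw [← add_mul, e2, mul_add]
      have e6 := Nat.add_right_cancel e5
      rw [mul_comm, e6, mul_comm]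
    · have e4 : Γ.card - a = 0 := by omega
      rw [e4, zero_mul] at e2
      have e5 : c (a + 1) = 0 := by
        rcases Nat.mul_eq_zero.mp e2 with h | h
        · omega
        · exact h
      rw [e5, e4, zero_mul, mul_zero]
  have h2 : ∀ j, 1 ≤ j → j ≤ t → cnt G Γ T (W j) + cnt G Γ T (W (j + 1)) = c j := by
    intro j hj1 hj2
    obtain ⟨x, hxT, hx, hWx⟩ := hW2 j hj1 hj2
    have hsub : W j ⊆ T.erase x := by
      intro y hy
      rw [Finset.mem_erase]
      refine ⟨?_, (hW1 j hj1 (by omega)).2 hy⟩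
      rintro rfl
      exact hx hy
    have e1 := cnt_insert (G := G) (Γ := Γ) (Finset.notMem_erase x T) hsub
    rw [Finset.insert_erase hxT, ← hWx] at e1
    rw [← e1, hc _ _ hsub (by rw [Finset.card_erase_of_mem hxT, hT]; rfl), (hW1 j hj1 (by omega)).1]
  have hν : cnt G Γ T (W 1) = 0 := by
    rw [hWβ]
    unfold cnt
    rw [Finset.card_eq_zero, Finset.filter_eq_empty_iff]
    intro s hs hsT
    obtain ⟨g, rfl⟩ := mem_orb.mp hs
    exact hcon ⟨g, hsT⟩
  have hc0 : 0 < c 0 := by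
    have hcomp : t ≤ (Γᶜ).card := by rw [Finset.card_compl]; omega
    obtain ⟨U', hU'1, hU'2⟩ := Finset.exists_subset_card_eq hcomp
    have e1 := hc U' ∅ (Finset.empty_subset _) hU'2
    rw [Finset.card_empty] at e1
    rw [← e1]
    unfold cnt
    rw [Finset.card_pos]
    refine ⟨Γ, ?_⟩
    rw [Finset.mem_filter]
    refine ⟨mem_orb.mpr ⟨1, one_smul G Γ⟩, ?_⟩
    rw [← Finset.disjoint_iff_inter_eq_empty, Finset.disjoint_left]
    intro x hx hx'
    exact (Finset.mem_compl.mp (hU'1 hx')) hx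
  exact numeric hm ht (by omega) c (fun j => cnt G Γ T (W j)) hc0 h1 h2 hν

end count

end H63.Marggraf
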