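import Cfsg.Agent.Lib.H63.MarggrafCount

/-! Marggraf's theorem, main part (helper63). -/

namespace H63.Marggraf

open Finset MulAction Pointwise

section main

variable {G Ω : Type*} [Group G] [MulAction G Ω] [Fintype Ω] [DecidableEq Ω]

/-- The pointwise stabilizer of `A` has no nontrivial block outside `A`. -/
def Prim (G : Type*) {Ω : Type*} [Group G] [MulAction G Ω] [Fintype Ω] [DecidableEq Ω] (A : Finset Ω) : Prop :=
  ∀ B : Finset Ω, Disjoint A B → 1 < B.card → A.card + B.card < Fintype.card Ω →
    ∃ g : G, (∀ a ∈ A, g • a = a) ∧ g • B ≠ B ∧ ¬ Disjoint (g • B) B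

theorem fix_disjoint {A B : Finset Ω} {g : G} (hg : ∀ a ∈ A, g • a = a) (h : Disjoint A B) : Disjoint A (g • B) := by
  rw [Finset.disjoint_left] at h ⊢
  intro a ha ha'
  rw [← Finset.inv_smul_mem_iff, (show g⁻¹ • a = a by rw [inv_smul_eq_iff, hg a ha])] at ha'
  exact h ha ha'

/-- Primitive plus a Jordan set: there is a Jordan set missing only one point. -/
theorem exists_big {A Γ : Finset Ω} (hP : Prim G A) (hJ : IsJ G Γ) (hd : Disjoint A Γ) (h1 : 1 < Γ.card)
    (hlt : A.card + Γ.card < Fintype.card Ω) :
    ∃ S : Finset Ω, IsJ G S ∧ Disjoint A S ∧ A.card + S.card + 1 = Fintype.card Ω := by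
  classical
  -- a maximal one
  obtain ⟨S, hS, hmax⟩ := Finset.exists_max_image
    (Finset.univ.filter (fun S : Finset Ω => IsJ G S ∧ Disjoint A S ∧ A.card + S.card < Fintype.card Ω)) Finset.card
    ⟨Γ, by rw [Finset.mem_filter]; exact ⟨Finset.mem_univ _, hJ, hd, hlt⟩⟩
  rw [Finset.mem_filter] at hS
  obtain ⟨_, hSJ, hSd, hSlt⟩ := hS
  have hmax' : ∀ S' : Finset Ω, IsJ G S' → Disjoint A S' → A.card + S'.card < Fintype.card Ω → S'.card ≤ S.card :=
    fun S' a b c => hmax S' (by rw [Finset.mem_filter]; exact ⟨Finset.mem_univ _, a, b, c⟩)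
  have hS1 : 1 < S.card := h1.trans_le (hmax' Γ hJ hd hlt)
  refine ⟨S, hSJ, hSd, ?_⟩
  by_contra hne
  have hSlt' : A.card + S.card + 1 < Fintype.card Ω := by omega
  by_cases hhalf : 2 * S.card ≤ Fintype.card Ω - A.card
  · obtain ⟨g, hg, hgS, hgd⟩ := hP S hSd hS1 hSlt
    obtain ⟨p, hp, hp'⟩ := Finset.not_disjoint_iff.mp hgd
    have hJ' : IsJ G (g • S ∪ S) := (hSJ.smul g).union hSJ hp hp'
    have hd' : Disjoint A (g • S ∪ S) := Finset.disjoint_union_right.mpr ⟨fix_disjoint hg hSd, hSd⟩
    have hc1 := Finset.card_union_add_card_inter (g • S) S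
    have hc2 : 0 < (g • S ∩ S).card := Finset.card_pos.mpr ⟨p, Finset.mem_inter.mpr ⟨hp, hp'⟩⟩
    have hc3 : (g • S).card = S.card := Finset.card_smul_finset g S
    have hle := hmax' _ hJ' hd' (by omega)
    have h3 : g • S ∪ S = S := (Finset.eq_of_subset_of_card_le Finset.subset_union_right hle).symm
    have h4 : g • S ⊆ S := by
      intro x hx
      rw [← h3]; exact Finset.mem_union_left _ hx
    exact hgS (Finset.eq_of_subset_of_card_le h4 hc3.ge)
  · -- complement of `S` outside `A`
    let D : Finset Ω := (A ∪ S)ᶜ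
    have hDc : D.card = Fintype.card Ω - (A.card + S.card) := by
      rw [Finset.card_compl, Finset.card_union_of_disjoint hSd]
    have hDd : Disjoint A D := by
      rw [Finset.disjoint_left]
      intro a ha ha'
      exact (Finset.mem_compl.mp (show a ∈ (A ∪ S)ᶜ from ha')) (Finset.mem_union_left _ ha)
    obtain ⟨g, hg, hgD, hgd⟩ := hP D hDd (by omega) (by omega)
    obtain ⟨p, hp, hp'⟩ := Finset.not_disjoint_iff.mp hgd
    have hmemD : ∀ x, x ∈ D ↔ x ∉ A ∧ x ∉ S := by
      intro x
      rw [Finset.mem_compl, Finset.mem_union, not_or]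
    have hgA : ∀ x, g⁻¹ • x ∈ A ↔ x ∈ A := by
      intro x
      constructor
      · intro h
        have := hg _ h
        rw [smul_inv_smul] at this
        rw [this]; exact h
      · intro h
        rw [show g⁻¹ • x = x by rw [inv_smul_eq_iff, hg x h]]; exact h
    have hmemgD : ∀ x, x ∈ g • D ↔ x ∉ A ∧ x ∉ g • S := by
      intro x
      rw [← Finset.inv_smul_mem_iff, hmemD, hgA, Finset.inv_smul_mem_iff]
    -- they intersect
    have hint : ∃ q, q ∈ g • S ∧ q ∈ S := by
      by_contra hcon
      push Not at hcon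
      have hdis : Disjoint (g • S) S := Finset.disjoint_left.mpr (fun x hx hx' => hcon x hx hx')
      have hsub : (g • S) ∪ S ⊆ Aᶜ := by
        intro x hx
        rw [Finset.mem_compl]
        intro hxA
        rcases Finset.mem_union.mp hx with h | h
        · exact (Finset.disjoint_left.mp (fix_disjoint hg hSd)) hxA h
        · exact (Finset.disjoint_left.mp hSd) hxA h
      have := Finset.card_le_card hsub
      rw [Finset.card_union_of_disjoint hdis, Finset.card_smul_finset, Finset.card_compl] at this
      omega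
    obtain ⟨q, hq, hq'⟩ := hint
    have hJ' : IsJ G (g • S ∪ S) := (hSJ.smul g).union hSJ hq hq'
    have hd' : Disjoint A (g • S ∪ S) := Finset.disjoint_union_right.mpr ⟨fix_disjoint hg hSd, hSd⟩
    have hp1 := (hmemgD p).mp hp
    have hp2 := (hmemD p).mp hp'
    have hlt' : A.card + (g • S ∪ S).card < Fintype.card Ω := by
      rw [← Finset.card_union_of_disjoint hd', ← Finset.card_univ]
      apply Finset.card_lt_card
      rw [Finset.ssubset_univ_iff]
      intro hcon
      have : p ∈ A ∪ (g • S ∪ S) := by rw [hcon]; exact Finset.mem_univ p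
      simp only [Finset.mem_union] at this
      rcases this with h | h | h
      · exact hp1.1 h
      · exact hp1.2 h
      · exact hp2.2 h
    have hle := hmax' _ hJ' hd' hlt'
    have h3 : g • S ∪ S = S := (Finset.eq_of_subset_of_card_le Finset.subset_union_right hle).symm
    have h4 : g • S ⊆ S := by
      intro x hx
      rw [← h3]; exact Finset.mem_union_left _ hx
    have h5 : g • S = S := Finset.eq_of_subset_of_card_le h4 (Finset.card_smul_finset g S).ge
    apply hgD
    ext x
    rw [hmemgD, hmemD, h5]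

/-- Transitivity step. -/
theorem TT_step {t : ℕ} (ht : 1 ≤ t) (h : TT G Ω t) (hP : ∀ A : Finset Ω, A.card + 1 = t → Prim G A)
    {Γ : Finset Ω} (hJ : IsJ G Γ) (h1 : 1 < Γ.card) (htn : t + Γ.card ≤ Fintype.card Ω) : TT G Ω (t + 1) := by
  apply h.succ
  intro X hX y z hy hz
  obtain ⟨x, hx⟩ : X.Nonempty := by rw [← Finset.card_pos]; omega
  have hA : (X.erase x).card + 1 = t := by rw [Finset.card_erase_of_mem hx, hX]; omega
  -- move `Γ` off `X.erase x`
  have hcomp : (X.erase x).card ≤ (Γᶜ).card := by rw [Finset.card_compl]; omega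
  obtain ⟨A', hA'1, hA'2⟩ := Finset.exists_subset_card_eq hcomp
  obtain ⟨g, hg1, _⟩ := h.exists_smul (Finset.Subset.refl A') (Finset.Subset.refl (X.erase x)) (by omega)
    hA'2 hA'2
  have hd : Disjoint (X.erase x) (g • Γ) := by
    rw [← hg1, Finset.disjoint_left]
    intro a ha ha'
    have h2 := (Finset.smul_mem_smul_finset_iff g (s := A') (b := g⁻¹ • a)).mp (by rw [smul_inv_smul]; exact ha)
    have h3 := (Finset.smul_mem_smul_finset_iff g (s := Γ) (b := g⁻¹ • a)).mp (by rw [smul_inv_smul]; exact ha')
    exact (Finset.mem_compl.mp (hA'1 h2)) h3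
  obtain ⟨S, hSJ, hSd, hSc⟩ := exists_big (hP _ hA) (hJ.smul g) hd (by rw [Finset.card_smul_finset]; exact h1)
    (by rw [Finset.card_smul_finset]; omega)
  -- the missing point
  obtain ⟨δ, hδ⟩ : ((X.erase x ∪ S)ᶜ).Nonempty := by
    rw [← Finset.card_pos, Finset.card_compl, Finset.card_union_of_disjoint hSd]; omega
  have hδ' : δ ∉ X.erase x ∧ δ ∉ S := by
    rw [Finset.mem_compl, Finset.mem_union, not_or] at hδ; exact hδ
  -- move `δ` to `x`
  obtain ⟨k, hk⟩ := h (insert δ (X.erase x)) (by rw [Finset.card_insert_of_notMem hδ'.1]; omega)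
    (fun w => if w = δ then x else w) (by
      intro a ha b hb hab
      simp only [Finset.coe_insert, Set.mem_insert_iff, Finset.mem_coe] at ha hb
      simp only at hab
      by_cases h1 : a = δ
      · by_cases h2 : b = δ
        · rw [h1, h2]
        · rw [if_pos h1, if_neg h2] at hab
          rcases hb with hb | hb
          · exact absurd hb h2
          · rw [← hab] at hb
            exact absurd hb (Finset.notMem_erase x X)
      · by_cases h2 : b = δ
        · rw [if_neg h1, if_pos h2] at hab
          rcases ha with ha | ha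
          · exact absurd ha h1
          · rw [hab] at ha
            exact absurd ha (Finset.notMem_erase x X)
        · rwa [if_neg h1, if_neg h2] at hab)
  have hkδ : k • δ = x := by
    have := hk δ (Finset.mem_insert_self _ _)
    simpa using this
  have hkA : ∀ a ∈ X.erase x, k • a = a := by
    intro a ha
    have := hk a (Finset.mem_insert_of_mem ha)
    have hne : a ≠ δ := fun h => hδ'.1 (h ▸ ha)
    simpa [hne] using this
  -- now `k • S` is the complement of `X`
  have hkS : ∀ w, w ∉ X → w ∈ k • S := by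
    intro w hw
    rw [← Finset.inv_smul_mem_iff]
    by_contra hcon
    have h2 : k⁻¹ • w ∉ X.erase x := by
      intro h3
      have := hkA _ h3
      rw [smul_inv_smul] at this
      rw [← this] at h3
      exact hw (Finset.mem_of_mem_erase h3)
    -- so it is `δ`
    have h3 : k⁻¹ • w ∈ (X.erase x ∪ S)ᶜ := by
      rw [Finset.mem_compl, Finset.mem_union, not_or]; exact ⟨h2, hcon⟩
    have h4 : ((X.erase x ∪ S)ᶜ).card ≤ 1 := by
      rw [Finset.card_compl, Finset.card_union_of_disjoint hSd]; omega
    have h5 := Finset.card_le_one.mp h4 _ h3 _ hδ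
    rw [inv_smul_eq_iff, hkδ] at h5
    exact hw (h5 ▸ hx)
  have hkSX : ∀ w ∈ X, w ∉ k • S := by
    intro w hw hcon
    rw [← Finset.inv_smul_mem_iff] at hcon
    by_cases hwx : w = x
    · rw [hwx, ← hkδ, inv_smul_smul] at hcon
      exact hδ'.2 hcon
    · have h2 : w ∈ X.erase x := Finset.mem_erase.mpr ⟨hwx, hw⟩
      rw [show k⁻¹ • w = w by rw [inv_smul_eq_iff, hkA w h2]] at hcon
      exact (Finset.disjoint_left.mp hSd) h2 hcon
  obtain ⟨u, hu, huy⟩ := (hSJ.smul k) y (hkS y hy) z (hkS z hz)
  exact ⟨u, fun w hw => hu w (hkSX w hw), huy⟩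

/-- A class of Jordan sets closed under translation and union of overlapping members. -/
structure JClass (G : Type*) {Ω : Type*} [Group G] [MulAction G Ω] [DecidableEq Ω] (J : Finset Ω → Prop) : Prop where
  isJ : ∀ S, J S → IsJ G S
  smul : ∀ S (g : G), J S → J (g • S)
  union : ∀ S T p, J S → J T → p ∈ S → p ∈ T → J (S ∪ T)

theorem jClass_isJ : JClass G (IsJ G : Finset Ω → Prop) :=
  ⟨fun _ h => h, fun _ g h => h.smul g, fun _ _ _ h h' hp hp' => h.union h' hp hp'⟩

/-- Primitivity step. -/
theorem Prim_step {J : Finset Ω → Prop} (hJC : JClass G J) {t : ℕ} (ht : 2 ≤ t) (h : TT G Ω t)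
    (hP : ∀ A : Finset Ω, A.card + 2 = t → Prim G A)
    {Γ : Finset Ω} (hJ' : J Γ) (h1 : 1 < Γ.card) (hΓ : 2 * Γ.card < Fintype.card Ω)
    (hmax : ∀ Γ' : Finset Ω, J Γ' → 2 * Γ'.card < Fintype.card Ω → Γ'.card ≤ Γ.card)
    (htn : t + Γ.card ≤ Fintype.card Ω) :
    ∀ A : Finset Ω, A.card + 1 = t → Prim G A := by
  have hJ : IsJ G Γ := hJC.isJ Γ hJ'
  intro A hA B hAB hB1 hB2
  by_contra hcon
  push Not at hcon
  -- dichotomy
  have hdich : ∀ (k : G) (Γ' : Finset Ω), IsJ G Γ' → Disjoint (k • A) Γ' → ∀ p ∈ Γ', p ∈ k • B → k • B ⊆ Γ' ∨ Γ' ⊆ k • B := by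
    intro k Γ' hΓ'J hΓ'd p hp hpB
    by_cases hsub : k • B ⊆ Γ'
    · exact Or.inl hsub
    · right
      obtain ⟨b, hbB, hbΓ⟩ := Finset.not_subset.mp hsub
      intro y hy
      obtain ⟨g, hg, hgp⟩ := hΓ'J p hp y hy
      have hg' : ∀ a ∈ A, (k⁻¹ * g * k) • a = a := by
        intro a ha
        have h2 : k • a ∈ k • A := Finset.smul_mem_smul_finset ha
        rw [mul_smul, mul_smul, hg _ (fun h3 => (Finset.disjoint_left.mp hΓ'd) h2 h3), inv_smul_smul]
      have hgb : g • b = b := hg b hbΓ
      by_cases hEq : (k⁻¹ * g * k) • B = B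
      · have h2 : g • k • B = k • B := by
          rw [mul_smul, mul_smul, inv_smul_eq_iff] at hEq
          exact hEq
        rw [← hgp, ← h2]
        exact Finset.smul_mem_smul_finset hpB
      · exfalso
        have h3 := hcon _ hg' hEq
        rw [Finset.disjoint_left] at h3
        have h4 : k⁻¹ • b ∈ B := by rwa [Finset.inv_smul_mem_iff]
        have h5 : k⁻¹ • b ∈ (k⁻¹ * g * k) • B := by
          rw [mul_smul, mul_smul]
          apply Finset.smul_mem_smul_finset
          rw [← hgb]
          exact Finset.smul_mem_smul_finset hbB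
        exact h3 h5 h4
  obtain ⟨β, hβ, γ, hγ, hβγ⟩ := Finset.one_lt_card.mp hB1
  have hβA : β ∉ A := fun h2 => (Finset.disjoint_left.mp hAB) h2 hβ
  have hγA : γ ∉ A := fun h2 => (Finset.disjoint_left.mp hAB) h2 hγ
  rcases Nat.lt_or_ge B.card Γ.card with hcase | hcase
  · -- Case B: use the counting lemma
    have hT : (insert γ (insert β A)).card = t + 1 := by
      rw [Finset.card_insert_of_notMem (by simp [hβγ.symm, hγA]), Finset.card_insert_of_notMem hβA]; omega
    obtain ⟨g, hg⟩ := exists_inter_eq h ht (by omega) hΓ htn hT (β := β) (by simp)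
    have hβg : β ∈ g • Γ := by
      have : β ∈ g • Γ ∩ insert γ (insert β A) := by rw [hg]; exact Finset.mem_singleton_self β
      exact (Finset.mem_inter.mp this).1
    have hnot : ∀ w ∈ insert γ (insert β A), w ≠ β → w ∉ g • Γ := by
      intro w hw hne hw'
      have : w ∈ g • Γ ∩ insert γ (insert β A) := Finset.mem_inter.mpr ⟨hw', hw⟩
      rw [hg, Finset.mem_singleton] at this
      exact hne this
    have hd : Disjoint A (g • Γ) := by
      rw [Finset.disjoint_left]
      intro a ha
      exact hnot a (by simp [ha]) (fun h2 => hβA (h2 ▸ ha))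
    have h2 := hdich 1 (g • Γ) (hJ.smul g) (by rw [one_smul]; exact hd) β hβg (by rw [one_smul]; exact hβ)
    rw [one_smul] at h2
    rcases h2 with h2 | h2
    · exact hnot γ (by simp) hβγ.symm (h2 hγ)
    · have := Finset.card_le_card h2
      rw [Finset.card_smul_finset] at this
      omega
  · -- Case A
    obtain ⟨α, hα⟩ : A.Nonempty := by rw [← Finset.card_pos]; omega
    have hSc : (A.erase α).card + 2 = t := by rw [Finset.card_erase_of_mem hα]; omega
    -- `2 |B| ≤ n - |A|`
    have hBhalf : A.card + 2 * B.card ≤ Fintype.card Ω := by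
      obtain ⟨δ, hδ⟩ : ((A ∪ B)ᶜ).Nonempty := by
        rw [← Finset.card_pos, Finset.card_compl, Finset.card_union_of_disjoint hAB]; omega
      have hδ' : δ ∉ A ∧ δ ∉ B := by
        rw [Finset.mem_compl, Finset.mem_union, not_or] at hδ; exact hδ
      obtain ⟨k, hk⟩ := h (insert β A) (by rw [Finset.card_insert_of_notMem hβA]; omega)
        (fun w => if w = β then δ else w) (by
          intro a ha b hb hab
          simp only [Finset.coe_insert, Set.mem_insert_iff, Finset.mem_coe] at ha hb
          simp only at hab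
          by_cases h1 : a = β
          · by_cases h2 : b = β
            · rw [h1, h2]
            · rw [if_pos h1, if_neg h2] at hab
              rcases hb with hb | hb
              · exact absurd hb h2
              · rw [← hab] at hb
                exact absurd hb hδ'.1
          · by_cases h2 : b = β
            · rw [if_neg h1, if_pos h2] at hab
              rcases ha with ha | ha
              · exact absurd ha h1
              · rw [hab] at ha
                exact absurd ha hδ'.1
            · rwa [if_neg h1, if_neg h2] at hab)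
      have hkβ : k • β = δ := by
        have := hk β (Finset.mem_insert_self _ _)
        simpa using this
      have hkA : ∀ a ∈ A, k • a = a := by
        intro a ha
        have := hk a (Finset.mem_insert_of_mem ha)
        have hne : a ≠ β := fun h => hβA (h ▸ ha)
        simpa [hne] using this
      have hne : k • B ≠ B := by
        intro h2
        apply hδ'.2
        rw [← h2, ← hkβ]
        exact Finset.smul_mem_smul_finset hβ
      have hdis := hcon k hkA hne
      have h3 : Disjoint A (k • B ∪ B) := Finset.disjoint_union_right.mpr ⟨fix_disjoint hkA hAB, hAB⟩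
      have h4 := Finset.card_le_univ (A ∪ (k • B ∪ B))
      rw [Finset.card_union_of_disjoint h3, Finset.card_union_of_disjoint hdis, Finset.card_smul_finset] at h4
      omega
    -- a translate of `Γ` inside `B`
    have hcomp : A.card ≤ (Γᶜ).card := by rw [Finset.card_compl]; omega
    obtain ⟨A', hA'1, hA'2⟩ := Finset.exists_subset_card_eq hcomp
    obtain ⟨β', hβ'⟩ : Γ.Nonempty := by rw [← Finset.card_pos]; omega
    have hβ'A' : β' ∉ A' := fun h2 => (Finset.mem_compl.mp (hA'1 h2)) hβ'
    obtain ⟨g, hg1, hg2⟩ := h.exists_smul (A := A') (U := insert β' A') (A' := A) (U' := insert β A)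
      (Finset.subset_insert _ _) (Finset.subset_insert _ _) (by rw [Finset.card_insert_of_notMem hβ'A']; omega)
      (by rw [Finset.card_insert_of_notMem hβ'A', Finset.card_insert_of_notMem hβA, hA'2]) hA'2
    have hgβ' : g • β' = β := by
      have h2 : g • β' ∈ insert β A := by
        rw [← hg2]; exact Finset.smul_mem_smul_finset (Finset.mem_insert_self _ _)
      rcases Finset.mem_insert.mp h2 with h3 | h3
      · exact h3
      · rw [← hg1, Finset.smul_mem_smul_finset_iff] at h3
        exact absurd h3 hβ'A'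
    have hΓ1d : Disjoint A (g • Γ) := by
      rw [← hg1, Finset.disjoint_left]
      intro a ha ha'
      obtain ⟨a', ha'1, rfl⟩ := Finset.mem_smul_finset.mp ha
      rw [Finset.smul_mem_smul_finset_iff] at ha'
      exact (Finset.mem_compl.mp (hA'1 ha'1)) ha'
    have hβΓ1 : β ∈ g • Γ := by rw [← hgβ']; exact Finset.smul_mem_smul_finset hβ'
    have hΓ1J : IsJ G (g • Γ) := hJ.smul g
    have hΓ1J' : J (g • Γ) := hJC.smul Γ g hJ'
    have hΓ1c : (g • Γ).card = Γ.card := Finset.card_smul_finset g Γ
    have hΓ1B : g • Γ ⊆ B := by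
      have h2 := hdich 1 (g • Γ) hΓ1J (by rw [one_smul]; exact hΓ1d) β hβΓ1 (by rw [one_smul]; exact hβ)
      rw [one_smul] at h2
      rcases h2 with h2 | h2
      · exact (Finset.eq_of_subset_of_card_le h2 (by omega)).ge
      · exact h2
    generalize g • Γ = Γ1 at *
    -- it is a block for the stabilizer of `A.erase α`
    have hSd : Disjoint (A.erase α) Γ1 := Finset.disjoint_of_subset_left (Finset.erase_subset _ _) hΓ1d
    obtain ⟨x, hx, hxne, hxd⟩ := hP (A.erase α) hSc Γ1 hSd (by omega) (by omega)
    obtain ⟨p, hp, hp'⟩ := Finset.not_disjoint_iff.mp hxd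
    apply hxne
    -- a point outside
    have hxS : Disjoint (A.erase α) (x • Γ1) := fix_disjoint hx hSd
    have hUc : (x • Γ1 ∪ Γ1).card < 2 * Γ1.card := by
      have hc1 := Finset.card_union_add_card_inter (x • Γ1) Γ1
      have hc2 : 0 < (x • Γ1 ∩ Γ1).card := Finset.card_pos.mpr ⟨p, Finset.mem_inter.mpr ⟨hp, hp'⟩⟩
      have hc3 : (x • Γ1).card = Γ1.card := Finset.card_smul_finset x Γ1
      omega
    obtain ⟨α', hα'⟩ : ((A.erase α ∪ (x • Γ1 ∪ Γ1))ᶜ).Nonempty := by
      rw [← Finset.card_pos, Finset.card_compl,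
        Finset.card_union_of_disjoint (Finset.disjoint_union_right.mpr ⟨hxS, hSd⟩)]
      omega
    have hα'2 : α' ∉ A.erase α ∧ α' ∉ x • Γ1 ∧ α' ∉ Γ1 := by
      rw [Finset.mem_compl, Finset.mem_union, not_or, Finset.mem_union, not_or] at hα'; exact hα'
    -- map `(α, β)` to `(α', p)` fixing `A.erase α`
    have hpS : p ∉ A.erase α := fun h2 => (Finset.disjoint_left.mp hSd) h2 hp'
    have hβS : β ∉ A.erase α := fun h2 => hβA (Finset.mem_of_mem_erase h2)
    have hβα : β ≠ α := fun h2 => hβA (h2 ▸ hα)
    have hα'p : α' ≠ p := fun h2 => hα'2.2.2 (h2 ▸ hp')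
    obtain ⟨k, hk⟩ := h (insert β A) (by rw [Finset.card_insert_of_notMem hβA]; omega)
      (fun w => if w = α then α' else if w = β then p else w) (by
        intro a ha b hb hab
        simp only [Finset.coe_insert, Set.mem_insert_iff, Finset.mem_coe] at ha hb
        simp only at hab
        have key : ∀ w, (w = β ∨ w ∈ A) → w ≠ α → w ≠ β → w ∈ A.erase α := by
          intro w hw h1 h2
          exact Finset.mem_erase.mpr ⟨h1, hw.resolve_left h2⟩
        by_cases a1 : a = α
        · rw [if_pos a1] at hab
          by_cases b1 : b = α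
          · rw [a1, b1]
          · rw [if_neg b1] at hab
            by_cases b2 : b = β
            · rw [if_pos b2] at hab; exact absurd hab hα'p
            · rw [if_neg b2] at hab
              exact absurd (hab ▸ key b hb b1 b2) hα'2.1
        · rw [if_neg a1] at hab
          by_cases a2 : a = β
          · rw [if_pos a2] at hab
            by_cases b1 : b = α
            · rw [if_pos b1] at hab; exact absurd hab.symm hα'p
            · rw [if_neg b1] at hab
              by_cases b2 : b = β
              · rw [a2, b2]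
              · rw [if_neg b2] at hab
                exact absurd (hab ▸ key b hb b1 b2) hpS
          · rw [if_neg a2] at hab
            have ha3 := key a ha a1 a2
            by_cases b1 : b = α
            · rw [if_pos b1] at hab; exact absurd (hab ▸ ha3) hα'2.1
            · rw [if_neg b1] at hab
              by_cases b2 : b = β
              · rw [if_pos b2] at hab; exact absurd (hab ▸ ha3) hpS
              · rwa [if_neg b2] at hab)
    have hkα : k • α = α' := by
      have := hk α (Finset.mem_insert_of_mem hα)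
      simpa using this
    have hkβ : k • β = p := by
      have := hk β (Finset.mem_insert_self _ _)
      simpa [hβα] using this
    have hkS : ∀ a ∈ A.erase α, k • a = a := by
      intro a ha
      have := hk a (Finset.mem_insert_of_mem (Finset.mem_of_mem_erase ha))
      have hne1 : a ≠ α := Finset.ne_of_mem_erase ha
      have hne2 : a ≠ β := fun h => hβS (h ▸ ha)
      simpa [hne1, hne2] using this
    have hpkB : p ∈ k • B := by rw [← hkβ]; exact Finset.smul_mem_smul_finset hβ
    have hkA : ∀ Γ' : Finset Ω, Disjoint (A.erase α) Γ' → α' ∉ Γ' → Disjoint (k • A) Γ' := by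
      intro Γ' hd' hα''
      rw [Finset.disjoint_left]
      intro w hw hw'
      obtain ⟨a, ha, rfl⟩ := Finset.mem_smul_finset.mp hw
      by_cases haα : a = α
      · rw [haα, hkα] at hw'; exact hα'' hw'
      · have ha' : a ∈ A.erase α := Finset.mem_erase.mpr ⟨haα, ha⟩
        rw [hkS a ha'] at hw'
        exact (Finset.disjoint_left.mp hd') ha' hw'
    have hsub1 : Γ1 ⊆ k • B := by
      rcases hdich k Γ1 hΓ1J (hkA Γ1 hSd hα'2.2.2) p hp' hpkB with h2 | h2
      · exact (Finset.eq_of_subset_of_card_le h2 (by rw [Finset.card_smul_finset]; omega)).ge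
      · exact h2
    have hsub2 : x • Γ1 ⊆ k • B := by
      rcases hdich k (x • Γ1) (hΓ1J.smul x) (hkA _ hxS hα'2.2.1) p hp hpkB with h2 | h2
      · exact (Finset.eq_of_subset_of_card_le h2 (by
          rw [Finset.card_smul_finset, Finset.card_smul_finset]; omega)).ge
      · exact h2
    have hUJ : J (x • Γ1 ∪ Γ1) := hJC.union _ _ p (hJC.smul Γ1 x hΓ1J') hΓ1J' hp hp'
    have hUle : (x • Γ1 ∪ Γ1).card ≤ B.card := by
      have := Finset.card_le_card (Finset.union_subset hsub2 hsub1)
      rwa [Finset.card_smul_finset] at this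
    have hfin := hmax _ hUJ (by omega)
    have h3 : x • Γ1 ∪ Γ1 = Γ1 := (Finset.eq_of_subset_of_card_le Finset.subset_union_right (by omega)).symm
    have h4 : x • Γ1 ⊆ Γ1 := by
      intro w hw
      rw [← h3]; exact Finset.mem_union_left _ hw
    exact Finset.eq_of_subset_of_card_le h4 (Finset.card_smul_finset x Γ1).ge

end main

end H63.Marggraf
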