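import Mathlib

/-! Numerical part of Marggraf's theorem (helper63). -/

namespace H63.Marggraf

theorem choose_lt_choose_of_lt {L : ℕ} : ∀ {q r : ℕ}, q < r → 2 * r ≤ L → L.choose q < L.choose r := by
  have step : ∀ r, 2 * (r + 1) ≤ L → L.choose r < L.choose (r + 1) := by
    intro r hr
    have h := Nat.choose_succ_right_eq L r
    have h0 : 0 < L.choose r := Nat.choose_pos (by omega)
    by_contra hcon
    have hcon' : L.choose (r + 1) ≤ L.choose r := not_lt.mp hcon
    have h1 : L.choose (r + 1) * (r + 1) ≤ L.choose r * (r + 1) := Nat.mul_le_mul_right _ hcon'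
    rw [h] at h1
    have h2 := Nat.le_of_mul_le_mul_left h1 h0
    omega
  intro q r hqr
  induction r with
  | zero => omega
  | succ r ih =>
    intro hr
    rcases Nat.lt_succ_iff_lt_or_eq.mp hqr with h | h
    · exact (ih h (by omega)).trans (step r hr)
    · rw [h]; exact step r hr

theorem choose_lt_aux {m p k : ℕ} (hm : 1 ≤ m) (hk : p < k) (hkm : m ≤ k) :
    (m + p - 1).choose k < (m + p - 1).choose p := by
  by_cases hkL : m + p - 1 < k
  · rw [Nat.choose_eq_zero_of_lt hkL]
    exact Nat.choose_pos (by omega)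
  · have hkL' : k ≤ m + p - 1 := not_lt.mp hkL
    rw [← Nat.choose_symm hkL']
    by_cases h : 2 * p ≤ m + p - 1
    · exact choose_lt_choose_of_lt (by omega) h
    · rw [← Nat.choose_symm (show p ≤ m + p - 1 by omega)]
      exact choose_lt_choose_of_lt (by omega) (by omega)

theorem numeric {m p t : ℕ} (hm : 1 ≤ m) (ht : 2 ≤ t) (hmt : m < p + t) (c ν : ℕ → ℕ) (hc0 : 0 < c 0)
    (h1 : ∀ a, a < t → c (a + 1) * (p + a + 1) = c a * (m - a))
    (h2 : ∀ j, 1 ≤ j → j ≤ t → ν j + ν (j + 1) = c j) (hν : ν 1 = 0) : False := by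
  have hc : ∀ a, a ≤ t → c a * (m + p).choose p = c 0 * (m + p).choose (p + a) := by
    intro a
    induction a with
    | zero => intro _; rfl
    | succ a ih =>
      intro ha
      have ih' := ih (by omega)
      have e1 := h1 a (by omega)
      have e2 := Nat.choose_succ_right_eq (m + p) (p + a)
      have e3 : m + p - (p + a) = m - a := by omega
      rw [e3] at e2
      have e4 : (c (a + 1) * (m + p).choose p) * (p + a + 1) = (c 0 * (m + p).choose (p + (a + 1))) * (p + a + 1) := by
        calc (c (a + 1) * (m + p).choose p) * (p + a + 1) = (c (a + 1) * (p + a + 1)) * (m + p).choose p := by ring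
          _ = (c a * (m + p).choose p) * (m - a) := by rw [e1]; ring
          _ = c 0 * ((m + p).choose (p + a) * (m - a)) := by rw [ih']; ring
          _ = _ := by rw [← e2]; ring_nf
      exact Nat.eq_of_mul_eq_mul_right (by omega) e4
  have hL : m + p = (m + p - 1) + 1 := by omega
  have hn : ∀ i, i ≤ t → (ν (i + 1) : ℤ) * (m + p).choose p =
      c 0 * (((m + p - 1).choose (p + i) : ℤ) - (-1) ^ i * ((m + p - 1).choose p : ℤ)) := by
    intro i
    induction i with
    | zero => intro _; rw [hν]; simp
    | succ i ih =>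
      intro hi
      have ih' := ih (by omega)
      have e1 := h2 (i + 1) (by omega) hi
      have e2 := hc (i + 1) hi
      have e3 : (m + p).choose (p + (i + 1)) = (m + p - 1).choose (p + i) + (m + p - 1).choose (p + (i + 1)) := by
        conv_lhs => rw [hL]
        rw [← add_assoc, Nat.choose_succ_succ]
      rw [e3] at e2
      have e4 : (ν (i + 1 + 1) : ℤ) = c (i + 1) - ν (i + 1) := by
        rw [← e1]; push_cast; ring
      have e5 : (c (i + 1) : ℤ) * (m + p).choose p =
          c 0 * (((m + p - 1).choose (p + i) : ℤ) + ((m + p - 1).choose (p + (i + 1)) : ℤ)) := by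
        exact_mod_cast e2
      rw [e4, sub_mul, e5, ih', pow_succ]
      ring
  -- choose the even index
  obtain ⟨i, hi1, hi2, hi3⟩ : ∃ i, Even i ∧ 1 ≤ i ∧ (i = t - 1 ∨ i = t) := by
    rcases Nat.even_or_odd t with h | h
    · exact ⟨t, h, by omega, Or.inr rfl⟩
    · refine ⟨t - 1, ?_, by omega, Or.inl rfl⟩
      obtain ⟨k, hk⟩ := h
      exact ⟨k, by omega⟩
  have e1 := hn i (by omega)
  rw [hi1.neg_one_pow, one_mul] at e1
  have e2 : (m + p - 1).choose (p + i) < (m + p - 1).choose p := choose_lt_aux hm (by omega) (by omega)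
  have e3 : (0 : ℤ) ≤ (ν (i + 1) : ℤ) * (m + p).choose p := by positivity
  have e4 : (c 0 : ℤ) * (((m + p - 1).choose (p + i) : ℤ) - ((m + p - 1).choose p : ℤ)) < 0 := by
    apply mul_neg_of_pos_of_neg
    · exact_mod_cast hc0
    · have : ((m + p - 1).choose (p + i) : ℤ) < ((m + p - 1).choose p : ℤ) := by exact_mod_cast e2
      linarith
  rw [e1] at e3
  linarith

end H63.Marggraf
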