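import Cfsg.Agent.Lib.H63.MarggrafMain

/-! Marggraf's theorem (helper63). -/

namespace H63.Marggraf

open Finset MulAction Pointwise

section comm

/-- The commutator of two permutations whose supports meet in exactly one point is a 3-cycle. -/
theorem support_commutator {α : Type*} [Fintype α] [DecidableEq α] {h k : Equiv.Perm α} {a : α}
    (hk : ∀ z, h z ≠ z → k z ≠ z → z = a) (ha : h a ≠ a) (ka : k a ≠ a) :
    (h * k * h⁻¹ * k⁻¹) a = h a ∧ (h * k * h⁻¹ * k⁻¹) (h a) = k a ∧ (h * k * h⁻¹ * k⁻¹) (k a) = a ∧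
      ∀ z, z ≠ a → z ≠ h a → z ≠ k a → (h * k * h⁻¹ * k⁻¹) z = z := by
  have hfix : ∀ z, z ≠ a → h z ≠ z → k z = z := fun z hz h1 => by
    by_contra h2
    exact hz (hk z h1 h2)
  have kfix : ∀ z, z ≠ a → k z ≠ z → h z = z := fun z hz h1 => by
    by_contra h2
    exact hz (hk z h2 h1)
  have hinv : ∀ z, h z = z → h⁻¹ z = z := fun z hz => by rw [Equiv.Perm.inv_eq_iff_eq, hz]
  have kinv : ∀ z, k z = z → k⁻¹ z = z := fun z hz => by rw [Equiv.Perm.inv_eq_iff_eq, hz]
  have hinv' : ∀ z, h⁻¹ (h z) = z := fun z => by rw [Equiv.Perm.inv_eq_iff_eq]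
  have kinv' : ∀ z, k⁻¹ (k z) = z := fun z => by rw [Equiv.Perm.inv_eq_iff_eq]
  have hinv2 : ∀ z, h (h⁻¹ z) = z := fun z => h.apply_symm_apply z
  have kinv2 : ∀ z, k (k⁻¹ z) = z := fun z => k.apply_symm_apply z
  -- moved points
  have hha : h (h a) ≠ h a := fun h1 => ha (h.injective h1)
  have kka : k (k a) ≠ k a := fun h1 => ka (k.injective h1)
  have kha : k (h a) = h a := hfix _ ha hha
  have hka : h (k a) = k a := kfix _ ka kka
  have hha' : h (h⁻¹ a) ≠ h⁻¹ a := by
    rw [hinv2]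
    intro h1
    apply ha
    conv_lhs => rw [h1]
    rw [hinv2]
  have kka' : k (k⁻¹ a) ≠ k⁻¹ a := by
    rw [kinv2]
    intro h1
    apply ka
    conv_lhs => rw [h1]
    rw [kinv2]
  have h1a : h⁻¹ a ≠ a := by
    intro h1
    apply ha
    conv_lhs => rw [← h1]
    rw [hinv2]
  have k1a : k⁻¹ a ≠ a := by
    intro h1
    apply ka
    conv_lhs => rw [← h1]
    rw [kinv2]
  refine ⟨?_, ?_, ?_, ?_⟩
  · show h (k (h⁻¹ (k⁻¹ a))) = h a
    rw [hinv _ (kfix _ k1a kka'), kinv2]
  · show h (k (h⁻¹ (k⁻¹ (h a)))) = k a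
    rw [kinv _ kha, hinv', hka]
  · show h (k (h⁻¹ (k⁻¹ (k a)))) = a
    rw [kinv', hfix _ h1a hha', hinv2]
  · intro z h1 h2 h3
    show h (k (h⁻¹ (k⁻¹ z))) = z
    by_cases hkz : k z = z
    · rw [kinv _ hkz]
      have h4 : h⁻¹ z ≠ a := by
        intro h5
        apply h2
        rw [← h5, hinv2]
      by_cases h5 : h (h⁻¹ z) = h⁻¹ z
      · rw [hinv2] at h5
        rw [← h5, hkz]
        have : h z = z := by
          conv_lhs => rw [h5]
          rw [hinv2]
        exact this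
      · rw [hfix _ h4 h5, hinv2]
    · have h4 : k⁻¹ z ≠ a := by
        intro h5
        apply h3
        rw [← h5, kinv2]
      have h5 : k (k⁻¹ z) ≠ k⁻¹ z := by
        rw [kinv2]
        intro h6
        apply hkz
        conv_lhs => rw [h6]
        rw [kinv2]
      rw [hinv _ (kfix _ h4 h5), kinv2]
      exact kfix z h1 hkz

theorem isThreeCycle_commutator {α : Type*} [Fintype α] [DecidableEq α] {h k : Equiv.Perm α} {a : α}
    (hk : ∀ z, h z ≠ z → k z ≠ z → z = a) (ha : h a ≠ a) (ka : k a ≠ a) :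
    (h * k * h⁻¹ * k⁻¹).IsThreeCycle := by
  obtain ⟨h1, h2, h3, h4⟩ := support_commutator hk ha ka
  have hne : h a ≠ k a := by
    intro h5
    have hha : h (h a) ≠ h a := fun h1 => ha (h.injective h1)
    have kka : k (h a) ≠ h a := by
      rw [h5]
      exact fun h1 => ka (k.injective h1)
    exact ha (hk _ hha kka)
  rw [← card_support_eq_three_iff]
  have : (h * k * h⁻¹ * k⁻¹).support = {a, h a, k a} := by
    ext z
    rw [Equiv.Perm.mem_support]
    simp only [Finset.mem_insert, Finset.mem_singleton]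
    constructor
    · intro hz
      by_contra hcon
      push Not at hcon
      exact hz (h4 z hcon.1 hcon.2.1 hcon.2.2)
    · rintro (rfl | rfl | rfl)
      · rw [h1]; exact ha
      · rw [h2]; exact hne.symm
      · rw [h3]; exact ka.symm
  rw [this, Finset.card_eq_three]
  exact ⟨a, h a, k a, ha.symm, ka.symm, hne, rfl⟩

end comm

section thm

variable {G Ω : Type*} [Group G] [MulAction G Ω] [Fintype Ω] [DecidableEq Ω]

theorem TT_and_prim {J : Finset Ω → Prop} (hJC : JClass G J) {Γ : Finset Ω} (hprim : IsPreprimitive G Ω) (hJ' : J Γ)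
    (h1 : 1 < Γ.card) (hΓ : 2 * Γ.card < Fintype.card Ω)
    (hmax : ∀ Γ' : Finset Ω, J Γ' → 2 * Γ'.card < Fintype.card Ω → Γ'.card ≤ Γ.card) :
    Prim G (∅ : Finset Ω) ∧ ∀ t, 1 ≤ t → t + Γ.card ≤ Fintype.card Ω → TT G Ω t := by
  have hJ : IsJ G Γ := hJC.isJ Γ hJ'
  have h0 : Prim G (∅ : Finset Ω) := by
    intro B _ hB1 hB2
    by_contra hcon
    push Not at hcon
    have hblock : IsBlock G (B : Set Ω) := by
      rw [isBlock_iff_smul_eq_or_disjoint]
      intro g
      by_cases hg : g • B = B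
      · left
        rw [← Finset.coe_smul_finset, hg]
      · right
        rw [← Finset.coe_smul_finset, Finset.disjoint_coe]
        exact hcon g (by simp) hg
    rcases hprim.isTrivialBlock_of_isBlock hblock with h | h
    · obtain ⟨x, hx, y, hy, hxy⟩ := Finset.one_lt_card.mp hB1
      exact hxy (h (Finset.mem_coe.mpr hx) (Finset.mem_coe.mpr hy))
    · have : B = Finset.univ := by
        rw [← Finset.coe_eq_univ]; exact h
      rw [this, Finset.card_univ, Finset.card_empty] at hB2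
      omega
  refine ⟨h0, ?_⟩
  have key : ∀ t, t + 1 + Γ.card ≤ Fintype.card Ω →
      TT G Ω (t + 1) ∧ ∀ A : Finset Ω, A.card = t → Prim G A := by
    intro t
    induction t with
    | zero =>
      intro _
      constructor
      · have htr := hprim.toIsPretransitive
        intro U hU f hf
        rcases U.eq_empty_or_nonempty with h | ⟨x, hx⟩
        · exact ⟨1, fun u hu => absurd (h ▸ hu) (Finset.notMem_empty u)⟩
        · obtain ⟨g, hg⟩ := htr.exists_smul_eq x (f x)
          refine ⟨g, fun u hu => ?_⟩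
          rw [Finset.card_le_one.mp (by simpa using hU) u hu x hx, hg]
      · intro A hA
        rw [Finset.card_eq_zero.mp hA]
        exact h0
    | succ t ih =>
      intro ht
      obtain ⟨ih1, ih2⟩ := ih (by omega)
      have h2 : TT G Ω (t + 1 + 1) := TT_step (by omega) ih1 (fun A hA => ih2 A (by omega)) hJ h1 (by omega)
      refine ⟨h2, ?_⟩
      intro A hA
      exact Prim_step hJC (by omega) h2 (fun A hA => ih2 A (by omega)) hJ' h1 hΓ hmax (by omega) A (by omega)
  intro t ht1 ht2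
  obtain ⟨s, rfl⟩ : ∃ s, t = s + 1 := ⟨t - 1, by omega⟩
  exact (key s ht2).1

/-- Two overlapping Jordan sets meeting in one point. -/
theorem exists_single {J : Finset Ω → Prop} (hJC : JClass G J) {Γ : Finset Ω} (hprim : IsPreprimitive G Ω) (hJ : J Γ)
    (h1 : 1 < Γ.card) (hΓ : 2 * Γ.card < Fintype.card Ω) :
    ∃ Γ1 Γ2 : Finset Ω, J Γ1 ∧ J Γ2 ∧ 1 < Γ1.card ∧ 1 < Γ2.card ∧ ∃ a, Γ1 ∩ Γ2 = {a} := by
  classical
  -- choose Γ of maximal size
  obtain ⟨Γ0, hΓ0, hmax⟩ := Finset.exists_max_image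
    (Finset.univ.filter (fun S : Finset Ω => J S ∧ 2 * S.card < Fintype.card Ω)) Finset.card
    ⟨Γ, by rw [Finset.mem_filter]; exact ⟨Finset.mem_univ _, hJ, hΓ⟩⟩
  rw [Finset.mem_filter] at hΓ0
  have hmax' : ∀ Γ' : Finset Ω, J Γ' → 2 * Γ'.card < Fintype.card Ω → Γ'.card ≤ Γ0.card :=
    fun Γ' a b => hmax Γ' (by rw [Finset.mem_filter]; exact ⟨Finset.mem_univ _, a, b⟩)
  have h10 : 1 < Γ0.card := h1.trans_le (hmax' Γ hJ hΓ)
  obtain ⟨hP, hTT⟩ := TT_and_prim hJC hprim hΓ0.2.1 h10 hΓ0.2.2 hmax'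
  -- a translate meeting `Γ0` in a single point
  obtain ⟨g, a, hga⟩ : ∃ (g : G) (a : Ω), g • Γ0 ∩ Γ0 = {a} := by
    rcases Nat.lt_or_ge Γ0.card 3 with h3 | h3
    · obtain ⟨g, _, hg1, hg2⟩ := hP Γ0 (Finset.disjoint_empty_left _) h10 (by rw [Finset.card_empty]; omega)
      refine ⟨g, ?_⟩
      rw [← Finset.card_eq_one]
      have hc3 : (g • Γ0).card = Γ0.card := Finset.card_smul_finset g Γ0
      have hpos : 0 < (g • Γ0 ∩ Γ0).card := by
        rw [Finset.card_pos]
        rw [Finset.not_disjoint_iff] at hg2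
        obtain ⟨p, hp, hp'⟩ := hg2
        exact ⟨p, Finset.mem_inter.mpr ⟨hp, hp'⟩⟩
      have hlt : (g • Γ0 ∩ Γ0).card < Γ0.card := by
        apply Finset.card_lt_card
        refine ⟨Finset.inter_subset_right, ?_⟩
        intro hsub
        apply hg1
        symm
        apply Finset.eq_of_subset_of_card_le _ hc3.le
        exact fun x hx => (Finset.mem_inter.mp (hsub hx)).1
      omega
    · obtain ⟨β, hβ⟩ : Γ0.Nonempty := by rw [← Finset.card_pos]; omega
      obtain ⟨g, hg⟩ := exists_inter_eq (t := Γ0.card - 1) (hTT _ (by omega) (by omega)) (by omega) (by omega)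
        hΓ0.2.2 (by omega) (T := Γ0) (by omega) hβ
      exact ⟨g, β, hg⟩
  exact ⟨g • Γ0, Γ0, hJC.smul Γ0 g hΓ0.2.1, hΓ0.2.1, by rw [Finset.card_smul_finset]; exact h10, h10, a, hga⟩

theorem alternating_le_of_single {Γ1 Γ2 : Finset Ω} (hprim : IsPreprimitive G Ω) (hJ1 : IsJ G Γ1) (hJ2 : IsJ G Γ2)
    (h1 : 1 < Γ1.card) (h2 : 1 < Γ2.card) {a : Ω} (hga : Γ1 ∩ Γ2 = {a}) :
    alternatingGroup Ω ≤ (MulAction.toPermHom G Ω).range := by
  have ha : a ∈ Γ1 ∧ a ∈ Γ2 := by
    have : a ∈ Γ1 ∩ Γ2 := by rw [hga]; exact Finset.mem_singleton_self a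
    exact Finset.mem_inter.mp this
  obtain ⟨b, hb, hba⟩ := Finset.exists_mem_ne h1 a
  obtain ⟨b', hb', hb'a⟩ := Finset.exists_mem_ne h2 a
  obtain ⟨h, hh, hab⟩ := hJ1 a ha.1 b hb
  obtain ⟨k, hk, hab'⟩ := hJ2 a ha.2 b' hb'
  have h3c : (MulAction.toPermHom G Ω h * MulAction.toPermHom G Ω k * (MulAction.toPermHom G Ω h)⁻¹ *
      (MulAction.toPermHom G Ω k)⁻¹).IsThreeCycle := by
    apply isThreeCycle_commutator (a := a)
    · intro z hz1 hz2
      have e1 : z ∈ Γ1 := by
        by_contra hcon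
        exact hz1 (hh z hcon)
      have e2 : z ∈ Γ2 := by
        by_contra hcon
        exact hz2 (hk z hcon)
      have : z ∈ Γ1 ∩ Γ2 := Finset.mem_inter.mpr ⟨e1, e2⟩
      rw [hga] at this
      exact Finset.mem_singleton.mp this
    · intro h2
      exact hba (hab.symm.trans h2)
    · intro h2
      exact hb'a (hab'.symm.trans h2)
  have hprim' : IsPreprimitive (MulAction.toPermHom G Ω).range Ω := by
    let f : Ω →ₑ[(MulAction.toPermHom G Ω).rangeRestrict] Ω := ⟨id, fun g x => rfl⟩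
    exact IsPreprimitive.of_surjective (f := f) Function.surjective_id
  exact Equiv.Perm.alternatingGroup_le_of_isPreprimitive_of_isThreeCycle_mem hprim' h3c
    (by
      refine ⟨h * k * h⁻¹ * k⁻¹, ?_⟩
      simp only [map_mul, map_inv])

/-- **Marggraf's theorem**. A primitive group with a Jordan set `Γ`, `1 < |Γ| < n/2`, induces every even permutation. -/
theorem marggraf {Γ : Finset Ω} (hprim : IsPreprimitive G Ω) (hJ : IsJ G Γ) (h1 : 1 < Γ.card)
    (hΓ : 2 * Γ.card < Fintype.card Ω) : alternatingGroup Ω ≤ (MulAction.toPermHom G Ω).range := by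
  obtain ⟨Γ1, Γ2, hJ1, hJ2, h1, h2, a, ha⟩ := exists_single (jClass_isJ (G := G)) hprim hJ h1 hΓ
  exact alternating_le_of_single hprim hJ1 hJ2 h1 h2 ha

end thm

end H63.Marggraf
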