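import Cfsg.Agent.Lib.H63.MTab
import Cfsg.Agent.Lib.H63.McLData

set_option autoImplicit false
set_option linter.all false
set_option Elab.async false

/-! The automorphism group of the graph with 275 points has order at most `2 * 898128000`. -/

namespace H63.McL

open H63.PC H63.OT H63.MTb H35.Net

theorem FM_eq : FM = 2 ^ 275 - 1 := by decide +kernel

set_option maxRecDepth 100000 in
theorem c0 : cntA (fun p => Nat.beq (col MT.get [] p) (col MT.get [] 0)) 275 0 = 275 := by decide +kernel
set_option maxRecDepth 100000 in
theorem c1 : cntA (fun p => Nat.beq (col MT.get [0] p) (col MT.get [0] 22)) 275 0 = 112 := by decide +kernel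
set_option maxRecDepth 100000 in
theorem c2 : cntA (fun p => Nat.beq (col MT.get [22, 0] p) (col MT.get [22, 0] 28)) 275 0 = 30 := by decide +kernel
set_option maxRecDepth 100000 in
theorem c3 : cntA (fun p => Nat.beq (col MT.get [28, 22, 0] p) (col MT.get [28, 22, 0] 23)) 275 0 = 27 := by
  decide +kernel
set_option maxRecDepth 100000 in
theorem c4 : cntA (fun p => Nat.beq (col MT.get [23, 28, 22, 0] p) (col MT.get [23, 28, 22, 0] 1)) 275 0 = 18 := by
  decide +kernel
set_option maxRecDepth 100000 in
theorem t5 : tabChk MT.get [1, 23, 28, 22, 0] 198 275 T5 = true := by decide +kernel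
set_option maxRecDepth 100000 in
theorem c5 : cntA (fun p => Nat.beq (a32 T5 p) (a32 T5 47)) 275 0 = 4 := by decide +kernel
set_option maxRecDepth 100000 in
theorem t6 : tabChk MT.get [47, 1, 23, 28, 22, 0] 117 275 T6 = true := by decide +kernel
/-- determined points -/
def F6 : List ℕ := [130, 76, 26, 159, 212, 117, 146, 196, 85, 63, 152, 255, 46, 28, 23]
set_option maxRecDepth 100000 in
theorem s6 : sglChk T6 275 F6 = true := by decide +kernel
set_option maxRecDepth 100000 in
theorem i6 : isoChk MT.get FM F6 275 = true := by decide +kernel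

/-- automorphisms of the graph -/
noncomputable abbrev A : Subgroup (Equiv.Perm (Fin 275)) := FixG MT.get 275 []

theorem mem_A {σ : Equiv.Perm (Fin 275)} : σ ∈ A ↔ Pres MT.get σ :=
  ⟨fun h => h.1, fun h => ⟨h, fun b hb => by simp at hb⟩⟩

theorem card_A : Nat.card A ≤ 1796256000 := by
  have h6 : Nat.card (FixG MT.get 275 [47, 1, 23, 28, 22, 0]) ≤ 1 :=
    last FM_eq (by decide) (by decide) t6 s6 i6
  have h5 := level_up (M := MT.get) (l := [1, 23, 28, 22, 0]) (f := a32 T5)
    (fun σ hσ p => tab_inv (by decide) t5 hσ p) (b := 47) (by norm_num) c5 h6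
  have h4 := level_up (M := MT.get) (l := [23, 28, 22, 0]) (f := col MT.get [23, 28, 22, 0])
    (fun σ hσ p => col_inv hσ (by decide) p) (b := 1) (by norm_num) c4 h5
  have h3 := level_up (M := MT.get) (l := [28, 22, 0]) (f := col MT.get [28, 22, 0])
    (fun σ hσ p => col_inv hσ (by decide) p) (b := 23) (by norm_num) c3 h4
  have h2 := level_up (M := MT.get) (l := [22, 0]) (f := col MT.get [22, 0])
    (fun σ hσ p => col_inv hσ (by decide) p) (b := 28) (by norm_num) c2 h3
  have h1 := level_up (M := MT.get) (l := [0]) (f := col MT.get [0])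
    (fun σ hσ p => col_inv hσ (by decide) p) (b := 22) (by norm_num) c1 h2
  have h0 := level_up (M := MT.get) (l := []) (f := col MT.get [])
    (fun σ hσ p => col_inv hσ (by decide) p) (b := 0) (by norm_num) c0 h1
  exact h0.trans (by norm_num)

/-! ### the generators -/

set_option maxRecDepth 100000 in
theorem p_x : presT MT.get 275 te_x = true := by decide +kernel
set_option maxRecDepth 100000 in
theorem p_y : presT MT.get 275 te_y = true := by decide +kernel
set_option maxRecDepth 100000 in
theorem p_t : presT MT.get 275 te_t = true := by decide +kernel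
set_option maxRecDepth 100000 in
theorem p_a : presT MT.get 275 te_a = true := by decide +kernel
set_option maxRecDepth 100000 in
theorem p_o : presT MT.get 275 te_o = true := by decide +kernel

set_option maxRecDepth 100000 in
theorem e_x : allN (fun i => band (Nat.blt (a12 te_x i) 275)
    (band (Nat.blt (a12 te_X i) 275) (band (Nat.beq (a12 te_X (a12 te_x i)) i) (Nat.beq (a12 te_x (a12 te_X i)) i)))) 275 =
    true := by decide +kernel
set_option maxRecDepth 100000 in
theorem e_y : allN (fun i => band (Nat.blt (a12 te_y i) 275)
    (band (Nat.blt (a12 te_Y i) 275) (band (Nat.beq (a12 te_Y (a12 te_y i)) i) (Nat.beq (a12 te_y (a12 te_Y i)) i)))) 275 =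
    true := by decide +kernel
set_option maxRecDepth 100000 in
theorem e_t : allN (fun i => band (Nat.blt (a12 te_t i) 275)
    (band (Nat.blt (a12 te_T i) 275) (band (Nat.beq (a12 te_T (a12 te_t i)) i) (Nat.beq (a12 te_t (a12 te_T i)) i)))) 275 =
    true := by decide +kernel
set_option maxRecDepth 100000 in
theorem e_a : allN (fun i => band (Nat.blt (a12 te_a i) 275)
    (band (Nat.blt (a12 te_A i) 275) (band (Nat.beq (a12 te_A (a12 te_a i)) i) (Nat.beq (a12 te_a (a12 te_A i)) i)))) 275 =
    true := by decide +kernel
set_option maxRecDepth 100000 in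
theorem e_o : allN (fun i => band (Nat.blt (a12 te_o i) 275)
    (band (Nat.blt (a12 te_o i) 275) (band (Nat.beq (a12 te_o (a12 te_o i)) i) (Nat.beq (a12 te_o (a12 te_o i)) i)))) 275 =
    true := by decide +kernel

/-- permutation of order 11 -/
noncomputable def sx : Equiv.Perm (Fin 275) := (exists_perm e_x).choose
/-- permutation of order 5 -/
noncomputable def sy : Equiv.Perm (Fin 275) := (exists_perm e_y).choose
/-- permutation of order 4 -/
noncomputable def st : Equiv.Perm (Fin 275) := (exists_perm e_t).choose
/-- permutation of order 5 -/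
noncomputable def sa : Equiv.Perm (Fin 275) := (exists_perm e_a).choose
/-- outer involution -/
noncomputable def so : Equiv.Perm (Fin 275) := (exists_perm e_o).choose

/-- letters with an outer involution -/
abbrev Lo := Option Lz

/-- tables -/
noncomputable def TO : Lo → ℕ
  | some .x => te_x
  | some .X => te_X
  | some .y => te_y
  | some .Y => te_Y
  | some .t => te_t
  | some .T => te_T
  | some .a => te_a
  | some .b => te_a
  | some .c => te_a
  | some .d => te_a
  | none => te_o

/-- permutations -/
noncomputable def πs : Lo → Equiv.Perm (Fin 275)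
  | some .x => sx
  | some .X => sx⁻¹
  | some .y => sy
  | some .Y => sy⁻¹
  | some .t => st
  | some .T => st⁻¹
  | some .a => sa
  | some .b => sa
  | some .c => sa
  | some .d => sa
  | none => so

theorem rs (l : Lo) : Rp 275 (TO l) (πs l) := by
  rcases l with _ | l
  · exact (exists_perm e_o).choose_spec.1
  · cases l
    · exact (exists_perm e_x).choose_spec.1
    · exact (exists_perm e_x).choose_spec.2
    · exact (exists_perm e_y).choose_spec.1
    · exact (exists_perm e_y).choose_spec.2
    · exact (exists_perm e_t).choose_spec.1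
    · exact (exists_perm e_t).choose_spec.2
    all_goals exact (exists_perm e_a).choose_spec.1

theorem sA (l : Lo) : πs l ∈ A := by
  rw [mem_A]
  rcases l with _ | l
  · exact pres_of_tab (rs none) p_o
  · cases l
    · exact pres_of_tab (rs (some .x)) p_x
    · exact (pres_of_tab (rs (some .x)) p_x).inv
    · exact pres_of_tab (rs (some .y)) p_y
    · exact (pres_of_tab (rs (some .y)) p_y).inv
    · exact pres_of_tab (rs (some .t)) p_t
    · exact (pres_of_tab (rs (some .t)) p_t).inv
    all_goals exact pres_of_tab (rs (some .a)) p_a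

/-! ### lower bounds -/

/-- words at the levels -/
def w0 : List (List Lo) := [[some .x], [some .y], [some .t]]
def w1 : List (List Lo) := [[some .x, some .y, some .t, some .X], [some .t, some .X, some .T, some .x, some .y]]
def w2 : List (List Lo) := [[some .T, some .X, some .Y, some .t, some .x, some .T, some .x, some .t], [some .x, some .x, some .y, some .t, some .x, some .x, some .x, some .t, some .X, some .X]]
def w3 : List (List Lo) := [[some .x, some .x, some .T, some .x, some .Y, some .t, some .X, some .t, some .X, some .X], [some .Y, some .t, some .x, some .T, some .x, some .T, some .Y, some .x, some .t, some .t, some .X]]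
def w4 : List (List Lo) := [[some .T, some .X, some .T, some .Y, some .X, some .t, some .t, some .x, some .y, some .T, some .x, some .t], [some .X, some .Y, some .x, some .T, some .X, some .T, some .x, some .T, some .y, some .x, some .T, some .X, some .T, some .x, some .Y, some .x]]
def w5 : List (List Lo) := [[some .X, some .X, some .T, some .X, some .T, some .x, some .x, some .t, some .t, some .X, some .X, some .t, some .x, some .T, some .x, some .y]]
def w6 : List (List Lo) := [[some .Y, some .t, some .x, some .t, some .X, some .y, some .t, some .X, some .T, none, some .X, some .T]]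

set_option maxRecDepth 100000 in
theorem f1 : fixW TO w1 [0] = true := by decide +kernel
set_option maxRecDepth 100000 in
theorem f2 : fixW TO w2 [22, 0] = true := by decide +kernel
set_option maxRecDepth 100000 in
theorem f3 : fixW TO w3 [28, 22, 0] = true := by decide +kernel
set_option maxRecDepth 100000 in
theorem f4 : fixW TO w4 [23, 28, 22, 0] = true := by decide +kernel
set_option maxRecDepth 100000 in
theorem f5 : fixW TO w5 [1, 23, 28, 22, 0] = true := by decide +kernel
set_option maxRecDepth 100000 in
theorem f6 : fixW TO w6 [1, 23, 28, 22, 0] = true := by decide +kernel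
set_option maxRecDepth 100000 in
theorem r0 : Nat.ble 275 (cntM (reachW TO w0 275 5 (Nat.shiftLeft 1 0)) 275) = true := by decide +kernel
set_option maxRecDepth 100000 in
theorem r1 : Nat.ble 112 (cntM (reachW TO w1 275 7 (Nat.shiftLeft 1 22)) 275) = true := by decide +kernel
set_option maxRecDepth 100000 in
theorem r2 : Nat.ble 30 (cntM (reachW TO w2 275 5 (Nat.shiftLeft 1 28)) 275) = true := by decide +kernel
set_option maxRecDepth 100000 in
theorem r3 : Nat.ble 27 (cntM (reachW TO w3 275 5 (Nat.shiftLeft 1 23)) 275) = true := by decide +kernel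
set_option maxRecDepth 100000 in
theorem r4 : Nat.ble 18 (cntM (reachW TO w4 275 4 (Nat.shiftLeft 1 1)) 275) = true := by decide +kernel
set_option maxRecDepth 100000 in
theorem r5 : Nat.ble 2 (cntM (reachW TO w5 275 1 (Nat.shiftLeft 1 47)) 275) = true := by decide +kernel
set_option maxRecDepth 100000 in
theorem r6 : Nat.ble 4 (cntM (reachW TO w6 275 3 (Nat.shiftLeft 1 47)) 275) = true := by decide +kernel

/-- letters of the generators -/
def bas : Lo → Bool
  | some .x | some .X | some .y | some .Y | some .t | some .T => true
  | _ => false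

theorem w_mem {H : Subgroup (Equiv.Perm (Fin 275))} (hx : sx ∈ H) (hy : sy ∈ H) (ht : st ∈ H) {w : List Lo}
    (hw : w.all bas = true) : (w.map πs).prod ∈ H := by
  refine H.list_prod_mem fun σ hσ => ?_
  obtain ⟨l, hl, rfl⟩ := List.mem_map.1 hσ
  have h := List.all_eq_true.1 hw l hl
  rcases l with _ | l
  · exact absurd h (by decide)
  · cases l
    · exact hx
    · exact H.inv_mem hx
    · exact hy
    · exact H.inv_mem hy
    · exact ht
    · exact H.inv_mem ht
    all_goals exact absurd h (by decide)

theorem ws_mem {H : Subgroup (Equiv.Perm (Fin 275))} (hx : sx ∈ H) (hy : sy ∈ H) (ht : st ∈ H)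
    {ws : List (List Lo)} (hw : (ws.all fun w => w.all bas) = true) : ∀ w ∈ ws, (w.map πs).prod ∈ H :=
  fun w h => w_mem hx hy ht (List.all_eq_true.1 hw w h)

theorem low_step {H : Subgroup (Equiv.Perm (Fin 275))} (hx : sx ∈ H) (hy : sy ∈ H) (ht : st ∈ H) {m : ℕ}
    (hm : m ≤ Nat.card (H ⊓ Fx 275 [1, 23, 28, 22, 0] : Subgroup (Equiv.Perm (Fin 275)))) :
    449064000 * m ≤ Nat.card H := by
  have h4 := level_low rs (ws_mem hx hy ht (ws := w4) (by decide)) f4 (by norm_num) r4 hm
  have h3 := level_low rs (ws_mem hx hy ht (ws := w3) (by decide)) f3 (by norm_num) r3 h4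
  have h2 := level_low rs (ws_mem hx hy ht (ws := w2) (by decide)) f2 (by norm_num) r2 h3
  have h1 := level_low rs (ws_mem hx hy ht (ws := w1) (by decide)) f1 (by norm_num) r1 h2
  have f0 : fixW TO w0 [] = true := by decide +kernel
  have h0 := level_low rs (ws_mem hx hy ht (ws := w0) (by decide)) f0 (by norm_num) r0 h1
  have e : H ⊓ Fx 275 [] = H := by
    rw [inf_eq_left]
    intro σ _ b hb
    simp at hb
  rw [e] at h0
  refine le_trans (le_of_eq ?_) h0
  ring

theorem low_one {H : Subgroup (Equiv.Perm (Fin 275))} (hx : sx ∈ H) (hy : sy ∈ H) (ht : st ∈ H) :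
    898128000 ≤ Nat.card H := by
  have hp : 1 ≤ Nat.card (H ⊓ Fx 275 [47, 1, 23, 28, 22, 0] : Subgroup (Equiv.Perm (Fin 275))) := Nat.card_pos
  have h5 := level_low rs (ws_mem hx hy ht (ws := w5) (by decide)) f5 (by norm_num) r5 hp
  have := low_step hx hy ht h5
  omega

theorem low_two {H : Subgroup (Equiv.Perm (Fin 275))} (hx : sx ∈ H) (hy : sy ∈ H) (ht : st ∈ H) (ho : so ∈ H) :
    1796256000 ≤ Nat.card H := by
  have hp : 1 ≤ Nat.card (H ⊓ Fx 275 [47, 1, 23, 28, 22, 0] : Subgroup (Equiv.Perm (Fin 275))) := Nat.card_pos
  have h5 := level_low (ws := w6) (H := H) rs (by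
    intro w hw
    refine H.list_prod_mem fun σ hσ => ?_
    obtain ⟨l, hl, rfl⟩ := List.mem_map.1 hσ
    rcases l with _ | l
    · exact ho
    · have h : (w6.all fun w => w.all fun l => (l.isNone || bas l)) = true := by decide
      have h' := List.all_eq_true.1 (List.all_eq_true.1 h w hw) _ hl
      cases l
      · exact hx
      · exact H.inv_mem hx
      · exact hy
      · exact H.inv_mem hy
      · exact ht
      · exact H.inv_mem ht
      all_goals exact absurd h' (by decide)) f6 (by norm_num) r6 hp
  have := low_step hx hy ht h5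
  omega

end H63.McL
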