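import Cfsg.Agent.Lib.H63.PermChain

set_option autoImplicit false
set_option linter.all false
set_option maxRecDepth 100000

/-! Data for the centralizer of an involution of the McLaughlin group (generated). -/

namespace H63.McLC

/-- table of the involution -/
def tz : ℕ := 0x10410511010c10a10710f10910e10b10810d1061111121030e51010f80070000f20e300e00900f1000110f60e10e40ed0fd0e80db0ef0ee0f30ec0130020060f10010e61020f40fc0050f500a00c00d00800b0f00300220310190b50b402c0c10d20d00d102803b02d03a02902b03d02001e02e03c0c40c30c20d301f02a01603602f0240b30370b70b80210d60d50ba06d04c0970480440660a406309b07f07308b0a606b0ac0a106f0a30a00450850650640aa09a0990860b004703e07b06e07d07a04b04904104d0780a706a04606704309809e04207504a0810740a907c09207e09409106808c0690760830800a804007103f0a20930b206c0a508a0770790880ad09d09c0ab06201505f06005e04e05705b04f05005105c05605505305405205805905a05d08d0b109008208f0af09608909f0ae08708408e0720700950c90c50ce0cc0250180b90bd03301a0350320d80da0bc0c60cd0d40ca0bf0cb0cf01c0260390bb01d0d90b60c80c00c702302701b0340d70380170be0610140eb0040f70100f90fb0de0df0dc0e00fa0dd0ff0e90e20120030ea0e70fe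

/-- table of the second generator -/
def tb : ℕ := 0x2a09d0990040d40fc0120a302c0a10810e30a60650bf0a00a210609c0d807703f0aa08d0f70d50640080e60f80fd0fe0700490021100ec00005e10209f0bb08f00b01406f0f209b00c1000e800f00e01c0800ea0d302f06805c0d004e06102106c0b80b70280470591090300750fa10503c02d0ac0710260c40b606b0600e201906d07300604a0290cb0b50d105d0e902501f0b90460e00eb0b311202e0ad01e0f005608a0ba06709208805508c10d0ab0430c601005b03603706e02310f00103502b0f309703b03e01a0db0e40e110a0380bd1070de09004405208e06608403304210c0ca0d903407a10104b0410c708b00304c07d0e70390ef06a0f409102210e0130630871040f60cc0200c806205a07b01b0be0850530940c303203d0c90c205409e01604f0950c00ed0ae0b00890930f507800a01800d0ce0a70b101d0090a409610b0070480820d707f0720a90170790c10b20cd05001508305f0da0cf0510760ff0a807c0bc0d61110a50c507e0580d20400570af09a00503a0ee0e50860dd1030b404d0fb0f90740f10110270310240df0981080450dc069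

/-- partitions -/
def PT : ℕ := 0x990000000000000033004b0000e100a500000000000000000000630000000000003955008700000000002d00000000000000000000000000000000000000c5000000000000000000000000005935a90000000000000000000000000000000000000000000000000000002b0000000000530000000000711d00000000000000000000000000000000000000000000006500000000000000000000a3000000009500000000470000000000000000001b000000b100008d0000000027690000c300000000000000000000000000000000000000000000000000000000000000d100000000000000000000008b000000000000000000004d000000170000c9000000930000000000000000000000000f000000

/-- mask -/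
def W4 : ℕ := 0x400004086000000000000000000000

/-- mask -/
def W6 : ℕ := 0x840000000000000000000008202400000000000000000

/-- mask -/
def W8 : ℕ := 0x1000000

/-- mask -/
def W10 : ℕ := 0x2000000

end H63.McLC
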