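import Cfsg.Agent.Lib.H63.McLGroup

set_option autoImplicit false
set_option linter.all false
set_option Elab.async false

/-! The outer automorphism group of the McLaughlin group. -/

namespace H63.McL

open H63.PC H63.OT H63.MTb

/-! ### elements -/

set_option maxRecDepth 100000 in
theorem q_x : eqWord 275 TO (List.replicate 11 (some .x)) [] = true := by decide +kernel
set_option maxRecDepth 100000 in
theorem q_y : eqWord 275 TO (List.replicate 5 (some .y)) [] = true := by decide +kernel
set_option maxRecDepth 100000 in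
theorem q_a : eqWord 275 TO (List.replicate 5 (some .a)) [] = true := by decide +kernel
set_option maxRecDepth 100000 in
theorem q_w : eqWord 275 TO ((List.replicate 7 [some .y, some .t, some .X]).flatten) [] = true := by decide +kernel

theorem sx_mem : sx ∈ ψ.range := by
  refine odd_mem (sA (some .x)) (k := 5) ?_
  have h := eqWord_spec rs q_x
  simp only [List.map_replicate, List.prod_replicate, List.map_nil, List.prod_nil] at h
  exact h

theorem sy_mem : sy ∈ ψ.range := by
  refine odd_mem (sA (some .y)) (k := 2) ?_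
  have h := eqWord_spec rs q_y
  simp only [List.map_replicate, List.prod_replicate, List.map_nil, List.prod_nil] at h
  exact h

theorem sa_mem : sa ∈ ψ.range := by
  refine odd_mem (sA (some .a)) (k := 2) ?_
  have h := eqWord_spec rs q_a
  simp only [List.map_replicate, List.prod_replicate, List.map_nil, List.prod_nil] at h
  exact h

theorem prod_flatten_rep {P : Type*} [Monoid P] (l : List P) (k : ℕ) :
    ((List.replicate k l).flatten).prod = l.prod ^ k := by
  induction k with
  | zero => simp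
  | succ k ih => rw [List.replicate_succ, List.flatten_cons, List.prod_append, ih, pow_succ']

theorem st_mem : st ∈ ψ.range := by
  have h1 : sy * (st * sx⁻¹) ∈ ψ.range := by
    refine odd_mem (A.mul_mem (sA (some .y)) (A.mul_mem (sA (some .t)) (sA (some .X)))) (k := 3) ?_
    have h := eqWord_spec rs q_w
    rw [List.map_flatten, List.map_replicate, prod_flatten_rep] at h
    simp only [List.map_cons, List.map_nil, List.prod_cons, List.prod_nil, mul_one] at h
    exact h
  have h2 : st = sy⁻¹ * (sy * (st * sx⁻¹)) * sx := by group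
  rw [h2]
  exact ψ.range.mul_mem (ψ.range.mul_mem (ψ.range.inv_mem sy_mem) h1) sx_mem

/-- element of order 11 -/
noncomputable def x : G := sx_mem.choose
/-- element of order 5 -/
noncomputable def y : G := sy_mem.choose
/-- third generator -/
noncomputable def t : G := st_mem.choose
/-- element commuting with `y` -/
noncomputable def a : G := sa_mem.choose
theorem ψ_x : ψ x = sx := sx_mem.choose_spec
theorem ψ_y : ψ y = sy := sy_mem.choose_spec
theorem ψ_t : ψ t = st := st_mem.choose_spec
theorem ψ_a : ψ a = sa := sa_mem.choose_spec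

/-- elements of the letters -/
noncomputable abbrev el : Lz → G := elz x y t a a a a

/-- tables of the elements -/
noncomputable def TE (l : Lz) : ℕ := TO (some l)

theorem psi_el (l : Lz) : ψ (el l) = πs (some l) := by
  cases l
  · exact ψ_x
  · show ψ x⁻¹ = sx⁻¹; rw [map_inv, ψ_x]
  · exact ψ_y
  · show ψ y⁻¹ = sy⁻¹; rw [map_inv, ψ_y]
  · exact ψ_t
  · show ψ t⁻¹ = st⁻¹; rw [map_inv, ψ_t]
  all_goals exact ψ_a

theorem re (l : Lz) : Rp 275 (TE l) (ψ (el l)) := by
  rw [psi_el]; exact rs (some l)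

theorem so_not : so ∉ ψ.range := by
  intro h
  have h1 := low_two sx_mem sy_mem st_mem h
  rw [card_range] at h1
  omega

theorem gen_xyt : Subgroup.closure ({x, y, t} : Set G) = ⊤ := by
  set K := Subgroup.closure ({x, y, t} : Set G) with hK
  have h1 : 898128000 ≤ Nat.card (K.map ψ) := by
    apply low_one
    · exact ⟨x, Subgroup.subset_closure (by simp), ψ_x⟩
    · exact ⟨y, Subgroup.subset_closure (by simp), ψ_y⟩
    · exact ⟨t, Subgroup.subset_closure (by simp), ψ_t⟩
  have h2 : Nat.card (K.map ψ) = Nat.card K :=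
    (Nat.card_congr (K.equivMapOfInjective ψ ψ_inj).toEquiv).symm
  rw [h2] at h1
  apply Subgroup.eq_top_of_le_card
  rw [card_G]; exact h1

/-! ### relations -/

set_option maxRecDepth 100000 in
theorem e_xp : eqWord 275 TE (List.replicate 11 .x) [] = true := by decide +kernel
set_option maxRecDepth 100000 in
theorem e_yq : eqWord 275 TE (List.replicate 5 .y) [] = true := by decide +kernel
set_option maxRecDepth 100000 in
theorem e_yx : eqWord 275 TE [.y, .x] (List.replicate 3 .x ++ [.y]) = true := by decide +kernel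
set_option maxRecDepth 100000 in
theorem e_ty : eqWord 275 TE [.t, .y] (List.replicate 2 .y ++ [.t]) = true := by decide +kernel
set_option maxRecDepth 100000 in
theorem e_ay : eqWord 275 TE [.a, .y] [.y, .a] = true := by decide +kernel
set_option maxRecDepth 100000 in
theorem n_x : Nat.beq (evw TE [.x] 0) (evw TE [] 0) = false := by decide +kernel
set_option maxRecDepth 100000 in
theorem n_yx : Nat.beq (evw TE [.y, .x] 0) (evw TE [.x, .y] 0) = false := by decide +kernel

theorem x_pow : x ^ 11 = 1 := by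
  have h := group_eq ψ_inj re e_xp
  simp only [List.map_replicate, List.prod_replicate, List.map_nil, List.prod_nil, el, elz] at h
  exact h

theorem y_pow : y ^ 5 = 1 := by
  have h := group_eq ψ_inj re e_yq
  simp only [List.map_replicate, List.prod_replicate, List.map_nil, List.prod_nil, el, elz] at h
  exact h

theorem y_x : y * x * y⁻¹ = x ^ 3 := by
  have h := group_eq ψ_inj re e_yx
  simp only [List.map_append, List.map_cons, List.map_nil, List.map_replicate, List.prod_append,
    List.prod_replicate, List.prod_cons, List.prod_nil, mul_one, el, elz] at h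
  rw [h, mul_inv_cancel_right]

theorem t_y : t * y * t⁻¹ = y ^ 2 := by
  have h := group_eq ψ_inj re e_ty
  simp only [List.map_append, List.map_cons, List.map_nil, List.map_replicate, List.prod_append,
    List.prod_replicate, List.prod_cons, List.prod_nil, mul_one, el, elz] at h
  rw [h, mul_inv_cancel_right]

theorem a_y : a * y = y * a := by
  have h := group_eq ψ_inj re e_ay
  simp only [List.map_append, List.map_cons, List.map_nil, List.map_replicate, List.prod_append,
    List.prod_replicate, List.prod_cons, List.prod_nil, mul_one, el, elz] at h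
  exact h

theorem x_ne : x ≠ 1 := by
  have h := group_ne re (u := [.x]) (v := []) (by norm_num : 0 < 275) n_x
  simpa [el, elz] using h

theorem yx_ne : y * x ≠ x * y := by
  have h := group_ne re (u := [.y, .x]) (v := [.x, .y]) (by norm_num : 0 < 275) n_yx
  simpa [el, elz] using h

instance instPrime : Fact (Nat.Prime 11) := ⟨by norm_num⟩

theorem ord_x : orderOf x = 11 := orderOf_eq_prime x_pow x_ne

theorem card_not : ¬ 11 ^ 2 ∣ Nat.card G := by
  rw [card_G]
  norm_num

/-! ### the outer automorphism -/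

set_option maxRecDepth 100000 in
theorem o_x : eqWord 275 TO [none, some .x] [some .x, none] = true := by decide +kernel
set_option maxRecDepth 100000 in
theorem o_y : eqWord 275 TO [none, some .y] [some .y, none] = true := by decide +kernel

/-- elements commuting with `y` -/
def cw (k : ℕ) : List Lz := List.replicate (k % 5) .y ++ List.replicate (k / 5) .a

set_option maxRecDepth 100000 in
theorem o_t : eqWord 275 TO [none, some .t] ([some .t] ++ ((cw 12).map some ++ [none])) = true := by decide +kernel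

theorem so_x : so * ψ x = ψ x * so := by
  have h := eqWord_spec rs o_x
  simp only [List.map_cons, List.map_nil, List.prod_cons, List.prod_nil, mul_one] at h
  rw [ψ_x]; exact h

theorem so_y : so * ψ y = ψ y * so := by
  have h := eqWord_spec rs o_y
  simp only [List.map_cons, List.map_nil, List.prod_cons, List.prod_nil, mul_one] at h
  rw [ψ_y]; exact h

theorem prod_some (w : List Lz) : ((w.map some).map πs).prod = ψ ((w.map el).prod) := by
  rw [List.map_map, map_list_prod, List.map_map]
  congr 1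
  apply List.map_congr_left
  intro l _
  exact (psi_el l).symm

theorem conj_x : so * ψ x * so⁻¹ = ψ x := by rw [so_x, mul_inv_cancel_right]
theorem conj_y : so * ψ y * so⁻¹ = ψ y := by rw [so_y, mul_inv_cancel_right]

theorem conj_t : so * ψ t * so⁻¹ = ψ (t * ((cw 12).map el).prod) := by
  have h := eqWord_spec rs o_t
  rw [List.map_append, List.prod_append, List.map_append, List.prod_append, prod_some] at h
  simp only [List.map_cons, List.map_nil, List.prod_cons, List.prod_nil, mul_one] at h
  have h' : so * st = st * (ψ ((cw 12).map el).prod * so) := h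
  rw [ψ_t, h', map_mul, ψ_t, mul_assoc, mul_assoc, mul_inv_cancel, mul_one]

theorem ex_TH : ∃ TH : MulAut G, ∀ g, ψ (TH g) = so * ψ g * so⁻¹ := by
  apply H63.OA.exists_aut ψ ψ_inj gen_xyt so
  rintro s (rfl | rfl | rfl)
  · exact ⟨_, conj_x.symm⟩
  · exact ⟨_, conj_y.symm⟩
  · exact ⟨_, conj_t.symm⟩

/-- the outer automorphism -/
noncomputable def TH : MulAut G := ex_TH.choose

theorem TH_x : TH x = x := ψ_inj ((ex_TH.choose_spec x).trans conj_x)
theorem TH_y : TH y = y := ψ_inj ((ex_TH.choose_spec y).trans conj_y)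
theorem TH_t : TH t = t * ((cw 12).map el).prod := ψ_inj ((ex_TH.choose_spec t).trans conj_t)

theorem S_ext {α β : MulAut G} (hx : α x = β x) (hy : α y = β y) (ht : α t = β t) : α = β := by
  apply H63.OA.aut_ext gen_xyt
  rintro s (rfl | rfl | rfl)
  · exact hx
  · exact hy
  · exact ht

/-! ### centralizers -/

/-- words of the permutations commuting with `x` -/
def wx (k : ℕ) : List Lo := List.replicate (k % 11) (some .x) ++ List.replicate (k / 11) none

/-- words of the permutations commuting with `y` -/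
def wk (k : ℕ) : List Lo := List.replicate (k / 25) none ++ (cw (k % 25)).map some

set_option maxRecDepth 100000 in
theorem id_x : idChk MT.get 275 FM te_x 11 [240, 120] = true := by decide +kernel
set_option maxRecDepth 100000 in
theorem root_x : rootChk MT.get 275 te_x 11 120 (maskOf trx.ch) = true := by decide +kernel
set_option maxRecDepth 100000 in
theorem chk_x : trx.chk2 MT.get 275 FM te_x 11 22 (fun k => evw TO (wx k)) [240, 120] [120, 240] [] = true := by decide +kernel

theorem wx_good (k : ℕ) : ((wx k).map πs).prod * ψ x = ψ x * ((wx k).map πs).prod ∧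
    Pres MT.get ((wx k).map πs).prod := by
  apply good_prod
  intro l hl
  rw [wx, List.mem_append, List.mem_replicate, List.mem_replicate] at hl
  rcases hl with ⟨_, rfl⟩ | ⟨_, rfl⟩
  · refine ⟨?_, mem_A.mp (sA _)⟩
    rw [ψ_x]; rfl
  · exact ⟨so_x, mem_A.mp (sA none)⟩

theorem r_x : Rp 275 te_x (ψ x) := re .x
theorem r_y : Rp 275 te_y (ψ y) := re .y

theorem so_sq : so * so = 1 := by
  have h : eqWord 275 TO [none, none] [] = true := by decide +kernel
  have h1 := eqWord_spec rs h
  simp only [List.map_cons, List.map_nil, List.prod_cons, List.prod_nil, mul_one] at h1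
  exact h1

theorem C_x (g : G) (hg : g * x = x * g) : g ∈ Subgroup.zpowers x := by
  have h1 : ψ g * ψ x = ψ x * ψ g := by rw [← map_mul, hg, map_mul]
  obtain ⟨i, hi, k, hk, h2⟩ := CT.main2 r_x h1 (pres g) (pres x) FM_eq id_x (fun k => ((wx k).map πs).prod)
    (fun k _ b => evw_spec rs (wx k) b) (fun k _ => (wx_good k).1) (fun k _ => (wx_good k).2)
    (bs := [120, 240]) (by decide) root_x chk_x
  have e1 : (πs (some .x)) = ψ x := ψ_x.symm
  have h3 : ((wx k).map πs).prod = ψ x ^ (k % 11) * so ^ (k / 11) := by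
    rw [wx, List.map_append, List.map_replicate, List.map_replicate, List.prod_append, List.prod_replicate,
      List.prod_replicate, e1]; rfl
  rw [h3, ← map_pow, ← map_mul, ← map_pow] at h2
  have h4 : k / 11 = 0 := by
    rcases Nat.lt_or_ge (k / 11) 1 with h | h
    · omega
    · exfalso
      have h5 : k / 11 = 1 := by omega
      rw [h5, pow_one] at h2
      apply so_not
      refine ⟨(x ^ (k % 11))⁻¹ * (x ^ i * g), ?_⟩
      rw [map_mul, h2, map_inv, inv_mul_cancel_left]
  rw [h4, pow_zero, mul_one] at h2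
  have h5 := ψ_inj h2
  have h6 : g = (x ^ i)⁻¹ * x ^ (k % 11) := by rw [← h5, inv_mul_cancel_left]
  rw [h6]
  exact mul_mem (inv_mem (Subgroup.pow_mem _ (Subgroup.mem_zpowers x) i))
    (Subgroup.pow_mem _ (Subgroup.mem_zpowers x) _)

set_option maxRecDepth 100000 in
theorem id_y : idChk MT.get 275 FM te_y 5 [172, 9, 242, 249] = true := by decide +kernel
set_option maxRecDepth 100000 in
theorem root_y : rootChk MT.get 275 te_y 5 249 (maskOf try5.ch) = true := by decide +kernel
set_option maxRecDepth 100000 in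
theorem chk_y : try5.chk2 MT.get 275 FM te_y 5 50 (fun k => evw TO (wk k)) [172, 9, 242, 249] [249, 242, 9, 172] [] = true := by decide +kernel

theorem wk_good (k : ℕ) : ((wk k).map πs).prod * ψ y = ψ y * ((wk k).map πs).prod ∧
    Pres MT.get ((wk k).map πs).prod := by
  apply good_prod
  intro l hl
  rw [wk, List.mem_append, List.mem_replicate, List.mem_map] at hl
  rcases hl with ⟨_, rfl⟩ | ⟨l, hl, rfl⟩
  · exact ⟨so_y, mem_A.mp (sA none)⟩
  · refine ⟨?_, mem_A.mp (sA _)⟩
    rw [cw, List.mem_append, List.mem_replicate, List.mem_replicate] at hl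
    rw [← psi_el, ← map_mul, ← map_mul]
    rcases hl with ⟨_, rfl⟩ | ⟨_, rfl⟩
    · rfl
    · show ψ (a * y) = ψ (y * a)
      rw [a_y]

theorem C_y (g : G) (hg : g * y = y * g) : ∃ k < 25, g = ((cw k).map el).prod := by
  have h1 : ψ g * ψ y = ψ y * ψ g := by rw [← map_mul, hg, map_mul]
  obtain ⟨i, hi, k, hk, h2⟩ := CT.main2 r_y h1 (pres g) (pres y) FM_eq id_y (fun k => ((wk k).map πs).prod)
    (fun k _ b => evw_spec rs (wk k) b) (fun k _ => (wk_good k).1) (fun k _ => (wk_good k).2)
    (bs := [249, 242, 9, 172]) (by decide) root_y chk_y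
  have h3 : ((wk k).map πs).prod = so ^ (k / 25) * ψ ((cw (k % 25)).map el).prod := by
    rw [wk, List.map_append, List.map_replicate, List.prod_append, List.prod_replicate, prod_some]; rfl
  rw [h3, ← map_pow, ← map_mul] at h2
  have h4 : k / 25 = 0 := by
    rcases Nat.lt_or_ge (k / 25) 1 with h | h
    · omega
    · exfalso
      have h5 : k / 25 = 1 := by omega
      rw [h5, pow_one] at h2
      apply so_not
      refine ⟨(y ^ i * g) * (((cw (k % 25)).map el).prod)⁻¹, ?_⟩
      rw [map_mul, h2, map_inv, mul_inv_cancel_right]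
  rw [h4, pow_zero, one_mul] at h2
  have hk' : k < 25 := by omega
  rw [Nat.mod_eq_of_lt hk'] at h2
  have h5 := ψ_inj h2
  refine ⟨(k % 5 + (5 - i)) % 5 + 5 * (k / 5), by omega, ?_⟩
  have e1 : ((k % 5 + (5 - i)) % 5 + 5 * (k / 5)) % 5 = (k % 5 + (5 - i)) % 5 := by omega
  have e2 : ((k % 5 + (5 - i)) % 5 + 5 * (k / 5)) / 5 = k / 5 := by omega
  rw [cw, e1, e2]
  rw [cw] at h5
  rw [List.map_append, List.prod_append, List.map_replicate, List.prod_replicate] at h5 ⊢
  have e3 : el Lz.y = y := rfl
  rw [e3] at h5 ⊢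
  have hy : ∀ j, y ^ (j % 5) = y ^ j := by
    intro j
    conv_rhs => rw [← Nat.div_add_mod j 5, pow_add, pow_mul, y_pow, one_pow, one_mul]
  rw [hy, pow_add]
  have e4 : y ^ (k % 5) * y ^ (5 - i) = y ^ (5 - i) * y ^ (k % 5) := by
    rw [← pow_add, ← pow_add, add_comm]
  rw [e4, mul_assoc, ← h5, ← mul_assoc, ← pow_add]
  have e5 : 5 - i + i = 5 := by omega
  rw [e5, y_pow, one_mul]

/-! ### exclusion of candidates -/

/-- relations -/
def rw0 : ℕ → List Lz
  | 0 => [.t, .x, .t, .t, .x, .t, .t, .x, .t]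
  | _ => [.y, .t, .X, .y, .t, .X, .y, .t, .X, .y, .t, .X, .y, .t, .X, .y, .t, .X, .y, .t, .X]
set_option maxRecDepth 100000 in
theorem rel_0 : eqWord 275 TE (rw0 0) [] = true := by decide +kernel
set_option maxRecDepth 100000 in
theorem rel_1 : eqWord 275 TE (rw0 1) [] = true := by decide +kernel

theorem rel (i : ℕ) : ((rw0 i).map el).prod = 1 := by
  rcases i with _ | i
  · exact group_eq ψ_inj re rel_0
  exact group_eq ψ_inj re rel_1

theorem rel_basic (i : ℕ) : ∀ l ∈ rw0 i, l.basic = true := by
  rcases i with _ | i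
  · decide
  show ∀ l ∈ rw0 1, l.basic = true
  decide

theorem rel_T (i : ℕ) : Lz.T ∉ rw0 i := by
  rcases i with _ | i
  · decide
  show Lz.T ∉ rw0 1
  decide

/-- inversion of `x` -/
def sw : Lz → Lz
  | .x => .X
  | .X => .x
  | l => l

theorem rel_swT (i : ℕ) : Lz.T ∉ (rw0 i).map sw := by
  rcases i with _ | i
  · decide
  show Lz.T ∉ (rw0 1).map sw
  decide

theorem rel_map_inv {β : MulAut G} (hx : β x = x⁻¹) (hy : β y = y) {w : List Lz}
    (hw : ∀ l ∈ w, l.basic = true) (h : (w.map el).prod = 1) :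
    ((w.map sw).map (elz x y (β t) a a a a)).prod = 1 := by
  have h1 : β ((w.map el).prod) = 1 := by rw [h, map_one]
  rw [map_list_prod, List.map_map] at h1
  rw [← h1, List.map_map]
  congr 1
  apply List.map_congr_left
  intro l hl
  have h2 := hw l hl
  cases l with
  | x => exact hx.symm
  | X => show x = β x⁻¹; rw [map_inv, hx, inv_inv]
  | y => exact hy.symm
  | Y => show y⁻¹ = β y⁻¹; rw [map_inv, hy]
  | t => rfl
  | T => show (β t)⁻¹ = β t⁻¹; rw [map_inv]
  | a => exact absurd h2 (by decide)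
  | b => exact absurd h2 (by decide)
  | c => exact absurd h2 (by decide)
  | d => exact absurd h2 (by decide)

/-- relation numbers -/
def rr1 : Tr := (.nd (.nd (.nd (.nd (.nd (.lf 0) (.lf 0)) (.nd (.lf 0) (.lf 1))) (.nd (.nd (.lf 0) (.lf 0)) (.nd (.lf 0) (.lf 0)))) (.nd (.nd (.nd (.lf 0) (.lf 1)) (.nd (.lf 0) (.lf 0))) (.nd (.nd (.lf 1) (.lf 0)) (.nd (.lf 0) (.lf 0))))) (.nd (.nd (.nd (.nd (.lf 0) (.lf 0)) (.nd (.lf 0) (.lf 0))) (.nd (.nd (.lf 0) (.lf 0)) (.nd (.lf 0) (.lf 0)))) (.nd (.nd (.nd (.lf 0) (.lf 0)) (.nd (.lf 0) (.lf 0))) (.nd (.nd (.lf 0) (.lf 0)) (.nd (.lf 0) (.lf 0))))))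
/-- points -/
def pp1 : Tr := (.nd (.nd (.nd (.nd (.nd (.lf 0) (.lf 0)) (.nd (.lf 0) (.lf 0))) (.nd (.nd (.lf 0) (.lf 0)) (.nd (.lf 0) (.lf 0)))) (.nd (.nd (.nd (.lf 0) (.lf 0)) (.nd (.lf 0) (.lf 0))) (.nd (.nd (.lf 0) (.lf 0)) (.nd (.lf 0) (.lf 0))))) (.nd (.nd (.nd (.nd (.lf 0) (.lf 0)) (.nd (.lf 0) (.lf 0))) (.nd (.nd (.lf 0) (.lf 0)) (.nd (.lf 0) (.lf 0)))) (.nd (.nd (.nd (.lf 0) (.lf 0)) (.nd (.lf 0) (.lf 0))) (.nd (.nd (.lf 0) (.lf 0)) (.nd (.lf 0) (.lf 0))))))
/-- relation numbers -/
def rr10 : Tr := (.nd (.nd (.nd (.nd (.nd (.lf 1) (.lf 0)) (.nd (.lf 0) (.lf 1))) (.nd (.nd (.lf 0) (.lf 0)) (.nd (.lf 1) (.lf 0)))) (.nd (.nd (.nd (.lf 0) (.lf 1)) (.nd (.lf 0) (.lf 0))) (.nd (.nd (.lf 1) (.lf 0)) (.nd (.lf 0) (.lf 0))))) (.nd (.nd (.nd (.nd (.lf 0) (.lf 0)) (.nd (.lf 0) (.lf 0))) (.nd (.nd (.lf 0) (.lf 0)) (.nd (.lf 0) (.lf 0)))) (.nd (.nd (.nd (.lf 0) (.lf 0)) (.nd (.lf 0) (.lf 0))) (.nd (.nd (.lf 0) (.lf 0)) (.nd (.lf 0) (.lf 0))))))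
/-- points -/
def pp10 : Tr := (.nd (.nd (.nd (.nd (.nd (.lf 0) (.lf 0)) (.nd (.lf 0) (.lf 0))) (.nd (.nd (.lf 3) (.lf 0)) (.nd (.lf 0) (.lf 0)))) (.nd (.nd (.nd (.lf 0) (.lf 0)) (.nd (.lf 0) (.lf 0))) (.nd (.nd (.lf 0) (.lf 0)) (.nd (.lf 0) (.lf 0))))) (.nd (.nd (.nd (.nd (.lf 0) (.lf 0)) (.nd (.lf 0) (.lf 0))) (.nd (.nd (.lf 0) (.lf 0)) (.nd (.lf 0) (.lf 0)))) (.nd (.nd (.nd (.lf 0) (.lf 0)) (.nd (.lf 0) (.lf 0))) (.nd (.nd (.lf 0) (.lf 0)) (.nd (.lf 0) (.lf 0))))))

set_option maxRecDepth 100000 in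
theorem kill1 : allN (fun m => Bool.rec (motive := fun _ => Bool) (Bool.rec (motive := fun _ => Bool)
    (band (Nat.blt (pp1.get m) 275) (Bool.not (Nat.beq (evw TE (subz (cw m) (rw0 (rr1.get m))) (pp1.get m))
      (pp1.get m)))) true (Nat.beq m 12)) true (Nat.beq m 0)) 25 = true := by decide +kernel

set_option maxRecDepth 100000 in
theorem kill10 : allN (fun m =>
    (band (Nat.blt (pp10.get m) 275) (Bool.not (Nat.beq (evw TE (subz (cw m) ((rw0 (rr10.get m)).map sw)) (pp10.get m))
      (pp10.get m))))) 25 = true := by decide +kernel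

theorem fin_ne {w : List Lz} {b : ℕ} (h : band (Nat.blt b 275) (Bool.not (Nat.beq (evw TE w b) b)) = true) :
    (w.map el).prod ≠ 1 := by
  rw [band_iff] at h
  have hb : b < 275 := Nat.le_of_ble_eq_true h.1
  have h4 : Nat.beq (evw TE w b) (evw TE [] b) = false := by
    have : evw TE [] b = b := rfl
    rw [this]
    cases h' : Nat.beq (evw TE w b) b with
    | false => rfl
    | true => rw [h'] at h; exact absurd h.2 (by decide)
  have := group_ne re (v := []) hb h4
  rwa [List.map_nil, List.prod_nil] at this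

theorem key (β : MulAut G) (hx : β x = x) (hy : β y = y) : β t = t ∨ β t = t * ((cw 12).map el).prod := by
  obtain ⟨k, hk, hc⟩ := C_y _ (H63.OA.t_coset hy t_y)
  have ht : β t = t * ((cw k).map el).prod := by rw [← hc]; group
  by_cases hk0 : k = 0
  · left
    rw [ht, hk0]
    have : ((cw 0).map el).prod = 1 := by simp [cw]
    rw [this, mul_one]
  by_cases hk1 : k = 12
  · right
    rw [ht, hk1]
  exfalso
  have h1 := allN_sound kill1 k hk
  have hne : ∀ a, k ≠ a → Nat.beq k a = false := by
    intro a ha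
    cases h : Nat.beq k a with
    | false => rfl
    | true => exact absurd (Nat.eq_of_beq_eq_true h) ha
  rw [hne 0 hk0, hne 12 hk1] at h1
  refine fin_ne h1 ?_
  rw [el, subz_prod _ _ (rel_T _), ← el, ← ht]
  exact rel_mapz hx hy (rel_basic _) (rel _)

theorem key10 (β : MulAut G) (hx : β x = x⁻¹) (hy : β y = y) : False := by
  obtain ⟨k, hk, hc⟩ := C_y _ (H63.OA.t_coset hy t_y)
  have ht : β t = t * ((cw k).map el).prod := by rw [← hc]; group
  have h1 := allN_sound kill10 k hk
  refine fin_ne h1 ?_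
  rw [el, subz_prod _ _ (rel_swT _), ← el, ← ht]
  exact rel_map_inv hx hy (rel_basic _) (rel _)

theorem K_chk : ∀ j, 0 < j → j < 11 → ∃ m < 11, j * 3 ^ m % 11 ∈ ([1, 10] : List ℕ) := by
  intro j h0 h1
  interval_cases j <;> decide

theorem upper (α : MulAut G) : ∃ g : G, MulAut.conj g * α = 1 ∨ MulAut.conj g * α = TH := by
  obtain ⟨g, κ, hκ, h1, h2⟩ := H63.OA.adjust2 ord_x card_not y_x yx_ne C_x K_chk α
  refine ⟨g, ?_⟩
  simp only [List.mem_cons, List.not_mem_nil, or_false] at hκ
  rcases hκ with hκ | hκ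
  · rw [hκ, pow_one] at h1
    rcases key _ h1 h2 with h3 | h3
    · left; exact S_ext h1 h2 h3
    · right
      exact S_ext (h1.trans TH_x.symm) (h2.trans TH_y.symm) (h3.trans TH_t.symm)
  · exfalso
    rw [hκ] at h1
    refine key10 _ ?_ h2
    rw [h1]
    exact eq_inv_of_mul_eq_one_left (by rw [← pow_succ, x_pow])

/-- points moved -/
def qq : Tr := (.nd (.nd (.nd (.nd (.lf 0) (.lf 0)) (.nd (.lf 0) (.lf 0))) (.nd (.nd (.lf 0) (.lf 0)) (.nd (.lf 0) (.lf 0)))) (.nd (.nd (.nd (.lf 0) (.lf 0)) (.nd (.lf 0) (.lf 0))) (.nd (.nd (.lf 0) (.lf 0)) (.nd (.lf 0) (.lf 0)))))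

set_option maxRecDepth 100000 in
theorem xy_chk : allN (fun i => Bool.rec (motive := fun _ => Bool)
    (band (Nat.blt (qq.get i) 275) (Bool.not (Nat.beq (evw TE (List.replicate i .x ++ [.y]) (qq.get i))
      (evw TE (.y :: List.replicate i .x) (qq.get i))))) true (Nat.beq i 0)) 11 = true := by decide +kernel

set_option maxRecDepth 100000 in
theorem c12_chk : band (Nat.blt 0 275) (Bool.not (Nat.beq (evw TE (cw 12) 0) 0)) = true := by decide +kernel

theorem TH_not_inn : TH ∉ Cfsg.Inn G := by
  rintro ⟨g, hg⟩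
  have hgx : g * x * g⁻¹ = x := by
    have := TH_x
    rw [← hg] at this
    exact this
  have hgy : g * y * g⁻¹ = y := by
    have := TH_y
    rw [← hg] at this
    exact this
  have hgt : g * t * g⁻¹ = t * ((cw 12).map el).prod := by
    rw [← TH_t, ← hg]; rfl
  have h1 := C_x g (mul_inv_eq_iff_eq_mul.mp hgx)
  classical
  have hfin : IsOfFinOrder x := isOfFinOrder_of_finite x
  obtain ⟨i, hi⟩ := Finset.mem_image.mp ((hfin.mem_zpowers_iff_mem_range_orderOf).mp h1)
  obtain ⟨hi1, hi2⟩ := hi
  rw [Finset.mem_range, ord_x] at hi1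
  by_cases h0 : i = 0
  · rw [h0, pow_zero] at hi2
    rw [← hi2, one_mul, inv_one, mul_one] at hgt
    have h2 : ((cw 12).map el).prod = 1 := by
      have := hgt.symm
      rwa [mul_eq_left] at this
    exact fin_ne c12_chk h2
  · have h2 := allN_sound xy_chk i hi1
    have h3 : Nat.beq i 0 = false := by
      cases h : Nat.beq i 0 with
      | false => rfl
      | true => exact absurd (Nat.eq_of_beq_eq_true h) h0
    rw [h3] at h2
    have h2' : band (Nat.blt (qq.get i) 275) (Bool.not (Nat.beq (evw TE (List.replicate i .x ++ [.y]) (qq.get i))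
      (evw TE (.y :: List.replicate i .x) (qq.get i)))) = true := h2
    rw [band_iff] at h2'
    have h4 : Nat.beq (evw TE (List.replicate i .x ++ [.y]) (qq.get i))
      (evw TE (.y :: List.replicate i .x) (qq.get i)) = false := by
      cases h' : Nat.beq (evw TE (List.replicate i .x ++ [.y]) (qq.get i))
        (evw TE (.y :: List.replicate i .x) (qq.get i)) with
      | false => rfl
      | true => rw [h'] at h2'; exact absurd h2'.2 (by decide)
    refine group_ne re (Nat.le_of_ble_eq_true h2'.1) h4 ?_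
    simp only [List.map_append, List.map_cons, List.map_nil, List.map_replicate, List.prod_append,
      List.prod_replicate, List.prod_cons, List.prod_nil, mul_one]
    show x ^ i * y = y * x ^ i
    rw [hi2]
    exact mul_inv_eq_iff_eq_mul.mp hgy

theorem card_out : Nat.card (Cfsg.Out Cfsg.Spor.McL) = 2 := H63.OA.card_out_two TH upper TH_not_inn

end H63.McL
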