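import Cfsg.Agent.Lib.H63.ZTab
import Cfsg.Agent.Lib.H63.OutMcL
import Cfsg.Agent.Lib.H63.McLCData

set_option autoImplicit false
set_option linter.all false
set_option maxRecDepth 10000
set_option Elab.async false

/-! The centralizer of an involution of the McLaughlin group has order at most 80640. -/

namespace H63.McLC
open H63.PC H63.OT H63.MTb H63.ZT H35.Net H63.McL

/-- the involution -/
noncomputable def zG : G := t * t

set_option maxRecDepth 100000 in
theorem cw_z : chkWord 275 tz TE [.t, .t] = true := by decide +kernel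

theorem hzt : Rp 275 tz (ψ zG) := by
  have h := Rp_word re cw_z
  have e : zG = (([.t, .t] : List Lz).map el).prod := by simp [zG, el, elz]
  rw [e, map_list_prod, List.map_map]
  exact h

set_option maxRecDepth 100000 in
theorem q0 : cntA (fun p => Nat.beq (cz MT.get tz [] p) (cz MT.get tz [] 0)) 275 0 = 240 := by decide +kernel

set_option maxRecDepth 100000 in
theorem q1 : Nat.beq (a12 tz 0) 254 = true := by decide +kernel

set_option maxRecDepth 100000 in
theorem q2 : cntA (fun p => Nat.beq (cz MT.get tz [254, 0] p) (cz MT.get tz [254, 0] 6)) 275 0 = 56 := by decide +kernel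

set_option maxRecDepth 100000 in
theorem q3 : Nat.beq (a12 tz 6) 233 = true := by decide +kernel

set_option maxRecDepth 100000 in
theorem w4 : Nat.beq (mkMask (cz MT.get tz [233, 6, 254, 0]) (cz MT.get tz [233, 6, 254, 0] 85) 275) W4 = true := by decide +kernel

set_option maxRecDepth 100000 in
theorem q4 : cntA (gB MT.get tz [233, 6, 254, 0] 275 107 W4) 275 0 = 6 := by decide +kernel

set_option maxRecDepth 100000 in
theorem q5 : Nat.beq (a12 tz 107) 165 = true := by decide +kernel

set_option maxRecDepth 100000 in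
theorem w6 : Nat.beq (mkMask (cz MT.get tz [165, 107, 233, 6, 254, 0]) (cz MT.get tz [165, 107, 233, 6, 254, 0] 70) 275) W6 = true := by decide +kernel

set_option maxRecDepth 100000 in
theorem q6 : cntA (gB MT.get tz [165, 107, 233, 6, 254, 0] 275 123 W6) 275 0 = 1 := by decide +kernel

set_option maxRecDepth 100000 in
theorem q7 : Nat.beq (a12 tz 123) 148 = true := by decide +kernel

set_option maxRecDepth 100000 in
theorem w8 : Nat.beq (mkMask (cz MT.get tz [148, 123, 165, 107, 233, 6, 254, 0]) (cz MT.get tz [148, 123, 165, 107, 233, 6, 254, 0] 24) 275) W8 = true := by decide +kernel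

set_option maxRecDepth 100000 in
theorem q8 : cntA (gB MT.get tz [148, 123, 165, 107, 233, 6, 254, 0] 275 66 W8) 275 0 = 1 := by decide +kernel

set_option maxRecDepth 100000 in
theorem q9 : Nat.beq (a12 tz 66) 132 = true := by decide +kernel

set_option maxRecDepth 100000 in
theorem w10 : Nat.beq (mkMask (cz MT.get tz [132, 66, 148, 123, 165, 107, 233, 6, 254, 0]) (cz MT.get tz [132, 66, 148, 123, 165, 107, 233, 6, 254, 0] 25) 275) W10 = true := by decide +kernel

set_option maxRecDepth 100000 in
theorem q10 : cntA (gB MT.get tz [132, 66, 148, 123, 165, 107, 233, 6, 254, 0] 275 262 W10) 275 0 = 1 := by decide +kernel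

set_option maxRecDepth 100000 in
theorem q11 : cntA (fun p => Nat.beq (cz MT.get tz [262, 132, 66, 148, 123, 165, 107, 233, 6, 254, 0] p) (cz MT.get tz [262, 132, 66, 148, 123, 165, 107, 233, 6, 254, 0] 266)) 275 0 = 1 := by decide +kernel

set_option maxRecDepth 100000 in
theorem q12 : Nat.beq (a12 tz 266) 270 = true := by decide +kernel

set_option maxRecDepth 100000 in
theorem q13 : cntA (fun p => Nat.beq (cz MT.get tz [270, 266, 262, 132, 66, 148, 123, 165, 107, 233, 6, 254, 0] p) (cz MT.get tz [270, 266, 262, 132, 66, 148, 123, 165, 107, 233, 6, 254, 0] 175)) 275 0 = 1 := by decide +kernel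

set_option maxRecDepth 100000 in
theorem q14 : Nat.beq (a12 tz 175) 72 = true := by decide +kernel

set_option maxRecDepth 100000 in
theorem q15 : cntA (fun p => Nat.beq (cz MT.get tz [72, 175, 270, 266, 262, 132, 66, 148, 123, 165, 107, 233, 6, 254, 0] p) (cz MT.get tz [72, 175, 270, 266, 262, 132, 66, 148, 123, 165, 107, 233, 6, 254, 0] 53)) 275 0 = 1 := by decide +kernel

set_option maxRecDepth 100000 in
theorem q16 : Nat.beq (a12 tz 53) 51 = true := by decide +kernel

set_option maxRecDepth 100000 in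
theorem qend : isoChk MT.get FM [51, 53, 72, 175, 270, 266, 262, 132, 66, 148, 123, 165, 107, 233, 6, 254, 0] 275 = true := by decide +kernel

noncomputable abbrev ZZ (l : List ℕ) := FZ MT.get (ψ zG) l

theorem u17 : Nat.card (ZZ [51, 53, 72, 175, 270, 266, 262, 132, 66, 148, 123, 165, 107, 233, 6, 254, 0]) ≤ 1 := fin1 FM_eq (by decide) qend

theorem u16 : Nat.card (ZZ [53, 72, 175, 270, 266, 262, 132, 66, 148, 123, 165, 107, 233, 6, 254, 0]) ≤ 1 := addz hzt (b := 53) (by decide) (by norm_num) q16 u17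

theorem u15 : Nat.card (ZZ [72, 175, 270, 266, 262, 132, 66, 148, 123, 165, 107, 233, 6, 254, 0]) ≤ 1 := stepA hzt (by decide) (by norm_num) q15 u16

theorem u14 : Nat.card (ZZ [175, 270, 266, 262, 132, 66, 148, 123, 165, 107, 233, 6, 254, 0]) ≤ 1 := addz hzt (b := 175) (by decide) (by norm_num) q14 u15

theorem u13 : Nat.card (ZZ [270, 266, 262, 132, 66, 148, 123, 165, 107, 233, 6, 254, 0]) ≤ 1 := stepA hzt (by decide) (by norm_num) q13 u14

theorem u12 : Nat.card (ZZ [266, 262, 132, 66, 148, 123, 165, 107, 233, 6, 254, 0]) ≤ 1 := addz hzt (b := 266) (by decide) (by norm_num) q12 u13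

theorem u11 : Nat.card (ZZ [262, 132, 66, 148, 123, 165, 107, 233, 6, 254, 0]) ≤ 1 := stepA hzt (by decide) (by norm_num) q11 u12

theorem u10 : Nat.card (ZZ [132, 66, 148, 123, 165, 107, 233, 6, 254, 0]) ≤ 1 := stepB (c := 1) (m := 1) hzt (by decide) (by norm_num) w10 q10 u11

theorem u9 : Nat.card (ZZ [66, 148, 123, 165, 107, 233, 6, 254, 0]) ≤ 1 := addz hzt (b := 66) (by decide) (by norm_num) q9 u10

theorem u8 : Nat.card (ZZ [148, 123, 165, 107, 233, 6, 254, 0]) ≤ 1 := stepB (c := 1) (m := 1) hzt (by decide) (by norm_num) w8 q8 u9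

theorem u7 : Nat.card (ZZ [123, 165, 107, 233, 6, 254, 0]) ≤ 1 := addz hzt (b := 123) (by decide) (by norm_num) q7 u8

theorem u6 : Nat.card (ZZ [165, 107, 233, 6, 254, 0]) ≤ 1 := stepB (c := 1) (m := 1) hzt (by decide) (by norm_num) w6 q6 u7

theorem u5 : Nat.card (ZZ [107, 233, 6, 254, 0]) ≤ 1 := addz hzt (b := 107) (by decide) (by norm_num) q5 u6

theorem u4 : Nat.card (ZZ [233, 6, 254, 0]) ≤ 6 := stepB (c := 6) (m := 1) hzt (by decide) (by norm_num) w4 q4 u5

theorem u3 : Nat.card (ZZ [6, 254, 0]) ≤ 6 := addz hzt (b := 6) (by decide) (by norm_num) q3 u4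

theorem u2 : Nat.card (ZZ [254, 0]) ≤ 336 := stepA hzt (by decide) (by norm_num) q2 u3

theorem u1 : Nat.card (ZZ [0]) ≤ 336 := addz hzt (b := 0) (by decide) (by norm_num) q1 u2

theorem u0 : Nat.card (ZZ []) ≤ 80640 := stepA hzt (by decide) (by norm_num) q0 u1

/-- the centralizer of the involution -/
abbrev Cz : Subgroup G := Subgroup.centralizer ({zG} : Set G)

theorem mem_FZ {g : G} (hg : g ∈ Cz) : ψ g ∈ ZZ [] := by
  rw [Subgroup.mem_centralizer_singleton_iff] at hg
  exact ⟨pres g, by rw [← map_mul, ← map_mul, hg], fun b hb => by simp at hb⟩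

theorem card_Cz_le : Nat.card Cz ≤ 80640 := by
  refine le_trans ?_ u0
  exact Nat.card_le_card_of_injective (fun g : Cz => (⟨ψ g, mem_FZ g.2⟩ : ZZ []))
    (fun g h hh => Subtype.ext (ψ_inj (congrArg Subtype.val hh)))

end H63.McLC
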