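import Cfsg.Agent.Lib.H63.McLCIso

set_option autoImplicit false
set_option linter.all false
set_option maxRecDepth 10000
set_option Elab.async false

/-! The McLaughlin group has a single class of involutions. -/

namespace H63.McLC
open H63.PC H63.OT H63.MTb H63.ZT H35.Net H63.McL

/-- table of the third involution -/
def tcT : ℕ := 0x220530550cc01e02003a04f0c705a0520c805b0540d90560411010430b209209505f0b00850860870ab0f604604404b03e04c0420ef0ee09005e09308c0ac0b10ad06208e0ae06009408908b08808a0aa09108402910402e0d70b70d505d0c10c30d00d10cf03b02d10f03002b03d10710a0310570c20d20c40d30b90580be0bb0590bd0ba0c00b50d60b60b80b40b30ff0e80fb0480e40e70e90f70dd0830a100a0990a50060730800a80a009f00907906400806c0a600f00e0470fd0e20eb0fe0dc0ed04d0e50490ea0e00de0e10df0f80f90fa0db0a90720810a207507e00007c00500b09d00206907607f06f0a308207107007401300709a06b00d07706500c00106809c0110e60040e30fc0ec0d403c1061090bc0bf0c510311010511110802a02f10b02c08f0f10f304008d0af0960f50450f41000f010204a03f0f20c905c0ce10c02503801f0240350230330170c60cb0500d80cd04e0ca0510da02801c01b03903603411202110d03710e01a02702601d01901803201601201406e01506301009809706a06707a0a709e09b06d0a407b06100307806607d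

/-- word -/
def wc : List Lz := [.X, .y, .t, .t, .Y, .x]

/-- the involution -/
noncomputable def gC2 : G := (wc.map el).prod

set_option maxRecDepth 100000 in
theorem cw_c : chkWord 275 tcT TE wc = true := by decide +kernel

theorem r_c : Rp 275 tcT (ψ gC2) := by
  have h := Rp_word re cw_c
  rw [gC2, map_list_prod, List.map_map]
  exact h

set_option maxRecDepth 100000 in
theorem cm_c : cmChk tcT = true := by decide +kernel

theorem c_mem : gC2 ∈ Cz := cm_of r_c cm_c

set_option maxRecDepth 100000 in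
theorem ce_c : chkE tcT t8c = true := by decide +kernel

theorem c_K : inK (gC2, pc) := ⟨c_mem, ec, eq_of r_c r8c ce_c⟩

theorem a_K : inK (t, pa) := ⟨t_mem, ea, gg_eq .a⟩

/-- second lift -/
noncomputable def cC : Cz := ⟨gC2, c_mem⟩
/-- first lift -/
noncomputable def tC : Cz := ⟨t, t_mem⟩

theorem π8_c : π8 cC = ⟨pc, ec⟩ := π8_f1 ⟨(gC2, pc), c_K⟩
theorem π8_t : π8 tC = ⟨pa, ea⟩ := π8_f1 ⟨(t, pa), a_K⟩

theorem conj_c : IsConj zG gC2 := by
  rw [isConj_iff]
  refine ⟨x⁻¹ * y, ?_⟩
  simp only [gC2, wc, List.map_cons, List.map_nil, List.prod_cons, List.prod_nil, mul_one, el, elz, zG]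
  group

set_option maxRecDepth 100000 in
theorem e_cz : eqWord 275 TE [.X, .y, .t, .t, .Y, .x, .t, .t] [.x, .y, .t, .t, .Y, .X] = true := by decide +kernel

theorem conj_cz : IsConj zG (gC2 * zG) := by
  rw [isConj_iff]
  refine ⟨x * y, ?_⟩
  have h := group_eq ψ_inj re e_cz
  simp only [List.map_cons, List.map_nil, List.prod_cons, List.prod_nil, mul_one, el, elz] at h
  have h2 : gC2 * zG = x⁻¹ * (y * (t * (t * (y⁻¹ * (x * (t * t)))))) := by
    simp only [gC2, wc, List.map_cons, List.map_nil, List.prod_cons, List.prod_nil, mul_one, el, elz, zG]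
    group
  rw [h2, h]
  simp only [zG]
  group

/-! ### involutions of the alternating group -/

theorem ct {σ : S8} (h : σ * σ = 1) : ∃ k, σ.cycleType = Multiset.replicate k 2 ∧ σ.support.card = 2 * k := by
  by_cases h1 : σ = 1
  · refine ⟨0, ?_, ?_⟩
    · rw [h1]; simp
    · rw [h1]; simp
  · have h2 : orderOf σ = 2 := orderOf_eq_prime (by rw [pow_two]; exact h) h1
    obtain ⟨n, hn⟩ := Equiv.Perm.cycleType_prime_order (σ := σ) (by rw [h2]; exact Nat.prime_two)
    rw [h2] at hn
    refine ⟨n + 1, hn, ?_⟩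
    rw [← Equiv.Perm.sum_cycleType, hn, Multiset.sum_replicate, smul_eq_mul, mul_comm]

theorem conj8 {σ τ : S8} (h : σ * σ = 1) (h' : τ * τ = 1) (hc : σ.support.card = τ.support.card) : IsConj σ τ := by
  obtain ⟨k, h1, h2⟩ := ct h
  obtain ⟨k', h1', h2'⟩ := ct h'
  rw [Equiv.Perm.isConj_iff_cycleType_eq, h1, h1']
  have : k = k' := by omega
  rw [this]

theorem even_k {σ : S8} (h : σ * σ = 1) (he : σ ∈ alternatingGroup (Fin 8)) (hne : σ ≠ 1) :
    σ.support.card = 4 ∨ σ.support.card = 8 := by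
  obtain ⟨k, h1, h2⟩ := ct h
  have h3 : σ.support.card ≤ 8 := by
    refine (Finset.card_le_univ _).trans ?_
    rw [Fintype.card_fin]
  have h4 : σ.support.card ≠ 0 := by
    intro h5
    rw [Equiv.Perm.card_support_eq_zero] at h5
    exact hne h5
  rw [Equiv.Perm.mem_alternatingGroup, Equiv.Perm.sign_of_cycleType, h1, Multiset.sum_replicate,
    Multiset.card_replicate, smul_eq_mul] at he
  have h5 : k = 1 ∨ k = 2 ∨ k = 3 ∨ k = 4 := by omega
  rcases h5 with rfl | rfl | rfl | rfl
  · exact absurd he (by decide)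
  · left; omega
  · exact absurd he (by decide)
  · right; omega

theorem pa_sq : pa * pa = 1 := by decide +kernel
theorem pc_sq : pc * pc = 1 := by decide +kernel
theorem pa_card : pa.support.card = 4 := by decide +kernel
theorem pc_card : pc.support.card = 8 := by decide +kernel
theorem pa_sw : Equiv.swap (0 : Fin 8) 1 * pa = pa * Equiv.swap 0 1 := by decide +kernel
theorem pc_sw : Equiv.swap (0 : Fin 8) 3 * pc = pc * Equiv.swap 0 3 := by decide +kernel

theorem conjA {σ τ : S8} (hc : IsConj σ τ) {a b : Fin 8} (hab : a ≠ b) (hs : Equiv.swap a b * τ = τ * Equiv.swap a b) :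
    ∃ ρ ∈ alternatingGroup (Fin 8), ρ * σ * ρ⁻¹ = τ := by
  obtain ⟨c, hc⟩ := isConj_iff.mp hc
  rcases Int.units_eq_one_or (Equiv.Perm.sign c) with h | h
  · exact ⟨c, Equiv.Perm.mem_alternatingGroup.mpr h, hc⟩
  · refine ⟨Equiv.swap a b * c, ?_, ?_⟩
    · rw [Equiv.Perm.mem_alternatingGroup, map_mul, h, Equiv.Perm.sign_swap hab]
      rfl
    · have h1 : Equiv.swap a b * c * σ * (Equiv.swap a b * c)⁻¹ =
          Equiv.swap a b * (c * σ * c⁻¹) * (Equiv.swap a b)⁻¹ := by group
      rw [h1, hc, hs, mul_inv_cancel_right]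

theorem inv8 {σ : S8} (h : σ * σ = 1) (he : σ ∈ alternatingGroup (Fin 8)) (hne : σ ≠ 1) :
    ∃ ρ ∈ alternatingGroup (Fin 8), ρ * σ * ρ⁻¹ = pa ∨ ρ * σ * ρ⁻¹ = pc := by
  rcases even_k h he hne with h1 | h1
  · obtain ⟨ρ, h2, h3⟩ := conjA (conj8 h pa_sq (by rw [h1, pa_card])) (by decide) pa_sw
    exact ⟨ρ, h2, Or.inl h3⟩
  · obtain ⟨ρ, h2, h3⟩ := conjA (conj8 h pc_sq (by rw [h1, pc_card])) (by decide) pc_sw
    exact ⟨ρ, h2, Or.inr h3⟩

/-! ### the class -/

theorem in_C {c : Cz} (hc : c * c = 1) (hne : c ≠ 1) : IsConj zG (c : G) := by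
  by_cases h1 : π8 c = 1
  · rcases ker_eq.mp h1 with rfl | rfl
    · exact absurd rfl hne
    · exact IsConj.refl _
  · obtain ⟨ρ, hρ, h2⟩ := inv8 (σ := (π8 c : S8)) (by
      have h3 : π8 c * π8 c = 1 := by rw [← map_mul, hc, map_one]
      exact congrArg Subtype.val h3) (π8 c).2 (fun h3 => h1 (Subtype.ext h3))
    obtain ⟨d, hd⟩ := π8_surj ⟨ρ, hρ⟩
    have hcon : IsConj (c : G) ((d * c * d⁻¹ : Cz) : G) := isConj_iff.mpr ⟨d, rfl⟩
    have hq : (d * c * d⁻¹) * (d * c * d⁻¹) = 1 := by
      have h4 : (d * c * d⁻¹) * (d * c * d⁻¹) = d * (c * c) * d⁻¹ := by group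
      rw [h4, hc]; group
    have hz : ∀ e : Cz, zC * e = e * zC := fun e => (Subgroup.mem_center_iff.mp zC_central e).symm
    have hzz : zC * zC = 1 := Subtype.ext z_sq
    rcases h2 with h2 | h2
    · exfalso
      have h3 : π8 (d * c * d⁻¹) = π8 tC := by
        rw [π8_t]
        apply Subtype.ext
        rw [map_mul, map_mul, map_inv, hd]
        exact h2
      have h4 : π8 (tC⁻¹ * (d * c * d⁻¹)) = 1 := by rw [map_mul, h3, map_inv, inv_mul_cancel]
      have h5 : d * c * d⁻¹ = tC ∨ d * c * d⁻¹ = tC * zC := by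
        rcases ker_eq.mp h4 with h5 | h5
        · left; exact (inv_mul_eq_one.mp h5).symm
        · right; rw [← h5]; group
      have h6 : tC * tC = zC := rfl
      rcases h5 with h5 | h5
      · rw [h5, h6] at hq
        exact zC_ne hq
      · rw [h5] at hq
        have h7 : tC * zC * (tC * zC) = tC * tC * (zC * zC) := by
          calc tC * zC * (tC * zC) = tC * (zC * tC) * zC := by group
            _ = tC * (tC * zC) * zC := by rw [hz]
            _ = tC * tC * (zC * zC) := by group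
        rw [h7, h6, hzz, mul_one] at hq
        exact zC_ne hq
    · have h3 : π8 (d * c * d⁻¹) = π8 cC := by
        rw [π8_c]
        apply Subtype.ext
        rw [map_mul, map_mul, map_inv, hd]
        exact h2
      have h4 : π8 (cC⁻¹ * (d * c * d⁻¹)) = 1 := by rw [map_mul, h3, map_inv, inv_mul_cancel]
      rcases ker_eq.mp h4 with h5 | h5
      · have h6 : d * c * d⁻¹ = cC := (inv_mul_eq_one.mp h5).symm
        rw [h6] at hcon
        exact conj_c.trans hcon.symm
      · have h6 : d * c * d⁻¹ = cC * zC := by rw [← h5]; group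
        rw [h6] at hcon
        exact conj_cz.trans hcon.symm

theorem card_Cz : Nat.card Cz = 40320 := by
  have h1 : Nat.card f2.ker * 20160 = Nat.card KK := by
    rw [← Subgroup.card_mul_index f2.ker, Subgroup.index_ker, MonoidHom.range_eq_top.mpr f2_surj,
      Subgroup.card_top, card_A8]
  rw [← cards.2, ← h1, cards.1]

theorem one_class {g : G} (h : orderOf g = 2) : IsConj zG g := by
  haveI : Fact (Nat.Prime 2) := ⟨Nat.prime_two⟩
  have hp : IsPGroup 2 (Subgroup.zpowers g) := IsPGroup.of_card (n := 1) (by rw [Nat.card_zpowers, h, pow_one])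
  have hidx : Nat.card (G ⧸ Cz) = 22275 := by
    have h1 := Subgroup.card_mul_index Cz
    rw [card_Cz, card_G] at h1
    have h2 : Cz.index = 22275 := by omega
    exact h2
  obtain ⟨q, hq⟩ := hp.nonempty_fixed_point_of_prime_not_dvd_card (G ⧸ Cz) (by rw [hidx]; norm_num)
  obtain ⟨k, rfl⟩ := QuotientGroup.mk_surjective q
  have h1 : g • (k : G ⧸ Cz) = (k : G ⧸ Cz) := hq ⟨g, Subgroup.mem_zpowers g⟩
  have h2 : ((g * k : G) : G ⧸ Cz) = (k : G ⧸ Cz) := h1
  have h3 : k⁻¹ * (g * k) ∈ Cz := by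
    rw [← QuotientGroup.eq]; exact h2.symm
  have h4 := in_C (c := ⟨k⁻¹ * (g * k), h3⟩) (by
    apply Subtype.ext
    show k⁻¹ * (g * k) * (k⁻¹ * (g * k)) = 1
    have h5 : k⁻¹ * (g * k) * (k⁻¹ * (g * k)) = k⁻¹ * (g * g) * k := by group
    have h6 : g * g = 1 := by rw [← pow_two, ← h]; exact pow_orderOf_eq_one g
    rw [h5, h6]; group) (by
    intro h5
    have h6 : k⁻¹ * (g * k) = 1 := congrArg Subtype.val h5
    have h7 : g = 1 := by
      have h8 : g = k * (k⁻¹ * (g * k)) * k⁻¹ := by group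
      rw [h8, h6]; group
    rw [h7, orderOf_one] at h
    exact absurd h (by norm_num))
  refine h4.trans (isConj_iff.mpr ⟨k, ?_⟩)
  show k * (k⁻¹ * (g * k)) * k⁻¹ = g
  group

theorem main : (∀ x y : G, orderOf x = 2 → orderOf y = 2 → IsConj x y) ∧
    ∃ t : G, orderOf t = 2 ∧ Cfsg.IsNonsplitDoubleCover (Subgroup.centralizer ({t} : Set G))
      (alternatingGroup (Fin 8)) :=
  ⟨fun _ _ hx hy => (one_class hx).symm.trans (one_class hy), zG, z_ord, nonsplit⟩

end H63.McLC
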