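import Cfsg.Agent.Lib.H33.Leech1
import Cfsg.Agent.Lib.H63.MTab
import Cfsg.Agent.Lib.H63.McLData

set_option autoImplicit false
set_option linter.all false
set_option Elab.async false

/-! The 275 vectors of the McLaughlin configuration. -/

namespace H63.McL

open Cfsg Finset H9.Leech H9.LeechGood H8.GolayCode H8.GolayCount H8.GolayBasic H33.Leech1
open H63.PC H63.OT H63.MTb
open H35.Net (force force_eq)

/-- digit of a row -/
noncomputable def dg (R k : ℕ) : ℕ := Nat.land (Nat.shiftRight R (Nat.mul 3 k)) 7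

/-- row -/
noncomputable def row (i : ℕ) : ℕ := Nat.land (Nat.shiftRight VD (Nat.mul 72 i)) 4722366482869645213695

/-- code word and parity -/
noncomputable def mc (i : ℕ) : ℕ := Nat.land (Nat.shiftRight MC (Nat.mul 32 i)) 4294967295

/-- sums -/
noncomputable def sumN (f : ℕ → ℕ) (n : ℕ) : ℕ := Nat.rec (motive := fun _ => ℕ) 0 (fun k ih => Nat.add ih (f k)) n

theorem sumN_eq (f : ℕ → ℕ) (n : ℕ) : sumN f n = ∑ k ∈ range n, f k := by
  induction n with
  | zero => rfl
  | succ n ih =>
    rw [Finset.sum_range_succ, ← ih]; rfl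

/-- the coordinates of the vector -/
noncomputable def vf (i : ℕ) : GolayPt → ℤ := fun p => (dg (row i) (idx p) : ℤ) - 3

/-- quarter -/
noncomputable def yk (R m c k : ℕ) : ℕ := Nat.div (Nat.sub (Nat.add (dg R k) 1) (Nat.add m (Nat.mul 2 (bt c k)))) 4

/-- membership check -/
noncomputable def memChk (i : ℕ) : Bool :=
  force (row i) fun R => force (Nat.land (mc i) 16777215) fun c => force (Nat.shiftRight (mc i) 24) fun m =>
    band (Nat.beq (cw (c % 4096)) c)
    (band (allN (fun k => Nat.beq (Nat.add (Nat.add m (Nat.mul 2 (bt c k))) (Nat.mul 4 (yk R m c k)))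
      (Nat.add (dg R k) 1)) 24)
      (band (Nat.beq (Nat.mod (sumN (yk R m c) 24) 2) m) (Nat.blt c 16777216)))

set_option maxRecDepth 100000 in
theorem mem_chk : allN memChk 275 = true := by decide +kernel

theorem vf_mem {i : ℕ} (hi : i < 275) : vf i ∈ leechLattice := by
  have h := allN_sound mem_chk i hi
  simp only [memChk, force_eq] at h
  set R := row i with hR
  set c := Nat.land (mc i) 16777215 with hc
  set m := Nat.shiftRight (mc i) 24 with hm
  rw [band_iff, band_iff, band_iff] at h
  obtain ⟨h1, h2, h3, h4⟩ := h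
  have h1 := Nat.eq_of_beq_eq_true h1
  have h3 := Nat.eq_of_beq_eq_true h3
  have h4 : c < 2 ^ 24 := Nat.le_of_ble_eq_true h4
  have hvf : ∀ p, vf i p = (dg R (idx p) : ℤ) - 3 := fun p => rfl
  clear_value R c m
  have hind : ∀ p, ind (support₂ (wd c)) p = (bt c (idx p) : ℤ) := by
    intro p
    unfold ind
    rw [bt_eq]
    by_cases hb : c.testBit (idx p) = true
    · rw [if_pos ((mem_support_wd c p).2 hb), if_pos hb]; rfl
    · rw [if_neg (fun hh => hb ((mem_support_wd c p).1 hh)), if_neg hb]; rfl
  refine Rep.mem_leech (m := m) (c := support₂ (wd c)) (y := fun p => (yk R m c (idx p) : ℤ) - 1) ⟨?_, ?_, ?_⟩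
  · exact ⟨wd c, (wd_mem_iff h4).2 h1, rfl⟩
  · intro p
    have h5 := Nat.eq_of_beq_eq_true (allN_sound h2 (idx p) (idx_lt p))
    have h6 : m + 2 * bt c (idx p) + 4 * yk R m c (idx p) = dg R (idx p) + 1 := h5
    rw [hind]
    rw [hvf]
    have h7 : (m : ℤ) + 2 * (bt c (idx p) : ℤ) + 4 * (yk R m c (idx p) : ℤ) = (dg R (idx p) : ℤ) + 1 := by
      exact_mod_cast h6
    linarith
  · have h5 : (sumN (yk R m c) 24) % 2 = m := h3
    rw [sumN_eq] at h5
    have h6 : ∑ p : GolayPt, ((yk R m c (idx p) : ℤ) - 1) = ((∑ k ∈ range 24, yk R m c k : ℕ) : ℤ) - 24 := by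
      rw [sum_sub_distrib, sum_pt, Finset.sum_congr rfl (g := fun k => (yk R m c k : ℤ))
        (fun k hk => by rw [idx_pt k (mem_range.1 hk)]), Finset.sum_const, Finset.card_univ, card_pt,
        Nat.cast_sum]
      norm_num
    rw [h6]
    refine ⟨((∑ k ∈ range 24, yk R m c k : ℕ) : ℤ) / 2 - 12, ?_⟩
    omega

theorem dot_vf (i j : ℕ) : dotInt (vf i) (vf j) = (sumN (fun k => Nat.mul (dg (row i) k) (dg (row j) k)) 24 : ℤ) -
    3 * (sumN (dg (row i)) 24 : ℤ) - 3 * (sumN (dg (row j)) 24 : ℤ) + 216 := by
  unfold dotInt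
  rw [sum_pt, Finset.sum_congr rfl (g := fun k => ((dg (row i) k : ℤ) - 3) * ((dg (row j) k : ℤ) - 3))
    (fun k hk => by unfold vf; rw [idx_pt k (mem_range.1 hk)]), sumN_eq, sumN_eq, sumN_eq]
  have h : ∀ k, ((dg (row i) k : ℤ) - 3) * ((dg (row j) k : ℤ) - 3) =
      (dg (row i) k : ℤ) * (dg (row j) k : ℤ) - 3 * (dg (row i) k : ℤ) - 3 * (dg (row j) k : ℤ) + 9 := by
    intro k; ring
  rw [Finset.sum_congr rfl (fun k _ => h k), sum_add_distrib, sum_sub_distrib, sum_sub_distrib, ← mul_sum, ← mul_sum]
  push_cast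
  simp [Nat.mul_eq]

theorem sum_vf (i : ℕ) : ∑ p, vf i p = (sumN (dg (row i)) 24 : ℤ) - 72 := by
  rw [sum_pt, Finset.sum_congr rfl (g := fun k => ((dg (row i) k : ℤ) - 3))
    (fun k hk => by unfold vf; rw [idx_pt k (mem_range.1 hk)]), sumN_eq, sum_sub_distrib]
  push_cast
  simp

/-- check of a row -/
noncomputable def rowC (i : ℕ) : Bool :=
  force (row i) fun R => band (Nat.beq (Nat.add (sumN (dg R) 24) (Nat.mul 4 (dg R 23))) 108)
    (band (Nat.beq (Nat.add (dg R 23) (dg R 0)) 10) (Nat.beq (bt (MT.get i) i) 0))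

set_option maxRecDepth 100000 in
theorem row_chk : allN rowC 275 = true := by decide +kernel

/-- expected inner product -/
noncomputable def evd (Mi i j : ℕ) : ℕ :=
  Bool.rec (motive := fun _ => ℕ) (Bool.rec (motive := fun _ => ℕ) 16 8 (Nat.beq (bt Mi j) 1)) 32 (Nat.beq i j)

/-- value of the sum of the digits -/
noncomputable def sd (R : ℕ) : ℕ := Nat.sub 108 (Nat.mul 4 (dg R 23))

/-- pair check -/
noncomputable def pairC (i : ℕ) : Bool :=
  force (row i) fun R => force (MT.get i) fun Mi => force (sd R) fun s => allN (fun j => force (row j) fun R' =>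
    band (Nat.beq (Nat.add (sumN (fun k => Nat.mul (dg R k) (dg R' k)) 24) 216)
      (Nat.add (Nat.mul 3 (Nat.add s (sd R'))) (evd Mi i j)))
    (Nat.beq (bt Mi j) (bt (MT.get j) i))) (Nat.succ i)

/-- chunks of the pair check -/
noncomputable def chunk (lo : ℕ) : Bool := allN (fun a => pairC (Nat.add lo a)) 25

set_option maxRecDepth 100000 in
theorem k0 : chunk 0 = true := by decide +kernel
set_option maxRecDepth 100000 in
theorem k1 : chunk 25 = true := by decide +kernel
set_option maxRecDepth 100000 in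
theorem k2 : chunk 50 = true := by decide +kernel
set_option maxRecDepth 100000 in
theorem k3 : chunk 75 = true := by decide +kernel
set_option maxRecDepth 100000 in
theorem k4 : chunk 100 = true := by decide +kernel
set_option maxRecDepth 100000 in
theorem k5 : chunk 125 = true := by decide +kernel
set_option maxRecDepth 100000 in
theorem k6 : chunk 150 = true := by decide +kernel
set_option maxRecDepth 100000 in
theorem k7 : chunk 175 = true := by decide +kernel
set_option maxRecDepth 100000 in
theorem k8 : chunk 200 = true := by decide +kernel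
set_option maxRecDepth 100000 in
theorem k9 : chunk 225 = true := by decide +kernel
set_option maxRecDepth 100000 in
theorem k10 : chunk 250 = true := by decide +kernel

theorem pair_all {i : ℕ} (hi : i < 275) : pairC i = true := by
  have key : ∀ lo, chunk lo = true → lo ≤ i → i < lo + 25 → pairC i = true := by
    intro lo h h1 h2
    have h3 := allN_sound h (i - lo) (by omega)
    have h4 : lo + (i - lo) = i := by omega
    have h5 : pairC (lo + (i - lo)) = true := h3
    rwa [h4] at h5
  rcases Nat.lt_or_ge i 25 with h | h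
  · exact key 0 k0 (by omega) (by omega)
  rcases Nat.lt_or_ge i 50 with h | h
  · exact key 25 k1 (by omega) (by omega)
  rcases Nat.lt_or_ge i 75 with h | h
  · exact key 50 k2 (by omega) (by omega)
  rcases Nat.lt_or_ge i 100 with h | h
  · exact key 75 k3 (by omega) (by omega)
  rcases Nat.lt_or_ge i 125 with h | h
  · exact key 100 k4 (by omega) (by omega)
  rcases Nat.lt_or_ge i 150 with h | h
  · exact key 125 k5 (by omega) (by omega)
  rcases Nat.lt_or_ge i 175 with h | h
  · exact key 150 k6 (by omega) (by omega)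
  rcases Nat.lt_or_ge i 200 with h | h
  · exact key 175 k7 (by omega) (by omega)
  rcases Nat.lt_or_ge i 225 with h | h
  · exact key 200 k8 (by omega) (by omega)
  rcases Nat.lt_or_ge i 250 with h | h
  · exact key 225 k9 (by omega) (by omega)
  exact key 250 k10 (by omega) (by omega)

theorem row_spec {i : ℕ} (hi : i < 275) : sumN (dg (row i)) 24 + 4 * dg (row i) 23 = 108 ∧
    dg (row i) 23 + dg (row i) 0 = 10 ∧ (MT.get i).testBit i = false := by
  have h := allN_sound row_chk i hi
  simp only [rowC, force_eq] at h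
  rw [band_iff, band_iff] at h
  refine ⟨Nat.eq_of_beq_eq_true h.1, Nat.eq_of_beq_eq_true h.2.1, ?_⟩
  have h1 := Nat.eq_of_beq_eq_true h.2.2
  rw [bt_eq] at h1
  cases hb : (MT.get i).testBit i with
  | false => rfl
  | true => rw [hb] at h1; simp at h1

theorem dot_le {i j : ℕ} (hi : i < 275) (hj : j ≤ i) :
    dotInt (vf i) (vf j) = (if i = j then 32 else if (MT.get i).testBit j = true then 8 else 16) ∧
      (MT.get i).testBit j = (MT.get j).testBit i := by
  have h := pair_all hi
  simp only [pairC, force_eq] at h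
  have h1 := allN_sound h j (Nat.lt_succ_of_le hj)
  rw [band_iff] at h1
  have h2 : sumN (fun k => Nat.mul (dg (row i) k) (dg (row j) k)) 24 + 216 =
    3 * (sd (row i) + sd (row j)) + evd (MT.get i) i j := Nat.eq_of_beq_eq_true h1.1
  have h3 := bt_eq_iff.mp (Nat.eq_of_beq_eq_true h1.2)
  refine ⟨?_, h3⟩
  have hs : ∀ a, a < 275 → sd (row a) = sumN (dg (row a)) 24 := by
    intro a ha
    have := (row_spec ha).1
    show 108 - 4 * dg (row a) 23 = _
    omega
  rw [hs i hi, hs j (by omega)] at h2
  have he : (evd (MT.get i) i j : ℤ) = if i = j then 32 else if (MT.get i).testBit j = true then 8 else 16 := by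
    unfold evd
    by_cases hij : i = j
    · subst hij
      rw [Nat.beq_refl, if_pos rfl]; rfl
    · have : Nat.beq i j = false := by
        cases hb : Nat.beq i j with
        | false => rfl
        | true => exact absurd (Nat.eq_of_beq_eq_true hb) hij
      rw [this, if_neg hij]
      by_cases hb : (MT.get i).testBit j = true
      · rw [if_pos hb]
        have : bt (MT.get i) j = 1 := bt_one.mpr hb
        rw [this]; rfl
      · rw [if_neg hb]
        have : bt (MT.get i) j = 0 := by rw [bt_eq, if_neg hb]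
        rw [this]; rfl
  rw [dot_vf, ← he]
  have h4 : (sumN (fun k => Nat.mul (dg (row i) k) (dg (row j) k)) 24 : ℤ) + 216 =
    3 * ((sumN (dg (row i)) 24 : ℤ) + (sumN (dg (row j)) 24 : ℤ)) + (evd (MT.get i) i j : ℤ) := by exact_mod_cast h2
  linarith

theorem dot_all {i j : ℕ} (hi : i < 275) (hj : j < 275) :
    dotInt (vf i) (vf j) = if i = j then 32 else if (MT.get i).testBit j = true then 8 else 16 := by
  rcases Nat.le_total j i with h | h
  · exact (dot_le hi h).1
  · obtain ⟨h1, h2⟩ := dot_le hj h
    rw [dot_comm, h1, h2]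
    by_cases hij : i = j
    · rw [if_pos hij.symm, if_pos hij]
    · rw [if_neg (Ne.symm hij), if_neg hij]

theorem bit_iff {i j : ℕ} (hi : i < 275) (hj : j < 275) :
    (MT.get i).testBit j = true ↔ dotInt (vf i) (vf j) = 8 := by
  rw [dot_all hi hj]
  by_cases hij : i = j
  · subst hij
    rw [if_pos rfl, (row_spec hi).2.2]
    simp
  · rw [if_neg hij]
    by_cases hb : (MT.get i).testBit j = true
    · simp [hb]
    · simp [hb]

/-- the vectors -/
noncomputable def V (i : Fin 275) : leechLattice := ⟨vf i, vf_mem i.2⟩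

theorem coe_V (i : Fin 275) : (V i : GolayPt → ℤ) = vf i := rfl

theorem V_inj : Function.Injective V := by
  intro i j h
  have h1 := dot_all i.2 j.2
  have h2 : vf i = vf j := congrArg Subtype.val h
  have h3 := dot_all i.2 i.2
  rw [if_pos rfl] at h3
  rw [← h2, h3] at h1
  by_contra hne
  have hne' : (i : ℕ) ≠ j := fun h => hne (Fin.ext h)
  rw [if_neg hne'] at h1
  split_ifs at h1 <;> omega

end H63.McL
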