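import Cfsg.Agent.S1580
import Cfsg.Agent.Lib.H63.LeechMcL2
import Cfsg.Agent.Lib.H63.McLModel
import Cfsg.Agent.Lib.H63.McLBound
import Cfsg.Prelude.Def_Spor_Conway

set_option autoImplicit false
set_option linter.all false

/-! The action of the McLaughlin group on 275 vectors. -/

namespace H63.McL

open Cfsg Finset H9.Leech H9.LeechGood H8.GolayCode H8.GolayCount H8.GolayBasic H33.Leech1
open H63.PC H63.OT H63.MTb MulAction
open H63.LeechFrame H63.LeechMcL

/-- the McLaughlin group -/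
abbrev G := ↥Cfsg.Spor.McL

/-- as an element of `Co0` -/
def toCo (g : G) : Co0 := ⟨g.1, g.2.1.1⟩

theorem fixV (g : G) : toCo g • Spor.leechV = Spor.leechV := g.2.1.2
theorem fixU (g : G) : toCo g • Spor.leechU = Spor.leechU := g.2.2

theorem toCo_mul (g h : G) : toCo (g * h) = toCo g * toCo h := rfl
theorem toCo_one : toCo 1 = 1 := rfl

/-- the vector of norm 6 -/
def u0 : leechLattice := -Spor.leechV

theorem fix_u0 (g : G) : toCo g • u0 = u0 := by
  unfold u0; rw [co0_neg, fixV]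

theorem coe_u0 : (u0 : GolayPt → ℤ) = Pi.single none 4 + fun _ => 1 := by
  funext p
  show -(Spor.vecV p) = (Pi.single none 4 : GolayPt → ℤ) p + 1
  unfold Spor.vecV
  by_cases h : p = none
  · subst h; rw [if_pos rfl, Pi.single_eq_same]; norm_num
  · rw [if_neg h, Pi.single_eq_of_ne h]; norm_num

theorem coe_U : (Spor.leechU : GolayPt → ℤ) = Pi.single none 4 + Pi.single (some 0) 4 := by
  funext p
  show Spor.vecU p = (Pi.single none 4 : GolayPt → ℤ) p + (Pi.single (some 0) 4 : GolayPt → ℤ) p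
  unfold Spor.vecU
  by_cases h : p = none
  · subst h; rw [if_pos (Or.inl rfl), Pi.single_eq_same, Pi.single_eq_of_ne (by simp)]; norm_num
  · by_cases h2 : p = some 0
    · subst h2; rw [if_pos (Or.inr rfl), Pi.single_eq_same, Pi.single_eq_of_ne (by simp)]; norm_num
    · rw [if_neg (by tauto), Pi.single_eq_of_ne h, Pi.single_eq_of_ne h2]; norm_num

theorem dot_u0 (x : GolayPt → ℤ) : dotInt (u0 : GolayPt → ℤ) x = 4 * x none + ∑ p, x p := by
  rw [coe_u0, dot_add, dot_single]
  congr 1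
  unfold dotInt
  exact Finset.sum_congr rfl fun p _ => one_mul _

theorem dot_U (x : GolayPt → ℤ) : dotInt (Spor.leechU : GolayPt → ℤ) x = 4 * x none + 4 * x (some 0) := by
  rw [coe_U, dot_add, dot_single, dot_single]

theorem norm_u0 : sqNorm (u0 : GolayPt → ℤ) = 48 := by decide

theorem norm_U : sqNorm (Spor.leechU : GolayPt → ℤ) = 32 ∧
    sqNorm ((u0 - Spor.leechU) : GolayPt → ℤ) = 32 := by decide

/-- the configuration -/
def X : Set leechLattice := {x : ↥Cfsg.leechLattice | Cfsg.sqNorm (x : Cfsg.GolayPt → ℤ) = 32 ∧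
  Cfsg.sqNorm ((u0 - x) : Cfsg.GolayPt → ℤ) = 32 ∧ Cfsg.dotInt (Spor.leechU : Cfsg.GolayPt → ℤ) (x : Cfsg.GolayPt → ℤ) = 16}

theorem X_card : X.ncard = 275 := (Cfsg.Agent.S1580.result u0 Spor.leechU norm_u0 norm_U).1

theorem X_tr {x x' : leechLattice} (hx : x ∈ X) (hx' : x' ∈ X) : ∃ g : Co0, g • u0 = u0 ∧
    g • Spor.leechU = Spor.leechU ∧ g • x = x' :=
  (Cfsg.Agent.S1580.result u0 Spor.leechU norm_u0 norm_U).2 x hx x' hx'

theorem norm_sub (x y : GolayPt → ℤ) : sqNorm (x - y) = sqNorm x - 2 * dotInt x y + sqNorm y := by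
  rw [← dot_self, dot_sub, dot_comm x (x - y), dot_comm y (x - y), dot_sub, dot_sub, dot_self, dot_self,
    dot_comm y x]
  ring

theorem mem_X {x : leechLattice} : x ∈ X ↔ sqNorm (x : GolayPt → ℤ) = 32 ∧ dotInt (u0 : GolayPt → ℤ) x = 24 ∧
    dotInt (Spor.leechU : GolayPt → ℤ) (x : GolayPt → ℤ) = 16 := by
  show (sqNorm (x : GolayPt → ℤ) = 32 ∧ sqNorm ((u0 : GolayPt → ℤ) - (x : GolayPt → ℤ)) = 32 ∧ _) ↔ _
  rw [norm_sub, norm_u0]
  constructor
  · rintro ⟨h1, h2, h3⟩; exact ⟨h1, by linarith, h3⟩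
  · rintro ⟨h1, h2, h3⟩; exact ⟨h1, by linarith, h3⟩

theorem smul_X (g : G) {x : leechLattice} (hx : x ∈ X) : toCo g • x ∈ X := by
  rw [mem_X] at hx ⊢
  refine ⟨by rw [co0_norm]; exact hx.1, ?_, ?_⟩
  · rw [← hx.2.1]
    conv_lhs => rw [← fix_u0 g]
    exact co0_dot _ _ _
  · rw [← hx.2.2]
    conv_lhs => rw [← fixU g]
    exact co0_dot _ _ _

theorem V_mem (i : Fin 275) : V i ∈ X := by
  rw [mem_X, dot_u0, dot_U, coe_V, sum_vf]
  have h1 := row_spec i.2
  have h2 := dot_all i.2 i.2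
  rw [if_pos rfl, dot_self] at h2
  have e1 : vf i none = (dg (row i) 23 : ℤ) - 3 := rfl
  have e2 : vf i (some 0) = (dg (row i) 0 : ℤ) - 3 := rfl
  rw [e1, e2]
  refine ⟨h2, ?_, ?_⟩
  · have := h1.1
    omega
  · have := h1.2.1
    omega

theorem range_V : Set.range V = X := by
  have hfin : X.Finite := Set.finite_of_ncard_ne_zero (by rw [X_card]; norm_num)
  apply Set.eq_of_subset_of_ncard_le
  · rintro _ ⟨i, rfl⟩; exact V_mem i
  · rw [X_card, ← Set.image_univ, Set.ncard_image_of_injective _ V_inj, Set.ncard_univ, Nat.card_fin]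
  · exact hfin

theorem exists_img (g : G) (i : Fin 275) : ∃ j, V j = toCo g • V i := by
  have h := smul_X g (V_mem i)
  rw [← range_V] at h
  exact h

/-- the action on indices -/
noncomputable def fx (g : G) (i : Fin 275) : Fin 275 := (exists_img g i).choose

theorem fx_spec (g : G) (i : Fin 275) : V (fx g i) = toCo g • V i := (exists_img g i).choose_spec

/-- the action on indices -/
noncomputable def act : MulAction G (Fin 275) where
  smul := fx
  one_smul i := V_inj (by
    show V (fx 1 i) = V i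
    rw [fx_spec, toCo_one, one_smul])
  mul_smul g h i := V_inj (by
    show V (fx (g * h) i) = V (fx g (fx h i))
    rw [fx_spec, fx_spec, fx_spec, toCo_mul, mul_smul])

/-- the action -/
noncomputable def ψ : G →* Equiv.Perm (Fin 275) := @MulAction.toPermHom G (Fin 275) _ act

theorem ψ_spec (g : G) (i : Fin 275) : V (ψ g i) = toCo g • V i := fx_spec g i

theorem pres (g : G) : Pres MT.get (ψ g) := by
  intro i j
  apply Bool.eq_iff_iff.mpr
  rw [bit_iff (ψ g i).2 (ψ g j).2, bit_iff i.2 j.2, ← coe_V, ← coe_V, ← coe_V, ← coe_V, ψ_spec, ψ_spec, co0_dot]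

/-! ### order and simplicity -/

/-- the second vector -/
def vW : leechLattice := -(Spor.leechU + Spor.leechV)

theorem form_UU : form Spor.leechU Spor.leechU = 4 := by
  have := eight_form_self Spor.leechU
  have h2 : sqNorm (Spor.leechU : GolayPt → ℤ) = 32 := by decide
  omega

theorem form_WW : form vW vW = 4 := by
  have := eight_form_self vW
  have h2 : sqNorm (vW : GolayPt → ℤ) = 32 := by decide
  omega

theorem form_UW : form Spor.leechU vW = -1 := by
  have := eight_form Spor.leechU vW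
  have h2 : dotInt (Spor.leechU : GolayPt → ℤ) (vW : GolayPt → ℤ) = -8 := by decide
  omega

theorem McL_eq : (GG Spor.leechU vW).map Co0.subtype = Spor.McL := by
  ext f
  constructor
  · rintro ⟨g, ⟨h1, h2⟩, rfl⟩
    have h1' : g • Spor.leechU = Spor.leechU := h1
    have h2' : g • vW = vW := h2
    have h3 : g • Spor.leechV = Spor.leechV := by
      have h4 : Spor.leechV = -(vW) - Spor.leechU := by
        unfold vW; abel
      rw [h4, co0_sub, co0_neg, h1', h2']
    exact ⟨⟨g.2, h3⟩, h1'⟩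
  · rintro ⟨⟨h1, h2⟩, h3⟩
    refine ⟨⟨f, h1⟩, ⟨h3, ?_⟩, rfl⟩
    show (⟨f, h1⟩ : Co0) • vW = vW
    have h2' : (⟨f, h1⟩ : Co0) • Spor.leechV = Spor.leechV := h2
    have h3' : (⟨f, h1⟩ : Co0) • Spor.leechU = Spor.leechU := h3
    unfold vW
    rw [co0_neg, co0_add, h2', h3']

theorem equivG : Nonempty (GG Spor.leechU vW ≃* G) :=
  ⟨((GG Spor.leechU vW).equivMapOfInjective Co0.subtype Co0.subtype_injective).trans
      (MulEquiv.subgroupCongr McL_eq)⟩

theorem card_G : Nat.card G = 898128000 := by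
  obtain ⟨e⟩ := equivG
  rw [← Nat.card_congr e.toEquiv]
  exact (isMcL form_UU form_WW form_UW).2

theorem simple : IsSimpleGroup G := by
  obtain ⟨e⟩ := equivG
  have := (isMcL form_UU form_WW form_UW).1
  exact e.symm.isSimpleGroup

instance fin : Finite G := Nat.finite_of_card_ne_zero (by rw [card_G]; norm_num)

theorem ψ_inj : Function.Injective ψ := by
  have hs := simple
  rw [← MonoidHom.ker_eq_bot_iff]
  rcases hs.eq_bot_or_eq_top_of_normal ψ.ker inferInstance with h | h
  · exact h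
  · exfalso
    obtain ⟨g, h1, h2, h3⟩ := X_tr (V_mem 0) (V_mem 1)
    have h4 : g • Spor.leechV = Spor.leechV := by
      have h5 : Spor.leechV = -u0 := by unfold u0; rw [neg_neg]
      rw [h5, co0_neg, h1]
    have hm : (g : Equiv.Perm leechLattice) ∈ Spor.McL := ⟨⟨g.2, h4⟩, h2⟩
    have h5 : (⟨_, hm⟩ : G) ∈ ψ.ker := by rw [h]; exact Subgroup.mem_top _
    have h6 : ψ (⟨_, hm⟩ : G) = 1 := h5
    have h7 := ψ_spec (⟨_, hm⟩ : G) 0
    rw [h6] at h7
    have h8 : toCo (⟨_, hm⟩ : G) • V 0 = V 1 := h3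
    rw [h8] at h7
    exact absurd (V_inj h7) (by decide)

/-! ### elements of the image -/

theorem range_le : ψ.range ≤ A := by
  rintro _ ⟨g, rfl⟩
  exact mem_A.mpr (pres g)

theorem card_range : Nat.card ψ.range = 898128000 := by
  rw [← card_G]
  exact (Nat.card_congr (MonoidHom.ofInjective ψ_inj).toEquiv).symm

theorem index_le : ψ.range.relIndex A ≤ 2 := by
  have h1 := Subgroup.relIndex_mul_relIndex (⊥ : Subgroup (Equiv.Perm (Fin 275))) ψ.range A bot_le range_le
  rw [Subgroup.relIndex_bot_left, Subgroup.relIndex_bot_left, card_range] at h1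
  have h2 := card_A
  rw [← h1] at h2
  by_contra hc
  have h3 : 3 ≤ ψ.range.relIndex A := by omega
  have h4 := Nat.mul_le_mul_left 898128000 h3
  omega

theorem sq_mem {σ : Equiv.Perm (Fin 275)} (h : σ ∈ A) : σ * σ ∈ ψ.range := by
  have h0 : ψ.range.relIndex A ≠ 0 := by
    have : Finite A := inferInstance
    exact Subgroup.index_ne_zero_of_finite (H := ψ.range.subgroupOf A)
  have h1 := index_le
  have h2 : ψ.range.relIndex A = 1 ∨ ψ.range.relIndex A = 2 := by omega
  rcases h2 with h2 | h2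
  · rw [Subgroup.relIndex_eq_one] at h2
    exact h2 (A.mul_mem h h)
  · have h3 : (ψ.range.subgroupOf A).index = 2 := h2
    have h4 := Subgroup.mul_self_mem_of_index_two h3 ⟨σ, h⟩
    exact h4

theorem odd_mem {σ : Equiv.Perm (Fin 275)} (h : σ ∈ A) {k : ℕ} (hk : σ ^ (2 * k + 1) = 1) : σ ∈ ψ.range := by
  have h1 := sq_mem (A.pow_mem h (k + 1))
  have h2 : σ ^ (k + 1) * σ ^ (k + 1) = σ := by
    rw [← pow_add, show k + 1 + (k + 1) = (2 * k + 1) + 1 by ring, pow_succ, hk, one_mul]
  rwa [h2] at h1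

end H63.McL
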