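import Cfsg.Agent.Lib.H63.ONWord
import Cfsg.Agent.Lib.H35.ONIndex

/-!
# Tools for centralizers in the group `ON` acting on 122760 points
-/

set_option autoImplicit false
set_option linter.all false
set_option maxRecDepth 100000

namespace H63.ONO
open H35.TC H35.Net H35.ONMain H63.ONW

/-- the group -/
abbrev G := Cfsg.Spor.ON

/-- bit test -/
noncomputable def tb (W b : ℕ) : Bool := Nat.beq (Nat.land (Nat.shiftRight W b) 1) 1

theorem tb_eq (W b : ℕ) : tb W b = W.testBit b := by
  have h : tb W b = Nat.beq ((W >>> b) &&& 1) 1 := rfl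
  rw [h, Nat.testBit, Nat.and_comm]
  have h2 : 1 &&& (W >>> b) = (W >>> b) % 2 := Nat.one_and_eq_mod_two _
  rw [h2]
  rcases Nat.mod_two_eq_zero_or_one (W >>> b) with h3 | h3 <;> rw [h3] <;> rfl

/-- masks of points moved to a mask by a word -/
noncomputable def mk (w : List LA) (W : ℕ) : ℕ := appF H35.NON.net w W

theorem mk_bit (w : List LA) (W b : ℕ) : (mk w W).testBit b = W.testBit (φ (val w) b) := by
  rw [mk, appF_eq, val, map_word hφ]
  exact (app_BP H35.NON.hbp w).bit W b

theorem tb_mk (w : List LA) (W b : ℕ) : tb (mk w W) b = W.testBit (φ (val w) b) := by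
  rw [tb_eq, mk_bit]

/-- the word `w` maps `b` to `c` -/
noncomputable def mp (w : List LA) (b c : ℕ) : Bool := tb (mk w (Nat.shiftLeft 1 c)) b

theorem mp_spec {w : List LA} {b c : ℕ} (h : mp w b c = true) : φ (val w) b = c := by
  rw [mp, tb_mk] at h
  have h' : (1 <<< c).testBit (φ (val w) b) = true := h
  rw [Nat.one_shiftLeft, Nat.testBit_two_pow] at h'
  simpa using (of_decide_eq_true h').symm

/-! ### suborbits -/

/-- suborbits -/
noncomputable def O : ℕ → ℕ
  | 0 => H35.NON.O_0
  | 1 => H35.NON.O_1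
  | 2 => H35.NON.O_2
  | _ => H35.NON.O_3

theorem O_letter (k : ℕ) : ∀ x : H35.TCONB.Lt, ∀ b, (O k).testBit (φ (gP (i1 x)) b) = (O k).testBit b := by
  intro x b
  have hm : [i1 x] ∈ H35.TCONA.subs := by cases x <;> decide
  have key : ∀ U, chkClosed H35.NON.net H35.TCONA.subs U = true →
      U.testBit (φ (gP (i1 x)) b) = U.testBit b := by
    intro U h
    have := closed_of_chk H35.NON.hbp h [i1 x] hm b
    rw [hφ]
    simpa using this
  unfold O
  split
  · exact key _ H35.NON.O_0_closed
  · exact key _ H35.NON.O_1_closed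
  · exact key _ H35.NON.O_2_closed
  · exact key _ H35.NON.O_3_closed

theorem gP_inv_i1 (x : H35.TCONB.Lt) : (gP (i1 x))⁻¹ = gP (i1 x) := by
  rw [← hinvP]; cases x <;> rfl

theorem O_H1 (k : ℕ) : ∀ s ∈ H1, ∀ b, (O k).testBit (φ s b) = (O k).testBit b := by
  intro s hs
  refine Subgroup.closure_induction (p := fun s _ => ∀ b, (O k).testBit (φ s b) = (O k).testBit b) ?_ ?_ ?_ ?_ hs
  · rintro _ ⟨x, rfl⟩ b
    exact O_letter k x b
  · intro b; rw [map_one]; rfl
  · intro x y _ _ hx hy b
    rw [map_mul, Equiv.Perm.mul_apply, hx, hy]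
  · intro x _ hx b
    have h1 := hx (φ x⁻¹ b)
    have h2 : φ x (φ x⁻¹ b) = b := by
      rw [map_inv]; exact (φ x).apply_symm_apply b
    rw [h2] at h1
    exact h1.symm

instance : Finite G := fin

/-- the stabilizer of `0` as a subgroup -/
noncomputable def S0 : Subgroup G where
  carrier := {s | φ s 0 = 0}
  one_mem' := by simp
  mul_mem' := by
    intro a b ha hb
    change φ (a * b) 0 = 0
    rw [map_mul, Equiv.Perm.mul_apply]
    have ha : φ a 0 = 0 := ha
    have hb : φ b 0 = 0 := hb
    rw [hb, ha]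
  inv_mem' := by
    intro a ha
    have ha : φ a 0 = 0 := ha
    change φ a⁻¹ 0 = 0
    rw [map_inv, Equiv.Perm.inv_eq_iff_eq]; exact ha.symm

theorem S0_eq : S0 = H1 := by
  have hle : H1 ≤ S0 := H35.ONIndex.H1_fix
  have h1 : H1.index = 122760 := H35.ONIndex.H1_index
  have h2 : 122760 ≤ S0.index := by
    -- cosets of the stabilizer inject points
    have hf : ∀ c : Fin 122760, ∃ g, φ g 0 = c := fun c => htr c c.2
    choose f hf using hf
    have hinj : Function.Injective (fun c => (QuotientGroup.mk (f c) : G ⧸ S0)) := by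
      intro a b hab
      have h3 : (f a)⁻¹ * f b ∈ S0 := QuotientGroup.eq.1 hab
      have h4 : φ ((f a)⁻¹ * f b) 0 = 0 := h3
      rw [map_mul, Equiv.Perm.mul_apply, hf b, map_inv, Equiv.Perm.inv_eq_iff_eq, hf a] at h4
      exact Fin.ext h4.symm
    have h5 := Nat.card_le_card_of_injective _ hinj
    rw [Nat.card_fin] at h5
    rwa [← Subgroup.index_eq_card] at h5
  have h3 := Subgroup.relIndex_mul_index hle
  rw [h1] at h3
  have h4 : H1.relIndex S0 = 1 := by
    have h5 : 0 < H1.relIndex S0 := by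
      rcases Nat.eq_zero_or_pos (H1.relIndex S0) with h | h
      · rw [h] at h3; omega
      · exact h
    by_contra hne
    have h6 : 2 ≤ H1.relIndex S0 := by omega
    have h7 : 2 * S0.index ≤ H1.relIndex S0 * S0.index := Nat.mul_le_mul_right _ h6
    omega
  exact le_antisymm (Subgroup.relIndex_eq_one.1 h4) hle

theorem O_inv (k : ℕ) {s : G} (hs : φ s 0 = 0) (b : ℕ) : (O k).testBit (φ s b) = (O k).testBit b := by
  apply O_H1 k s
  rw [← S0_eq]; exact hs

/-- comparison of colours -/
theorem row {t : G} {u u' b b' : ℕ} {w w' : List LA} (hw : mp w u 0 = true) (hw' : mp w' u' 0 = true)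
    (ht : φ t u = u') (hb : φ t b = b') (k : ℕ) : tb (mk w (O k)) b = tb (mk w' (O k)) b' := by
  have h1 := mp_spec hw
  have h2 := mp_spec hw'
  rw [tb_mk, tb_mk, ← hb]
  have h3 : φ (val w' * t * (val w)⁻¹) 0 = 0 := by
    rw [map_mul, map_mul, Equiv.Perm.mul_apply, Equiv.Perm.mul_apply, map_inv]
    have : (φ (val w))⁻¹ 0 = u := by rw [Equiv.Perm.inv_eq_iff_eq]; exact h1.symm
    rw [this, ht, h2]
  have h4 := O_inv k h3 (φ (val w) b)
  have h5 : (φ (val w))⁻¹ (φ (val w) b) = b := (φ (val w)).symm_apply_apply b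
  rw [← h4, map_mul, map_mul, Equiv.Perm.mul_apply, Equiv.Perm.mul_apply, map_inv, h5]

theorem pres_all' (g : G) (b : ℕ) : φ g b < 122760 ↔ b < 122760 := pres_all hφ genP H35.NON.pres g b

/-- mask of a list of points -/
noncomputable def ml (L : List ℕ) : ℕ :=
  List.rec (motive := fun _ => ℕ) 0 (fun y _ ih => Nat.lor (Nat.shiftLeft 1 y) ih) L

theorem ml_mem (L : List ℕ) (y : ℕ) (h : (ml L).testBit y = true) : y ∈ L := by
  induction L with
  | nil => simp [ml] at h
  | cons a L ih =>
    have h' : ((1 <<< a) ||| ml L).testBit y = true := h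
    rw [Nat.testBit_or, Bool.or_eq_true] at h'
    rcases h' with h1 | h1
    · rw [Nat.one_shiftLeft, Nat.testBit_two_pow] at h1
      have : a = y := of_decide_eq_true h1
      rw [this]; exact List.mem_cons_self
    · exact List.mem_cons_of_mem _ (ih h1)

/-- mask of the intersection is contained in the list -/
noncomputable def sub (M : ℕ) (L : List ℕ) : Bool := Nat.beq (Nat.lor M (ml L)) (ml L)

theorem sub_spec {M : ℕ} {L : List ℕ} (h : sub M L = true) {y : ℕ} (hy : M.testBit y = true) : y ∈ L := by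
  have h1 : M ||| ml L = ml L := eqOfBeq h
  apply ml_mem
  rw [← h1, Nat.testBit_or, hy]; rfl

theorem land_bit {a b y : ℕ} (ha : a.testBit y = true) (hb : b.testBit y = true) :
    (Nat.land a b).testBit y = true := by
  have : (a &&& b).testBit y = true := by rw [Nat.testBit_and, ha, hb]; rfl
  exact this

/-! ### fixed points -/

/-- points moved by the word `w` -/
noncomputable def mv (w : List LA) : ℕ → ℕ :=
  Nat.rec (motive := fun _ => ℕ) 0 (fun r ih => Nat.lor ih (Nat.xor (ipl r 17) (mk w (ipl r 17))))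

theorem mv_bit (w : List LA) : ∀ m, m ≤ 17 → ∀ b, b < 2 ^ 17 → φ (val w) b = b → (mv w m).testBit b = false := by
  intro m
  induction m with
  | zero => intro _ b _ _; simp [mv]
  | succ m ih =>
    intro hm b hb hfix
    have e : mv w (m + 1) = mv w m ||| (ipl m 17 ^^^ mk w (ipl m 17)) := rfl
    rw [e, Nat.testBit_or, ih (by omega) b hb hfix, Nat.testBit_xor, mk_bit, hfix]
    simp

theorem low_bit {x n b : ℕ} (h : Nat.mod x (Nat.pow 2 n) = Nat.sub (Nat.pow 2 n) 1) (hb : b < n) :
    x.testBit b = true := by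
  have h1 : (x % 2 ^ n).testBit b = true := by
    have h2 : x % 2 ^ n = 2 ^ n - 1 := h
    rw [h2, Nat.testBit_two_pow_sub_one]; exact decide_eq_true hb
  rw [Nat.testBit_mod_two_pow] at h1
  exact (Bool.and_eq_true_iff.1 h1).2

/-- all points below `n` not in the list are moved -/
noncomputable def fixI (n : ℕ) (w : List LA) (L : List ℕ) : Bool :=
  Nat.beq (Nat.mod (Nat.lor (mv w 17) (ml L)) (Nat.pow 2 n)) (Nat.sub (Nat.pow 2 n) 1)

theorem fixI_spec {n : ℕ} {w : List LA} {L : List ℕ} (h : fixI n w L = true) {b : ℕ} (hb : b < n)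
    (hb' : b < 2 ^ 17) (hf : φ (val w) b = b) : (ml L).testBit b = true := by
  have h1 : Nat.mod (Nat.lor (mv w 17) (ml L)) (Nat.pow 2 n) = Nat.sub (Nat.pow 2 n) 1 := eqOfBeq h
  have h2 : (Nat.lor (mv w 17) (ml L)).testBit b = true := low_bit h1 hb
  have h3 : (mv w 17 ||| ml L).testBit b = true := h2
  rw [Nat.testBit_or, mv_bit w 17 le_rfl b hb' hf] at h3
  simpa using h3

/-- all points not in the list are moved -/
noncomputable def fixIn (w : List LA) (L : List ℕ) : Bool := fixI 122760 w L

theorem fixIn_spec {w : List LA} {L : List ℕ} (h : fixIn w L = true) {b : ℕ} (hb : b < 122760)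
    (hf : φ (val w) b = b) : (ml L).testBit b = true := by
  have hb' : b < 2 ^ 17 := by
    have : (2 : ℕ) ^ 17 = 131072 := by norm_num
    omega
  exact fixI_spec (n := 122760) h hb hb' hf

theorem fixIn_hi {w : List LA} {L : List ℕ} (h : fixIn w L = true) {b : ℕ} (hb : b < 122760)
    (hf : φ (val w) b = b) : b ∈ L := ml_mem L b (fixIn_spec h hb hf)

/-! ### base -/

theorem base_of {w : ℕ} (hn : chkOrb H35.NON.net 17 H35.NON.ws_2 10 w 672 = true) {s : G} (h0 : φ s 0 = 0)
    (h16 : φ s 16 = 16) (hw : φ s w = w) : s = 1 := by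
  have hfr : Finite φ.range := Finite.of_surjective _ φ.rangeRestrict_surjective
  by_contra hne
  have h3 : 2 ≤ Nat.card (stabs φ.range [w, 16, 0]) := by
    have hmr : φ s ∈ φ.range := ⟨s, rfl⟩
    have hm : φ s ∈ stabs φ.range [w, 16, 0] := mem_stabs hmr (by
      intro b hb
      simp only [List.mem_cons, List.mem_nil_iff, or_false] at hb
      rcases hb with rfl | rfl | rfl
      · exact hw
      · exact h16
      · exact h0)
    have : Nontrivial (stabs φ.range [w, 16, 0]) := by
      refine ⟨⟨φ s, hm⟩, 1, ?_⟩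
      intro he
      apply hne
      apply card_inj.2
      rw [map_one]
      exact congrArg Subtype.val he
    exact Finite.one_lt_card
  have h2 : 672 * 2 ≤ Nat.card (stabs φ.range [16, 0]) := chain_stepF H35.NON.hbp mem_range H35.NON.fx_2 hn h3
  have h1 : 5586 * (672 * 2) ≤ Nat.card (stabs φ.range [0]) := chain_stepF H35.NON.hbp mem_range H35.NON.fx_1 H35.NON.nb_1 h2
  have h0' : 122760 * (5586 * (672 * 2)) ≤ Nat.card φ.range := chain_stepT H35.NON.hbp mem_range H35.NON.nb_0 h1
  have hc : Nat.card φ.range ≤ Nat.card G := Nat.card_le_card_of_surjective _ φ.rangeRestrict_surjective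
  rw [card_inj.1] at hc
  omega

end H63.ONO
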