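import Cfsg.Agent.Lib.H63.ONO1

/-!
# The centralizer of an element of order 19 of `ON`
-/

set_option autoImplicit false
set_option linter.all false
set_option maxRecDepth 100000
set_option Elab.async false

namespace H63.ONO
open H35.TC H35.Net H35.ONMain H63.ONW

/-- word of order 19 -/
def xw : List LA := [.f, .e, .d, .c, .b, .a]

/-- element of order 19 -/
noncomputable def X : G := val xw

/-- zero bit -/
noncomputable def tb0 (W b : ℕ) : Bool := Nat.beq (Nat.land (Nat.shiftRight W b) 1) 0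

theorem tb0_eq {W b : ℕ} (h : tb0 W b = true) : W.testBit b = false := by
  have h1 : Nat.land (Nat.shiftRight W b) 1 = 0 := eqOfBeq h
  have h2 : (W >>> b) &&& 1 = 0 := h1
  rw [Nat.testBit, Nat.and_comm, h2]; rfl

/-- masks for powers -/
noncomputable def mkn (i W : ℕ) : ℕ := appFn H35.NON.net xw i W

theorem mkn_bit (i W b : ℕ) : (mkn i W).testBit b = W.testBit (φ (X ^ i) b) := by
  rw [mkn, appFn_eq, (app_BP H35.NON.hbp (pw xw i)).bit W b, pw_prod, map_pow, X, val, map_word hφ]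

/-- one group of exclusions -/
noncomputable def grp (o i : ℕ) (L : List (ℕ × List LA)) : Bool :=
  List.rec (motive := fun _ => Bool) true
    (fun e _ ih => band (band (mp e.2 e.1 0) (tb0 (mkn i (mk e.2 o)) e.1)) ih) L

theorem grp_spec {o i : ℕ} {L : List (ℕ × List LA)} (h : grp o i L = true) : ∀ e ∈ L,
    mp e.2 e.1 0 = true ∧ (mkn i (mk e.2 o)).testBit e.1 = false := by
  induction L with
  | nil => intro e he; simp at he
  | cons a L ih =>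
    obtain ⟨h1, h2⟩ := band_eq_true.1 h
    obtain ⟨h3, h4⟩ := band_eq_true.1 h1
    intro e he
    rcases List.mem_cons.1 he with rfl | he
    · exact ⟨h3, tb0_eq h4⟩
    · exact ih h2 e he

/-- closing up under the powers of `X` -/
noncomputable def cov (n R : ℕ) : ℕ :=
  Nat.rec (motive := fun _ => ℕ) R (fun _ ih => force ih (fun W => Nat.lor W (mk xw W))) n

theorem cov_spec (R : ℕ) : ∀ n y, (cov n R).testBit y = true → ∃ j, R.testBit (φ (X ^ j) y) = true := by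
  intro n
  induction n with
  | zero => intro y h; exact ⟨0, by simpa [cov] using h⟩
  | succ n ih =>
    intro y h
    have e : cov (n + 1) R = cov n R ||| mk xw (cov n R) := by
      change force (cov n R) (fun W => Nat.lor W (mk xw W)) = _
      rw [force_eq]; rfl
    rw [e, Nat.testBit_or, Bool.or_eq_true] at h
    rcases h with h | h
    · exact ih y h
    · rw [mk_bit] at h
      obtain ⟨j, hj⟩ := ih _ h
      refine ⟨j + 1, ?_⟩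
      rw [pow_succ, map_mul, Equiv.Perm.mul_apply]
      exact hj

/-- exclusions -/
def g1 : List (ℕ × List LA) := [
  (27, [.gi, .b, .c, .g]),
  (28, [.gi, .b, .c, .gi]),
  (76, [.gi, .b, .c, .g, .d]),
  (77, [.gi, .b, .c, .gi, .d]),
  (134, [.gi, .e, .d, .g, .c]),
  (136, [.gi, .e, .d, .gi, .c]),
  (152, [.gi, .b, .gi, .c, .b, .g]),
  (181, [.gi, .b, .c, .g, .b, .d]),
  (185, [.gi, .b, .c, .gi, .d, .e]),
  (290, [.gi, .e, .gi, .d, .e, .g]),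
  (335, [.gi, .b, .gi, .c, .b, .g, .e]),
  (394, [.gi, .b, .c, .g, .b, .gi, .d]),
  (395, [.gi, .b, .c, .g, .b, .gi, .e]),
  (731, [.gi, .b, .gi, .c, .b, .g, .e, .d]),
  (870, [.gi, .b, .c, .g, .d, .c, .e, .d]),
  (879, [.gi, .b, .c, .gi, .d, .c, .e, .d]),
  (1178, [.gi, .b, .e, .gi, .d, .e, .g, .c]),
  (1389, [.gi, .e, .d, .g, .c, .b, .d, .c]),
  (1402, [.gi, .e, .d, .gi, .c, .b, .d, .c]),
  (1658, [.gi, .b, .gi, .c, .b, .gi, .e, .d, .c]),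
  (1947, [.gi, .b, .c, .g, .b, .gi, .e, .d, .c]),
  (1954, [.gi, .b, .c, .g, .d, .c, .b, .e, .d]),
  (2189, [.gi, .b, .c, .d, .c, .b, .e, .d, .gi]),
  (2351, [.gi, .b, .c, .e, .d, .g, .b, .e, .g]),
  (2404, [.gi, .b, .c, .e, .d, .c, .b, .d, .g]),
  (2428, [.gi, .b, .d, .c, .d, .c, .b, .e, .gi]),
  (2462, [.gi, .b, .d, .c, .e, .d, .c, .b, .g]),
  (2463, [.gi, .b, .d, .c, .e, .d, .c, .b, .gi]),
  (2602, [.gi, .b, .e, .gi, .c, .b, .d, .e, .g]),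
  (2692, [.gi, .b, .e, .d, .c, .g, .b, .e, .g]),
  (2776, [.gi, .b, .e, .d, .c, .d, .c, .e, .g]),
  (2825, [.gi, .c, .b, .e, .d, .c, .d, .e, .g]),
  (2826, [.gi, .c, .b, .e, .d, .c, .d, .e, .gi]),
  (2892, [.gi, .c, .e, .d, .c, .b, .d, .e, .gi]),
  (3079, [.gi, .e, .gi, .d, .e, .gi, .b, .c, .d]),
  (3287, [.gi, .e, .d, .c, .b, .d, .c, .e, .gi]),
  (3632, [.gi, .b, .gi, .c, .b, .g, .d, .e, .d, .c]),
  (3639, [.gi, .b, .gi, .c, .b, .g, .e, .d, .c, .f]),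
  (3646, [.gi, .b, .gi, .c, .b, .gi, .e, .d, .c, .b]),
  (3668, [.gi, .b, .gi, .c, .b, .d, .c, .d, .e, .gi]),
  (4148, [.gi, .b, .a, .e, .gi, .d, .e, .g, .c, .d]),
  (4254, [.gi, .b, .c, .g, .b, .gi, .d, .e, .d, .c]),
  (4262, [.gi, .b, .c, .g, .d, .c, .b, .e, .d, .c]),
  (4268, [.gi, .b, .c, .g, .d, .c, .e, .d, .c, .b]),
  (4293, [.gi, .b, .c, .gi, .d, .c, .b, .e, .d, .c]),
  (4299, [.gi, .b, .c, .gi, .d, .c, .e, .d, .c, .b]),
  (4373, [.gi, .b, .c, .b, .d, .e, .d, .c, .b, .g]),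
  (4374, [.gi, .b, .c, .b, .d, .e, .d, .c, .b, .gi]),
  (4724, [.gi, .b, .c, .d, .c, .b, .e, .d, .g, .b]),
  (4725, [.gi, .b, .c, .d, .c, .b, .e, .d, .g, .c]),
  (4726, [.gi, .b, .c, .d, .c, .b, .e, .d, .g, .d]),
  (4727, [.gi, .b, .c, .d, .c, .b, .e, .d, .g, .e]),
  (4729, [.gi, .b, .c, .d, .c, .b, .e, .d, .gi, .c]),
  (4730, [.gi, .b, .c, .d, .c, .b, .e, .d, .gi, .d]),
  (4814, [.gi, .b, .c, .d, .c, .e, .d, .g, .e, .g]),
  (5077, [.gi, .b, .c, .e, .d, .g, .b, .e, .g, .d]),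
  (5210, [.gi, .b, .c, .e, .d, .c, .b, .d, .gi, .b]),
  (5211, [.gi, .b, .c, .e, .d, .c, .b, .d, .gi, .c]),
  (5262, [.gi, .b, .d, .c, .d, .c, .b, .a, .e, .g]),
  (5263, [.gi, .b, .d, .c, .d, .c, .b, .a, .e, .gi]),
  (5267, [.gi, .b, .d, .c, .d, .c, .b, .e, .g, .c]),
  (5270, [.gi, .b, .d, .c, .d, .c, .b, .e, .gi, .b]),
  (5273, [.gi, .b, .d, .c, .d, .c, .b, .e, .gi, .e]),
  (5333, [.gi, .b, .d, .c, .e, .d, .c, .b, .g, .b]),
  (5334, [.gi, .b, .d, .c, .e, .d, .c, .b, .g, .c]),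
  (5335, [.gi, .b, .d, .c, .e, .d, .c, .b, .g, .e]),
  (5336, [.gi, .b, .d, .c, .e, .d, .c, .b, .gi, .a]),
  (5338, [.gi, .b, .d, .c, .e, .d, .c, .b, .gi, .c]),
  (5339, [.gi, .b, .d, .c, .e, .d, .c, .b, .gi, .e]),
  (5401, [.gi, .b, .d, .e, .d, .c, .b, .d, .e, .g]),
  (5402, [.gi, .b, .d, .e, .d, .c, .b, .d, .e, .gi]),
  (5599, [.gi, .b, .e, .gi, .c, .b, .gi, .d, .c, .b]),
  (5600, [.gi, .b, .e, .gi, .c, .b, .gi, .d, .c, .e]),
  (5723, [.gi, .b, .e, .gi, .d, .e, .gi, .c, .b, .d]),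
  (5724, [.gi, .b, .e, .gi, .d, .e, .gi, .c, .d, .e]),
  (5998, [.gi, .b, .e, .d, .c, .d, .c, .e, .gi, .d]),
  (5999, [.gi, .b, .e, .d, .c, .d, .c, .e, .gi, .e]),
  (6098, [.gi, .c, .b, .e, .d, .c, .d, .e, .g, .b]),
  (6100, [.gi, .c, .b, .e, .d, .c, .d, .e, .g, .e]),
  (6224, [.gi, .c, .e, .d, .c, .b, .d, .e, .g, .d]),
  (6226, [.gi, .c, .e, .d, .c, .b, .d, .e, .gi, .b]),
  (6229, [.gi, .c, .e, .d, .c, .b, .d, .e, .gi, .e]),
  (6559, [.gi, .e, .gi, .d, .c, .e, .d, .c, .b, .gi]),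
  (6567, [.gi, .e, .gi, .d, .e, .gi, .b, .c, .d, .e]),
  (6612, [.gi, .e, .d, .gi, .c, .b, .d, .c, .e, .d]),
  (6983, [.gi, .e, .d, .c, .b, .d, .c, .e, .g, .b]),
  (6984, [.gi, .e, .d, .c, .b, .d, .c, .e, .g, .c]),
  (6985, [.gi, .e, .d, .c, .b, .d, .c, .e, .g, .d]),
  (6986, [.gi, .e, .d, .c, .b, .d, .c, .e, .g, .e]),
  (7638, [.gi, .b, .gi, .c, .b, .g, .d, .c, .e, .d, .c]),
  (7643, [.gi, .b, .gi, .c, .b, .g, .d, .e, .d, .c, .d]),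
  (7658, [.gi, .b, .gi, .c, .b, .g, .e, .d, .c, .d, .e]),
  (8004, [.gi, .b, .a, .c, .b, .d, .e, .d, .c, .b, .g]),
  (8176, [.gi, .b, .a, .c, .d, .c, .e, .d, .g, .e, .g]),
  (8177, [.gi, .b, .a, .c, .d, .c, .e, .d, .g, .e, .gi]),
  (8822, [.gi, .b, .a, .e, .d, .c, .d, .c, .b, .gi, .b]),
  (8835, [.gi, .b, .a, .e, .d, .c, .d, .c, .e, .gi, .e]),
  (8877, [.gi, .b, .c, .g, .d, .c, .b, .e, .d, .c, .d]),
  (8946, [.gi, .b, .c, .gi, .d, .c, .b, .e, .d, .c, .d]),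
  (9082, [.gi, .b, .c, .b, .d, .e, .d, .c, .b, .g, .c]),
  (9086, [.gi, .b, .c, .b, .d, .e, .d, .c, .b, .gi, .b]),
  (9310, [.gi, .b, .c, .d, .g, .e, .gi, .c, .b, .d, .g]),
  (9833, [.gi, .b, .c, .d, .c, .b, .e, .d, .g, .c, .b]),
  (9834, [.gi, .b, .c, .d, .c, .b, .e, .d, .g, .c, .d]),
  (9840, [.gi, .b, .c, .d, .c, .b, .e, .d, .g, .e, .d]),
  (9845, [.gi, .b, .c, .d, .c, .b, .e, .d, .gi, .b, .e]),
  (10051, [.gi, .b, .c, .d, .c, .e, .d, .g, .e, .g, .b]),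
  (10052, [.gi, .b, .c, .d, .c, .e, .d, .g, .e, .g, .c]),
  (10054, [.gi, .b, .c, .d, .c, .e, .d, .g, .e, .gi, .e]),
  (10240, [.gi, .b, .c, .d, .e, .gi, .c, .b, .d, .e, .g]),
  (10568, [.gi, .b, .c, .e, .gi, .d, .c, .b, .gi, .c, .g]),
  (10922, [.gi, .b, .c, .e, .d, .c, .b, .d, .g, .b, .e]),
  (10927, [.gi, .b, .c, .e, .d, .c, .b, .d, .g, .c, .e]),
  (10935, [.gi, .b, .c, .e, .d, .c, .b, .d, .gi, .c, .b]),
  (11060, [.gi, .b, .d, .c, .d, .c, .b, .a, .e, .gi, .d]),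
  (11066, [.gi, .b, .d, .c, .d, .c, .b, .e, .g, .c, .d]),
  (11068, [.gi, .b, .d, .c, .d, .c, .b, .e, .g, .d, .c]),
  (11190, [.gi, .b, .d, .c, .e, .d, .c, .b, .g, .e, .d]),
  (11195, [.gi, .b, .d, .c, .e, .d, .c, .b, .gi, .e, .d]),
  (11658, [.gi, .b, .e, .gi, .d, .e, .g, .c, .d, .c, .b]),
  (11675, [.gi, .b, .e, .gi, .c, .b, .a, .d, .c, .b, .gi]),
  (12445, [.gi, .b, .e, .d, .c, .d, .c, .e, .g, .b, .d]),
  (12459, [.gi, .b, .e, .d, .c, .d, .c, .e, .gi, .d, .e]),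
  (12789, [.gi, .c, .e, .d, .c, .b, .a, .d, .e, .g, .c]),
  (12873, [.gi, .c, .e, .d, .c, .b, .d, .e, .g, .c, .d]),
  (12876, [.gi, .c, .e, .d, .c, .b, .d, .e, .g, .d, .c]),
  (13604, [.gi, .e, .d, .gi, .c, .b, .d, .c, .e, .d, .c]),
  (13681, [.gi, .e, .d, .c, .g, .b, .gi, .d, .c, .e, .g]),
  (14097, [.gi, .e, .d, .c, .b, .a, .d, .c, .gi, .b, .gi]),
  (14254, [.gi, .e, .d, .c, .b, .d, .c, .g, .b, .g, .d]),
  (14256, [.gi, .e, .d, .c, .b, .d, .c, .g, .b, .gi, .b]),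
  (14380, [.gi, .e, .d, .c, .b, .d, .c, .e, .g, .d, .c]),
  (14816, [.gi, .b, .gi, .c, .gi, .d, .e, .d, .c, .b, .g, .d]),
  (14822, [.gi, .b, .gi, .c, .gi, .d, .e, .d, .c, .b, .gi, .e]),
  (15665, [.gi, .b, .gi, .c, .b, .g, .e, .d, .c, .f, .e, .d]),
  (15670, [.gi, .b, .gi, .c, .b, .gi, .d, .e, .d, .c, .b, .d]),
  (15778, [.gi, .b, .gi, .c, .b, .d, .e, .gi, .c, .d, .e, .gi]),
  (16330, [.gi, .b, .a, .c, .b, .d, .e, .d, .c, .b, .gi, .c]),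
  (16398, [.gi, .b, .a, .c, .b, .e, .gi, .d, .c, .e, .g, .e]),
  (16421, [.gi, .b, .a, .c, .b, .e, .d, .g, .c, .e, .gi, .d]),
  (17584, [.gi, .b, .a, .e, .gi, .d, .e, .g, .c, .b, .d, .c]),
  (17903, [.gi, .b, .a, .e, .d, .c, .d, .c, .b, .g, .c, .b]),
  (18106, [.gi, .b, .c, .gi, .d, .c, .b, .a, .e, .d, .c, .d]),
  (18324, [.gi, .b, .c, .b, .d, .c, .b, .e, .d, .c, .g, .b]),
  (18417, [.gi, .b, .c, .b, .d, .e, .d, .c, .b, .gi, .c, .f]),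
  (18418, [.gi, .b, .c, .b, .d, .e, .d, .c, .b, .gi, .d, .f]),
  (18435, [.gi, .b, .c, .b, .d, .e, .d, .c, .b, .gi, .b, .d]),
  (18438, [.gi, .b, .c, .b, .d, .e, .d, .c, .b, .gi, .d, .c]),
  (19039, [.gi, .b, .c, .d, .g, .e, .d, .c, .gi, .b, .e, .g]),
  (19083, [.gi, .b, .c, .d, .gi, .c, .b, .gi, .e, .d, .c, .gi]),
  (20108, [.gi, .b, .c, .d, .c, .b, .e, .d, .g, .e, .gi, .c]),
  (20442, [.gi, .b, .c, .d, .c, .e, .g, .d, .e, .d, .g, .b]),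
  (20573, [.gi, .b, .c, .d, .c, .e, .d, .g, .e, .g, .b, .c]),
  (21855, [.gi, .b, .c, .e, .d, .g, .e, .g, .c, .d, .e, .g]),
  (22339, [.gi, .b, .c, .e, .d, .c, .b, .d, .gi, .c, .e, .d]),
  (23226, [.gi, .b, .e, .g, .c, .b, .d, .c, .e, .d, .gi, .e]),
  (26215, [.gi, .d, .e, .d, .c, .b, .d, .c, .e, .d, .g, .e]),
  (28360, [.gi, .e, .d, .c, .b, .d, .g, .b, .c, .b, .g, .e]),
  (30114, [.gi, .b, .g, .c, .b, .d, .c, .d, .e, .gi, .d, .e, .gi]),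
  (31916, [.gi, .b, .gi, .c, .d, .c, .e, .d, .g, .b, .c, .b, .gi]),
  (32663, [.gi, .b, .a, .c, .b, .e, .d, .g, .c, .b, .d, .c, .gi]),
  (35333, [.gi, .b, .a, .e, .d, .c, .d, .c, .b, .g, .b, .c, .b]),
  (36133, [.gi, .b, .c, .b, .d, .c, .b, .e, .d, .c, .g, .b, .d])]

theorem g1_ok : force (O 2) (fun o => grp o 1 g1) = true := by decide +kernel

/-- exclusions -/
def g2 : List (ℕ × List LA) := [
  (153, [.gi, .b, .gi, .c, .b, .gi]),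
  (182, [.gi, .b, .c, .g, .d, .c]),
  (184, [.gi, .b, .c, .gi, .d, .c]),
  (337, [.gi, .b, .gi, .c, .b, .gi, .e]),
  (399, [.gi, .b, .c, .g, .d, .c, .e]),
  (404, [.gi, .b, .c, .gi, .d, .c, .e]),
  (625, [.gi, .e, .d, .g, .c, .b, .d]),
  (633, [.gi, .e, .d, .gi, .c, .b, .d]),
  (734, [.gi, .b, .gi, .c, .b, .gi, .e, .d]),
  (863, [.gi, .b, .c, .g, .b, .gi, .d, .e]),
  (864, [.gi, .b, .c, .g, .b, .gi, .e, .d]),
  (878, [.gi, .b, .c, .gi, .d, .c, .b, .e]),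
  (1191, [.gi, .b, .e, .d, .g, .e, .gi, .c]),
  (1381, [.gi, .e, .gi, .d, .e, .gi, .b, .c]),
  (1652, [.gi, .b, .gi, .c, .b, .g, .e, .d, .c]),
  (1970, [.gi, .b, .c, .gi, .d, .c, .b, .e, .d]),
  (2188, [.gi, .b, .c, .d, .c, .b, .e, .d, .g]),
  (2427, [.gi, .b, .d, .c, .d, .c, .b, .e, .g]),
  (2594, [.gi, .b, .e, .gi, .c, .b, .gi, .d, .c]),
  (2646, [.gi, .b, .e, .gi, .d, .e, .g, .c, .d]),
  (2648, [.gi, .b, .e, .gi, .d, .e, .gi, .c, .d]),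
  (2891, [.gi, .c, .e, .d, .c, .b, .d, .e, .g]),
  (3286, [.gi, .e, .d, .c, .b, .d, .c, .e, .g]),
  (3638, [.gi, .b, .gi, .c, .b, .g, .e, .d, .c, .d]),
  (3647, [.gi, .b, .gi, .c, .b, .gi, .e, .d, .c, .d]),
  (3667, [.gi, .b, .gi, .c, .b, .d, .c, .d, .e, .g]),
  (4233, [.gi, .b, .a, .e, .d, .c, .d, .c, .b, .g]),
  (4234, [.gi, .b, .a, .e, .d, .c, .d, .c, .b, .gi]),
  (4237, [.gi, .b, .a, .e, .d, .c, .d, .c, .e, .g]),
  (4238, [.gi, .b, .a, .e, .d, .c, .d, .c, .e, .gi]),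
  (4255, [.gi, .b, .c, .g, .b, .gi, .e, .d, .c, .b]),
  (4682, [.gi, .b, .c, .d, .c, .b, .a, .e, .d, .gi]),
  (4728, [.gi, .b, .c, .d, .c, .b, .e, .d, .gi, .b]),
  (4731, [.gi, .b, .c, .d, .c, .b, .e, .d, .gi, .e]),
  (4815, [.gi, .b, .c, .d, .c, .e, .d, .g, .e, .gi]),
  (4994, [.gi, .b, .c, .e, .g, .b, .g, .d, .c, .b]),
  (5207, [.gi, .b, .c, .e, .d, .c, .b, .d, .g, .b]),
  (5212, [.gi, .b, .c, .e, .d, .c, .b, .d, .gi, .e]),
  (5266, [.gi, .b, .d, .c, .d, .c, .b, .e, .g, .b]),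
  (5268, [.gi, .b, .d, .c, .d, .c, .b, .e, .g, .d]),
  (5594, [.gi, .b, .e, .gi, .d, .e, .g, .c, .d, .c]),
  (5605, [.gi, .b, .e, .gi, .c, .b, .a, .d, .e, .g]),
  (5624, [.gi, .b, .e, .gi, .c, .b, .d, .e, .gi, .e]),
  (5996, [.gi, .b, .e, .d, .c, .d, .c, .e, .g, .e]),
  (5997, [.gi, .b, .e, .d, .c, .d, .c, .e, .gi, .b]),
  (6053, [.gi, .c, .b, .a, .e, .d, .c, .d, .e, .gi]),
  (6223, [.gi, .c, .e, .d, .c, .b, .d, .e, .g, .c]),
  (6225, [.gi, .c, .e, .d, .c, .b, .d, .e, .g, .e]),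
  (6558, [.gi, .e, .gi, .d, .c, .e, .d, .c, .b, .g]),
  (6877, [.gi, .e, .d, .c, .b, .a, .d, .c, .e, .g]),
  (6940, [.gi, .e, .d, .c, .b, .d, .c, .g, .b, .gi]),
  (6987, [.gi, .e, .d, .c, .b, .d, .c, .e, .gi, .b]),
  (6990, [.gi, .e, .d, .c, .b, .d, .c, .e, .gi, .e]),
  (7309, [.gi, .b, .gi, .c, .b, .a, .d, .c, .d, .e, .gi]),
  (7543, [.gi, .b, .g, .c, .d, .c, .e, .gi, .d, .e, .g]),
  (7657, [.gi, .b, .gi, .c, .b, .g, .e, .d, .c, .d, .c]),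
  (7699, [.gi, .b, .gi, .c, .b, .d, .c, .d, .e, .g, .e]),
  (7700, [.gi, .b, .gi, .c, .b, .d, .c, .d, .e, .gi, .d]),
  (7701, [.gi, .b, .gi, .c, .b, .d, .c, .d, .e, .gi, .e]),
  (7832, [.gi, .b, .gi, .c, .d, .c, .e, .gi, .d, .e, .g]),
  (8005, [.gi, .b, .a, .c, .b, .d, .e, .d, .c, .b, .gi]),
  (8036, [.gi, .b, .a, .c, .b, .e, .gi, .d, .c, .e, .g]),
  (8583, [.gi, .b, .a, .e, .g, .d, .c, .b, .e, .d, .g]),
  (8599, [.gi, .b, .a, .e, .gi, .d, .e, .g, .c, .d, .c]),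
  (8820, [.gi, .b, .a, .e, .d, .c, .d, .c, .b, .g, .c]),
  (8831, [.gi, .b, .a, .e, .d, .c, .d, .c, .e, .g, .d]),
  (8878, [.gi, .b, .c, .g, .d, .c, .b, .e, .d, .c, .f]),
  (8894, [.gi, .b, .c, .gi, .d, .c, .e, .d, .c, .b, .f]),
  (8918, [.gi, .b, .c, .gi, .d, .c, .b, .a, .e, .d, .c]),
  (9028, [.gi, .b, .c, .b, .d, .c, .b, .e, .d, .c, .g]),
  (9080, [.gi, .b, .c, .b, .d, .e, .d, .c, .b, .gi, .f]),
  (9084, [.gi, .b, .c, .b, .d, .e, .d, .c, .b, .g, .e]),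
  (9087, [.gi, .b, .c, .b, .d, .e, .d, .c, .b, .gi, .c]),
  (9153, [.gi, .b, .c, .b, .e, .d, .c, .b, .d, .c, .g]),
  (9732, [.gi, .b, .c, .d, .c, .b, .a, .e, .d, .g, .b]),
  (9735, [.gi, .b, .c, .d, .c, .b, .a, .e, .d, .gi, .b]),
  (9738, [.gi, .b, .c, .d, .c, .b, .a, .e, .d, .gi, .e]),
  (9837, [.gi, .b, .c, .d, .c, .b, .e, .d, .g, .d, .c]),
  (9839, [.gi, .b, .c, .d, .c, .b, .e, .d, .g, .e, .gi]),
  (9848, [.gi, .b, .c, .d, .c, .b, .e, .d, .gi, .c, .e]),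
  (10567, [.gi, .b, .c, .e, .gi, .d, .c, .b, .gi, .c, .gi]),
  (10920, [.gi, .b, .c, .e, .d, .c, .b, .d, .g, .b, .a]),
  (10932, [.gi, .b, .c, .e, .d, .c, .b, .d, .gi, .b, .a]),
  (10934, [.gi, .b, .c, .e, .d, .c, .b, .d, .gi, .b, .e]),
  (10937, [.gi, .b, .c, .e, .d, .c, .b, .d, .gi, .c, .e]),
  (11067, [.gi, .b, .d, .c, .d, .c, .b, .e, .g, .c, .e]),
  (11118, [.gi, .b, .d, .c, .d, .c, .e, .d, .gi, .e, .gi]),
  (11193, [.gi, .b, .d, .c, .e, .d, .c, .b, .gi, .c, .b]),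
  (11299, [.gi, .b, .d, .e, .d, .c, .b, .d, .e, .g, .b]),
  (11303, [.gi, .b, .d, .e, .d, .c, .b, .d, .e, .gi, .b]),
  (11323, [.gi, .b, .d, .e, .d, .c, .d, .c, .e, .d, .g]),
  (11659, [.gi, .b, .e, .gi, .d, .e, .g, .c, .d, .c, .e]),
  (11707, [.gi, .b, .e, .gi, .c, .b, .d, .e, .g, .c, .d]),
  (11711, [.gi, .b, .e, .gi, .c, .b, .d, .e, .gi, .c, .e]),
  (11982, [.gi, .b, .e, .d, .gi, .c, .d, .e, .gi, .d, .gi]),
  (12323, [.gi, .b, .e, .d, .c, .b, .d, .f, .e, .d, .gi]),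
  (12452, [.gi, .b, .e, .d, .c, .d, .c, .e, .g, .e, .f]),
  (12457, [.gi, .b, .e, .d, .c, .d, .c, .e, .gi, .b, .e]),
  (12461, [.gi, .b, .e, .d, .c, .d, .c, .e, .gi, .e, .f]),
  (13047, [.gi, .d, .e, .d, .c, .b, .d, .c, .e, .d, .g]),
  (14128, [.gi, .e, .d, .c, .b, .a, .d, .c, .e, .g, .e]),
  (14131, [.gi, .e, .d, .c, .b, .a, .d, .c, .e, .gi, .e]),
  (14257, [.gi, .e, .d, .c, .b, .d, .c, .g, .b, .gi, .e]),
  (14386, [.gi, .e, .d, .c, .b, .d, .c, .e, .gi, .b, .d]),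
  (15048, [.gi, .b, .g, .c, .b, .d, .c, .e, .gi, .d, .e, .gi]),
  (15499, [.gi, .b, .g, .c, .d, .c, .e, .d, .c, .gi, .b, .g]),
  (15633, [.gi, .b, .gi, .c, .b, .g, .d, .e, .d, .c, .b, .gi]),
  (15635, [.gi, .b, .gi, .c, .b, .g, .d, .e, .d, .c, .b, .d]),
  (15642, [.gi, .b, .gi, .c, .b, .g, .e, .g, .d, .c, .b, .gi]),
  (15672, [.gi, .b, .gi, .c, .b, .gi, .d, .e, .d, .c, .d, .c]),
  (15777, [.gi, .b, .gi, .c, .b, .d, .e, .gi, .c, .d, .e, .g]),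
  (16326, [.gi, .b, .a, .c, .b, .d, .e, .d, .c, .b, .g, .d]),
  (16715, [.gi, .b, .a, .c, .d, .c, .e, .d, .g, .e, .g, .b]),
  (16716, [.gi, .b, .a, .c, .d, .c, .e, .d, .g, .e, .g, .c]),
  (18483, [.gi, .b, .c, .b, .e, .d, .g, .b, .c, .e, .d, .g]),
  (18976, [.gi, .b, .c, .d, .g, .e, .gi, .c, .d, .e, .gi, .b]),
  (20961, [.gi, .b, .c, .d, .e, .gi, .c, .b, .a, .d, .e, .g]),
  (20999, [.gi, .b, .c, .d, .e, .gi, .c, .b, .d, .e, .gi, .b]),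
  (22337, [.gi, .b, .c, .e, .d, .c, .b, .d, .gi, .c, .d, .e]),
  (22609, [.gi, .b, .d, .c, .d, .c, .b, .e, .g, .d, .c, .b]),
  (22636, [.gi, .b, .d, .c, .d, .c, .b, .e, .d, .gi, .e, .g]),
  (22906, [.gi, .b, .d, .e, .d, .c, .g, .b, .e, .d, .c, .g]),
  (24047, [.gi, .b, .e, .gi, .d, .e, .g, .c, .b, .d, .c, .e]),
  (28145, [.gi, .e, .d, .c, .b, .gi, .d, .c, .b, .e, .gi, .e]),
  (30935, [.gi, .b, .g, .c, .d, .c, .e, .gi, .d, .e, .gi, .b, .c]),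
  (31507, [.gi, .b, .gi, .c, .b, .d, .e, .gi, .c, .d, .e, .g, .b])]

theorem g2_ok : force (O 0) (fun o => grp o 2 g2) = true := by decide +kernel

/-- exclusions -/
def g3 : List (ℕ × List LA) := [
  (2603, [.gi, .b, .e, .gi, .c, .b, .d, .e, .gi]),
  (8895, [.gi, .b, .c, .gi, .d, .c, .e, .d, .c, .b, .d])]

theorem g3_ok : force (O 3) (fun o => grp o 3 g3) = true := by decide +kernel

/-- exclusions -/
def g4 : List (ℕ × List LA) := [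
  (22605, [.gi, .b, .d, .c, .d, .c, .b, .e, .g, .c, .d, .c]),
  (25641, [.gi, .c, .e, .d, .c, .b, .g, .d, .c, .d, .e, .gi])]

theorem g4_ok : force (O 2) (fun o => grp o 4 g4) = true := by decide +kernel

/-- anchor -/
def w16 : List LA := [.gi, .d, .gi]
theorem w16_ok : mp w16 16 0 = true := by decide +kernel
theorem c1_ok : tb (mkn 1 (mk w16 (O 2))) 16 = true := by decide +kernel
theorem c2_ok : tb (mkn 2 (mk w16 (O 0))) 16 = true := by decide +kernel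
theorem c3_ok : tb (mkn 3 (mk w16 (O 3))) 16 = true := by decide +kernel
theorem c4_ok : tb (mkn 4 (mk w16 (O 2))) 16 = true := by decide +kernel

/-- representatives -/
def reps : List ℕ := 16 :: (g1.map Prod.fst ++ g2.map Prod.fst ++ g3.map Prod.fst ++ g4.map Prod.fst)

theorem cov_ok : Nat.beq (cov 18 (ml reps)) (O 0) = true := by decide +kernel
theorem X_fix : fixIn xw [0] = true := by decide +kernel
theorem X_0 : mp xw 0 0 = true := by decide +kernel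
theorem O16 : tb (O 0) 16 = true := by decide +kernel
theorem X5 : tb (mkn 5 (Nat.shiftLeft 1 118984)) 16 = true := by decide +kernel
theorem nb5 : chkOrb H35.NON.net 17 H35.NON.ws_2 10 118984 672 = true := by decide +kernel

theorem excl {t : G} (ht : t * X = X * t) {y i k : ℕ} {w : List LA} (h16 : φ t 16 = y)
    (hw : mp w y 0 = true) (h : (mkn i (mk w (O k))).testBit y = false)
    (hc : tb (mkn i (mk w16 (O k))) 16 = true) : False := by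
  have hcomm : φ t (φ (X ^ i) 16) = φ (X ^ i) y := by
    have h1 : t * X ^ i = X ^ i * t := ((show Commute t X from ht).pow_right i).eq
    rw [← h16, ← Equiv.Perm.mul_apply, ← map_mul, h1, map_mul, Equiv.Perm.mul_apply]
  have h2 := row w16_ok hw h16 hcomm k
  rw [tb_eq, mkn_bit] at hc
  rw [mkn_bit] at h
  rw [tb_eq, tb_eq, hc, h] at h2
  exact absurd h2 (by decide)

theorem cent_X (t : G) (ht : t * X = X * t) : t ∈ Subgroup.zpowers X := by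
  have hX0 : φ X 0 = 0 := mp_spec X_0
  have h0 : ∀ t : G, t * X = X * t → φ t 0 = 0 := by
    intro t ht
    have h1 : φ (val xw) (φ t 0) = φ t 0 := by
      change φ X (φ t 0) = φ t 0
      rw [← Equiv.Perm.mul_apply, ← map_mul, ← ht, map_mul, Equiv.Perm.mul_apply, hX0]
    have h2 := fixIn_hi X_fix ((pres_all' t 0).2 (by norm_num)) h1
    simpa using h2
  have hO : (O 0).testBit (φ t 16) = true := by
    rw [O_inv 0 (h0 t ht) 16, ← tb_eq]; exact O16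
  have hcov : cov 18 (ml reps) = O 0 := eqOfBeq cov_ok
  rw [← hcov] at hO
  obtain ⟨j, hj⟩ := cov_spec _ _ _ hO
  have hmem := ml_mem _ _ hj
  have ht' : (X ^ j * t) * X = X * (X ^ j * t) := by
    rw [mul_assoc, ht, ← mul_assoc, ← mul_assoc, ← pow_succ, pow_succ']
  have e16 : φ (X ^ j * t) 16 = φ (X ^ j) (φ t 16) := by rw [map_mul, Equiv.Perm.mul_apply]
  rw [← e16] at hmem
  have h0' := h0 _ ht'
  have hgrp : ∀ (L : List (ℕ × List LA)) (i k : ℕ), force (O k) (fun o => grp o i L) = true →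
      tb (mkn i (mk w16 (O k))) 16 = true → φ (X ^ j * t) 16 ∈ L.map Prod.fst → False := by
    intro L i k h1 h2 h3
    rw [force_eq] at h1
    obtain ⟨e, he, hee⟩ := List.mem_map.1 h3
    obtain ⟨h4, h5⟩ := grp_spec h1 e he
    exact excl ht' hee.symm h4 h5 h2
  have h16 : φ (X ^ j * t) 16 = 16 := by
    rcases List.mem_cons.1 hmem with h | h
    · exact h
    · exfalso
      rcases List.mem_append.1 h with h | h
      · rcases List.mem_append.1 h with h | h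
        · rcases List.mem_append.1 h with h | h
          · exact hgrp g1 1 2 g1_ok c1_ok h
          · exact hgrp g2 2 0 g2_ok c2_ok h
        · exact hgrp g3 3 3 g3_ok c3_ok h
      · exact hgrp g4 4 2 g4_ok c4_ok h
  have h5 : φ (X ^ 5) 16 = 118984 := by
    have h := X5
    rw [tb_eq, mkn_bit] at h
    have h' : (1 <<< 118984).testBit (φ (X ^ 5) 16) = true := h
    rw [Nat.one_shiftLeft, Nat.testBit_two_pow] at h'
    exact (of_decide_eq_true h').symm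
  have hb : φ (X ^ j * t) 118984 = 118984 := by
    have h1 : (X ^ j * t) * X ^ 5 = X ^ 5 * (X ^ j * t) := ((show Commute (X ^ j * t) X from ht').pow_right 5).eq
    rw [← h5, ← Equiv.Perm.mul_apply, ← map_mul, h1, map_mul, Equiv.Perm.mul_apply, h16]
  have h1 := base_of nb5 h0' h16 hb
  have h2 : t = (X ^ j)⁻¹ := eq_inv_of_mul_eq_one_right h1
  rw [h2]
  exact Subgroup.inv_mem _ (Subgroup.pow_mem _ (Subgroup.mem_zpowers X) j)

end H63.ONO
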