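import Cfsg.Agent.Lib.H63.ONO2

/-!
# Square roots in the centralizer of an element of order 6 of `ON`
-/

set_option autoImplicit false
set_option linter.all false
set_option maxRecDepth 100000
set_option Elab.async false

namespace H63.ONO
open H35.TC H35.Net H35.ONMain H63.ONW

/-- word of order 6 -/
def nw : List LA := [.e, .c, .d, .c, .d, .b, .c, .d, .e, .d, .c, .d, .a, .b, .c, .d, .e, .c, .d, .b, .c, .d, .c]
/-- square -/
def nw2 : List LA := nw ++ nw
/-- cube -/
def nw3 : List LA := nw ++ nw ++ nw
/-- element of order 6 -/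
noncomputable def Nn : G := val nw
/-- word of order 4 -/
def rw4 : List LA := [.c, .b, .g, .b, .c, .d, .e, .c, .d, .b, .c, .g, .d, .e, .g, .f, .e, .d, .b, .c, .d, .e, .b, .c, .d, .a, .b, .c, .d, .e, .d, .b, .c, .d, .a, .b, .c, .d, .e, .f]
/-- element of order 4 -/
noncomputable def R : G := val rw4

theorem v2 : val nw2 = Nn ^ 2 := by rw [nw2, val_append, pow_two]; rfl
theorem v3 : val nw3 = Nn ^ 3 := by rw [nw3, val_append, val_append, pow_succ, pow_two]; rfl

theorem stepN {t : G} (h1 : t * Nn = Nn * t) {u u' v v' : ℕ} (h : φ t u = u') (a : mp nw u v = true)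
    (b : mp nw u' v' = true) : φ t v = v' := by
  have a := mp_spec a
  have b := mp_spec b
  change φ Nn u = v at a
  change φ Nn u' = v' at b
  rw [← a, ← b, ← h, ← Equiv.Perm.mul_apply, ← map_mul, h1, map_mul, Equiv.Perm.mul_apply]

theorem stepS {t : G} (h2 : t * t = Nn ^ 3) {u u' v : ℕ} (h : φ t u = u') (a : mp nw3 u v = true) :
    φ t u' = v := by
  have a := mp_spec a
  rw [v3, ← h2, map_mul, Equiv.Perm.mul_apply, h] at a
  exact a

/-- alignment -/
def Al (t : G) (w w' : List LA) : Prop := φ (val w' * t * (val w)⁻¹) 0 = 0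

theorem al {t : G} {u u' : ℕ} {w w' : List LA} (hw : mp w u 0 = true) (hw' : mp w' u' 0 = true)
    (h : φ t u = u') : Al t w w' := by
  have h1 := mp_spec hw
  have h2 := mp_spec hw'
  change φ (val w' * t * (val w)⁻¹) 0 = 0
  rw [map_mul, map_mul, Equiv.Perm.mul_apply, Equiv.Perm.mul_apply, map_inv]
  have : (φ (val w))⁻¹ 0 = u := by rw [Equiv.Perm.inv_eq_iff_eq]; exact h1.symm
  rw [this, h, h2]

theorem row' {t : G} {w w' : List LA} (h : Al t w w') (k b : ℕ) :
    (mk w (O k)).testBit b = (mk w' (O k)).testBit (φ t b) := by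
  rw [mk_bit, mk_bit]
  have h4 := O_inv k h (φ (val w) b)
  have h5 : (φ (val w))⁻¹ (φ (val w) b) = b := (φ (val w)).symm_apply_apply b
  rw [← h4, map_mul, map_mul, Equiv.Perm.mul_apply, Equiv.Perm.mul_apply, map_inv, h5]

theorem mis {t : G} {w w' : List LA} (h : Al t w w') {v v' k : ℕ} (hv : φ t v = v')
    (hc : band (tb (mk w (O k)) v) (tb0 (mk w' (O k)) v') = true) : False := by
  obtain ⟨h1, h2⟩ := band_eq_true.1 hc
  rw [tb_eq] at h1
  have h2 := tb0_eq h2
  have h3 := row' h k v
  rw [h1, hv, h2] at h3
  exact absurd h3 (by decide)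

/-- intersection of rows -/
noncomputable def inter (rows : List (List LA × List LA × ℕ)) (S : ℕ) : ℕ :=
  List.rec (motive := fun _ => ℕ) S (fun r _ ih => Nat.land (mk r.2.1 (O r.2.2)) ih) rows

/-- the point has the right colours -/
noncomputable def colr (b : ℕ) (rows : List (List LA × List LA × ℕ)) : Bool :=
  List.rec (motive := fun _ => Bool) true (fun r _ ih => band (tb (mk r.1 (O r.2.2)) b) ih) rows

theorem inter_spec {t : G} {b S : ℕ} : ∀ {rows : List (List LA × List LA × ℕ)}, (∀ r ∈ rows, Al t r.1 r.2.1) →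
    colr b rows = true → S.testBit (φ t b) = true → (inter rows S).testBit (φ t b) = true := by
  intro rows
  induction rows with
  | nil => intro _ _ h; exact h
  | cons a rows ih =>
    intro h1 h2 h3
    obtain ⟨h4, h5⟩ := band_eq_true.1 h2
    have h6 := ih (fun r hr => h1 r (List.mem_cons_of_mem _ hr)) h5 h3
    refine land_bit ?_ h6
    rw [← row' (h1 a List.mem_cons_self), ← tb_eq]
    exact h4

theorem cnd {t : G} {b : ℕ} {rows : List (List LA × List LA × ℕ)} {S L : List ℕ}
    (h1 : ∀ r ∈ rows, Al t r.1 r.2.1) (hS : (ml S).testBit (φ t b) = true)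
    (h : band (colr b rows) (sub (inter rows (ml S)) L) = true) : φ t b ∈ L := by
  obtain ⟨h2, h3⟩ := band_eq_true.1 h
  exact sub_spec h3 (inter_spec h1 h2 hS)

/-- fixed points of the element of order 6 -/
def L1 : List ℕ := [0, 4632, 16145, 39974, 72328, 94285, 113756, 115346, 119594]
/-- fixed points of its square -/
def L2 : List ℕ := [0, 3275, 4632, 5280, 5915, 12870, 13846, 16145, 21267, 21381, 23348, 26175, 30856, 33975, 39974, 42914, 43056, 43382, 43412, 43709, 44882, 46357, 47209, 57646, 61009, 63665, 64786, 72328, 74520, 75010, 76677, 76745, 77899, 79474, 94285, 96639, 105292, 105485, 106625, 113756, 115346, 115488, 115869, 119234, 119594]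
/-- fixed points of its cube -/
def L3 : List ℕ := [0, 619, 814, 889, 898, 1130, 1953, 1974, 2491, 3656, 3744, 3786, 4271, 4632, 4789, 4957, 5146, 5405, 5849, 6120, 6177, 6293, 6634, 7143, 7145, 7820, 8190, 8314, 8496, 8696, 8797, 8969, 9106, 9415, 10312, 10769, 11539, 12659, 12684, 13198, 13555, 13905, 14102, 15145, 15327, 15633, 15661, 15667, 15691, 16145, 16715, 16953, 17186, 17812, 18540, 18564, 19863, 20859, 20933, 21147, 21577, 21953, 21990, 22067, 22468, 24044, 24140, 24630, 24674, 25191, 25608, 25785, 25871, 27094, 27483, 28786, 29695, 30114, 30270, 31003, 31280, 31291, 31295, 31657, 32607, 33406, 33564, 33904, 33962, 34028, 34785, 35145, 35206, 35701, 35704, 36156, 36174, 36231, 36474, 36487, 36961, 37371, 38918, 39029, 39233, 39277, 39443, 39974, 40078, 40311, 40448, 40552, 41102, 41229, 41686, 41691, 41696, 42157, 42602, 42694, 43395, 43608, 44911, 45037, 45536, 45822, 46055, 46685, 47752, 47819, 47887, 47933, 48860, 49150, 50362, 50484, 50887, 51018, 51029, 51233, 51272, 51461, 51648, 52055, 52715, 52893, 53685,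 54146, 55455, 55511, 55773, 55971, 56039, 56268, 56398, 56915, 57774, 57977, 58103, 58117, 59036, 59167, 59171, 59374, 59998, 60262, 60322, 60427, 60477, 61449, 61892, 62087, 62127, 62813, 62947, 63030, 63447, 63525, 63557, 64329, 65100, 65185, 65968, 66036, 66209, 66211, 66303, 66633, 66662, 67147, 67837, 67854, 67868, 67877, 67898, 67916, 67934, 68135, 68820, 69251, 69452, 69932, 69972, 70216, 70224, 70416, 70430, 70533, 70982, 72328, 72696, 73386, 73639, 73999, 74042, 75285, 75446, 76673, 76859, 77475, 78069, 78273, 79119, 79610, 79994, 80212, 80370, 80718, 81416, 81958, 82002, 82047, 82049, 82056, 82387, 82486, 82575, 82633, 82659, 82967, 83165, 83437, 83499, 83613, 83966, 84738, 84839, 85211, 85336, 86223, 86462, 86465, 87796, 88147, 88239, 88351, 90037, 90112, 90748, 91334, 91622, 92368, 93112, 94203, 94285, 94539, 95112, 95289, 95469, 95791, 95837, 95893, 96363, 96819, 97226, 97272, 97299, 97527, 97650, 97863, 97902, 97916, 98031, 98122, 98370, 99008, 99231, 99718, 99758, 100070, 100109, 100217, 100302, 100400, 101228,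 101984, 102324, 102957, 103023, 104336, 104369, 104492, 104672, 104789, 104882, 105231, 106421, 107294, 107416, 107531, 107562, 107715, 108022, 108113, 108367, 109085, 109339, 109701, 110057, 110354, 110731, 110929, 111322, 112169, 112363, 112556, 112608, 112746, 113297, 113541, 113756, 114217, 114796, 115346, 115664, 115918, 115994, 116136, 116340, 116555, 116683, 116840, 116952, 117774, 117936, 118073, 118271, 119149, 119322, 119457, 119594, 119600, 119693, 120488, 120577, 121232, 121901, 121981, 122039, 122047]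

theorem F1 : fixIn nw L1 = true := by decide +kernel
theorem F2 : fixIn nw2 L2 = true := by decide +kernel
theorem F3 : fixIn nw3 L3 = true := by decide +kernel

theorem inS {t : G} {w : List LA} (ht : t * val w = val w * t) {L : List ℕ} (hF : fixIn w L = true) {b : ℕ}
    (hb : band (mp w b b) (Nat.ble (Nat.succ b) 122760) = true) : (ml L).testBit (φ t b) = true := by
  obtain ⟨h1, h2⟩ := band_eq_true.1 hb
  have h1 := mp_spec h1
  have h2 : b < 122760 := le_of_ble h2
  refine fixIn_spec hF ((pres_all' t b).2 h2) ?_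
  rw [← Equiv.Perm.mul_apply, ← map_mul, ← ht, map_mul, Equiv.Perm.mul_apply, h1]

theorem inS1 {t : G} (h1 : t * Nn = Nn * t) {b : ℕ}
    (hb : band (mp nw b b) (Nat.ble (Nat.succ b) 122760) = true) : (ml L1).testBit (φ t b) = true :=
  inS h1 F1 hb

theorem inS2 {t : G} (h1 : t * Nn = Nn * t) {b : ℕ}
    (hb : band (mp nw2 b b) (Nat.ble (Nat.succ b) 122760) = true) : (ml L2).testBit (φ t b) = true :=
  inS (by rw [v2]; exact ((show Commute t Nn from h1).pow_right 2).eq) F2 hb

theorem inS3 {t : G} (h1 : t * Nn = Nn * t) {b : ℕ}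
    (hb : band (mp nw3 b b) (Nat.ble (Nat.succ b) 122760) = true) : (ml L3).testBit (φ t b) = true :=
  inS (by rw [v3]; exact ((show Commute t Nn from h1).pow_right 3).eq) F3 hb

theorem fin_eq {t : G} {g : List LA} {u v w w1 u' v' w' : ℕ} (gu : mp g u 0 = true) (gv : mp g v 16 = true)
    (gw : mp g w w1 = true) (nb : chkOrb H35.NON.net 17 H35.NON.ws_2 10 w1 672 = true) (tu : φ t u = u')
    (tv : φ t v = v') (tw : φ t w = w') (ru : mp rw4 u u' = true) (rv : mp rw4 v v' = true)
    (rw_ : mp rw4 w w' = true) : t = R := by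
  have gu := mp_spec gu
  have gv := mp_spec gv
  have gw := mp_spec gw
  have ru := mp_spec ru
  have rv := mp_spec rv
  have rw_ := mp_spec rw_
  have key : ∀ {a a' c : ℕ}, φ (val g) a = c → φ t a = a' → φ (val rw4) a = a' →
      φ (val g * (R⁻¹ * t) * (val g)⁻¹) c = c := by
    intro a a' c h1 h2 h3
    have e1 : (φ (val g))⁻¹ c = a := by rw [Equiv.Perm.inv_eq_iff_eq]; exact h1.symm
    have e2 : (φ R)⁻¹ a' = a := by rw [Equiv.Perm.inv_eq_iff_eq]; exact h3.symm
    rw [map_mul, map_mul, map_mul, Equiv.Perm.mul_apply, Equiv.Perm.mul_apply, Equiv.Perm.mul_apply, map_inv,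
      map_inv, e1, h2, e2, h1]
  have h := base_of nb (key gu tu ru) (key gv tv rv) (key gw tw rw_)
  have h2 : R⁻¹ * t = 1 := by
    have h3 : val g * (R⁻¹ * t) * (val g)⁻¹ * val g = 1 * val g := by rw [h]
    rw [inv_mul_cancel_right, one_mul] at h3
    exact mul_eq_left.1 h3
  exact (inv_mul_eq_one.1 h2).symm

/-- anchor -/
def A_0 : List LA := []
theorem A_0_ok : mp A_0 0 0 = true := by decide +kernel
/-- anchor -/
def A_814 : List LA := [.gi, .b, .a, .d, .c, .b, .e, .gi]
theorem A_814_ok : mp A_814 814 0 = true := by decide +kernel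
/-- anchor -/
def A_1974 : List LA := [.gi, .b, .c, .gi, .d, .c, .e, .d, .c]
theorem A_1974_ok : mp A_1974 1974 0 = true := by decide +kernel
/-- anchor -/
def A_2491 : List LA := [.gi, .b, .d, .e, .d, .c, .b, .g, .e]
theorem A_2491_ok : mp A_2491 2491 0 = true := by decide +kernel
/-- anchor -/
def A_3744 : List LA := [.gi, .b, .gi, .c, .d, .e, .g, .c, .b, .g]
theorem A_3744_ok : mp A_3744 3744 0 = true := by decide +kernel
/-- anchor -/
def A_4632 : List LA := [.gi, .b, .c, .d, .c, .gi, .b, .a, .e, .f]
theorem A_4632_ok : mp A_4632 4632 0 = true := by decide +kernel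
/-- anchor -/
def A_12870 : List LA := [.gi, .c, .e, .d, .c, .b, .d, .e, .g, .b, .e]
theorem A_12870_ok : mp A_12870 12870 0 = true := by decide +kernel
/-- anchor -/
def A_15145 : List LA := [.gi, .b, .gi, .c, .d, .gi, .c, .b, .e, .d, .c, .d]
theorem A_15145_ok : mp A_15145 15145 0 = true := by decide +kernel
/-- anchor -/
def A_16145 : List LA := [.gi, .b, .a, .c, .b, .d, .gi, .c, .e, .d, .c, .b]
theorem A_16145_ok : mp A_16145 16145 0 = true := by decide +kernel
/-- anchor -/
def A_18540 : List LA := [.gi, .b, .c, .b, .e, .d, .c, .b, .gi, .d, .c, .e]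
theorem A_18540_ok : mp A_18540 18540 0 = true := by decide +kernel
/-- anchor -/
def A_33406 : List LA := [.gi, .b, .a, .c, .d, .c, .e, .d, .c, .gi, .e, .d, .c]
theorem A_33406_ok : mp A_33406 33406 0 = true := by decide +kernel
/-- anchor -/
def A_39974 : List LA := [.gi, .b, .c, .d, .c, .d, .e, .d, .gi, .e, .gi, .b, .c]
theorem A_39974_ok : mp A_39974 39974 0 = true := by decide +kernel
/-- anchor -/
def A_43056 : List LA := [.gi, .b, .c, .e, .d, .c, .g, .b, .c, .d, .c, .e, .f]
theorem A_43056_ok : mp A_43056 43056 0 = true := by decide +kernel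
/-- anchor -/
def A_43382 : List LA := [.gi, .b, .c, .e, .d, .c, .gi, .b, .e, .d, .c, .f, .e]
theorem A_43382_ok : mp A_43382 43382 0 = true := by decide +kernel
/-- anchor -/
def A_43709 : List LA := [.gi, .b, .c, .e, .d, .c, .b, .d, .gi, .c, .b, .e, .f]
theorem A_43709_ok : mp A_43709 43709 0 = true := by decide +kernel
/-- anchor -/
def A_47209 : List LA := [.gi, .b, .e, .d, .c, .b, .d, .gi, .c, .e, .g, .d, .e]
theorem A_47209_ok : mp A_47209 47209 0 = true := by decide +kernel
/-- anchor -/
def A_57646 : List LA := [.gi, .b, .g, .c, .d, .c, .b, .a, .e, .d, .c, .d, .e, .g]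
theorem A_57646_ok : mp A_57646 57646 0 = true := by decide +kernel
/-- anchor -/
def A_57977 : List LA := [.gi, .b, .g, .c, .d, .c, .e, .g, .b, .g, .d, .c, .b, .gi]
theorem A_57977_ok : mp A_57977 57977 0 = true := by decide +kernel
/-- anchor -/
def A_63665 : List LA := [.gi, .b, .a, .c, .e, .d, .c, .b, .f, .e, .gi, .d, .c, .b]
theorem A_63665_ok : mp A_63665 63665 0 = true := by decide +kernel
/-- anchor -/
def A_64786 : List LA := [.gi, .b, .a, .e, .d, .c, .b, .d, .c, .d, .e, .gi, .b, .c]
theorem A_64786_ok : mp A_64786 64786 0 = true := by decide +kernel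
/-- anchor -/
def A_65100 : List LA := [.gi, .b, .a, .e, .d, .c, .d, .gi, .b, .c, .e, .gi, .b, .d]
theorem A_65100_ok : mp A_65100 65100 0 = true := by decide +kernel
/-- anchor -/
def A_67147 : List LA := [.gi, .b, .c, .d, .g, .c, .b, .e, .gi, .d, .c, .gi, .b, .g]
theorem A_67147_ok : mp A_67147 67147 0 = true := by decide +kernel
/-- anchor -/
def A_69932 : List LA := [.gi, .b, .c, .d, .c, .g, .b, .e, .d, .gi, .c, .b, .d, .c]
theorem A_69932_ok : mp A_69932 69932 0 = true := by decide +kernel
/-- anchor -/
def A_72328 : List LA := [.gi, .b, .c, .d, .c, .d, .e, .d, .c, .gi, .b, .c, .g, .d]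
theorem A_72328_ok : mp A_72328 72328 0 = true := by decide +kernel
/-- anchor -/
def A_76677 : List LA := [.gi, .b, .c, .e, .d, .c, .gi, .b, .a, .c, .e, .d, .c, .b]
theorem A_76677_ok : mp A_76677 76677 0 = true := by decide +kernel
/-- anchor -/
def A_85211 : List LA := [.gi, .e, .g, .d, .c, .b, .d, .c, .e, .d, .c, .b, .d, .g]
theorem A_85211_ok : mp A_85211 85211 0 = true := by decide +kernel
/-- anchor -/
def A_85336 : List LA := [.gi, .e, .gi, .d, .c, .b, .gi, .e, .d, .c, .gi, .b, .g, .b]
theorem A_85336_ok : mp A_85336 85336 0 = true := by decide +kernel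
/-- anchor -/
def A_94285 : List LA := [.gi, .b, .g, .c, .d, .c, .b, .a, .e, .d, .gi, .c, .gi, .b, .e]
theorem A_94285_ok : mp A_94285 94285 0 = true := by decide +kernel
/-- anchor -/
def A_106625 : List LA := [.gi, .b, .c, .d, .c, .b, .e, .g, .d, .c, .e, .d, .c, .gi, .e]
theorem A_106625_ok : mp A_106625 106625 0 = true := by decide +kernel
/-- anchor -/
def A_109339 : List LA := [.gi, .b, .c, .d, .e, .d, .c, .b, .d, .f, .e, .d, .gi, .c, .d]
theorem A_109339_ok : mp A_109339 109339 0 = true := by decide +kernel
/-- anchor -/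
def A_110354 : List LA := [.gi, .b, .c, .e, .d, .c, .b, .d, .c, .d, .e, .d, .c, .b, .f]
theorem A_110354_ok : mp A_110354 110354 0 = true := by decide +kernel
/-- anchor -/
def A_113756 : List LA := [.gi, .d, .e, .d, .c, .b, .d, .g, .c, .b, .e, .gi, .d, .c, .d]
theorem A_113756_ok : mp A_113756 113756 0 = true := by decide +kernel
/-- anchor -/
def A_115346 : List LA := [.gi, .e, .d, .gi, .c, .b, .d, .c, .e, .d, .c, .b, .gi, .b, .c]
theorem A_115346_ok : mp A_115346 115346 0 = true := by decide +kernel
/-- anchor -/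
def A_115488 : List LA := [.gi, .e, .d, .c, .g, .b, .a, .d, .c, .d, .e, .g, .b, .e, .g]
theorem A_115488_ok : mp A_115488 115488 0 = true := by decide +kernel
/-- anchor -/
def A_118073 : List LA := [.gi, .b, .g, .c, .b, .d, .c, .b, .e, .d, .c, .d, .e, .gi, .b, .e]
theorem A_118073_ok : mp A_118073 118073 0 = true := by decide +kernel
/-- anchor -/
def A_119594 : List LA := [.gi, .b, .a, .c, .b, .e, .d, .c, .b, .g, .e, .g, .d, .e, .gi, .c]
theorem A_119594_ok : mp A_119594 119594 0 = true := by decide +kernel
/-- anchor -/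
def A_119693 : List LA := [.gi, .b, .a, .c, .d, .c, .b, .a, .e, .d, .g, .c, .b, .e, .gi, .c]
theorem A_119693_ok : mp A_119693 119693 0 = true := by decide +kernel
theorem N_814 : mp nw 814 3744 = true := by decide +kernel
theorem N_1974 : mp nw 1974 31291 = true := by decide +kernel
theorem N_2491 : mp nw 2491 58117 = true := by decide +kernel
theorem N_4632 : mp nw 4632 4632 = true := by decide +kernel
theorem N_12870 : mp nw 12870 77899 = true := by decide +kernel
theorem N_15145 : mp nw 15145 110354 = true := by decide +kernel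
theorem N_16145 : mp nw 16145 16145 = true := by decide +kernel
theorem N_18540 : mp nw 18540 67147 = true := by decide +kernel
theorem N_26175 : mp nw 26175 115488 = true := by decide +kernel
theorem N_31291 : mp nw 31291 30114 = true := by decide +kernel
theorem N_33406 : mp nw 33406 57977 = true := by decide +kernel
theorem N_39974 : mp nw 39974 39974 = true := by decide +kernel
theorem N_43056 : mp nw 43056 43412 = true := by decide +kernel
theorem N_43412 : mp nw 43412 43056 = true := by decide +kernel
theorem N_57646 : mp nw 57646 61009 = true := by decide +kernel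
theorem N_57977 : mp nw 57977 82967 = true := by decide +kernel
theorem N_61009 : mp nw 61009 57646 = true := by decide +kernel
theorem N_65100 : mp nw 65100 18540 = true := by decide +kernel
theorem N_67147 : mp nw 67147 65100 = true := by decide +kernel
theorem N_69932 : mp nw 69932 109339 = true := by decide +kernel
theorem N_72328 : mp nw 72328 72328 = true := by decide +kernel
theorem N_77899 : mp nw 77899 12870 = true := by decide +kernel
theorem N_82967 : mp nw 82967 33406 = true := by decide +kernel
theorem N_85211 : mp nw 85211 118073 = true := by decide +kernel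
theorem N_85336 : mp nw 85336 85211 = true := by decide +kernel
theorem N_94285 : mp nw 94285 94285 = true := by decide +kernel
theorem N_98031 : mp nw 98031 15145 = true := by decide +kernel
theorem N_109339 : mp nw 109339 119693 = true := by decide +kernel
theorem N_110354 : mp nw 110354 98031 = true := by decide +kernel
theorem N_115346 : mp nw 115346 115346 = true := by decide +kernel
theorem N_115488 : mp nw 115488 26175 = true := by decide +kernel
theorem N_118073 : mp nw 118073 85336 = true := by decide +kernel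
theorem N_119693 : mp nw 119693 69932 = true := by decide +kernel
theorem M_0 : mp nw3 0 0 = true := by decide +kernel
theorem M_814 : mp nw3 814 814 = true := by decide +kernel
theorem M_3744 : mp nw3 3744 3744 = true := by decide +kernel
theorem M_4632 : mp nw3 4632 4632 = true := by decide +kernel
theorem M_12870 : mp nw3 12870 77899 = true := by decide +kernel
theorem M_16145 : mp nw3 16145 16145 = true := by decide +kernel
theorem M_26175 : mp nw3 26175 115488 = true := by decide +kernel
theorem M_31291 : mp nw3 31291 31291 = true := by decide +kernel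
theorem M_39974 : mp nw3 39974 39974 = true := by decide +kernel
theorem M_43056 : mp nw3 43056 43412 = true := by decide +kernel
theorem M_43412 : mp nw3 43412 43056 = true := by decide +kernel
theorem M_46357 : mp nw3 46357 47209 = true := by decide +kernel
theorem M_57646 : mp nw3 57646 61009 = true := by decide +kernel
theorem M_58117 : mp nw3 58117 58117 = true := by decide +kernel
theorem M_61009 : mp nw3 61009 57646 = true := by decide +kernel
theorem M_77899 : mp nw3 77899 12870 = true := by decide +kernel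
theorem R_1974 : mp rw4 1974 82967 = true := by decide +kernel
theorem R_26175 : mp rw4 26175 47209 = true := by decide +kernel
theorem R_30114 : mp rw4 30114 57977 = true := by decide +kernel
/-- transporter -/
def gB : List LA := [.e, .d, .c, .b, .a, .f, .e, .d, .c, .b, .a, .d, .c, .b, .gi, .b, .g, .c, .b, .d, .c, .d, .e, .gi, .d, .e, .gi]
theorem nbB : chkOrb H35.NON.net 17 H35.NON.ws_2 10 3268 672 = true := by decide +kernel

theorem case_0 {t : G} (h1 : t * Nn = Nn * t) (h2 : t * t = Nn ^ 3) (f_0 : φ t 0 = 0) : False := by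
  have hc : φ t 12870 ∈ ([12870, 39974, 43709, 77899, 106625, 115346] : List ℕ) := by
    refine cnd (rows := [(A_0, A_0, 0)]) ?_ (inS2 h1 (by decide +kernel)) (by decide +kernel)
    intro r hr
    simp only [List.mem_cons, List.mem_nil_iff, or_false] at hr
    rcases hr with rfl
    · exact al A_0_ok A_0_ok f_0
  simp only [List.mem_cons, List.mem_nil_iff, or_false] at hc
  rcases hc with f_12870 | f_12870 | f_12870 | f_12870 | f_12870 | f_12870
  · have e_12870 : φ t 12870 = 77899 := stepS h2 f_12870 M_12870
    exact absurd (f_12870.symm.trans e_12870) (by norm_num)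
  · have f_39974 : φ t 39974 = 77899 := stepS h2 f_12870 M_12870
    have f_77899 : φ t 77899 = 39974 := stepN h1 f_12870 N_12870 N_39974
    have e_39974 : φ t 39974 = 12870 := stepS h2 f_77899 M_77899
    exact absurd (f_39974.symm.trans e_39974) (by norm_num)
  · have f_43709 : φ t 43709 = 77899 := stepS h2 f_12870 M_12870
    exact (mis (al A_12870_ok A_43709_ok f_12870) f_43709 (k := 0) (by decide +kernel)).elim
  · have f_77899 : φ t 77899 = 12870 := stepN h1 f_12870 N_12870 N_77899
    have e_77899 : φ t 77899 = 77899 := stepS h2 f_12870 M_12870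
    exact absurd (f_77899.symm.trans e_77899) (by norm_num)
  · have f_106625 : φ t 106625 = 77899 := stepS h2 f_12870 M_12870
    exact (mis (al A_12870_ok A_106625_ok f_12870) f_106625 (k := 2) (by decide +kernel)).elim
  · have f_115346 : φ t 115346 = 77899 := stepS h2 f_12870 M_12870
    have f_77899 : φ t 77899 = 115346 := stepN h1 f_12870 N_12870 N_115346
    have e_115346 : φ t 115346 = 12870 := stepS h2 f_77899 M_77899
    exact absurd (f_115346.symm.trans e_115346) (by norm_num)

theorem case_4632 {t : G} (h1 : t * Nn = Nn * t) (h2 : t * t = Nn ^ 3) (f_0 : φ t 0 = 4632) : False := by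
  have f_4632 : φ t 4632 = 0 := stepS h2 f_0 M_0
  have hc : φ t 16145 ∈ ([39974] : List ℕ) := by
    refine cnd (rows := [(A_0, A_4632, 1), (A_4632, A_0, 0)]) ?_ (inS1 h1 (by decide +kernel)) (by decide +kernel)
    intro r hr
    simp only [List.mem_cons, List.mem_nil_iff, or_false] at hr
    rcases hr with rfl | rfl
    · exact al A_0_ok A_4632_ok f_0
    · exact al A_4632_ok A_0_ok f_4632
  simp only [List.mem_cons, List.mem_nil_iff, or_false] at hc
  have f_16145 := hc
  have f_4632 : φ t 4632 = 0 := stepS h2 f_0 M_0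
  have f_39974 : φ t 39974 = 16145 := stepS h2 f_16145 M_16145
  have hc : φ t 2491 ∈ ([18540, 65100, 67147, 69932, 109339, 119693] : List ℕ) := by
    refine cnd (rows := [(A_0, A_4632, 2), (A_4632, A_0, 3), (A_16145, A_39974, 1), (A_39974, A_16145, 3)]) ?_ (inS3 h1 (by decide +kernel)) (by decide +kernel)
    intro r hr
    simp only [List.mem_cons, List.mem_nil_iff, or_false] at hr
    rcases hr with rfl | rfl | rfl | rfl
    · exact al A_0_ok A_4632_ok f_0
    · exact al A_4632_ok A_0_ok f_4632
    · exact al A_16145_ok A_39974_ok f_16145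
    · exact al A_39974_ok A_16145_ok f_39974
  simp only [List.mem_cons, List.mem_nil_iff, or_false] at hc
  rcases hc with f_2491 | f_2491 | f_2491 | f_2491 | f_2491 | f_2491
  · have f_58117 : φ t 58117 = 67147 := stepN h1 f_2491 N_2491 N_18540
    have f_67147 : φ t 67147 = 58117 := stepS h2 f_58117 M_58117
    exact (mis (al A_2491_ok A_18540_ok f_2491) f_67147 (k := 0) (by decide +kernel)).elim
  · have f_58117 : φ t 58117 = 18540 := stepN h1 f_2491 N_2491 N_65100
    have f_18540 : φ t 18540 = 58117 := stepS h2 f_58117 M_58117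
    exact (mis (al A_2491_ok A_65100_ok f_2491) f_18540 (k := 3) (by decide +kernel)).elim
  · have f_58117 : φ t 58117 = 65100 := stepN h1 f_2491 N_2491 N_67147
    have f_65100 : φ t 65100 = 58117 := stepS h2 f_58117 M_58117
    exact (mis (al A_2491_ok A_67147_ok f_2491) f_65100 (k := 1) (by decide +kernel)).elim
  · have f_58117 : φ t 58117 = 109339 := stepN h1 f_2491 N_2491 N_69932
    have f_109339 : φ t 109339 = 58117 := stepS h2 f_58117 M_58117
    exact (mis (al A_2491_ok A_69932_ok f_2491) f_109339 (k := 3) (by decide +kernel)).elim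
  · have f_58117 : φ t 58117 = 119693 := stepN h1 f_2491 N_2491 N_109339
    have f_119693 : φ t 119693 = 58117 := stepS h2 f_58117 M_58117
    exact (mis (al A_2491_ok A_109339_ok f_2491) f_119693 (k := 2) (by decide +kernel)).elim
  · have f_58117 : φ t 58117 = 69932 := stepN h1 f_2491 N_2491 N_119693
    have f_69932 : φ t 69932 = 58117 := stepS h2 f_58117 M_58117
    exact (mis (al A_2491_ok A_119693_ok f_2491) f_69932 (k := 1) (by decide +kernel)).elim

theorem case_16145 {t : G} (h1 : t * Nn = Nn * t) (h2 : t * t = Nn ^ 3) (f_0 : φ t 0 = 16145) : False := by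
  have f_16145 : φ t 16145 = 0 := stepS h2 f_0 M_0
  have hc : φ t 814 ∈ ([115346] : List ℕ) := by
    refine cnd (rows := [(A_0, A_16145, 1), (A_16145, A_0, 0)]) ?_ (inS3 h1 (by decide +kernel)) (by decide +kernel)
    intro r hr
    simp only [List.mem_cons, List.mem_nil_iff, or_false] at hr
    rcases hr with rfl | rfl
    · exact al A_0_ok A_16145_ok f_0
    · exact al A_16145_ok A_0_ok f_16145
  simp only [List.mem_cons, List.mem_nil_iff, or_false] at hc
  have f_814 := hc
  · have f_115346 : φ t 115346 = 814 := stepS h2 f_814 M_814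
    have f_3744 : φ t 3744 = 115346 := stepN h1 f_814 N_814 N_115346
    have e_115346 : φ t 115346 = 3744 := stepS h2 f_3744 M_3744
    exact absurd (f_115346.symm.trans e_115346) (by norm_num)

theorem case_39974 {t : G} (h1 : t * Nn = Nn * t) (h2 : t * t = Nn ^ 3) (f_0 : φ t 0 = 39974) : False := by
  have f_39974 : φ t 39974 = 0 := stepS h2 f_0 M_0
  have hc : φ t 814 ∈ ([] : List ℕ) := by
    refine cnd (rows := [(A_0, A_39974, 1), (A_39974, A_0, 0)]) ?_ (inS3 h1 (by decide +kernel)) (by decide +kernel)
    intro r hr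
    simp only [List.mem_cons, List.mem_nil_iff, or_false] at hr
    rcases hr with rfl | rfl
    · exact al A_0_ok A_39974_ok f_0
    · exact al A_39974_ok A_0_ok f_39974
  simp at hc

theorem case_72328 {t : G} (h1 : t * Nn = Nn * t) (h2 : t * t = Nn ^ 3) (f_0 : φ t 0 = 72328) : False := by
  have f_72328 : φ t 72328 = 0 := stepS h2 f_0 M_0
  have hc : φ t 4632 ∈ ([113756] : List ℕ) := by
    refine cnd (rows := [(A_0, A_72328, 1), (A_72328, A_0, 2)]) ?_ (inS1 h1 (by decide +kernel)) (by decide +kernel)
    intro r hr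
    simp only [List.mem_cons, List.mem_nil_iff, or_false] at hr
    rcases hr with rfl | rfl
    · exact al A_0_ok A_72328_ok f_0
    · exact al A_72328_ok A_0_ok f_72328
  simp only [List.mem_cons, List.mem_nil_iff, or_false] at hc
  have f_4632 := hc
  have f_72328 : φ t 72328 = 0 := stepS h2 f_0 M_0
  have f_113756 : φ t 113756 = 4632 := stepS h2 f_4632 M_4632
  have hc : φ t 16145 ∈ ([16145] : List ℕ) := by
    refine cnd (rows := [(A_0, A_72328, 1), (A_72328, A_0, 1), (A_4632, A_113756, 0), (A_113756, A_4632, 0)]) ?_ (inS1 h1 (by decide +kernel)) (by decide +kernel)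
    intro r hr
    simp only [List.mem_cons, List.mem_nil_iff, or_false] at hr
    rcases hr with rfl | rfl | rfl | rfl
    · exact al A_0_ok A_72328_ok f_0
    · exact al A_72328_ok A_0_ok f_72328
    · exact al A_4632_ok A_113756_ok f_4632
    · exact al A_113756_ok A_4632_ok f_113756
  simp only [List.mem_cons, List.mem_nil_iff, or_false] at hc
  have f_16145 := hc
  have f_72328 : φ t 72328 = 0 := stepS h2 f_0 M_0
  have f_113756 : φ t 113756 = 4632 := stepS h2 f_4632 M_4632
  have hc : φ t 814 ∈ ([15145, 85211, 85336, 98031, 110354, 118073] : List ℕ) := by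
    refine cnd (rows := [(A_0, A_72328, 1), (A_4632, A_113756, 1), (A_16145, A_16145, 0), (A_72328, A_0, 3), (A_113756, A_4632, 2)]) ?_ (inS3 h1 (by decide +kernel)) (by decide +kernel)
    intro r hr
    simp only [List.mem_cons, List.mem_nil_iff, or_false] at hr
    rcases hr with rfl | rfl | rfl | rfl | rfl
    · exact al A_0_ok A_72328_ok f_0
    · exact al A_4632_ok A_113756_ok f_4632
    · exact al A_16145_ok A_16145_ok f_16145
    · exact al A_72328_ok A_0_ok f_72328
    · exact al A_113756_ok A_4632_ok f_113756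
  simp only [List.mem_cons, List.mem_nil_iff, or_false] at hc
  rcases hc with f_814 | f_814 | f_814 | f_814 | f_814 | f_814
  · have f_3744 : φ t 3744 = 110354 := stepN h1 f_814 N_814 N_15145
    have f_110354 : φ t 110354 = 3744 := stepS h2 f_3744 M_3744
    exact (mis (al A_814_ok A_15145_ok f_814) f_110354 (k := 1) (by decide +kernel)).elim
  · have f_3744 : φ t 3744 = 118073 := stepN h1 f_814 N_814 N_85211
    have f_118073 : φ t 118073 = 3744 := stepS h2 f_3744 M_3744
    exact (mis (al A_814_ok A_85211_ok f_814) f_118073 (k := 2) (by decide +kernel)).elim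
  · have f_3744 : φ t 3744 = 85211 := stepN h1 f_814 N_814 N_85336
    have f_85211 : φ t 85211 = 3744 := stepS h2 f_3744 M_3744
    exact (mis (al A_814_ok A_85336_ok f_814) f_85211 (k := 3) (by decide +kernel)).elim
  · have f_3744 : φ t 3744 = 15145 := stepN h1 f_814 N_814 N_98031
    have f_98031 : φ t 98031 = 814 := stepS h2 f_814 M_814
    exact (mis (al A_3744_ok A_15145_ok f_3744) f_98031 (k := 1) (by decide +kernel)).elim
  · have f_3744 : φ t 3744 = 98031 := stepN h1 f_814 N_814 N_110354
    have f_98031 : φ t 98031 = 3744 := stepS h2 f_3744 M_3744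
    exact (mis (al A_814_ok A_110354_ok f_814) f_98031 (k := 3) (by decide +kernel)).elim
  · have f_3744 : φ t 3744 = 85336 := stepN h1 f_814 N_814 N_118073
    have f_85336 : φ t 85336 = 3744 := stepS h2 f_3744 M_3744
    exact (mis (al A_814_ok A_118073_ok f_814) f_85336 (k := 1) (by decide +kernel)).elim

theorem case_94285 {t : G} (h1 : t * Nn = Nn * t) (h2 : t * t = Nn ^ 3) (f_0 : φ t 0 = 94285) : False := by
  have f_94285 : φ t 94285 = 0 := stepS h2 f_0 M_0
  have hc : φ t 814 ∈ ([] : List ℕ) := by
    refine cnd (rows := [(A_0, A_94285, 1), (A_94285, A_0, 3)]) ?_ (inS3 h1 (by decide +kernel)) (by decide +kernel)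
    intro r hr
    simp only [List.mem_cons, List.mem_nil_iff, or_false] at hr
    rcases hr with rfl | rfl
    · exact al A_0_ok A_94285_ok f_0
    · exact al A_94285_ok A_0_ok f_94285
  simp at hc

theorem case_113756 {t : G} (h1 : t * Nn = Nn * t) (h2 : t * t = Nn ^ 3) (f_0 : φ t 0 = 113756) : False := by
  have f_113756 : φ t 113756 = 0 := stepS h2 f_0 M_0
  have hc : φ t 43056 ∈ ([43056, 43382, 43412, 72328, 76677, 94285] : List ℕ) := by
    refine cnd (rows := [(A_0, A_113756, 1), (A_113756, A_0, 1)]) ?_ (inS2 h1 (by decide +kernel)) (by decide +kernel)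
    intro r hr
    simp only [List.mem_cons, List.mem_nil_iff, or_false] at hr
    rcases hr with rfl | rfl
    · exact al A_0_ok A_113756_ok f_0
    · exact al A_113756_ok A_0_ok f_113756
  simp only [List.mem_cons, List.mem_nil_iff, or_false] at hc
  rcases hc with f_43056 | f_43056 | f_43056 | f_43056 | f_43056 | f_43056
  · have e_43056 : φ t 43056 = 43412 := stepS h2 f_43056 M_43056
    exact absurd (f_43056.symm.trans e_43056) (by norm_num)
  · have f_43382 : φ t 43382 = 43412 := stepS h2 f_43056 M_43056
    exact (mis (al A_43056_ok A_43382_ok f_43056) f_43382 (k := 0) (by decide +kernel)).elim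
  · have f_43412 : φ t 43412 = 43056 := stepN h1 f_43056 N_43056 N_43412
    have e_43412 : φ t 43412 = 43412 := stepS h2 f_43056 M_43056
    exact absurd (f_43412.symm.trans e_43412) (by norm_num)
  · have f_72328 : φ t 72328 = 43412 := stepS h2 f_43056 M_43056
    have f_43412 : φ t 43412 = 72328 := stepN h1 f_43056 N_43056 N_72328
    have e_72328 : φ t 72328 = 43056 := stepS h2 f_43412 M_43412
    exact absurd (f_72328.symm.trans e_72328) (by norm_num)
  · have f_76677 : φ t 76677 = 43412 := stepS h2 f_43056 M_43056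
    exact (mis (al A_43056_ok A_76677_ok f_43056) f_76677 (k := 2) (by decide +kernel)).elim
  · have f_94285 : φ t 94285 = 43412 := stepS h2 f_43056 M_43056
    have f_43412 : φ t 43412 = 94285 := stepN h1 f_43056 N_43056 N_94285
    have e_94285 : φ t 94285 = 43056 := stepS h2 f_43412 M_43412
    exact absurd (f_94285.symm.trans e_94285) (by norm_num)

theorem case_119594 {t : G} (h1 : t * Nn = Nn * t) (h2 : t * t = Nn ^ 3) (f_0 : φ t 0 = 119594) : False := by
  have f_119594 : φ t 119594 = 0 := stepS h2 f_0 M_0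
  have hc : φ t 57646 ∈ ([4632, 16145, 57646, 61009, 63665, 64786] : List ℕ) := by
    refine cnd (rows := [(A_0, A_119594, 1), (A_119594, A_0, 1)]) ?_ (inS2 h1 (by decide +kernel)) (by decide +kernel)
    intro r hr
    simp only [List.mem_cons, List.mem_nil_iff, or_false] at hr
    rcases hr with rfl | rfl
    · exact al A_0_ok A_119594_ok f_0
    · exact al A_119594_ok A_0_ok f_119594
  simp only [List.mem_cons, List.mem_nil_iff, or_false] at hc
  rcases hc with f_57646 | f_57646 | f_57646 | f_57646 | f_57646 | f_57646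
  · have f_4632 : φ t 4632 = 61009 := stepS h2 f_57646 M_57646
    have f_61009 : φ t 61009 = 4632 := stepN h1 f_57646 N_57646 N_4632
    have e_4632 : φ t 4632 = 57646 := stepS h2 f_61009 M_61009
    exact absurd (f_4632.symm.trans e_4632) (by norm_num)
  · have f_16145 : φ t 16145 = 61009 := stepS h2 f_57646 M_57646
    have f_61009 : φ t 61009 = 16145 := stepN h1 f_57646 N_57646 N_16145
    have e_16145 : φ t 16145 = 57646 := stepS h2 f_61009 M_61009
    exact absurd (f_16145.symm.trans e_16145) (by norm_num)
  · have e_57646 : φ t 57646 = 61009 := stepS h2 f_57646 M_57646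
    exact absurd (f_57646.symm.trans e_57646) (by norm_num)
  · have f_61009 : φ t 61009 = 57646 := stepN h1 f_57646 N_57646 N_61009
    have e_61009 : φ t 61009 = 61009 := stepS h2 f_57646 M_57646
    exact absurd (f_61009.symm.trans e_61009) (by norm_num)
  · have f_63665 : φ t 63665 = 61009 := stepS h2 f_57646 M_57646
    exact (mis (al A_57646_ok A_63665_ok f_57646) f_63665 (k := 0) (by decide +kernel)).elim
  · have f_64786 : φ t 64786 = 61009 := stepS h2 f_57646 M_57646
    exact (mis (al A_57646_ok A_64786_ok f_57646) f_64786 (k := 2) (by decide +kernel)).elim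

theorem case_m {t : G} (h1 : t * Nn = Nn * t) (h2 : t * t = Nn ^ 3) (f_0 : φ t 0 = 115346) :
    φ t 39974 = 39974 ∧ (φ t 26175 = 47209 ∨ φ t 26175 = 46357) := by
  have f_115346 : φ t 115346 = 0 := stepS h2 f_0 M_0
  have hc : φ t 39974 ∈ ([39974] : List ℕ) := by
    refine cnd (rows := [(A_0, A_115346, 0), (A_115346, A_0, 0)]) ?_ (inS1 h1 (by decide +kernel)) (by decide +kernel)
    intro r hr
    simp only [List.mem_cons, List.mem_nil_iff, or_false] at hr
    rcases hr with rfl | rfl
    · exact al A_0_ok A_115346_ok f_0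
    · exact al A_115346_ok A_0_ok f_115346
  simp only [List.mem_cons, List.mem_nil_iff, or_false] at hc
  have f_39974 := hc
  refine ⟨hc, ?_⟩
  clear hc
  have f_115346 : φ t 115346 = 0 := stepS h2 f_0 M_0
  have hc : φ t 26175 ∈ ([26175, 46357, 47209, 115488] : List ℕ) := by
    refine cnd (rows := [(A_0, A_115346, 2), (A_39974, A_39974, 0), (A_115346, A_0, 2)]) ?_ (inS2 h1 (by decide +kernel)) (by decide +kernel)
    intro r hr
    simp only [List.mem_cons, List.mem_nil_iff, or_false] at hr
    rcases hr with rfl | rfl | rfl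
    · exact al A_0_ok A_115346_ok f_0
    · exact al A_39974_ok A_39974_ok f_39974
    · exact al A_115346_ok A_0_ok f_115346
  simp only [List.mem_cons, List.mem_nil_iff, or_false] at hc
  rcases hc with f_26175 | f_26175 | f_26175 | f_26175
  · have e_26175 : φ t 26175 = 115488 := stepS h2 f_26175 M_26175
    exact absurd (f_26175.symm.trans e_26175) (by norm_num)
  · exact Or.inr f_26175
  · exact Or.inl f_26175
  · have f_115488 : φ t 115488 = 26175 := stepN h1 f_26175 N_26175 N_115488
    have e_115488 : φ t 115488 = 115488 := stepS h2 f_26175 M_26175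
    exact absurd (f_115488.symm.trans e_115488) (by norm_num)

theorem case_r {t : G} (h1 : t * Nn = Nn * t) (h2 : t * t = Nn ^ 3) (f_0 : φ t 0 = 115346)
    (f_39974 : φ t 39974 = 39974) (f_26175 : φ t 26175 = 47209) : φ t 1974 = 82967 := by
  have f_47209 : φ t 47209 = 115488 := stepS h2 f_26175 M_26175
  have hc : φ t 1974 ∈ ([33406, 57977, 82967] : List ℕ) := by
    refine cnd (rows := [(A_0, A_115346, 0), (A_39974, A_39974, 0), (A_47209, A_115488, 0)]) ?_ (inS3 h1 (by decide +kernel)) (by decide +kernel)
    intro r hr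
    simp only [List.mem_cons, List.mem_nil_iff, or_false] at hr
    rcases hr with rfl | rfl | rfl
    · exact al A_0_ok A_115346_ok f_0
    · exact al A_39974_ok A_39974_ok f_39974
    · exact al A_47209_ok A_115488_ok f_47209
  simp only [List.mem_cons, List.mem_nil_iff, or_false] at hc
  rcases hc with f_1974 | f_1974 | f_1974
  · have f_31291 : φ t 31291 = 57977 := stepN h1 f_1974 N_1974 N_33406
    have f_57977 : φ t 57977 = 31291 := stepS h2 f_31291 M_31291
    exact (mis (al A_1974_ok A_33406_ok f_1974) f_57977 (k := 3) (by decide +kernel)).elim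
  · have f_31291 : φ t 31291 = 82967 := stepN h1 f_1974 N_1974 N_57977
    have f_82967 : φ t 82967 = 31291 := stepS h2 f_31291 M_31291
    exact (mis (al A_1974_ok A_57977_ok f_1974) f_82967 (k := 0) (by decide +kernel)).elim
  · exact f_1974

theorem case_e {t : G} (h1 : t * Nn = Nn * t) (h2 : t * t = Nn ^ 3) (f_0 : φ t 0 = 115346)
    (f_39974 : φ t 39974 = 39974) (f_26175 : φ t 26175 = 47209) (f_1974 : φ t 1974 = 82967) : t = R := by
  have f_31291 : φ t 31291 = 33406 := stepN h1 f_1974 N_1974 N_82967
  have f_30114 : φ t 30114 = 57977 := stepN h1 f_31291 N_31291 N_33406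
  exact fin_eq (g := gB) (by decide +kernel) (by decide +kernel) (by decide +kernel) nbB f_30114 f_1974 f_26175 R_30114 R_1974 R_26175

theorem sq_one {t : G} (h1 : t * Nn = Nn * t) (h2 : t * t = Nn ^ 3) (h0 : φ t 0 = 115346)
    (h3 : φ t 39974 = 39974) (h4 : φ t 26175 = 47209) : t = R :=
  case_e h1 h2 h0 h3 h4 (case_r h1 h2 h0 h3 h4)

theorem sq_roots (h6 : Nn ^ 6 = 1) {t : G} (h1 : t * Nn = Nn * t) (h2 : t * t = Nn ^ 3) :
    t = R ∨ t * Nn ^ 3 = R := by
  have h0 : φ t 0 ∈ L1 := ml_mem _ _ (inS1 h1 (by decide +kernel))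
  simp only [L1, List.mem_cons, List.mem_nil_iff, or_false] at h0
  rcases h0 with h0 | h0 | h0 | h0 | h0 | h0 | h0 | h0 | h0
  · exact (case_0 h1 h2 h0).elim
  · exact (case_4632 h1 h2 h0).elim
  · exact (case_16145 h1 h2 h0).elim
  · exact (case_39974 h1 h2 h0).elim
  · exact (case_72328 h1 h2 h0).elim
  · exact (case_94285 h1 h2 h0).elim
  · exact (case_113756 h1 h2 h0).elim
  · obtain ⟨h3, h4 | h4⟩ := case_m h1 h2 h0
    · exact Or.inl (sq_one h1 h2 h0 h3 h4)
    · right
      have hc : t * Nn ^ 3 = Nn ^ 3 * t := ((show Commute t Nn from h1).pow_right 3).eq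
      refine sq_one (t := t * Nn ^ 3) ?_ ?_ ?_ ?_ ?_
      · rw [mul_assoc, ← pow_succ, pow_succ', ← mul_assoc, h1, mul_assoc]
      · rw [mul_assoc, ← mul_assoc (Nn ^ 3) t, ← hc, mul_assoc, ← mul_assoc t, h2, ← pow_add, h6, mul_one]
      · rw [map_mul, Equiv.Perm.mul_apply, ← v3, mp_spec M_0]; exact h0
      · rw [map_mul, Equiv.Perm.mul_apply, ← v3, mp_spec M_39974]; exact h3
      · rw [hc, map_mul, Equiv.Perm.mul_apply, h4, ← v3, mp_spec M_46357]
  · exact (case_119594 h1 h2 h0).elim

end H63.ONO
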