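import Cfsg.Agent.Lib.H63.ONM_R
import Cfsg.Agent.Lib.H63.ONM_X
import Cfsg.Agent.Lib.H63.ONM_ig
import Cfsg.Agent.Lib.H63.ONM_ia
import Cfsg.Agent.Lib.H63.ONM_ib
import Cfsg.Agent.Lib.H63.ONM_ic
import Cfsg.Agent.Lib.H63.ONM_id
import Cfsg.Agent.Lib.H63.ONM_ie
import Cfsg.Agent.Lib.H63.ONM_if
import Cfsg.Agent.Lib.H63.ONO3

/-!
# Networks for the outer automorphism of `ON`
-/

set_option autoImplicit false
set_option linter.all false
set_option maxRecDepth 100000
set_option Elab.async false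

namespace H63.ONO
open H35.TC H35.Net H35.ONMain H63.ONW

/-- letters -/
inductive LC
  | x | xi | r | ri

/-- networks -/
noncomputable def netC : LC → ℕ → ℕ
  | .x => runNet nl_X
  | .xi => runNet nl_X.reverse
  | .r => runNet nl_R
  | .ri => runNet nl_R.reverse

/-- networks of the images of the generators -/
noncomputable def netJ : LA → ℕ → ℕ
  | .g => runNet nl_ig
  | .gi => runNet nl_ig.reverse
  | .a => runNet nl_ia
  | .b => runNet nl_ib
  | .c => runNet nl_ic
  | .d => runNet nl_id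
  | .e => runNet nl_ie
  | .f => runNet nl_if

theorem ck_X : chkNet (2 ^ 17) nl_X = true := by decide +kernel
theorem ck'_X : chkNet (2 ^ 17) nl_X.reverse = true := by decide +kernel
theorem ck_R : chkNet (2 ^ 17) nl_R = true := by decide +kernel
theorem ck'_R : chkNet (2 ^ 17) nl_R.reverse = true := by decide +kernel
theorem ck_ig : chkNet (2 ^ 17) nl_ig = true := by decide +kernel
theorem ck'_ig : chkNet (2 ^ 17) nl_ig.reverse = true := by decide +kernel
theorem ck_ia : chkNet (2 ^ 17) nl_ia = true := by decide +kernel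
theorem ck_ib : chkNet (2 ^ 17) nl_ib = true := by decide +kernel
theorem ck_ic : chkNet (2 ^ 17) nl_ic = true := by decide +kernel
theorem ck_id : chkNet (2 ^ 17) nl_id = true := by decide +kernel
theorem ck_ie : chkNet (2 ^ 17) nl_ie = true := by decide +kernel
theorem ck_if : chkNet (2 ^ 17) nl_if = true := by decide +kernel

/-- comparison of a network with a word in another alphabet -/
noncomputable def cmp {L : Type} (f : ℕ → ℕ) (net : L → ℕ → ℕ) (w : List L) (k : ℕ) : Bool :=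
  Nat.rec (motive := fun _ => Bool) true
    (fun r ih => band (Nat.beq (f (ipl r 17)) (appF net w (ipl r 17))) ih) k

theorem cmp_spec {L : Type} {f : ℕ → ℕ} {net : L → ℕ → ℕ} {w : List L} : ∀ {k : ℕ}, cmp f net w k = true →
    ∀ r, r < k → f (ipl r 17) = app net w (ipl r 17) := by
  intro k
  induction k with
  | zero => intro _ r hr; omega
  | succ k ih =>
    intro h r hr
    have h1 : band (Nat.beq (f (ipl k 17)) (appF net w (ipl k 17))) (cmp f net w k) = true := h
    obtain ⟨h2, h3⟩ := band_eq_true.1 h1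
    rcases Nat.lt_succ_iff_lt_or_eq.1 hr with h4 | rfl
    · exact ih h3 r h4
    · rw [← appF_eq]; exact eqOfBeq h2

theorem bpC : ∀ x : LC, ∃ π : Equiv.Perm ℕ, BP (2 ^ 17) (netC x) π := by
  intro x
  cases x
  · exact runNet_BP ck_X
  · exact runNet_BP ck'_X
  · exact runNet_BP ck_R
  · exact runNet_BP ck'_R

theorem bpJ : ∀ x : LA, ∃ π : Equiv.Perm ℕ, BP (2 ^ 17) (netJ x) π := by
  intro x
  cases x
  · exact runNet_BP ck_ig
  · exact runNet_BP ck'_ig
  · exact runNet_BP ck_ia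
  · exact runNet_BP ck_ib
  · exact runNet_BP ck_ic
  · exact runNet_BP ck_id
  · exact runNet_BP ck_ie
  · exact runNet_BP ck_if

/-- permutations -/
noncomputable def πC (x : LC) : Equiv.Perm ℕ := (bpC x).choose

theorem hC : ∀ x, BP (2 ^ 17) (netC x) (πC x) := fun x => (bpC x).choose_spec

/-- permutations -/
noncomputable def πJ (x : LA) : Equiv.Perm ℕ := (bpJ x).choose

theorem hJ : ∀ x, BP (2 ^ 17) (netJ x) (πJ x) := fun x => (bpJ x).choose_spec

theorem eqX : cmp (netC .x) H35.NON.net xw 17 = true := by decide +kernel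
theorem eqR : cmp (netC .r) H35.NON.net rw4 17 = true := by decide +kernel
theorem invX : chkW netC 17 [.x, .xi] 1 0 17 = true := by decide +kernel
theorem invR : chkW netC 17 [.r, .ri] 1 0 17 = true := by decide +kernel
/-- words of the generators in `x`, `r` -/
def WW : LA → List LC
  | .g => [.x, .x, .x, .ri, .xi, .r, .x, .x, .r, .xi, .r, .x, .r, .xi, .r, .xi, .r, .x, .r, .x, .ri, .xi, .xi, .xi, .xi, .ri, .x, .x, .x, .ri, .xi, .xi, .ri, .xi, .xi, .ri, .x, .r, .xi]
  | .gi => [.x, .ri, .xi, .r, .x, .x, .r, .x, .x, .r, .xi, .xi, .xi, .r, .x, .x, .x, .x, .r, .xi, .ri, .xi, .ri, .x, .ri, .x, .ri, .xi, .ri, .x, .ri, .xi, .xi, .ri, .x, .r, .xi, .xi, .xi]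
  | .a => [.xi, .xi, .xi, .r, .xi, .r, .xi, .xi, .r, .x, .r, .x, .x, .x, .x, .r, .xi, .r, .x, .x, .x, .x, .x, .ri, .xi, .ri, .x, .x, .x, .x, .ri, .x, .ri, .xi, .xi, .ri, .xi, .ri]
  | .b => [.r, .x, .x, .x, .r, .xi, .r, .xi, .r, .xi, .xi, .xi, .r, .xi, .r, .xi, .r, .xi, .xi, .r, .x, .x, .x, .x, .x, .x, .x, .x, .ri, .xi, .xi, .ri, .xi, .ri, .xi, .xi, .xi, .xi]
  | .c => [.xi, .xi, .r, .x, .r, .x, .r, .xi, .r, .x, .x, .r, .x, .r, .xi, .r, .xi, .r, .x, .r, .x, .x, .x, .x, .ri, .xi, .xi, .ri, .xi, .xi, .xi, .ri, .x, .ri, .x, .ri, .xi, .r]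
  | .d => [.ri, .xi, .r, .x, .x, .r, .xi, .xi, .r, .xi, .r, .x, .x, .x, .x, .x, .x, .r, .x, .r, .xi, .xi, .ri, .x, .x, .ri, .xi, .ri]
  | .e => [.xi, .r, .x, .r, .xi, .xi, .r, .x, .x, .r, .x, .r, .xi, .xi, .xi, .xi, .xi, .xi, .r, .xi, .ri, .xi, .xi, .ri, .x, .x, .ri, .xi, .ri, .x]
  | .f => [.xi, .xi, .ri, .xi, .r, .x, .x, .r, .xi, .xi, .r, .xi, .r, .x, .x, .x, .x, .x, .x, .r, .x, .ri, .x, .x, .ri, .xi, .xi, .ri, .x, .r, .x, .x]
/-- twisted words -/
def VV : LA → List LC
  | .g => [.x, .x, .x, .r, .xi, .ri, .x, .x, .ri, .xi, .ri, .x, .ri, .xi, .ri, .xi, .ri, .x, .ri, .x, .r, .xi, .xi, .xi, .xi, .r, .x, .x, .x, .r, .xi, .xi, .r, .xi, .xi, .r, .x, .ri, .xi]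
  | .gi => [.x, .r, .xi, .ri, .x, .x, .ri, .x, .x, .ri, .xi, .xi, .xi, .ri, .x, .x, .x, .x, .ri, .xi, .r, .xi, .r, .x, .r, .x, .r, .xi, .r, .x, .r, .xi, .xi, .r, .x, .ri, .xi, .xi, .xi]
  | .a => [.xi, .xi, .xi, .ri, .xi, .ri, .xi, .xi, .ri, .x, .ri, .x, .x, .x, .x, .ri, .xi, .ri, .x, .x, .x, .x, .x, .r, .xi, .r, .x, .x, .x, .x, .r, .x, .r, .xi, .xi, .r, .xi, .r]
  | .b => [.ri, .x, .x, .x, .ri, .xi, .ri, .xi, .ri, .xi, .xi, .xi, .ri, .xi, .ri, .xi, .ri, .xi, .xi, .ri, .x, .x, .x, .x, .x, .x, .x, .x, .r, .xi, .xi, .r, .xi, .r, .xi, .xi, .xi, .xi]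
  | .c => [.xi, .xi, .ri, .x, .ri, .x, .ri, .xi, .ri, .x, .x, .ri, .x, .ri, .xi, .ri, .xi, .ri, .x, .ri, .x, .x, .x, .x, .r, .xi, .xi, .r, .xi, .xi, .xi, .r, .x, .r, .x, .r, .xi, .ri]
  | .d => [.r, .xi, .ri, .x, .x, .ri, .xi, .xi, .ri, .xi, .ri, .x, .x, .x, .x, .x, .x, .ri, .x, .ri, .xi, .xi, .r, .x, .x, .r, .xi, .r]
  | .e => [.xi, .ri, .x, .ri, .xi, .xi, .ri, .x, .x, .ri, .x, .ri, .xi, .xi, .xi, .xi, .xi, .xi, .ri, .xi, .r, .xi, .xi, .r, .x, .x, .r, .xi, .r, .x]
  | .f => [.xi, .xi, .r, .xi, .ri, .x, .x, .ri, .xi, .xi, .ri, .xi, .ri, .x, .x, .x, .x, .x, .x, .ri, .x, .r, .x, .x, .r, .xi, .xi, .r, .x, .ri, .x, .x]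
theorem gen_g : cmp (H35.NON.net .g) netC (WW .g) 17 = true := by decide +kernel
theorem im_g : cmp (netJ .g) netC (VV .g) 17 = true := by decide +kernel
theorem gen_gi : cmp (H35.NON.net .gi) netC (WW .gi) 17 = true := by decide +kernel
theorem im_gi : cmp (netJ .gi) netC (VV .gi) 17 = true := by decide +kernel
theorem gen_a : cmp (H35.NON.net .a) netC (WW .a) 17 = true := by decide +kernel
theorem im_a : cmp (netJ .a) netC (VV .a) 17 = true := by decide +kernel
theorem gen_b : cmp (H35.NON.net .b) netC (WW .b) 17 = true := by decide +kernel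
theorem im_b : cmp (netJ .b) netC (VV .b) 17 = true := by decide +kernel
theorem gen_c : cmp (H35.NON.net .c) netC (WW .c) 17 = true := by decide +kernel
theorem im_c : cmp (netJ .c) netC (VV .c) 17 = true := by decide +kernel
theorem gen_d : cmp (H35.NON.net .d) netC (WW .d) 17 = true := by decide +kernel
theorem im_d : cmp (netJ .d) netC (VV .d) 17 = true := by decide +kernel
theorem gen_e : cmp (H35.NON.net .e) netC (WW .e) 17 = true := by decide +kernel
theorem im_e : cmp (netJ .e) netC (VV .e) 17 = true := by decide +kernel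
theorem gen_f : cmp (H35.NON.net .f) netC (WW .f) 17 = true := by decide +kernel
theorem im_f : cmp (netJ .f) netC (VV .f) 17 = true := by decide +kernel
theorem rl_aa : chkW netJ 17 [.a, .a] 1 0 17 = true := by decide +kernel
theorem rl_ab : chkW netJ 17 [.a, .b] 3 0 17 = true := by decide +kernel
theorem rl_ac : chkW netJ 17 [.a, .c] 2 0 17 = true := by decide +kernel
theorem rl_ad : chkW netJ 17 [.a, .d] 2 0 17 = true := by decide +kernel
theorem rl_ae : chkW netJ 17 [.a, .e] 2 0 17 = true := by decide +kernel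
theorem rl_af : chkW netJ 17 [.a, .f] 2 0 17 = true := by decide +kernel
theorem rl_bb : chkW netJ 17 [.b, .b] 1 0 17 = true := by decide +kernel
theorem rl_bc : chkW netJ 17 [.b, .c] 3 0 17 = true := by decide +kernel
theorem rl_bd : chkW netJ 17 [.b, .d] 2 0 17 = true := by decide +kernel
theorem rl_be : chkW netJ 17 [.b, .e] 2 0 17 = true := by decide +kernel
theorem rl_bf : chkW netJ 17 [.b, .f] 2 0 17 = true := by decide +kernel
theorem rl_cc : chkW netJ 17 [.c, .c] 1 0 17 = true := by decide +kernel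
theorem rl_cd : chkW netJ 17 [.c, .d] 8 0 17 = true := by decide +kernel
theorem rl_ce : chkW netJ 17 [.c, .e] 2 0 17 = true := by decide +kernel
theorem rl_cf : chkW netJ 17 [.c, .f] 2 0 17 = true := by decide +kernel
theorem rl_dd : chkW netJ 17 [.d, .d] 1 0 17 = true := by decide +kernel
theorem rl_de : chkW netJ 17 [.d, .e] 3 0 17 = true := by decide +kernel
theorem rl_df : chkW netJ 17 [.d, .f] 2 0 17 = true := by decide +kernel
theorem rl_ee : chkW netJ 17 [.e, .e] 1 0 17 = true := by decide +kernel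
theorem rl_ef : chkW netJ 17 [.e, .f] 3 0 17 = true := by decide +kernel
theorem rl_ff : chkW netJ 17 [.f, .f] 1 0 17 = true := by decide +kernel
theorem ex_0 : chkW netJ 17 [.a, .f, .gi, .gi] 1 0 17 = true := by decide +kernel
theorem ex_1 : chkW netJ 17 [.a, .f, .d, .c, .d, .c, .d, .c, .d, .c] 1 0 17 = true := by decide +kernel
theorem ex_2 : chkW netJ 17 [.c, .gi, .d, .gi, .d, .c, .d, .g, .d, .g] 1 0 17 = true := by decide +kernel
theorem ex_3 : chkW netJ 17 [.d, .gi, .c, .gi, .c, .d, .c, .g, .c, .g] 1 0 17 = true := by decide +kernel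
theorem ex_4 : chkW netJ 17 [.g, .b, .c, .g, .c, .b, .g, .b, .c, .g, .c] 1 0 17 = true := by decide +kernel
theorem ex_5 : chkW netJ 17 [.g, .e, .d, .g, .d, .e, .g, .e, .d, .g, .d] 1 0 17 = true := by decide +kernel
theorem ex_6 : chkW netJ 17 [.b, .c, .d, .g] 5 0 17 = true := by decide +kernel
theorem ex_7 : chkW netJ 17 [.g, .gi] 1 0 17 = true := by decide +kernel
theorem ex_8 : chkW netJ 17 [.gi, .g] 1 0 17 = true := by decide +kernel
theorem sX : cmp (appF netJ xw) netC [.x] 17 = true := by decide +kernel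
theorem sR : cmp (appF netJ rw4) netC [.ri] 17 = true := by decide +kernel
theorem sN : cmp (appF netJ nw) H35.NON.net nw 17 = true := by decide +kernel

/-- the point `p` is moved by `w ^ n` -/
noncomputable def mvd (w : List LA) (n p : ℕ) : Bool := tb0 (appFn H35.NON.net w n (Nat.shiftLeft 1 p)) p

theorem p19 : chkW H35.NON.net 17 xw 19 0 17 = true := by decide +kernel
theorem p11 : chkW H35.NON.net 17 (xw ++ rw4) 11 0 17 = true := by decide +kernel
theorem p6 : chkW H35.NON.net 17 nw 6 0 17 = true := by decide +kernel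
theorem pnx : chkW H35.NON.net 17 (nw ++ xw ++ invw nw ++ invw (xw ++ xw ++ xw ++ xw ++ xw ++ xw ++ xw ++ xw)) 1 0 17 = true := by decide +kernel
theorem prn : chkW H35.NON.net 17 (rw4 ++ nw ++ invw rw4 ++ invw nw) 1 0 17 = true := by decide +kernel
theorem prr : chkW H35.NON.net 17 (rw4 ++ rw4 ++ invw nw3) 1 0 17 = true := by decide +kernel
theorem nm_2r : mvd (xw ++ xw ++ rw4) 11 0 = true := by decide +kernel
theorem nm_2i : mvd (xw ++ xw ++ invw rw4) 11 0 = true := by decide +kernel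
theorem nm_4r : mvd (xw ++ xw ++ xw ++ xw ++ rw4) 11 0 = true := by decide +kernel
theorem nm_4i : mvd (xw ++ xw ++ xw ++ xw ++ invw rw4) 11 0 = true := by decide +kernel
theorem nm_n3 : mvd nw3 1 1 = true := by decide +kernel
theorem nm_x : mvd xw 1 1 = true := by decide +kernel

end H63.ONO
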