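import Mathlib
import Cfsg.Prelude.Def_KGroupFacts

set_option autoImplicit false

/-! Abstract criteria for the outer automorphism group of a finite group. -/

namespace H63.OA

universe u

section
variable {G : Type u} [Group G] [Finite G]

theorem card_out_two (TH : MulAut G) (h : ∀ α : MulAut G, ∃ g : G, MulAut.conj g * α = 1 ∨ MulAut.conj g * α = TH)
    (hTH : TH ∉ Cfsg.Inn G) : Nat.card (Cfsg.Out G) = 2 := by
  rw [Nat.card_eq_two_iff]
  refine ⟨1, QuotientGroup.mk TH, ?_, ?_⟩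
  · intro he
    exact hTH ((QuotientGroup.eq_one_iff TH).mp he.symm)
  · rw [Set.eq_univ_iff_forall]
    intro q
    obtain ⟨α, rfl⟩ := QuotientGroup.mk_surjective q
    obtain ⟨g, hg | hg⟩ := h α
    · left
      rw [QuotientGroup.eq_one_iff]
      have h1 : α = MulAut.conj g⁻¹ := by
        rw [map_inv]
        exact (inv_eq_of_mul_eq_one_right hg).symm
      exact ⟨g⁻¹, h1.symm⟩
    · right
      show QuotientGroup.mk α = QuotientGroup.mk TH
      rw [← hg, QuotientGroup.mk_mul]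
      have h2 : (QuotientGroup.mk (MulAut.conj g) : Cfsg.Out G) = 1 :=
        (QuotientGroup.eq_one_iff _).mpr ⟨g, rfl⟩
      rw [h2, one_mul]

theorem card_out_one (h : ∀ α : MulAut G, ∃ g : G, MulAut.conj g * α = 1) : Nat.card (Cfsg.Out G) = 1 := by
  have : Cfsg.Inn G = ⊤ := by
    rw [eq_top_iff]
    intro φ _
    obtain ⟨g, h1⟩ := h φ
    have h8 : φ = MulAut.conj g⁻¹ := by
      rw [map_inv]
      exact (inv_eq_of_mul_eq_one_right h1).symm
    rw [h8]
    exact ⟨g⁻¹, rfl⟩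
  rw [Cfsg.Out, ← Subgroup.index_eq_card, this, Subgroup.index_top]

variable {p : ℕ} [hpf : Fact p.Prime] {x y : G} {r : ℕ}

theorem zpow_mem_of_ne {x z : G} (hx : orderOf x = p) (hz : z ∈ Subgroup.zpowers x) (h1 : z ≠ 1) :
    x ∈ Subgroup.zpowers z := by
  have hle : Subgroup.zpowers z ≤ Subgroup.zpowers x := by
    rw [Subgroup.zpowers_le]; exact hz
  have hc : Nat.card (Subgroup.zpowers z) = p := by
    have h2 : Nat.card (Subgroup.zpowers z) ∣ Nat.card (Subgroup.zpowers x) := Subgroup.card_dvd_of_le hle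
    rw [Nat.card_zpowers x, hx, Nat.card_zpowers] at h2
    rw [Nat.card_zpowers]
    rcases (Nat.dvd_prime hpf.out).mp h2 with h3 | h3
    · exact absurd (orderOf_eq_one_iff.mp h3) h1
    · exact h3
  have he : Subgroup.zpowers z = Subgroup.zpowers x := by
    apply Subgroup.eq_of_le_of_card_ge hle
    rw [hc, Nat.card_zpowers, hx]
  rw [he]
  exact Subgroup.mem_zpowers x

open scoped Pointwise in
theorem sylow_conj (hx : orderOf x = p) (hp2 : ¬ p ^ 2 ∣ Nat.card G) (α : MulAut G) :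
    ∃ g : G, (MulAut.conj g * α) x ∈ Subgroup.zpowers x := by
  have hp1 : p ∣ Nat.card G := by rw [← hx]; exact orderOf_dvd_natCard x
  have hf : (Nat.card G).factorization p = 1 := by
    apply le_antisymm
    · by_contra hcon
      apply hp2
      exact (Nat.Prime.pow_dvd_iff_le_factorization hpf.out Nat.card_pos.ne').mpr (by omega)
    · exact (Nat.Prime.dvd_iff_one_le_factorization hpf.out Nat.card_pos.ne').mp hp1
  have c1 : Nat.card (Subgroup.zpowers x) = p ^ (Nat.card G).factorization p := by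
    rw [hf, pow_one, Nat.card_zpowers, hx]
  have c2 : Nat.card (Subgroup.zpowers (α x)) = p ^ (Nat.card G).factorization p := by
    rw [hf, pow_one, Nat.card_zpowers, MulEquiv.orderOf_eq, hx]
  obtain ⟨g, hg⟩ := MulAction.exists_smul_eq G (Sylow.ofCard _ c2) (Sylow.ofCard _ c1)
  refine ⟨g, ?_⟩
  have h1 : MulAut.conj g • (Subgroup.zpowers (α x)) = Subgroup.zpowers x :=
    congrArg (fun S : Sylow p G => (S : Subgroup G)) hg
  rw [← h1]
  rw [Subgroup.mem_pointwise_smul_iff_inv_smul_mem]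
  have h2 : (MulAut.conj g)⁻¹ • (MulAut.conj g * α) x = α x := by
    rw [MulAut.smul_def, MulAut.mul_apply, MulAut.inv_apply_self]
  rw [h2]
  exact Subgroup.mem_zpowers _

theorem adjust (hx : orderOf x = p) (hp2 : ¬ p ^ 2 ∣ Nat.card G) (hyx : y * x * y⁻¹ = x ^ r)
    (hr : y * x ≠ x * y) (hC : ∀ g, g * x = x * g → g ∈ Subgroup.zpowers x) (α : MulAut G) :
    ∃ g : G, ∃ j : ℕ, 0 < j ∧ j < p ∧ (MulAut.conj g * α) x = x ^ j ∧ (MulAut.conj g * α) y = y := by
  obtain ⟨g, hg⟩ := sylow_conj hx hp2 α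
  set β := MulAut.conj g * α with hβ
  have hfin : IsOfFinOrder x := isOfFinOrder_of_finite x
  classical
  obtain ⟨j, hj⟩ := Finset.mem_image.mp ((hfin.mem_zpowers_iff_mem_range_orderOf).mp hg)
  obtain ⟨hj1, hj2⟩ := hj
  rw [Finset.mem_range, hx] at hj1
  have hj2' : β x = x ^ j := hj2.symm
  have hx1 : x ≠ 1 := by
    intro h
    rw [h, orderOf_one] at hx
    exact hpf.out.one_lt.ne hx
  have hj0 : 0 < j := by
    rcases Nat.eq_zero_or_pos j with h | h
    · exfalso
      rw [h, pow_zero] at hj2'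
      apply hx1
      apply β.injective
      rw [hj2', map_one]
    · exact h
  -- β y = y * h with h ∈ zpowers x
  have h1 : β y * x ^ j * (β y)⁻¹ = y * x ^ j * y⁻¹ := by
    have h2 : β (y * x * y⁻¹) = β (x ^ r) := by rw [hyx]
    rw [map_mul, map_mul, map_inv, map_pow, hj2'] at h2
    rw [h2, ← pow_mul, mul_comm j r, pow_mul, ← hyx]
    rw [conj_pow]
  have hxj : x ^ j ≠ 1 := by
    intro h
    have := orderOf_dvd_of_pow_eq_one h
    rw [hx] at this
    exact absurd (Nat.le_of_dvd hj0 this) (by omega)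
  have hgenx : x ∈ Subgroup.zpowers (x ^ j) :=
    zpow_mem_of_ne hx (Subgroup.pow_mem _ (Subgroup.mem_zpowers x) j) hxj
  have h2 : (y⁻¹ * β y) * x ^ j = x ^ j * (y⁻¹ * β y) := by
    have : β y * x ^ j = y * x ^ j * y⁻¹ * β y := by rw [← h1]; group
    rw [mul_assoc, this]; group
  have h3 : (y⁻¹ * β y) * x = x * (y⁻¹ * β y) := by
    obtain ⟨m, hm⟩ := hgenx
    have hm' : (x ^ j) ^ m = x := hm
    have h4 : Commute (y⁻¹ * β y) (x ^ j) := h2
    have h5 := h4.zpow_right m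
    rw [hm'] at h5
    exact h5
  have h4 := hC _ h3
  -- the map h ↦ y⁻¹ h y h⁻¹ is onto zpowers x
  have hyz : ∀ h ∈ Subgroup.zpowers x, y⁻¹ * h * y ∈ Subgroup.zpowers x := by
    intro h hh
    apply hC
    -- y x y⁻¹ = x^r commutes with h
    have h5 : Commute h (x ^ r) := by
      obtain ⟨m, rfl⟩ := hh
      exact ((Commute.refl x).pow_right r).zpow_left m
    rw [← hyx] at h5
    have h6 : h * (y * x * y⁻¹) = y * x * y⁻¹ * h := h5
    calc y⁻¹ * h * y * x = y⁻¹ * (h * (y * x * y⁻¹)) * y := by group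
      _ = y⁻¹ * (y * x * y⁻¹ * h) * y := by rw [h6]
      _ = x * (y⁻¹ * h * y) := by group
  let f : Subgroup.zpowers x → Subgroup.zpowers x := fun h =>
    ⟨y⁻¹ * (h : G) * y * (h : G)⁻¹, mul_mem (hyz _ h.2) (inv_mem h.2)⟩
  have hf : Function.Injective f := by
    intro h h' hh
    have h5 : y⁻¹ * (h : G) * y * (h : G)⁻¹ = y⁻¹ * (h' : G) * y * (h' : G)⁻¹ := congrArg Subtype.val hh
    have hcomm : ∀ a b : G, a ∈ Subgroup.zpowers x → b ∈ Subgroup.zpowers x → a * b = b * a := by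
      rintro _ _ ⟨m, rfl⟩ ⟨k, rfl⟩
      exact (Commute.refl x).zpow_zpow m k
    by_contra hne
    -- d = h'⁻¹ h commutes with y
    have hd : (h' : G)⁻¹ * (h : G) ≠ 1 := by
      intro h6
      apply hne
      apply Subtype.ext
      exact (inv_mul_eq_one.mp h6).symm
    have hdm : (h' : G)⁻¹ * (h : G) ∈ Subgroup.zpowers x := mul_mem (inv_mem h'.2) h.2
    have h6 : y⁻¹ * ((h' : G)⁻¹ * (h : G)) * y = (h' : G)⁻¹ * (h : G) := by
      have e1 : y⁻¹ * (h : G) * y = y⁻¹ * (h' : G) * y * ((h' : G)⁻¹ * (h : G)) := by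
        calc y⁻¹ * (h : G) * y = (y⁻¹ * (h : G) * y * (h : G)⁻¹) * (h : G) := by group
          _ = y⁻¹ * (h' : G) * y * (h' : G)⁻¹ * (h : G) := by rw [h5]
          _ = _ := by group
      calc y⁻¹ * ((h' : G)⁻¹ * (h : G)) * y = (y⁻¹ * (h' : G) * y)⁻¹ * (y⁻¹ * (h : G) * y) := by group
        _ = _ := by rw [e1]; group
    have h7 : y * ((h' : G)⁻¹ * (h : G)) = ((h' : G)⁻¹ * (h : G)) * y := by
      calc y * ((h' : G)⁻¹ * (h : G)) = y * (y⁻¹ * ((h' : G)⁻¹ * (h : G)) * y) := by rw [h6]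
        _ = _ := by group
    obtain ⟨m, hm⟩ := zpow_mem_of_ne hx hdm hd
    have hm' : ((h' : G)⁻¹ * (h : G)) ^ m = x := hm
    apply hr
    have h8 : Commute y ((h' : G)⁻¹ * (h : G)) := h7
    have h9 := h8.zpow_right m
    rw [hm'] at h9
    exact h9
  obtain ⟨⟨h, hh⟩, hh2⟩ := (Finite.injective_iff_surjective.mp hf) ⟨_, inv_mem h4⟩
  have hh3 : y⁻¹ * h * y * h⁻¹ = (y⁻¹ * β y)⁻¹ := congrArg Subtype.val hh2
  refine ⟨h * g, j, hj0, hj1, ?_, ?_⟩
  · have h5 : MulAut.conj (h * g) * α = MulAut.conj h * β := by rw [map_mul, mul_assoc]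
    rw [h5, MulAut.mul_apply, hj2', MulAut.conj_apply]
    obtain ⟨m, rfl⟩ := hh
    have : Commute (x ^ m) (x ^ j) := ((Commute.refl x).pow_right j).zpow_left m
    show x ^ m * x ^ j * (x ^ m)⁻¹ = x ^ j
    rw [this.eq, mul_inv_cancel_right]
  · have h5 : MulAut.conj (h * g) * α = MulAut.conj h * β := by rw [map_mul, mul_assoc]
    rw [h5, MulAut.mul_apply, MulAut.conj_apply]
    have h6 : β y = y * (y⁻¹ * h * y * h⁻¹)⁻¹ := by rw [hh3]; group
    have hc : (y⁻¹ * h * y) * h⁻¹ = h⁻¹ * (y⁻¹ * h * y) := by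
      have a1 := hyz h hh
      obtain ⟨m, hm⟩ := a1
      obtain ⟨k, hk⟩ := hh
      have hm' : x ^ m = y⁻¹ * h * y := hm
      have hk' : x ^ k = h := hk
      rw [← hm', ← hk', ← zpow_neg]
      exact (Commute.refl x).zpow_zpow m (-k)
    rw [h6, hc]
    group

theorem adjust2 {K : List ℕ} (hx : orderOf x = p) (hp2 : ¬ p ^ 2 ∣ Nat.card G) (hyx : y * x * y⁻¹ = x ^ r)
    (hr : y * x ≠ x * y) (hC : ∀ g, g * x = x * g → g ∈ Subgroup.zpowers x)
    (hK : ∀ j, 0 < j → j < p → ∃ m < p, j * r ^ m % p ∈ K) (α : MulAut G) :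
    ∃ g : G, ∃ κ ∈ K, (MulAut.conj g * α) x = x ^ κ ∧ (MulAut.conj g * α) y = y := by
  obtain ⟨g, j, h0, h1, h2, h3⟩ := adjust hx hp2 hyx hr hC α
  obtain ⟨m, _, hm⟩ := hK j h0 h1
  have hm' : ∀ m : ℕ, y ^ m * x * (y ^ m)⁻¹ = x ^ (r ^ m) := by
    intro m
    induction m with
    | zero => simp
    | succ m ih =>
      rw [pow_succ', pow_succ, pow_mul, ← ih]
      have : y * y ^ m * x * (y * y ^ m)⁻¹ = y * (y ^ m * x * (y ^ m)⁻¹) * y⁻¹ := by group
      rw [this, ih, ← pow_mul, mul_comm (r ^ m) r, pow_mul, ← hyx, conj_pow]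
  refine ⟨y ^ m * g, _, hm, ?_, ?_⟩
  · have h5 : MulAut.conj (y ^ m * g) * α = MulAut.conj (y ^ m) * (MulAut.conj g * α) := by
      rw [map_mul, mul_assoc]
    rw [h5, MulAut.mul_apply, h2, MulAut.conj_apply, ← conj_pow, hm', ← pow_mul, mul_comm, ← hx,
      pow_mod_orderOf]
  · have h5 : MulAut.conj (y ^ m * g) * α = MulAut.conj (y ^ m) * (MulAut.conj g * α) := by
      rw [map_mul, mul_assoc]
    rw [h5, MulAut.mul_apply, h3, MulAut.conj_apply]
    rw [← pow_succ, pow_succ', mul_inv_cancel_right]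

theorem t_coset {t y : G} {k : ℕ} {β : MulAut G} (hy : β y = y) (ht : t * y * t⁻¹ = y ^ k) :
    (t⁻¹ * β t) * y = y * (t⁻¹ * β t) := by
  have h : β (t * y * t⁻¹) = β (y ^ k) := by rw [ht]
  rw [map_mul, map_mul, map_inv, map_pow, hy, ← ht] at h
  calc (t⁻¹ * β t) * y = t⁻¹ * (β t * y * (β t)⁻¹) * β t := by group
    _ = t⁻¹ * (t * y * t⁻¹) * β t := by rw [h]
    _ = _ := by group

theorem aut_ext {S : Set G} (hgen : Subgroup.closure S = ⊤) {α β : MulAut G} (h : ∀ s ∈ S, α s = β s) :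
    α = β := by
  have h1 : α.toMonoidHom = β.toMonoidHom := MonoidHom.eq_of_eqOn_dense hgen h
  ext1 g
  exact DFunLike.congr_fun h1 g

/-- an automorphism induced by a normalizing permutation -/
theorem exists_aut {n : ℕ} (ψ : G →* Equiv.Perm (Fin n)) (hψ : Function.Injective ψ) {S : Set G}
    (hgen : Subgroup.closure S = ⊤) (τ : Equiv.Perm (Fin n))
    (h : ∀ s ∈ S, ∃ g, ψ g = τ * ψ s * τ⁻¹) : ∃ TH : MulAut G, ∀ g, ψ (TH g) = τ * ψ g * τ⁻¹ := by
  have h1 : ∀ g : G, ∃ g', ψ g' = τ * ψ g * τ⁻¹ := by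
    intro g
    have hg : g ∈ Subgroup.closure S := by rw [hgen]; exact Subgroup.mem_top g
    induction hg using Subgroup.closure_induction with
    | mem s hs => exact h s hs
    | one => exact ⟨1, by simp⟩
    | mul a b _ _ ha hb =>
      obtain ⟨a', ha⟩ := ha
      obtain ⟨b', hb⟩ := hb
      exact ⟨a' * b', by rw [map_mul, map_mul, ha, hb]; group⟩
    | inv a _ ha =>
      obtain ⟨a', ha⟩ := ha
      exact ⟨a'⁻¹, by rw [map_inv, map_inv, ha]; group⟩
  choose f hf using h1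
  let F : G →* G :=
    { toFun := f
      map_one' := by apply hψ; rw [hf]; simp
      map_mul' := fun a b => by apply hψ; rw [map_mul, hf, hf, hf, map_mul]; group }
  have hF : Function.Injective F := by
    intro a b hab
    apply hψ
    have h2 : ψ (f a) = ψ (f b) := congrArg ψ hab
    rw [hf, hf] at h2
    exact mul_left_cancel (mul_right_cancel h2)
  exact ⟨MulEquiv.ofBijective F ⟨hF, Finite.injective_iff_surjective.mp hF⟩, hf⟩

end

end H63.OA
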