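import Cfsg.Agent.Lib.H63.ONO4
import Cfsg.Agent.Lib.H63.OutAbs

/-!
# The outer automorphism group of `ON`
-/

set_option autoImplicit false
set_option linter.all false
set_option maxRecDepth 100000

namespace H63.ONO
open H35.TC H35.Net H35.ONMain H63.ONW
open Cfsg.Spor

theorem X19 : X ^ 19 = 1 := rel_of p19
theorem N6 : Nn ^ 6 = 1 := rel_of p6

theorem xr11 : (X * R) ^ 11 = 1 := by
  have h := rel_of p11
  rw [val_append] at h
  exact h

theorem nxn : Nn * X * Nn⁻¹ = X ^ 8 := by
  have h := rel_of pnx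
  rw [pow_one, val_append, val_append, val_append, val_inv, val_inv] at h
  have e : val (xw ++ xw ++ xw ++ xw ++ xw ++ xw ++ xw ++ xw) = X ^ 8 := by
    simp only [val_append]
    change X * X * X * X * X * X * X * X = X ^ 8
    simp only [pow_succ, pow_zero, one_mul]
  rw [e] at h
  exact mul_inv_eq_one.1 h

theorem rn : R * Nn = Nn * R := by
  have h := rel_of prn
  rw [pow_one, val_append, val_append, val_append, val_inv, val_inv] at h
  change R * Nn * R⁻¹ * Nn⁻¹ = 1 at h
  have h2 := mul_inv_eq_one.1 h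
  exact mul_inv_eq_iff_eq_mul.1 h2

theorem rr : R * R = Nn ^ 3 := by
  have h := rel_of prr
  rw [pow_one, val_append, val_append, val_inv, v3] at h
  exact mul_inv_eq_one.1 h

theorem ne_of_mvd {w : List LA} {n p : ℕ} (h : mvd w n p = true) : (val w) ^ n ≠ 1 := by
  intro h1
  have h2 := tb0_eq h
  rw [appFn_eq, (app_BP H35.NON.hbp (pw w n)).bit, pw_prod, ← map_word hφ, ← map_pow] at h2
  change (1 <<< p).testBit (φ ((val w) ^ n) p) = false at h2
  rw [h1, map_one, Equiv.Perm.one_apply, Nat.one_shiftLeft, Nat.testBit_two_pow_self] at h2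
  exact absurd h2 (by decide)

theorem X_ne : X ≠ 1 := by
  have h := ne_of_mvd nm_x
  rw [pow_one] at h
  exact h

theorem N3_ne : Nn ^ 3 ≠ 1 := by
  have h := ne_of_mvd nm_n3
  rw [pow_one, v3] at h
  exact h

theorem orderX : orderOf X = 19 := by
  haveI : Fact (Nat.Prime 19) := ⟨by norm_num⟩
  exact orderOf_eq_prime X19 X_ne

theorem X8_ne : Nn * X ≠ X * Nn := by
  intro h
  have h1 := nxn
  rw [h, mul_inv_cancel_right] at h1
  have h2 : X ^ 7 = 1 := by
    have h3 : X ^ 8 = X ^ 7 * X := pow_succ X 7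
    rw [h3] at h1
    exact mul_eq_right.1 h1.symm
  have h3 := orderOf_dvd_of_pow_eq_one h2
  rw [orderX] at h3
  omega

/-! ### values of the letters -/

/-- elements -/
noncomputable def e0 : LC → G
  | .x => X
  | .xi => X⁻¹
  | .r => R
  | .ri => R⁻¹

theorem πC_eq : ∀ x, πC x = φ (e0 x) := by
  have hx : πC .x = φ X := by
    have h := eq_of_planes (hC .x) (app_BP H35.NON.hbp xw) (cmp_spec eqX)
    rw [h, X, val, map_word hφ]
  have hr : πC .r = φ R := by
    have h := eq_of_planes (hC .r) (app_BP H35.NON.hbp rw4) (cmp_spec eqR)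
    rw [h, R, val, map_word hφ]
  intro x
  cases x
  · exact hx
  · have h := pow_eq_one_of_chk hC invX
    simp only [List.map_cons, List.map_nil, List.prod_cons, List.prod_nil, mul_one, pow_one] at h
    change _ = φ X⁻¹
    rw [map_inv, ← hx]
    exact eq_inv_of_mul_eq_one_right h
  · exact hr
  · have h := pow_eq_one_of_chk hC invR
    simp only [List.map_cons, List.map_nil, List.prod_cons, List.prod_nil, mul_one, pow_one] at h
    change _ = φ R⁻¹
    rw [map_inv, ← hr]
    exact eq_inv_of_mul_eq_one_right h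

theorem prodC (w : List LC) : (w.map πC).prod = φ ((w.map e0).prod) := by
  rw [map_list_prod, List.map_map]
  congr 1
  exact List.map_congr_left fun x _ => πC_eq x

theorem genC : ∀ l : LA, gP l = ((WW l).map e0).prod := by
  have key : ∀ l : LA, cmp (H35.NON.net l) netC (WW l) 17 = true → gP l = ((WW l).map e0).prod := by
    intro l h
    apply card_inj.2
    have h1 := eq_of_planes (H35.NON.hbp l) (app_BP hC (WW l)) (cmp_spec h)
    rw [hφ, h1, prodC]
  intro l
  cases l
  · exact key _ gen_g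
  · exact key _ gen_gi
  · exact key _ gen_a
  · exact key _ gen_b
  · exact key _ gen_c
  · exact key _ gen_d
  · exact key _ gen_e
  · exact key _ gen_f

theorem gen_XR : Subgroup.closure ({X, R} : Set G) = ⊤ := by
  have hx : X ∈ Subgroup.closure ({X, R} : Set G) := Subgroup.subset_closure (by simp)
  have hr : R ∈ Subgroup.closure ({X, R} : Set G) := Subgroup.subset_closure (by simp)
  rw [eq_top_iff, ← genP, Subgroup.closure_le]
  rintro _ ⟨l, rfl⟩
  rw [genC l]
  apply Subgroup.list_prod_mem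
  intro y hy
  obtain ⟨c, _, rfl⟩ := List.mem_map.1 hy
  cases c
  · exact hx
  · exact Subgroup.inv_mem _ hx
  · exact hr
  · exact Subgroup.inv_mem _ hr

/-- images of the generators -/
noncomputable def gJ (l : LA) : G := ((VV l).map e0).prod

theorem πJ_eq : ∀ l : LA, πJ l = φ (gJ l) := by
  have key : ∀ l : LA, cmp (netJ l) netC (VV l) 17 = true → πJ l = φ (gJ l) := by
    intro l h
    have h1 := eq_of_planes (hJ l) (app_BP hC (VV l)) (cmp_spec h)
    rw [h1, prodC]; rfl
  intro l
  cases l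
  · exact key _ im_g
  · exact key _ im_gi
  · exact key _ im_a
  · exact key _ im_b
  · exact key _ im_c
  · exact key _ im_d
  · exact key _ im_e
  · exact key _ im_f

theorem prodJ (w : List LA) : (w.map πJ).prod = φ ((w.map gJ).prod) := by
  rw [map_list_prod, List.map_map]
  congr 1
  exact List.map_congr_left fun x _ => πJ_eq x

theorem hpJ' : ∀ x y, (πJ x * πJ y) ^ H35.TCONA.mm x y = 1 := by
  refine cox_of_pairs hJ H35.NON.all_prs H35.NON.mm_symm ?_
  intro p hp
  simp only [H35.NON.prs, List.mem_cons, List.mem_nil_iff, or_false] at hp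
  rcases hp with rfl | rfl | rfl | rfl | rfl | rfl | rfl | rfl | rfl | rfl | rfl | rfl | rfl | rfl | rfl | rfl | rfl | rfl | rfl | rfl | rfl
  · exact rl_aa
  · exact rl_ab
  · exact rl_ac
  · exact rl_ad
  · exact rl_ae
  · exact rl_af
  · exact rl_bb
  · exact rl_bc
  · exact rl_bd
  · exact rl_be
  · exact rl_bf
  · exact rl_cc
  · exact rl_cd
  · exact rl_ce
  · exact rl_cf
  · exact rl_dd
  · exact rl_de
  · exact rl_df
  · exact rl_ee
  · exact rl_ef
  · exact rl_ff

theorem hpJ : ∀ x y, (gJ x * gJ y) ^ H35.TCONA.mm x y = 1 := by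
  intro x y
  apply card_inj.2
  rw [map_pow, map_mul, ← πJ_eq, ← πJ_eq, hpJ', map_one]

theorem heJ : ∀ p ∈ H35.TCONA.extra, ((p.1.map gJ).prod) ^ p.2 = 1 := by
  have key : ∀ p : List LA × ℕ, chkW netJ 17 p.1 p.2 0 17 = true → ((p.1.map gJ).prod) ^ p.2 = 1 := by
    intro p h
    apply card_inj.2
    rw [map_pow, ← prodJ, map_one]
    exact pow_eq_one_of_chk hJ h
  intro p hp
  simp only [H35.TCONA.extra, List.mem_cons, List.mem_nil_iff, or_false] at hp
  rcases hp with rfl | rfl | rfl | rfl | rfl | rfl | rfl | rfl | rfl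
  · exact key _ ex_0
  · exact key _ ex_1
  · exact key _ ex_2
  · exact key _ ex_3
  · exact key _ ex_4
  · exact key _ ex_5
  · exact key _ ex_6
  · exact key _ ex_7
  · exact key _ ex_8

theorem exists_hom {K : Type} [Group K] (ρ : LA → K) (hp : ∀ x y, (ρ x * ρ y) ^ H35.TCONA.mm x y = 1)
    (he : ∀ p ∈ H35.TCONA.extra, ((p.1.map ρ).prod) ^ p.2 = 1) :
    ∃ φ : Cfsg.Spor.ON →* K, ∀ x, φ (gP x) = ρ x := by
  have jv_g : (ρ .g)⁻¹ = ρ .gi := inv_eq_of_mul_eq_one_left (by simpa using he ([.gi, .g], 1) (by simp [H35.TCONA.extra]))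
  have jv_gi : (ρ .gi)⁻¹ = ρ .g := inv_eq_of_mul_eq_one_left (by simpa using he ([.g, .gi], 1) (by simp [H35.TCONA.extra]))
  have jv_a : (ρ .a)⁻¹ = ρ .a := inv_eq_of_mul_eq_one_left (by simpa [H35.TCONA.mm] using hp .a .a)
  have jv_b : (ρ .b)⁻¹ = ρ .b := inv_eq_of_mul_eq_one_left (by simpa [H35.TCONA.mm] using hp .b .b)
  have jv_c : (ρ .c)⁻¹ = ρ .c := inv_eq_of_mul_eq_one_left (by simpa [H35.TCONA.mm] using hp .c .c)
  have jv_d : (ρ .d)⁻¹ = ρ .d := inv_eq_of_mul_eq_one_left (by simpa [H35.TCONA.mm] using hp .d .d)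
  have jv_e : (ρ .e)⁻¹ = ρ .e := inv_eq_of_mul_eq_one_left (by simpa [H35.TCONA.mm] using hp .e .e)
  have jv_f : (ρ .f)⁻¹ = ρ .f := inv_eq_of_mul_eq_one_left (by simpa [H35.TCONA.mm] using hp .f .f)
  obtain ⟨φ, hφ⟩ := cox_hom (edges := ON.edges) (ex := ON.extra) (fun x => ρ (toLt x)) (by
    intro x hx y hy
    have := hp (toLt x) (toLt y)
    cases x <;> cases y <;> first
      | exact this
      | exact absurd hx (by decide)
      | exact absurd hy (by decide)) (by
    intro r hr
    simp only [ON.extra, List.mem_cons, List.mem_nil_iff, or_false] at hr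
    rcases hr with rfl | rfl | rfl | rfl | rfl | rfl | rfl
    · have h := he ([.a, .f, .gi, .gi], 1) (by simp [H35.TCONA.extra])
      simp only [map_mul, map_inv, map_pow, lift_eq]
      simpa [pow_succ, mul_assoc, mul_inv_rev, toLt, jv_g, jv_gi, jv_a, jv_b, jv_c, jv_d, jv_e, jv_f] using h
    · have h := he ([.a, .f, .d, .c, .d, .c, .d, .c, .d, .c], 1) (by simp [H35.TCONA.extra])
      simp only [map_mul, map_inv, map_pow, lift_eq]
      simpa [pow_succ, mul_assoc, mul_inv_rev, toLt, jv_g, jv_gi, jv_a, jv_b, jv_c, jv_d, jv_e, jv_f] using h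
    · have h := he ([.c, .gi, .d, .gi, .d, .c, .d, .g, .d, .g], 1) (by simp [H35.TCONA.extra])
      simp only [map_mul, map_inv, map_pow, lift_eq]
      simpa [pow_succ, mul_assoc, mul_inv_rev, toLt, jv_g, jv_gi, jv_a, jv_b, jv_c, jv_d, jv_e, jv_f] using h
    · have h := he ([.d, .gi, .c, .gi, .c, .d, .c, .g, .c, .g], 1) (by simp [H35.TCONA.extra])
      simp only [map_mul, map_inv, map_pow, lift_eq]
      simpa [pow_succ, mul_assoc, mul_inv_rev, toLt, jv_g, jv_gi, jv_a, jv_b, jv_c, jv_d, jv_e, jv_f] using h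
    · have h := he ([.b, .c, .d, .g], 5) (by simp [H35.TCONA.extra])
      simp only [map_mul, map_inv, map_pow, lift_eq]
      have e : (([.b, .c, .d, .g] : List LA).map ρ).prod = ρ .b * ρ .c * ρ .d * ρ .g := by simp [pow_succ, mul_assoc]
      rw [e] at h
      exact h
    · have h := he ([.g, .b, .c, .g, .c, .b, .g, .b, .c, .g, .c], 1) (by simp [H35.TCONA.extra])
      simp only [map_mul, map_inv, map_pow, lift_eq]
      simpa [pow_succ, mul_assoc, mul_inv_rev, toLt, jv_g, jv_gi, jv_a, jv_b, jv_c, jv_d, jv_e, jv_f] using h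
    · have h := he ([.g, .e, .d, .g, .d, .e, .g, .e, .d, .g, .d], 1) (by simp [H35.TCONA.extra])
      simp only [map_mul, map_inv, map_pow, lift_eq]
      simpa [pow_succ, mul_assoc, mul_inv_rev, toLt, jv_g, jv_gi, jv_a, jv_b, jv_c, jv_d, jv_e, jv_f] using h
      )
  refine ⟨φ, fun x => ?_⟩
  cases x
  · exact hφ .g
  · have h := hφ .g
    have h2 : φ (gP .gi) = (φ (PresentedGroup.of .g))⁻¹ := map_inv φ _
    rw [h2, h]
    exact jv_g
  · exact hφ .a
  · exact hφ .b
  · exact hφ .c
  · exact hφ .d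
  · exact hφ .e
  · exact hφ .f

/-- the outer automorphism as a homomorphism -/
theorem exists_s : ∃ s : G →* G, s X = X ∧ s R = R⁻¹ ∧ s Nn = Nn := by
  obtain ⟨s, hs⟩ := exists_hom gJ hpJ heJ
  have hval : ∀ w : List LA, φ (s (val w)) = (w.map πJ).prod := by
    intro w
    rw [prodJ, val, map_list_prod, List.map_map]
    congr 2
    exact List.map_congr_left fun x _ => hs x
  refine ⟨s, ?_, ?_, ?_⟩
  · apply card_inj.2
    have h1 := hval xw
    have h2 : BP (2 ^ 17) (appF netJ xw) ((xw.map πJ).prod) := by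
      have e : appF netJ xw = app netJ xw := funext fun W => appF_eq netJ xw W
      rw [e]; exact app_BP hJ xw
    have h3 := eq_of_planes h2 (app_BP hC [.x]) (cmp_spec sX)
    rw [h3, prodC] at h1
    change φ (s X) = _ at h1
    rw [h1]
    simp [e0]
  · apply card_inj.2
    have h1 := hval rw4
    have h2 : BP (2 ^ 17) (appF netJ rw4) ((rw4.map πJ).prod) := by
      have e : appF netJ rw4 = app netJ rw4 := funext fun W => appF_eq netJ rw4 W
      rw [e]; exact app_BP hJ rw4
    have h3 := eq_of_planes h2 (app_BP hC [.ri]) (cmp_spec sR)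
    rw [h3, prodC] at h1
    change φ (s R) = _ at h1
    rw [h1]
    simp [e0]
  · apply card_inj.2
    have h1 := hval nw
    have h2 : BP (2 ^ 17) (appF netJ nw) ((nw.map πJ).prod) := by
      have e : appF netJ nw = app netJ nw := funext fun W => appF_eq netJ nw W
      rw [e]; exact app_BP hJ nw
    have h3 := eq_of_planes h2 (app_BP H35.NON.hbp nw) (cmp_spec sN)
    rw [h3, ← map_word hφ] at h1
    exact h1

/-- the outer automorphism -/
theorem exists_TH : ∃ s : MulAut G, s X = X ∧ s R = R⁻¹ ∧ s Nn = Nn := by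
  obtain ⟨s, h1, h2, h3⟩ := exists_s
  have hs : IsSimpleGroup G := simple
  have hker : s.ker = ⊥ := by
    rcases hs.eq_bot_or_eq_top_of_normal s.ker inferInstance with h | h
    · exact h
    · exfalso
      have h4 : X ∈ s.ker := by rw [h]; exact Subgroup.mem_top _
      rw [MonoidHom.mem_ker, h1] at h4
      exact X_ne h4
  have hinj : Function.Injective s := (MonoidHom.ker_eq_bot_iff s).1 hker
  have hbij : Function.Bijective s := Finite.injective_iff_bijective.1 hinj
  exact ⟨MulEquiv.ofBijective s hbij, h1, h2, h3⟩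

theorem not_inner {s : MulAut G} (h1 : s X = X) (h2 : s R = R⁻¹) (h3 : s Nn = Nn) : s ∉ Cfsg.Inn G := by
  rintro ⟨g, rfl⟩
  rw [MulAut.conj_apply] at h1 h2 h3
  have hgx : g * X = X * g := mul_inv_eq_iff_eq_mul.1 h1
  have hgn : g * Nn = Nn * g := mul_inv_eq_iff_eq_mul.1 h3
  have hm := cent_X g hgx
  haveI : Fact (Nat.Prime 19) := ⟨by norm_num⟩
  by_cases hg : g = 1
  · rw [hg] at h2
    have h4 : R = R⁻¹ := by simpa using h2
    have h5 : R * R = 1 := by
      nth_rewrite 1 [h4]
      exact inv_mul_cancel R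
    rw [rr] at h5
    exact N3_ne h5
  · obtain ⟨m, hm'⟩ := H63.OA.zpow_mem_of_ne orderX hm hg
    have hm'' : g ^ m = X := hm'
    have h4 : Commute g Nn := hgn
    have h5 := h4.zpow_left m
    rw [hm''] at h5
    exact X8_ne h5.eq.symm

theorem ne_pow {k : ℕ} {r : G} {β : MulAut G} (hX : β X = X ^ k) (hR : β R = r) (h : (X ^ k * r) ^ 11 ≠ 1) :
    False := by
  apply h
  rw [← hX, ← hR, ← map_mul, ← map_pow, xr11, map_one]

theorem Rinv : R⁻¹ = R * Nn ^ 3 := by
  have h : R * (R * Nn ^ 3) = 1 := by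
    rw [← mul_assoc, rr, ← pow_add]; exact N6
  exact inv_eq_of_mul_eq_one_right h

theorem hK : ∀ j, 0 < j → j < 19 → ∃ m < 19, j * 8 ^ m % 19 ∈ ([1, 2, 4] : List ℕ) := by
  intro j h0 h1
  have h : ∀ j ∈ Finset.Ico 1 19, ∃ m ∈ Finset.range 19, j * 8 ^ m % 19 ∈ ([1, 2, 4] : List ℕ) := by decide +kernel
  obtain ⟨m, hm, h2⟩ := h j (Finset.mem_Ico.2 ⟨h0, h1⟩)
  exact ⟨m, Finset.mem_range.1 hm, h2⟩

theorem card_out : Nat.card (Cfsg.Out Cfsg.Spor.ON) = 2 := by
  obtain ⟨TH, t1, t2, t3⟩ := exists_TH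
  refine H63.OA.card_out_two TH ?_ (not_inner t1 t2 t3)
  intro α
  haveI : Fact (Nat.Prime 19) := ⟨by norm_num⟩
  obtain ⟨g, κ, hκ, h1, h2⟩ := H63.OA.adjust2 (p := 19) (r := 8) (K := [1, 2, 4]) orderX
    (by rw [card_inj.1]; norm_num) nxn X8_ne cent_X hK α
  refine ⟨g, ?_⟩
  set β := MulAut.conj g * α with hβ
  have hr : β R = R ∨ β R = R⁻¹ := by
    have e1 : β R * Nn = Nn * β R := by
      have : β (R * Nn) = β (Nn * R) := by rw [rn]
      rwa [map_mul, map_mul, h2] at this
    have e2 : β R * β R = Nn ^ 3 := by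
      rw [← map_mul, rr, map_pow, h2]
    rcases sq_roots N6 e1 e2 with h | h
    · exact Or.inl h
    · right
      have h3 : β R = R * (Nn ^ 3)⁻¹ := eq_mul_inv_of_mul_eq h
      have h4 : (Nn ^ 3)⁻¹ = Nn ^ 3 := by
        apply inv_eq_of_mul_eq_one_right
        rw [← pow_add]; exact N6
      rw [h3, h4, Rinv]
  have v2r : X ^ 2 * R = val (xw ++ xw ++ rw4) := by
    rw [val_append, val_append, pow_two]; rfl
  have v2i : X ^ 2 * R⁻¹ = val (xw ++ xw ++ invw rw4) := by
    rw [val_append, val_append, val_inv, pow_two]; rfl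
  have v4 : X ^ 4 = X * X * X * X := by simp only [pow_succ, pow_zero, one_mul]
  have v4r : X ^ 4 * R = val (xw ++ xw ++ xw ++ xw ++ rw4) := by
    rw [val_append, val_append, val_append, val_append, v4]; rfl
  have v4i : X ^ 4 * R⁻¹ = val (xw ++ xw ++ xw ++ xw ++ invw rw4) := by
    rw [val_append, val_append, val_append, val_append, val_inv, v4]; rfl
  simp only [List.mem_cons, List.mem_nil_iff, or_false] at hκ
  rcases hκ with rfl | rfl | rfl
  · rw [pow_one] at h1
    rcases hr with hr | hr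
    · left
      refine H63.OA.aut_ext gen_XR ?_
      intro s hs
      simp only [Set.mem_insert_iff, Set.mem_singleton_iff] at hs
      rcases hs with rfl | rfl
      · rw [h1]; rfl
      · rw [hr]; rfl
    · right
      refine H63.OA.aut_ext gen_XR ?_
      intro s hs
      simp only [Set.mem_insert_iff, Set.mem_singleton_iff] at hs
      rcases hs with rfl | rfl
      · rw [h1, t1]
      · rw [hr, t2]
  · exfalso
    rcases hr with hr | hr
    · exact ne_pow h1 hr (by rw [v2r]; exact ne_of_mvd nm_2r)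
    · exact ne_pow h1 hr (by rw [v2i]; exact ne_of_mvd nm_2i)
  · exfalso
    rcases hr with hr | hr
    · exact ne_pow h1 hr (by rw [v4r]; exact ne_of_mvd nm_4r)
    · exact ne_pow h1 hr (by rw [v4i]; exact ne_of_mvd nm_4i)

end H63.ONO
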