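import Cfsg.Agent.Lib.H35.ONMain

/-!
# Words in the generators of the group `ON`
-/

set_option autoImplicit false
set_option linter.all false
set_option maxRecDepth 100000

namespace H63.ONW
open H35.TC H35.Net H35.ONMain

/-- inverse letters -/
def invl : LA → LA
  | .g => .gi
  | .gi => .g
  | x => x

theorem invl_spec (x : LA) : gP (invl x) = (gP x)⁻¹ := by
  rw [← hinvP]; cases x <;> rfl

/-- inverse word -/
def invw (w : List LA) : List LA := (w.map invl).reverse

/-- value of a word -/
def val (w : List LA) : Cfsg.Spor.ON := (w.map gP).prod

theorem val_append (u v : List LA) : val (u ++ v) = val u * val v := by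
  rw [val, List.map_append, List.prod_append]; rfl

theorem val_inv (w : List LA) : val (invw w) = (val w)⁻¹ := by
  induction w with
  | nil => simp [val, invw]
  | cons x w ih =>
    have e : invw (x :: w) = invw w ++ [invl x] := by simp [invw]
    rw [e, val_append, ih]
    simp [val, invl_spec]

/-- push a letter with cancellation -/
def push (x : LA) : List LA → List LA
  | [] => [x]
  | y :: l => if y = invl x then l else x :: y :: l

/-- free reduction -/
def red (w : List LA) : List LA := w.foldr push []

theorem val_push (x : LA) (w : List LA) : val (push x w) = gP x * val w := by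
  cases w with
  | nil => simp [push, val]
  | cons y l =>
    rw [push]
    split_ifs with h
    · subst h
      simp [val, invl_spec]
    · simp [val]

theorem val_red (w : List LA) : val (red w) = val w := by
  induction w with
  | nil => rfl
  | cons x w ih =>
    change val (push x (red w)) = _
    rw [val_push, ih]; simp [val]

theorem rel_of {w : List LA} {n : ℕ} (h : chkW H35.NON.net 17 w n 0 17 = true) : (val w) ^ n = 1 := by
  apply card_inj.2
  rw [map_pow, val, map_word hφ, map_one]
  exact pow_eq_one_of_chk H35.NON.hbp h

theorem a_ne : gP .a ≠ 1 := by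
  intro h
  have h1 : H35.NON.π .a = 1 := by rw [← hφ, h, map_one]
  have h2 := H35.NON.hbp .a
  rw [h1] at h2
  have h3 : H35.NON.net .a 4 = 4 := by
    apply Nat.eq_of_testBit_eq
    intro i
    rw [h2.bit]; rfl
  have h4 : Nat.beq (H35.NON.net .a 4) 4 = false := by decide +kernel
  rw [h3] at h4
  exact absurd h4 (by decide)

section sub
variable {L : Type} (wd : L → List LA)

/-- letters given by words -/
def gA (x : L) : Cfsg.Spor.ON := val (wd x)

theorem prod_eq (w : List L) : (w.map (gA wd)).prod = val (w.flatMap wd) := by
  induction w with
  | nil => rfl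
  | cons x w ih => rw [List.map_cons, List.prod_cons, List.flatMap_cons, val_append, ih]; rfl

theorem rel_of' {w : List L} {n : ℕ} {v : List LA} (hv : red (w.flatMap wd) = v)
    (h : chkW H35.NON.net 17 v n 0 17 = true) : ((w.map (gA wd)).prod) ^ n = 1 := by
  rw [prod_eq, ← val_red, hv]
  exact rel_of h

theorem rel_nil {w : List L} {n : ℕ} (hv : red (w.flatMap wd) = []) : ((w.map (gA wd)).prod) ^ n = 1 := by
  rw [prod_eq, ← val_red, hv]
  exact one_pow _

theorem inv_of {inv : L → L} {x : L} (hv : red ([inv x, x].flatMap wd) = []) : gA wd (inv x) = (gA wd x)⁻¹ := by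
  have h := rel_nil (n := 1) wd hv
  simp only [List.map_cons, List.map_nil, List.prod_cons, List.prod_nil, mul_one, pow_one] at h
  exact eq_inv_of_mul_eq_one_left h

end sub

end H63.ONW
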