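import Cfsg.Agent.Lib.H63.OutFi22Data
import Cfsg.Agent.Lib.H35.Fi22Main

set_option autoImplicit false
set_option linter.all false
set_option maxRecDepth 10000

/-! The outer automorphism group of the sporadic group Fi22 (partly generated). -/

namespace H63.OutFi22

open H63.PC H63.OT H35.Net H35.Fi22Main Cfsg.Spor
open H35.TC hiding band
open H35 (NFi22.net)

/-- the group -/
abbrev G := Cfsg.Spor.Fi22

instance instFin : Finite G := fin

theorem ex_psi : ∃ ψ : G →* Equiv.Perm (Fin 3510), Function.Injective ψ ∧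
    ∀ g (i : Fin 3510), (ψ g i : ℕ) = φ g i :=
  exists_psi φ card_inj.2 3510 (pres_all hφ genP H35.NFi22.pres) (fix_all hφ genP H35.NFi22.fix_hi)

/-- the action on 3510 points -/
noncomputable def ψ : G →* Equiv.Perm (Fin 3510) := ex_psi.choose

theorem ψ_inj : Function.Injective ψ := ex_psi.choose_spec.1

theorem ψ_val (g : G) (i : Fin 3510) : (ψ g i : ℕ) = φ g i := ex_psi.choose_spec.2 g i

/-- tables of the letters -/
noncomputable def TL : LA → ℕ
  | .a => tb_a
  | .b => tb_b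
  | .c => tb_c
  | .d => tb_d
  | .e => tb_e
  | .f => tb_f
  | .g => tb_g
  | .h => tb_h
  | .i => tb_i

set_option maxRecDepth 100000 in
theorem nt_a : chkNetTab (H35.NFi22.net .a) 12 3510 tb_a = true := by decide +kernel
set_option maxRecDepth 100000 in
theorem lt_a : allN (fun b => Nat.blt (a12 tb_a b) 3510) 3510 = true := by decide +kernel
set_option maxRecDepth 100000 in
theorem pc_a : presChk MT.get 3510 (H35.NFi22.net .a) tb_a = true := by decide +kernel
set_option maxRecDepth 100000 in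
theorem nt_b : chkNetTab (H35.NFi22.net .b) 12 3510 tb_b = true := by decide +kernel
set_option maxRecDepth 100000 in
theorem lt_b : allN (fun b => Nat.blt (a12 tb_b b) 3510) 3510 = true := by decide +kernel
set_option maxRecDepth 100000 in
theorem pc_b : presChk MT.get 3510 (H35.NFi22.net .b) tb_b = true := by decide +kernel
set_option maxRecDepth 100000 in
theorem nt_c : chkNetTab (H35.NFi22.net .c) 12 3510 tb_c = true := by decide +kernel
set_option maxRecDepth 100000 in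
theorem lt_c : allN (fun b => Nat.blt (a12 tb_c b) 3510) 3510 = true := by decide +kernel
set_option maxRecDepth 100000 in
theorem pc_c : presChk MT.get 3510 (H35.NFi22.net .c) tb_c = true := by decide +kernel
set_option maxRecDepth 100000 in
theorem nt_d : chkNetTab (H35.NFi22.net .d) 12 3510 tb_d = true := by decide +kernel
set_option maxRecDepth 100000 in
theorem lt_d : allN (fun b => Nat.blt (a12 tb_d b) 3510) 3510 = true := by decide +kernel
set_option maxRecDepth 100000 in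
theorem pc_d : presChk MT.get 3510 (H35.NFi22.net .d) tb_d = true := by decide +kernel
set_option maxRecDepth 100000 in
theorem nt_e : chkNetTab (H35.NFi22.net .e) 12 3510 tb_e = true := by decide +kernel
set_option maxRecDepth 100000 in
theorem lt_e : allN (fun b => Nat.blt (a12 tb_e b) 3510) 3510 = true := by decide +kernel
set_option maxRecDepth 100000 in
theorem pc_e : presChk MT.get 3510 (H35.NFi22.net .e) tb_e = true := by decide +kernel
set_option maxRecDepth 100000 in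
theorem nt_f : chkNetTab (H35.NFi22.net .f) 12 3510 tb_f = true := by decide +kernel
set_option maxRecDepth 100000 in
theorem lt_f : allN (fun b => Nat.blt (a12 tb_f b) 3510) 3510 = true := by decide +kernel
set_option maxRecDepth 100000 in
theorem pc_f : presChk MT.get 3510 (H35.NFi22.net .f) tb_f = true := by decide +kernel
set_option maxRecDepth 100000 in
theorem nt_g : chkNetTab (H35.NFi22.net .g) 12 3510 tb_g = true := by decide +kernel
set_option maxRecDepth 100000 in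
theorem lt_g : allN (fun b => Nat.blt (a12 tb_g b) 3510) 3510 = true := by decide +kernel
set_option maxRecDepth 100000 in
theorem pc_g : presChk MT.get 3510 (H35.NFi22.net .g) tb_g = true := by decide +kernel
set_option maxRecDepth 100000 in
theorem nt_h : chkNetTab (H35.NFi22.net .h) 12 3510 tb_h = true := by decide +kernel
set_option maxRecDepth 100000 in
theorem lt_h : allN (fun b => Nat.blt (a12 tb_h b) 3510) 3510 = true := by decide +kernel
set_option maxRecDepth 100000 in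
theorem pc_h : presChk MT.get 3510 (H35.NFi22.net .h) tb_h = true := by decide +kernel
set_option maxRecDepth 100000 in
theorem nt_i : chkNetTab (H35.NFi22.net .i) 12 3510 tb_i = true := by decide +kernel
set_option maxRecDepth 100000 in
theorem lt_i : allN (fun b => Nat.blt (a12 tb_i b) 3510) 3510 = true := by decide +kernel
set_option maxRecDepth 100000 in
theorem pc_i : presChk MT.get 3510 (H35.NFi22.net .i) tb_i = true := by decide +kernel

theorem tl_val : ∀ a : LA, ∀ b < 3510, a12 (TL a) b = H35.NFi22.π a b := by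
  intro a
  cases a
  · exact netTab (H35.NFi22.hbp .a) (by norm_num) (by norm_num) lt_a (H35.NFi22.pres .a) nt_a
  · exact netTab (H35.NFi22.hbp .b) (by norm_num) (by norm_num) lt_b (H35.NFi22.pres .b) nt_b
  · exact netTab (H35.NFi22.hbp .c) (by norm_num) (by norm_num) lt_c (H35.NFi22.pres .c) nt_c
  · exact netTab (H35.NFi22.hbp .d) (by norm_num) (by norm_num) lt_d (H35.NFi22.pres .d) nt_d
  · exact netTab (H35.NFi22.hbp .e) (by norm_num) (by norm_num) lt_e (H35.NFi22.pres .e) nt_e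
  · exact netTab (H35.NFi22.hbp .f) (by norm_num) (by norm_num) lt_f (H35.NFi22.pres .f) nt_f
  · exact netTab (H35.NFi22.hbp .g) (by norm_num) (by norm_num) lt_g (H35.NFi22.pres .g) nt_g
  · exact netTab (H35.NFi22.hbp .h) (by norm_num) (by norm_num) lt_h (H35.NFi22.pres .h) nt_h
  · exact netTab (H35.NFi22.hbp .i) (by norm_num) (by norm_num) lt_i (H35.NFi22.pres .i) nt_i

theorem psi_letter (a : LA) (b : Fin 3510) : (ψ (gP a) b : ℕ) = H35.NFi22.π a b := by rw [ψ_val, hφ]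

theorem rl (a : LA) : Rp 3510 (TL a) (ψ (gP a)) := fun i => by rw [tl_val a i i.2, psi_letter]

theorem pres_letter (a : LA) : Pres MT.get (ψ (gP a)) := by
  cases a
  · exact pres_of_net (H35.NFi22.hbp .a) (tl_val .a) (psi_letter .a) pc_a
  · exact pres_of_net (H35.NFi22.hbp .b) (tl_val .b) (psi_letter .b) pc_b
  · exact pres_of_net (H35.NFi22.hbp .c) (tl_val .c) (psi_letter .c) pc_c
  · exact pres_of_net (H35.NFi22.hbp .d) (tl_val .d) (psi_letter .d) pc_d
  · exact pres_of_net (H35.NFi22.hbp .e) (tl_val .e) (psi_letter .e) pc_e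
  · exact pres_of_net (H35.NFi22.hbp .f) (tl_val .f) (psi_letter .f) pc_f
  · exact pres_of_net (H35.NFi22.hbp .g) (tl_val .g) (psi_letter .g) pc_g
  · exact pres_of_net (H35.NFi22.hbp .h) (tl_val .h) (psi_letter .h) pc_h
  · exact pres_of_net (H35.NFi22.hbp .i) (tl_val .i) (psi_letter .i) pc_i

theorem pres (g : G) : Pres MT.get (ψ g) := pres_gen genP pres_letter g

/-- word -/
def ws0 : List LA := [.b, .a, .e, .i, .g, .e, .h, .g, .h, .d, .e, .b, .a, .f, .b, .c, .b, .f, .h, .g, .f, .a, .h, .b, .d, .i, .b, .d, .a, .i, .h, .g, .i, .b, .e, .g, .h, .g, .b, .c, .d, .i, .h, .f, .d, .f, .i, .b, .g, .a, .b, .h, .i, .a, .d, .h, .f, .e, .b, .d, .f, .e, .b, .g, .e, .c, .e, .g, .d, .g, .f, .h, .e, .h, .i, .b, .e, .g, .e, .g, .f, .e, .i, .h, .g, .d, .f, .a, .d, .f, .e, .f, .c, .a, .g, .f, .d, .g, .f, .i]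
/-- word -/
def ws1 : List LA := [.c, .d, .i, .c, .i, .a, .h, .b, .i, .g, .c, .b, .e, .d, .f, .c, .d, .a, .g, .d, .a, .c, .e, .c, .b, .e, .f, .e, .b, .a, .e, .c, .i, .c, .g, .d, .g, .b, .h, .d, .f, .c, .d, .i, .e, .b, .c, .e, .c, .i, .g, .e, .f, .i, .b, .h, .a, .c, .i, .d, .a, .i, .d, .e, .b, .d, .a, .e, .g, .f, .b, .d, .e, .a, .f, .h, .e, .i, .g, .a, .e, .d, .i, .d, .b, .h, .g, .b, .c, .i, .g, .c, .a, .c, .i, .e, .f, .h, .e, .f]
/-- word -/
def ws2 : List LA := [.e, .b, .e, .f, .a, .f, .a, .c, .g, .d, .e, .b, .i, .d, .i, .f, .c, .g, .h, .b, .c, .h, .e, .g, .d, .f, .g, .e, .h, .e, .g, .d, .c, .e, .d, .a, .e, .b, .g, .h, .d, .a, .c, .a, .h, .f, .e, .f, .c, .d, .h, .a, .e, .a, .i, .h, .d, .a, .h, .b, .c, .i, .g, .c, .g, .h, .a, .f, .a, .f, .c, .g, .h, .c, .d, .a, .c, .g, .b, .i, .g, .e, .c, .f, .h, .i, .c, .i, .h, .e, .b, .f, .e, .d, .b, .a, .h, .b, .a, .f]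
/-- word -/
def ws3 : List LA := [.b, .i, .b, .g, .b, .e, .a, .g, .d, .a, .e, .c, .b, .f, .c, .a, .e, .c, .a, .g, .c, .d, .i, .e, .d, .c, .i, .h, .f, .b, .e, .g, .a, .c, .b, .i, .f, .i, .f, .b, .d, .h, .c, .e, .i, .b, .d, .b, .i, .h, .f, .b, .a, .c, .i, .e, .a, .f, .e, .h, .g, .c, .g, .c, .i, .e, .a, .g, .a, .d, .i, .f, .b, .d, .i, .c, .h, .d, .a, .c, .f, .a, .c, .h, .e, .f, .h, .a, .i, .a, .e, .f, .b, .a, .d, .i, .f, .g, .d, .f]
/-- element -/
noncomputable def s0 : G := (ws0.map gP).prod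
/-- element -/
noncomputable def s1 : G := (ws1.map gP).prod
/-- element -/
noncomputable def s2 : G := (ws2.map gP).prod
/-- element -/
noncomputable def s3 : G := (ws3.map gP).prod
set_option maxRecDepth 100000 in
theorem cws0 : chkWord 3510 ts_0 TL ws0 = true := by decide +kernel
theorem rs0 : Rp 3510 ts_0 (ψ s0) := by
  have h := Rp_word rl cws0
  rwa [← psi_word] at h
set_option maxRecDepth 100000 in
theorem cis0 : allN (fun i => Nat.beq (a12 tS_0 (a12 ts_0 i)) i) 3510 = true := by decide +kernel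
theorem rS0 : Rp 3510 tS_0 (ψ s0⁻¹) := by
  rw [map_inv]
  exact Rp_inv rs0 cis0
set_option maxRecDepth 100000 in
theorem cws1 : chkWord 3510 ts_1 TL ws1 = true := by decide +kernel
theorem rs1 : Rp 3510 ts_1 (ψ s1) := by
  have h := Rp_word rl cws1
  rwa [← psi_word] at h
set_option maxRecDepth 100000 in
theorem cis1 : allN (fun i => Nat.beq (a12 tS_1 (a12 ts_1 i)) i) 3510 = true := by decide +kernel
theorem rS1 : Rp 3510 tS_1 (ψ s1⁻¹) := by
  rw [map_inv]
  exact Rp_inv rs1 cis1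
set_option maxRecDepth 100000 in
theorem cws2 : chkWord 3510 ts_2 TL ws2 = true := by decide +kernel
theorem rs2 : Rp 3510 ts_2 (ψ s2) := by
  have h := Rp_word rl cws2
  rwa [← psi_word] at h
set_option maxRecDepth 100000 in
theorem cis2 : allN (fun i => Nat.beq (a12 tS_2 (a12 ts_2 i)) i) 3510 = true := by decide +kernel
theorem rS2 : Rp 3510 tS_2 (ψ s2⁻¹) := by
  rw [map_inv]
  exact Rp_inv rs2 cis2
set_option maxRecDepth 100000 in
theorem cws3 : chkWord 3510 ts_3 TL ws3 = true := by decide +kernel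
theorem rs3 : Rp 3510 ts_3 (ψ s3) := by
  have h := Rp_word rl cws3
  rwa [← psi_word] at h
set_option maxRecDepth 100000 in
theorem cis3 : allN (fun i => Nat.beq (a12 tS_3 (a12 ts_3 i)) i) 3510 = true := by decide +kernel
theorem rS3 : Rp 3510 tS_3 (ψ s3⁻¹) := by
  rw [map_inv]
  exact Rp_inv rs3 cis3
/-- letters -/
inductive Ls | s0 | S0 | s1 | S1 | s2 | S2 | s3 | S3
/-- elements -/
noncomputable def els : Ls → G
  | .s0 => s0
  | .S0 => s0⁻¹
  | .s1 => s1
  | .S1 => s1⁻¹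
  | .s2 => s2
  | .S2 => s2⁻¹
  | .s3 => s3
  | .S3 => s3⁻¹
/-- tables -/
noncomputable def TS : Ls → ℕ
  | .s0 => ts_0
  | .S0 => tS_0
  | .s1 => ts_1
  | .S1 => tS_1
  | .s2 => ts_2
  | .S2 => tS_2
  | .s3 => ts_3
  | .S3 => tS_3
theorem rls (a : Ls) : Rp 3510 (TS a) (ψ (els a)) := by
  cases a
  exacts [rs0, rS0, rs1, rS1, rs2, rS2, rs3, rS3]

/-- word -/
def wx : List LA := [.d, .e, .g, .h, .i, .f, .c, .b]
/-- word -/
def wy : List Ls := [.S2, .S2, .s3, .S0, .s1, .s0, .s3, .S1, .s3, .s0, .s2, .s3, .s1, .s1, .s0, .s0]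
/-- word -/
def wt : List Ls := [.S2, .s0, .s1, .s1, .S3, .S1, .s2, .S0, .S2, .S0, .s2, .S0, .s2, .s2, .s1, .S0]
/-- word -/
def wa : List Ls := [.S1, .S3, .S2, .S3, .s0, .S2, .s1, .s1, .s2, .s3, .S0, .s1, .s1, .S2, .S2, .s0, .s1]
/-- word -/
def wb : List Ls := [.s0, .S1, .S1, .s2, .s3, .s0, .s2, .S1, .S2, .S3, .s0, .s3, .s2, .S1, .S3, .s1, .S0]
/-- word -/
def wc : List Ls := [.s0, .S3, .S1, .S1, .s0, .s0, .S2, .S1, .s2, .S0, .s1, .s0, .S1, .S2, .s3, .s1, .S0]
/-- element of order 13 -/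
noncomputable def x : G := (wx.map gP).prod
/-- element of order 6 -/
noncomputable def y : G := (wy.map els).prod
/-- third generator -/
noncomputable def t : G := (wt.map els).prod
/-- element commuting with `y` -/
noncomputable def a : G := (wa.map els).prod
/-- element commuting with `y` -/
noncomputable def b : G := (wb.map els).prod
/-- element commuting with `y` -/
noncomputable def c : G := (wc.map els).prod
set_option maxRecDepth 100000 in
theorem cw_x : chkWord 3510 te_x TL wx = true := by decide +kernel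
theorem r_x : Rp 3510 te_x (ψ x) := by
  have h := Rp_word rl cw_x
  rwa [← psi_word] at h
set_option maxRecDepth 100000 in
theorem cw_y : chkWord 3510 te_y TS wy = true := by decide +kernel
theorem r_y : Rp 3510 te_y (ψ y) := by
  have h := Rp_word rls cw_y
  rwa [← psi_word] at h
set_option maxRecDepth 100000 in
theorem cw_t : chkWord 3510 te_t TS wt = true := by decide +kernel
theorem r_t : Rp 3510 te_t (ψ t) := by
  have h := Rp_word rls cw_t
  rwa [← psi_word] at h
set_option maxRecDepth 100000 in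
theorem cw_a : chkWord 3510 te_a TS wa = true := by decide +kernel
theorem r_a : Rp 3510 te_a (ψ a) := by
  have h := Rp_word rls cw_a
  rwa [← psi_word] at h
set_option maxRecDepth 100000 in
theorem cw_b : chkWord 3510 te_b TS wb = true := by decide +kernel
theorem r_b : Rp 3510 te_b (ψ b) := by
  have h := Rp_word rls cw_b
  rwa [← psi_word] at h
set_option maxRecDepth 100000 in
theorem cw_c : chkWord 3510 te_c TS wc = true := by decide +kernel
theorem r_c : Rp 3510 te_c (ψ c) := by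
  have h := Rp_word rls cw_c
  rwa [← psi_word] at h
set_option maxRecDepth 100000 in
theorem ci_X : allN (fun i => Nat.beq (a12 te_X (a12 te_x i)) i) 3510 = true := by decide +kernel
theorem r_X : Rp 3510 te_X (ψ x⁻¹) := by
  rw [map_inv]
  exact Rp_inv r_x ci_X
set_option maxRecDepth 100000 in
theorem ci_Y : allN (fun i => Nat.beq (a12 te_Y (a12 te_y i)) i) 3510 = true := by decide +kernel
theorem r_Y : Rp 3510 te_Y (ψ y⁻¹) := by
  rw [map_inv]
  exact Rp_inv r_y ci_Y
set_option maxRecDepth 100000 in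
theorem ci_T : allN (fun i => Nat.beq (a12 te_t (a12 te_t i)) i) 3510 = true := by decide +kernel
theorem r_T : Rp 3510 te_t (ψ t⁻¹) := by
  rw [map_inv]
  exact Rp_inv r_t ci_T
/-- elements of the letters -/
noncomputable abbrev el : Lz → G := elz x y t a b c y
/-- tables of the elements -/
noncomputable def TE : Lz → ℕ
  | .x => te_x
  | .X => te_X
  | .y => te_y
  | .Y => te_Y
  | .t => te_t
  | .T => te_t
  | .a => te_a
  | .b => te_b
  | .c => te_c
  | .d => te_y

theorem re (l : Lz) : Rp 3510 (TE l) (ψ (el l)) := by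
  cases l
  exacts [r_x, r_X, r_y, r_Y, r_t, r_T, r_a, r_b, r_c, r_y]

set_option maxRecDepth 100000 in
theorem e_xp : eqWord 3510 TE (List.replicate 13 .x) [] = true := by decide +kernel
set_option maxRecDepth 100000 in
theorem e_yq : eqWord 3510 TE (List.replicate 6 .y) [] = true := by decide +kernel
set_option maxRecDepth 100000 in
theorem e_yx : eqWord 3510 TE [.y, .x] (List.replicate 4 .x ++ [.y]) = true := by decide +kernel
set_option maxRecDepth 100000 in
theorem e_ty : eqWord 3510 TE [.t, .y] (List.replicate 5 .y ++ [.t]) = true := by decide +kernel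
set_option maxRecDepth 100000 in
theorem e_ay : eqWord 3510 TE [.a, .y] [.y, .a] = true := by decide +kernel
set_option maxRecDepth 100000 in
theorem e_by : eqWord 3510 TE [.b, .y] [.y, .b] = true := by decide +kernel
set_option maxRecDepth 100000 in
theorem e_cy : eqWord 3510 TE [.c, .y] [.y, .c] = true := by decide +kernel
set_option maxRecDepth 100000 in
theorem n_x : Nat.beq (evw TE [.x] 0) (evw TE [] 0) = false := by decide +kernel
set_option maxRecDepth 100000 in
theorem n_yx : Nat.beq (evw TE [.y, .x] 0) (evw TE [.x, .y] 0) = false := by decide +kernel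

theorem x_pow : x ^ 13 = 1 := by
  have h := group_eq ψ_inj re e_xp
  simp only [List.map_replicate, List.prod_replicate, List.map_nil, List.prod_nil, el, elz] at h
  exact h

theorem y_pow : y ^ 6 = 1 := by
  have h := group_eq ψ_inj re e_yq
  simp only [List.map_replicate, List.prod_replicate, List.map_nil, List.prod_nil, el, elz] at h
  exact h

theorem y_x : y * x * y⁻¹ = x ^ 4 := by
  have h := group_eq ψ_inj re e_yx
  simp only [List.map_append, List.map_cons, List.map_nil, List.map_replicate, List.prod_append,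
    List.prod_replicate, List.prod_cons, List.prod_nil, mul_one, el, elz] at h
  rw [h, mul_inv_cancel_right]

theorem t_y : t * y * t⁻¹ = y ^ 5 := by
  have h := group_eq ψ_inj re e_ty
  simp only [List.map_append, List.map_cons, List.map_nil, List.map_replicate, List.prod_append,
    List.prod_replicate, List.prod_cons, List.prod_nil, mul_one, el, elz] at h
  rw [h, mul_inv_cancel_right]

theorem x_ne : x ≠ 1 := by
  have h := group_ne re (u := [.x]) (v := []) (by norm_num : 0 < 3510) n_x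
  simpa [el, elz] using h

theorem yx_ne : y * x ≠ x * y := by
  have h := group_ne re (u := [.y, .x]) (v := [.x, .y]) (by norm_num : 0 < 3510) n_yx
  simpa [el, elz] using h

instance instPrime : Fact (Nat.Prime 13) := ⟨by norm_num⟩

theorem ord_x : orderOf x = 13 := orderOf_eq_prime x_pow x_ne

theorem card_not : ¬ 13 ^ 2 ∣ Nat.card G := by
  rw [card_inj.1]
  norm_num

theorem a_y : a * y = y * a := by
  have h := group_eq ψ_inj re e_ay
  simp only [List.map_append, List.map_cons, List.map_nil, List.map_replicate, List.prod_append,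
    List.prod_replicate, List.prod_cons, List.prod_nil, mul_one, el, elz] at h
  exact h

theorem b_y : b * y = y * b := by
  have h := group_eq ψ_inj re e_by
  simp only [List.map_append, List.map_cons, List.map_nil, List.map_replicate, List.prod_append,
    List.prod_replicate, List.prod_cons, List.prod_nil, mul_one, el, elz] at h
  exact h

theorem c_y : c * y = y * c := by
  have h := group_eq ψ_inj re e_cy
  simp only [List.map_append, List.map_cons, List.map_nil, List.map_replicate, List.prod_append,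
    List.prod_replicate, List.prod_cons, List.prod_nil, mul_one, el, elz] at h
  exact h

set_option maxRecDepth 100000 in
theorem g_a : chkWord 3510 tb_a TE [.y, .x, .t, .x, .t, .x, .t, .x, .t, .x, .t, .x, .t, .x, .t, .x, .t, .x, .t, .Y] = true := by decide +kernel
set_option maxRecDepth 100000 in
theorem g_b : chkWord 3510 tb_b TE [.X, .X, .y, .t, .X, .y, .t, .x, .x, .t, .X, .t, .x, .x, .y, .x, .t, .X, .X, .t, .Y, .X, .t, .x, .x, .t, .Y, .X, .t, .X, .Y, .X] = true := by decide +kernel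
set_option maxRecDepth 100000 in
theorem g_c : chkWord 3510 tb_c TE [.y, .x, .t, .x, .y, .t, .X, .X, .t, .x, .t, .X, .X, .y, .X, .t, .x, .x, .t, .Y, .x, .t, .X, .X, .t, .Y, .x, .t, .x, .Y, .X] = true := by decide +kernel
set_option maxRecDepth 100000 in
theorem g_d : chkWord 3510 tb_d TE [.x, .x, .t, .X, .t, .X, .t, .x, .t, .X, .t, .X, .t, .x, .t, .X, .t, .X, .t, .x, .t, .X, .t, .X, .t, .x, .t, .X, .t, .X, .t, .X] = true := by decide +kernel
set_option maxRecDepth 100000 in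
theorem g_e : chkWord 3510 tb_e TE [.y, .t, .X, .t, .X, .t, .X, .Y, .X, .t, .X, .t, .X, .t, .X, .t, .X, .t, .X, .t, .X, .t, .X, .t, .X, .t, .y, .x, .t, .x, .t, .x, .t, .Y] = true := by decide +kernel
set_option maxRecDepth 100000 in
theorem g_f : chkWord 3510 tb_f TE [.X, .Y, .x, .t, .X, .y, .t, .X, .t, .x, .t, .x, .y, .t, .X, .t, .x, .t, .y, .x, .t, .X, .t, .Y, .x, .t, .x, .t, .X, .t, .Y, .X, .t, .X, .X, .y] = true := by decide +kernel
set_option maxRecDepth 100000 in
theorem g_g : chkWord 3510 tb_g TE [.x, .y, .x, .t, .X, .y, .t, .X, .t, .x, .t, .x, .y, .t, .X, .t, .x, .t, .y, .x, .t, .X, .t, .Y, .x, .t, .x, .t, .X, .t, .Y, .X, .t, .Y, .x] = true := by decide +kernel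
set_option maxRecDepth 100000 in
theorem g_h : chkWord 3510 tb_h TE [.x, .x, .y, .x, .t, .x, .t, .X, .t, .x, .Y, .t, .X, .t, .x, .x, .t, .Y, .x, .x, .t, .X, .t, .y, .x, .t, .X, .t, .x, .t, .x, .Y, .x] = true := by decide +kernel
set_option maxRecDepth 100000 in
theorem g_i : chkWord 3510 tb_i TE [.X, .X, .y, .X, .t, .x, .t, .X, .t, .x, .Y, .t, .X, .t, .x, .x, .t, .Y, .x, .x, .t, .X, .t, .y, .x, .t, .X, .t, .x, .t, .x, .Y] = true := by decide +kernel

theorem gen_xyt : Subgroup.closure ({x, y, t} : Set G) = ⊤ := by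
  rw [eq_top_iff, ← genP, Subgroup.closure_le]
  rintro _ ⟨l, rfl⟩
  cases l
  · rw [SetLike.mem_coe, group_word ψ_inj re (rl .a) g_a]
    exact wordz_mem _ (by decide)
  · rw [SetLike.mem_coe, group_word ψ_inj re (rl .b) g_b]
    exact wordz_mem _ (by decide)
  · rw [SetLike.mem_coe, group_word ψ_inj re (rl .c) g_c]
    exact wordz_mem _ (by decide)
  · rw [SetLike.mem_coe, group_word ψ_inj re (rl .d) g_d]
    exact wordz_mem _ (by decide)
  · rw [SetLike.mem_coe, group_word ψ_inj re (rl .e) g_e]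
    exact wordz_mem _ (by decide)
  · rw [SetLike.mem_coe, group_word ψ_inj re (rl .f) g_f]
    exact wordz_mem _ (by decide)
  · rw [SetLike.mem_coe, group_word ψ_inj re (rl .g) g_g]
    exact wordz_mem _ (by decide)
  · rw [SetLike.mem_coe, group_word ψ_inj re (rl .h) g_h]
    exact wordz_mem _ (by decide)
  · rw [SetLike.mem_coe, group_word ψ_inj re (rl .i) g_i]
    exact wordz_mem _ (by decide)

set_option maxRecDepth 100000 in
theorem FM_eq : FM = 2 ^ 3510 - 1 := by decide +kernel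

/-- normal form modulo `y` -/
def nf (m : ℕ) : List Lz := List.replicate (m % 2) Lz.a ++ (List.replicate ((m / 2) % 6) Lz.b ++ (List.replicate (((m / 2) / 6) % 3) Lz.c))

/-- the elements of the centralizer of `y` -/
def cw (k : ℕ) : List Lz := List.replicate (k % 6) Lz.y ++ nf (k / 6)

theorem cw_mem {k : ℕ} {l : Lz} (h : l ∈ cw k) : l = Lz.y ∨ l = Lz.a ∨ l = Lz.b ∨ l = Lz.c := by
  simp only [cw, nf, List.mem_append, List.mem_replicate, List.not_mem_nil, or_false] at h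
  tauto


theorem ck_o : chkNet (2 ^ 12) nl_o = true := by decide +kernel
theorem ex_po : ∃ π : Equiv.Perm ℕ, BP (2 ^ 12) (runNet nl_o) π := runNet_BP ck_o
/-- permutation of the network -/
noncomputable def πo : Equiv.Perm ℕ := ex_po.choose
theorem bpo : BP (2 ^ 12) (runNet nl_o) πo := ex_po.choose_spec

set_option maxRecDepth 100000 in
theorem nt_o : chkNetTab (runNet nl_o) 12 3510 th1 = true := by decide +kernel
set_option maxRecDepth 100000 in
theorem lt_o : allN (fun b => Nat.blt (a12 th1 b) 3510) 3510 = true := by decide +kernel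
set_option maxRecDepth 100000 in
theorem pc_o : presChk MT.get 3510 (runNet nl_o) th1 = true := by decide +kernel
theorem po_chk : chkPres (fun _ : Unit => runNet nl_o) [()] 3510 = true := by decide +kernel
theorem tl_o : ∀ b < 3510, a12 th1 b = πo b :=
  netTab bpo (by norm_num) (by norm_num) lt_o
    (pres_of_chk (π := fun _ : Unit => πo) (fun _ => bpo) po_chk () (List.mem_singleton.mpr rfl)) nt_o

set_option maxRecDepth 100000 in
theorem th_chk : allN (fun i => band (Nat.blt (a12 th1 i) 3510)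
    (band (Nat.blt (a12 th2 i) 3510) (band (Nat.beq (a12 th2 (a12 th1 i)) i) (Nat.beq (a12 th1 (a12 th2 i)) i)))) 3510 =
    true := by decide +kernel

/-- the outer automorphism as a permutation -/
noncomputable def th : Equiv.Perm (Fin 3510) := (exists_perm th_chk).choose

theorem r_th : Rp 3510 th1 th := (exists_perm th_chk).choose_spec.1

theorem pres_th : Pres MT.get th :=
  pres_of_net bpo tl_o (fun b => by rw [← r_th b, tl_o b b.2]) pc_o

/-- letters with the outer automorphism -/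
noncomputable def TO : Option Lz → ℕ
  | none => th1
  | some a => TE a

/-- permutations of the letters -/
noncomputable def πO : Option Lz → Equiv.Perm (Fin 3510)
  | none => th
  | some a => ψ (el a)

theorem ro (l : Option Lz) : Rp 3510 (TO l) (πO l) := by
  cases l with
  | none => exact r_th
  | some a => exact re a

set_option maxRecDepth 100000 in
theorem o_x : eqWord 3510 TO [none, some .x] (List.replicate 2 (some .x) ++ [none]) = true := by decide +kernel
set_option maxRecDepth 100000 in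
theorem o_y : eqWord 3510 TO [none, some .y] [some .y, none] = true := by decide +kernel
set_option maxRecDepth 100000 in
theorem o_t : eqWord 3510 TO [none, some .t] ([some .t] ++ ((cw 28).map some ++ [none])) = true := by decide +kernel

theorem conj_x : th * ψ x * th⁻¹ = ψ (x ^ 2) := by
  have h := eqWord_spec ro o_x
  simp only [List.map_append, List.map_cons, List.map_nil, List.map_replicate, List.prod_append,
    List.prod_replicate, List.prod_cons, List.prod_nil, mul_one, πO, el, elz] at h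
  rw [h, mul_inv_cancel_right, map_pow]

theorem conj_y : th * ψ y * th⁻¹ = ψ y := by
  have h := eqWord_spec ro o_y
  simp only [List.map_append, List.map_cons, List.map_nil, List.map_replicate, List.prod_append,
    List.prod_replicate, List.prod_cons, List.prod_nil, mul_one, πO, el, elz] at h
  rw [h, mul_inv_cancel_right]

theorem prod_some (w : List Lz) : ((w.map some).map πO).prod = ψ ((w.map el).prod) := by
  rw [List.map_map, map_list_prod, List.map_map]
  rfl

theorem conj_t : th * ψ t * th⁻¹ = ψ (t * ((cw 28).map el).prod) := by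
  have h := eqWord_spec ro o_t
  rw [List.map_append, List.prod_append, List.map_append, List.prod_append, prod_some] at h
  simp only [List.map_cons, List.map_nil, List.prod_cons, List.prod_nil, mul_one, πO] at h
  have e : el .t = t := rfl
  rw [e] at h
  rw [h, map_mul, mul_assoc, mul_assoc, mul_inv_cancel, mul_one]

theorem ex_TH : ∃ TH : MulAut G, ∀ g, ψ (TH g) = th * ψ g * th⁻¹ := by
  apply H63.OA.exists_aut ψ ψ_inj gen_xyt th
  rintro s (rfl | rfl | rfl)
  · exact ⟨_, conj_x.symm⟩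
  · exact ⟨_, conj_y.symm⟩
  · exact ⟨_, conj_t.symm⟩

/-- the outer automorphism -/
noncomputable def TH : MulAut G := ex_TH.choose

theorem TH_x : TH x = x ^ 2 := ψ_inj ((ex_TH.choose_spec x).trans conj_x)
theorem TH_y : TH y = y := ψ_inj ((ex_TH.choose_spec y).trans conj_y)
theorem TH_t : TH t = t * ((cw 28).map el).prod := ψ_inj ((ex_TH.choose_spec t).trans conj_t)

/-- word of an outer involution -/
def wth : List (Option Lz) := [none, some .t, none, some .t, none, some .t]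
set_option maxRecDepth 100000 in
theorem cth : chkWord 3510 tth TO wth = true := by decide +kernel

/-- an outer involution -/
noncomputable def tht : Equiv.Perm (Fin 3510) := (wth.map πO).prod
theorem r_tht : Rp 3510 tth tht := Rp_word ro cth

set_option maxRecDepth 100000 in
theorem tht_inv : allN (fun i => Nat.beq (a12 tth (a12 tth i)) i) 3510 = true := by decide +kernel
set_option maxRecDepth 100000 in
theorem tht_cnt : cntA (fun i => Nat.beq (a12 tth i) i) 3510 0 = 64 := by decide +kernel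

theorem tht_sq : tht * tht = 1 := by
  ext i
  rw [Equiv.Perm.mul_apply, Equiv.Perm.one_apply, ← r_tht, ← r_tht]
  exact Nat.eq_of_beq_eq_true (allN_sound tht_inv i i.2)

theorem sign_tht : Equiv.Perm.sign tht = -1 := sign_neg2 r_tht tht_sq tht_cnt (by norm_num)

theorem sign_one (g : G) : Equiv.Perm.sign (ψ g) = 1 :=
  sign_simple simple (by rw [card_inj.1]; norm_num) (Equiv.Perm.sign.comp ψ) g

theorem sign_word (w : List (Option Lz)) : Equiv.Perm.sign (w.map πO).prod = Equiv.Perm.sign th ^ (w.count none) := by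
  induction w with
  | nil => simp
  | cons l w ih =>
    rw [List.map_cons, List.prod_cons, map_mul, ih]
    cases l with
    | none => rw [List.count_cons_self, pow_succ']; rfl
    | some a =>
      have h1 : Equiv.Perm.sign (πO (some a)) = 1 := sign_one _
      rw [h1, one_mul, List.count_cons_of_ne (by simp)]

theorem sign_th : Equiv.Perm.sign th = -1 := by
  rcases Int.units_eq_one_or (Equiv.Perm.sign th) with h | h
  · exfalso
    have h1 := sign_tht
    rw [tht, sign_word, h, one_pow] at h1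
    exact absurd h1 (by decide)
  · exact h

/-- words of the permutations commuting with `y` -/
def wk (k : ℕ) : List (Option Lz) := List.replicate (k / 216) none ++ (cw (k % 216)).map some

set_option maxRecDepth 100000 in
theorem id_x : idChk MT.get 3510 FM te_x 13 [2405, 2929, 1739] = true := by decide +kernel
set_option maxRecDepth 100000 in
theorem root_x : rootChk MT.get 3510 te_x 13 1739 (maskOf trx.ch) = true := by decide +kernel
set_option maxRecDepth 100000 in
theorem chk_x : trx.chk2 MT.get 3510 FM te_x 13 1 (fun _ b => b) [2405, 2929, 1739] [1739, 2929, 2405] [] = true := by decide +kernel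

theorem C_x (g : G) (hg : g * x = x * g) : g ∈ Subgroup.zpowers x := by
  have h1 : ψ g * ψ x = ψ x * ψ g := by rw [← map_mul, hg, map_mul]
  obtain ⟨i, hi, k, hk, h2⟩ := CT.main2 r_x h1 (pres g) (pres x) FM_eq id_x (fun _ => 1) (fun _ _ _ => rfl)
    (fun _ _ => by rw [one_mul, mul_one]) (fun _ _ => Pres.one _) (bs := [1739, 2929, 2405]) (by decide) root_x chk_x
  rw [← map_pow, ← map_mul] at h2
  have h3 : x ^ i * g = 1 := ψ_inj (h2.trans (map_one ψ).symm)
  have : g = (x ^ i)⁻¹ := (inv_eq_of_mul_eq_one_right h3).symm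
  rw [this]
  exact inv_mem (Subgroup.pow_mem _ (Subgroup.mem_zpowers x) i)

set_option maxRecDepth 100000 in
theorem id_y : idChk MT.get 3510 FM te_y 6 [2264, 2652, 2047, 883, 111, 232] = true := by decide +kernel
set_option maxRecDepth 100000 in
theorem root_y : rootChk MT.get 3510 te_y 6 232 (maskOf tryy.ch) = true := by decide +kernel
set_option maxRecDepth 100000 in
theorem chk_y : tryy.chk2 MT.get 3510 FM te_y 6 432 (fun k => evw TO (wk k)) [2264, 2652, 2047, 883, 111, 232] [232, 111, 883, 2047, 2652, 2264] [] = true := by decide +kernel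

theorem comm_letter {k : ℕ} {l : Lz} (h : l ∈ cw k) : el l * y = y * el l := by
  rcases cw_mem h with rfl | rfl | rfl | rfl
  · rfl
  · exact a_y
  · exact b_y
  · exact c_y

theorem wk_good (k : ℕ) : ((wk k).map πO).prod * ψ y = ψ y * ((wk k).map πO).prod ∧
    Pres MT.get ((wk k).map πO).prod := by
  apply good_prod
  intro l hl
  rw [wk, List.mem_append, List.mem_replicate, List.mem_map] at hl
  rcases hl with ⟨_, rfl⟩ | ⟨a, ha, rfl⟩
  · refine ⟨?_, pres_th⟩
    have h := conj_y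
    rw [mul_inv_eq_iff_eq_mul] at h
    exact h
  · refine ⟨?_, pres _⟩
    have h := comm_letter ha
    show ψ (el a) * ψ y = ψ y * ψ (el a)
    rw [← map_mul, h, map_mul]

theorem cent_y (g : G) (hg : g * y = y * g) : ∃ i < 6, ∃ k < 432, ψ (y ^ i * g) = ((wk k).map πO).prod := by
  have h1 : ψ g * ψ y = ψ y * ψ g := by rw [← map_mul, hg, map_mul]
  obtain ⟨i, hi, k, hk, h2⟩ := CT.main2 r_y h1 (pres g) (pres y) FM_eq id_y (fun k => ((wk k).map πO).prod)
    (fun k _ b => evw_spec ro (wk k) b) (fun k _ => (wk_good k).1) (fun k _ => (wk_good k).2) (bs := [232, 111, 883, 2047, 2652, 2264]) (by decide)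
    root_y chk_y
  refine ⟨i, hi, k, hk, ?_⟩
  rw [map_mul, map_pow]
  exact h2

theorem C_y (g : G) (hg : g * y = y * g) : ∃ k < 216, g = ((cw k).map el).prod := by
  obtain ⟨i, hi, k, hk, h2⟩ := cent_y g hg
  have hs : Equiv.Perm.sign ((wk k).map πO).prod = 1 := by rw [← h2]; exact sign_one _
  rw [sign_word, sign_th, wk, List.count_append, List.count_replicate_self] at hs
  have hc0 : List.count none ((cw (k % 216)).map some) = 0 := by
    apply List.count_eq_zero_of_not_mem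
    simp
  rw [hc0, add_zero] at hs
  have hk' : k / 216 < 2 := Nat.div_lt_of_lt_mul (by omega)
  have hk0 : k / 216 = 0 := by
    rcases Nat.lt_or_ge (k / 216) 1 with h | h
    · omega
    · exfalso
      have : k / 216 = 1 := by omega
      rw [this, pow_one] at hs
      exact absurd hs (by decide)
  have hkl : k < 216 := by omega
  have hw : wk k = (cw k).map some := by
    rw [wk, hk0, List.replicate_zero, List.nil_append, Nat.mod_eq_of_lt hkl]
  rw [hw, prod_some] at h2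
  have h3 := ψ_inj h2
  refine ⟨(k % 6 + (6 - i)) % 6 + 6 * (k / 6), by omega, ?_⟩
  have e1 : ((k % 6 + (6 - i)) % 6 + 6 * (k / 6)) % 6 = (k % 6 + (6 - i)) % 6 := by omega
  have e2 : ((k % 6 + (6 - i)) % 6 + 6 * (k / 6)) / 6 = k / 6 := by omega
  rw [cw, e1, e2]
  rw [cw] at h3
  rw [List.map_append, List.prod_append, List.map_replicate, List.prod_replicate] at h3 ⊢
  have e3 : el Lz.y = y := rfl
  rw [e3] at h3 ⊢
  have hy : ∀ j, y ^ (j % 6) = y ^ j := by
    intro j
    conv_rhs => rw [← Nat.div_add_mod j 6, pow_add, pow_mul, y_pow, one_pow, one_mul]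
  rw [hy, pow_add]
  have e4 : y ^ (k % 6) * y ^ (6 - i) = y ^ (6 - i) * y ^ (k % 6) := by
    rw [← pow_add, ← pow_add, add_comm]
  rw [e4, mul_assoc, ← h3, ← mul_assoc, ← pow_add]
  have e5 : 6 - i + i = 6 := by omega
  rw [e5, y_pow, one_mul]

/-- relations -/
def rw0 : ℕ → List Lz
  | 0 => [.t, .t]
  | 1 => [.X, .y, .y, .t, .X, .y, .y, .t, .X, .y, .y, .t, .X, .y, .y, .t, .X, .y, .y, .t, .X, .y, .y, .t, .X, .y, .y, .t, .X, .y, .y, .t, .X, .y, .y, .t]
  | _ => [.t, .x, .t, .x, .Y, .X, .t, .x, .t, .x, .Y, .X, .t, .x, .t, .x, .Y, .X, .t, .x, .t, .x, .Y, .X]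
set_option maxRecDepth 100000 in
theorem rel_0 : eqWord 3510 TE (rw0 0) [] = true := by decide +kernel
set_option maxRecDepth 100000 in
theorem rel_1 : eqWord 3510 TE (rw0 1) [] = true := by decide +kernel
set_option maxRecDepth 100000 in
theorem rel_2 : eqWord 3510 TE (rw0 2) [] = true := by decide +kernel

theorem rel (i : ℕ) : ((rw0 i).map el).prod = 1 := by
  rcases i with _ | i
  · exact group_eq ψ_inj re rel_0
  rcases i with _ | i
  · exact group_eq ψ_inj re rel_1
  exact group_eq ψ_inj re rel_2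

theorem rel_basic (i : ℕ) : ∀ l ∈ rw0 i, l.basic = true := by
  rcases i with _ | i
  · decide
  rcases i with _ | i
  · decide
  show ∀ l ∈ rw0 2, l.basic = true
  decide

theorem rel_T (i : ℕ) : Lz.T ∉ rw0 i := by
  rcases i with _ | i
  · decide
  rcases i with _ | i
  · decide
  show Lz.T ∉ rw0 2
  decide

/-- relation numbers -/
def rr : Tr := (.nd (.nd (.nd (.nd (.nd (.nd (.nd (.nd (.lf 0) (.lf 1)) (.nd (.lf 0) (.lf 0))) (.nd (.nd (.lf 0) (.lf 1)) (.nd (.lf 0) (.lf 0)))) (.nd (.nd (.nd (.lf 0) (.lf 0)) (.nd (.lf 1) (.lf 1))) (.nd (.nd (.lf 1) (.lf 0)) (.nd (.lf 0) (.lf 0))))) (.nd (.nd (.nd (.nd (.lf 0) (.lf 0)) (.nd (.lf 0) (.lf 0))) (.nd (.nd (.lf 0) (.lf 0)) (.nd (.lf 1) (.lf 0)))) (.nd (.nd (.nd (.lf 1) (.lf 0)) (.nd (.lf 0) (.lf 0))) (.nd (.nd (.lf 0) (.lf 1)) (.nd (.lf 0) (.lf 0)))))) (.nd (.nd (.nd (.nd (.nd (.lf 1) (.lf 0)) (.nd (.lf 1) (.lf 0))) (.nd (.nd (.lf 0) (.lf 2)) (.nd (.lf 0) (.lf 0)))) (.nd (.nd (.nd (.lf 1) (.lf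 0)) (.nd (.lf 0) (.lf 2))) (.nd (.nd (.lf 1) (.lf 1)) (.nd (.lf 1) (.lf 0))))) (.nd (.nd (.nd (.nd (.lf 0) (.lf 1)) (.nd (.lf 0) (.lf 1))) (.nd (.nd (.lf 1) (.lf 0)) (.nd (.lf 0) (.lf 0)))) (.nd (.nd (.nd (.lf 1) (.lf 1)) (.nd (.lf 1) (.lf 0))) (.nd (.nd (.lf 0) (.lf 1)) (.nd (.lf 0) (.lf 0))))))) (.nd (.nd (.nd (.nd (.nd (.nd (.lf 1) (.lf 1)) (.nd (.lf 1) (.lf 0))) (.nd (.nd (.lf 0) (.lf 1)) (.nd (.lf 0) (.lf 0)))) (.nd (.nd (.nd (.lf 2) (.lf 0)) (.nd (.lf 2) (.lf 1))) (.nd (.nd (.lf 1) (.lf 0)) (.nd (.lf 1) (.lf 0))))) (.nd (.nd (.nd (.nd (.lf 0) (.lf 1)) (.nd (.lf 0) (.lf 0))) (.nd (.nd (.lf 1) (.lf 0)) (.nd (.lf 1) (.lf 0)))) (.nd (.nd (.nd (.lf 1) (.lf 0)) (.nd (.lf 1) (.lf 0))) (.nd (.nd (.lf 0) (.lf 1)) (.nd (.lf 0) (.lf 0)))))) (.nd (.nd (.nd (.nd (.nd (.lf 0) (.lf 0)) (.nd (.lf 1) (.lf 0))) (.nd (.nd (.lf 0) (.lf 1)) (.nd (.lf 1) (.lf 0)))) (.nd (.nd (.nd (.lf 1) (.lf 0)) (.nd (.lf 0) (.lf 1))) (.nd (.nd (.lf 0) (.lf 1)) (.nd (.lf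 1) (.lf 0))))) (.nd (.nd (.nd (.nd (.lf 0) (.lf 2)) (.nd (.lf 1) (.lf 1))) (.nd (.nd (.lf 1) (.lf 0)) (.nd (.lf 0) (.lf 0)))) (.nd (.nd (.nd (.lf 0) (.lf 1)) (.nd (.lf 1) (.lf 0))) (.nd (.nd (.lf 0) (.lf 1)) (.nd (.lf 1) (.lf 0)))))))) (.nd (.nd (.nd (.nd (.nd (.nd (.nd (.lf 1) (.lf 1)) (.nd (.lf 0) (.lf 0))) (.nd (.nd (.lf 0) (.lf 1)) (.nd (.lf 0) (.lf 0)))) (.nd (.nd (.nd (.lf 0) (.lf 0)) (.nd (.lf 1) (.lf 1))) (.nd (.nd (.lf 1) (.lf 0)) (.nd (.lf 0) (.lf 0))))) (.nd (.nd (.nd (.nd (.lf 0) (.lf 0)) (.nd (.lf 0) (.lf 0))) (.nd (.nd (.lf 0) (.lf 0)) (.nd (.lf 1) (.lf 0)))) (.nd (.nd (.nd (.lf 1) (.lf 0)) (.nd (.lf 0) (.lf 0))) (.nd (.nd (.lf 0) (.lf 1)) (.nd (.lf 0) (.lf 0)))))) (.nd (.nd (.nd (.nd (.nd (.lf 1) (.lf 0)) (.nd (.lf 1) (.lf 0))) (.nd (.nd (.lf 0) (.lf 1)) (.nd (.lf 0) (.lf 0)))) (.nd (.nd (.nd (.lf 1) (.lf 0)) (.nd (.lf 0) (.lf 1))) (.nd (.nd (.lf 1) (.lf 2)) (.nd (.lf 1) (.lf 0))))) (.nd (.nd (.nd (.nd (.lf 0) (.lf 1)) (.nd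 (.lf 0) (.lf 1))) (.nd (.nd (.lf 1) (.lf 0)) (.nd (.lf 0) (.lf 0)))) (.nd (.nd (.nd (.lf 1) (.lf 1)) (.nd (.lf 1) (.lf 0))) (.nd (.nd (.lf 0) (.lf 1)) (.nd (.lf 0) (.lf 0))))))) (.nd (.nd (.nd (.nd (.nd (.nd (.lf 1) (.lf 1)) (.nd (.lf 1) (.lf 0))) (.nd (.nd (.lf 0) (.lf 1)) (.nd (.lf 0) (.lf 0)))) (.nd (.nd (.nd (.lf 1) (.lf 0)) (.nd (.lf 1) (.lf 1))) (.nd (.nd (.lf 1) (.lf 0)) (.nd (.lf 2) (.lf 0))))) (.nd (.nd (.nd (.nd (.lf 0) (.lf 1)) (.nd (.lf 0) (.lf 0))) (.nd (.nd (.lf 1) (.lf 0)) (.nd (.lf 1) (.lf 0)))) (.nd (.nd (.nd (.lf 1) (.lf 0)) (.nd (.lf 1) (.lf 0))) (.nd (.nd (.lf 0) (.lf 1)) (.nd (.lf 0) (.lf 0)))))) (.nd (.nd (.nd (.nd (.nd (.lf 0) (.lf 0)) (.nd (.lf 1) (.lf 0))) (.nd (.nd (.lf 0) (.lf 1)) (.nd (.lf 1) (.lf 0)))) (.nd (.nd (.nd (.lf 1) (.lf 0)) (.nd (.lf 0) (.lf 1))) (.nd (.nd (.lf 0) (.lf 1)) (.nd (.lf 1) (.lf 0))))) (.nd (.nd (.nd (.nd (.lf 0) (.lf 1)) (.nd (.lf 1) (.lf 2))) (.nd (.nd (.lf 1) (.lf 0)) (.nd (.lf 0) (.lf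 0)))) (.nd (.nd (.nd (.lf 0) (.lf 1)) (.nd (.lf 1) (.lf 0))) (.nd (.nd (.lf 0) (.lf 2)) (.nd (.lf 1) (.lf 0)))))))))
/-- points -/
def pp : Tr := (.nd (.nd (.nd (.nd (.nd (.nd (.nd (.nd (.lf 0) (.lf 0)) (.nd (.lf 0) (.lf 0))) (.nd (.nd (.lf 0) (.lf 0)) (.nd (.lf 0) (.lf 0)))) (.nd (.nd (.nd (.lf 0) (.lf 0)) (.nd (.lf 0) (.lf 0))) (.nd (.nd (.lf 0) (.lf 0)) (.nd (.lf 0) (.lf 0))))) (.nd (.nd (.nd (.nd (.lf 0) (.lf 0)) (.nd (.lf 0) (.lf 0))) (.nd (.nd (.lf 0) (.lf 0)) (.nd (.lf 0) (.lf 0)))) (.nd (.nd (.nd (.lf 0) (.lf 0)) (.nd (.lf 0) (.lf 0))) (.nd (.nd (.lf 0) (.lf 0)) (.nd (.lf 0) (.lf 0)))))) (.nd (.nd (.nd (.nd (.nd (.lf 0) (.lf 0)) (.nd (.lf 0) (.lf 0))) (.nd (.nd (.lf 0) (.lf 0)) (.nd (.lf 0) (.lf 0)))) (.nd (.nd (.nd (.lf 0) (.lf 0)) (.nd (.lf 0) (.lf 0))) (.nd (.nd (.lf 0) (.lf 0)) (.nd (.lf 0) (.lf 0))))) (.nd (.nd (.nd (.nd (.lf 0) (.lf 0)) (.nd (.lf 0) (.lf 0))) (.nd (.nd (.lf 0) (.lf 0)) (.nd (.lf 0) (.lf 0)))) (.nd (.nd (.nd (.lf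 0) (.lf 1)) (.nd (.lf 0) (.lf 0))) (.nd (.nd (.lf 0) (.lf 0)) (.nd (.lf 0) (.lf 0))))))) (.nd (.nd (.nd (.nd (.nd (.nd (.lf 1) (.lf 0)) (.nd (.lf 0) (.lf 0))) (.nd (.nd (.lf 0) (.lf 0)) (.nd (.lf 0) (.lf 0)))) (.nd (.nd (.nd (.lf 0) (.lf 0)) (.nd (.lf 0) (.lf 0))) (.nd (.nd (.lf 0) (.lf 0)) (.nd (.lf 0) (.lf 0))))) (.nd (.nd (.nd (.nd (.lf 0) (.lf 0)) (.nd (.lf 0) (.lf 0))) (.nd (.nd (.lf 0) (.lf 0)) (.nd (.lf 0) (.lf 0)))) (.nd (.nd (.nd (.lf 0) (.lf 0)) (.nd (.lf 0) (.lf 0))) (.nd (.nd (.lf 0) (.lf 0)) (.nd (.lf 0) (.lf 0)))))) (.nd (.nd (.nd (.nd (.nd (.lf 0) (.lf 0)) (.nd (.lf 0) (.lf 0))) (.nd (.nd (.lf 0) (.lf 0)) (.nd (.lf 0) (.lf 0)))) (.nd (.nd (.nd (.lf 0) (.lf 0)) (.nd (.lf 0) (.lf 0))) (.nd (.nd (.lf 0) (.lf 0)) (.nd (.lf 0) (.lf 0))))) (.nd (.nd (.nd (.nd (.lf 0) (.lf 0)) (.nd (.lf 0) (.lf 0))) (.nd (.nd (.lf 0) (.lf 0)) (.nd (.lf 0) (.lf 0)))) (.nd (.nd (.nd (.lf 0) (.lf 0)) (.nd (.lf 0) (.lf 0))) (.nd (.nd (.lf 0) (.lf 0)) (.nd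 (.lf 0) (.lf 0)))))))) (.nd (.nd (.nd (.nd (.nd (.nd (.nd (.lf 0) (.lf 0)) (.nd (.lf 0) (.lf 0))) (.nd (.nd (.lf 0) (.lf 0)) (.nd (.lf 0) (.lf 0)))) (.nd (.nd (.nd (.lf 0) (.lf 0)) (.nd (.lf 0) (.lf 0))) (.nd (.nd (.lf 0) (.lf 0)) (.nd (.lf 0) (.lf 0))))) (.nd (.nd (.nd (.nd (.lf 0) (.lf 0)) (.nd (.lf 0) (.lf 0))) (.nd (.nd (.lf 0) (.lf 0)) (.nd (.lf 0) (.lf 0)))) (.nd (.nd (.nd (.lf 0) (.lf 0)) (.nd (.lf 0) (.lf 0))) (.nd (.nd (.lf 0) (.lf 0)) (.nd (.lf 0) (.lf 0)))))) (.nd (.nd (.nd (.nd (.nd (.lf 0) (.lf 0)) (.nd (.lf 0) (.lf 0))) (.nd (.nd (.lf 0) (.lf 0)) (.nd (.lf 0) (.lf 0)))) (.nd (.nd (.nd (.lf 0) (.lf 0)) (.nd (.lf 0) (.lf 0))) (.nd (.nd (.lf 0) (.lf 0)) (.nd (.lf 0) (.lf 0))))) (.nd (.nd (.nd (.nd (.lf 0) (.lf 0)) (.nd (.lf 0) (.lf 0))) (.nd (.nd (.lf 0) (.lf 0)) (.nd (.lf 0) (.lf 0)))) (.nd (.nd (.nd (.lf 0) (.lf 0)) (.nd (.lf 0) (.lf 0))) (.nd (.nd (.lf 0) (.lf 0)) (.nd (.lf 0) (.lf 0))))))) (.nd (.nd (.nd (.nd (.nd (.nd (.lf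 0) (.lf 0)) (.nd (.lf 0) (.lf 0))) (.nd (.nd (.lf 0) (.lf 0)) (.nd (.lf 0) (.lf 0)))) (.nd (.nd (.nd (.lf 0) (.lf 0)) (.nd (.lf 0) (.lf 0))) (.nd (.nd (.lf 0) (.lf 0)) (.nd (.lf 0) (.lf 0))))) (.nd (.nd (.nd (.nd (.lf 0) (.lf 0)) (.nd (.lf 0) (.lf 0))) (.nd (.nd (.lf 0) (.lf 0)) (.nd (.lf 0) (.lf 0)))) (.nd (.nd (.nd (.lf 0) (.lf 0)) (.nd (.lf 0) (.lf 0))) (.nd (.nd (.lf 0) (.lf 0)) (.nd (.lf 0) (.lf 0)))))) (.nd (.nd (.nd (.nd (.nd (.lf 0) (.lf 0)) (.nd (.lf 0) (.lf 0))) (.nd (.nd (.lf 0) (.lf 0)) (.nd (.lf 0) (.lf 0)))) (.nd (.nd (.nd (.lf 0) (.lf 0)) (.nd (.lf 0) (.lf 0))) (.nd (.nd (.lf 0) (.lf 0)) (.nd (.lf 0) (.lf 0))))) (.nd (.nd (.nd (.nd (.lf 0) (.lf 0)) (.nd (.lf 0) (.lf 0))) (.nd (.nd (.lf 0) (.lf 0)) (.nd (.lf 0) (.lf 0)))) (.nd (.nd (.nd (.lf 0) (.lf 0)) (.nd (.lf 0) (.lf 0))) (.nd (.nd (.lf 0) (.lf 0)) (.nd (.lf 0) (.lf 0)))))))))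

set_option maxRecDepth 100000 in
theorem kill : allN (fun m => Bool.rec (motive := fun _ => Bool)
    (band (Nat.blt (pp.get m) 3510) (Bool.not (Nat.beq (evw TE (subz (cw m) (rw0 (rr.get m))) (pp.get m))
      (pp.get m)))) true (Nat.beq m 0)) 216 = true := by decide +kernel

theorem key (β : MulAut G) (hx : β x = x) (hy : β y = y) : β t = t := by
  obtain ⟨k, hk, hc⟩ := C_y _ (H63.OA.t_coset hy t_y)
  have ht : β t = t * ((cw k).map el).prod := by rw [← hc]; group
  by_cases hk0 : k = 0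
  · rw [ht, hk0]
    have : ((cw 0).map el).prod = 1 := by simp [cw, nf]
    rw [this, mul_one]
  exfalso
  have h1 := allN_sound kill k hk
  have h2 : Nat.beq k 0 = false := by
    cases h : Nat.beq k 0 with
    | false => rfl
    | true => exact absurd (Nat.eq_of_beq_eq_true h) hk0
  rw [h2] at h1
  have h3 : band (Nat.blt (pp.get k) 3510) (Bool.not (Nat.beq (evw TE (subz (cw k) (rw0 (rr.get k)))
    (pp.get k)) (pp.get k))) = true := h1
  rw [band_iff] at h3
  have hb : pp.get k < 3510 := Nat.le_of_ble_eq_true h3.1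
  have h4 : Nat.beq (evw TE (subz (cw k) (rw0 (rr.get k))) (pp.get k))
      (evw TE [] (pp.get k)) = false := by
    have : evw TE [] (pp.get k) = pp.get k := rfl
    rw [this]
    cases h : Nat.beq (evw TE (subz (cw k) (rw0 (rr.get k))) (pp.get k)) (pp.get k) with
    | false => rfl
    | true => rw [h] at h3; exact absurd h3.2 (by decide)
  refine group_ne re hb h4 ?_
  rw [List.map_nil, List.prod_nil, el, subz_prod _ _ (rel_T _), ← el, ← ht]
  exact rel_mapz hx hy (rel_basic _) (rel _)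

theorem S_ext {α β : MulAut G} (hx : α x = β x) (hy : α y = β y) (ht : α t = β t) : α = β := by
  apply H63.OA.aut_ext gen_xyt
  rintro s (rfl | rfl | rfl)
  · exact hx
  · exact hy
  · exact ht

theorem one_of (β : MulAut G) (h1 : β x = x) (h2 : β y = y) : β = 1 := S_ext h1 h2 (key β h1 h2)


/-- exclusion of inner automorphisms -/
noncomputable def innChk (m : ℕ) : Bool :=
  anyN (fun b => Bool.not (Nat.beq (evw TE (cw m ++ [.x]) b) (evw TE (List.replicate 2 .x ++ cw m) b))) 50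

set_option maxRecDepth 100000 in
theorem inn_chk : allN innChk 216 = true := by decide +kernel

theorem TH_not_inn : TH ∉ Cfsg.Inn G := by
  rintro ⟨g, hg⟩
  have hgx : g * x * g⁻¹ = x ^ 2 := by rw [← TH_x, ← hg]; rfl
  have hgy : g * y * g⁻¹ = y := by
    have := TH_y
    rw [← hg] at this
    exact this
  obtain ⟨k, hk, rfl⟩ := C_y g (by
    calc g * y = (g * y * g⁻¹) * g := by group
      _ = y * g := by rw [hgy])
  have h1 := allN_sound inn_chk k hk
  have a1 := mul_inv_eq_iff_eq_mul.mp hgx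
  obtain ⟨b, hb, h3⟩ := anyN_sound h1
  refine group_ne re (b := b) (by omega) (Bool.not_eq_true' _ ▸ h3) ?_
  simp only [List.map_append, List.map_cons, List.map_nil, List.map_replicate, List.prod_append,
    List.prod_replicate, List.prod_cons, List.prod_nil, mul_one]
  exact a1


theorem K_chk : ∀ j, 0 < j → j < 13 → ∃ m < 13, j * 4 ^ m % 13 ∈ ([1, 2] : List ℕ) := by
  intro j h0 h1
  interval_cases j <;> decide


theorem upper (α : MulAut G) : ∃ g : G, MulAut.conj g * α = 1 ∨ MulAut.conj g * α = TH := by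
  obtain ⟨g, κ, hκ, h1, h2⟩ := H63.OA.adjust2 ord_x card_not y_x yx_ne C_x K_chk α
  refine ⟨g, ?_⟩
  simp only [List.mem_cons, List.not_mem_nil, or_false] at hκ
  rcases hκ with hκ | hκ
  · left
    rw [hκ, pow_one] at h1
    exact one_of _ h1 h2
  · right
    rw [hκ] at h1
    have h3 : TH⁻¹ * (MulAut.conj g * α) = 1 := by
      apply one_of
      · rw [MulAut.mul_apply, h1, ← TH_x]
        exact MulAut.inv_apply_self _ TH x
      · rw [MulAut.mul_apply, h2]
        have : TH⁻¹ (TH y) = y := MulAut.inv_apply_self _ TH y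
        rwa [TH_y] at this
    exact (inv_mul_eq_one.mp h3).symm

theorem card_out : Nat.card (Cfsg.Out Cfsg.Spor.Fi22) = 2 := H63.OA.card_out_two TH upper TH_not_inn

end H63.OutFi22
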