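import Cfsg.Agent.Lib.H63.OutSuzData
import Cfsg.Agent.Lib.H63.OutSign
import Cfsg.Agent.Lib.H35.SuzMain

set_option autoImplicit false
set_option linter.all false
set_option maxRecDepth 10000

/-! The outer automorphism group of the sporadic group Suz has order 2 (partly generated). -/

namespace H63.OutSuz

open H63.PC H63.OT H35.Net H35.SuzMain Cfsg.Spor
open H35.TC hiding band
open H35 (NSuz.net)

/-- the group -/
abbrev G := Cfsg.Spor.Suz

instance instFin : Finite G := fin

theorem ex_psi : ∃ ψ : G →* Equiv.Perm (Fin 1782), Function.Injective ψ ∧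
    ∀ g (i : Fin 1782), (ψ g i : ℕ) = φ g i :=
  exists_psi φ card_inj.2 1782 (pres_all hφ genP H35.NSuz.pres) (fix_all hφ genP H35.NSuz.fix_hi)

/-- the action on 1782 points -/
noncomputable def ψ : G →* Equiv.Perm (Fin 1782) := ex_psi.choose

theorem ψ_inj : Function.Injective ψ := ex_psi.choose_spec.1

theorem ψ_val (g : G) (i : Fin 1782) : (ψ g i : ℕ) = φ g i := ex_psi.choose_spec.2 g i

/-- tables of the letters -/
def TL : LA → ℕ
  | .a => tb_a
  | .b => tb_b
  | .c => tb_c
  | .d => tb_d
  | .e => tb_e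
  | .f => tb_f
  | .g => tb_g

set_option maxRecDepth 100000 in
theorem nt_a : chkNetTab (H35.NSuz.net .a) 11 1782 tb_a = true := by decide +kernel
set_option maxRecDepth 100000 in
theorem lt_a : allN (fun b => Nat.blt (a12 tb_a b) 1782) 1782 = true := by decide +kernel
set_option maxRecDepth 100000 in
theorem pc_a : presChk MT.get 1782 (H35.NSuz.net .a) tb_a = true := by decide +kernel
set_option maxRecDepth 100000 in
theorem nt_b : chkNetTab (H35.NSuz.net .b) 11 1782 tb_b = true := by decide +kernel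
set_option maxRecDepth 100000 in
theorem lt_b : allN (fun b => Nat.blt (a12 tb_b b) 1782) 1782 = true := by decide +kernel
set_option maxRecDepth 100000 in
theorem pc_b : presChk MT.get 1782 (H35.NSuz.net .b) tb_b = true := by decide +kernel
set_option maxRecDepth 100000 in
theorem nt_c : chkNetTab (H35.NSuz.net .c) 11 1782 tb_c = true := by decide +kernel
set_option maxRecDepth 100000 in
theorem lt_c : allN (fun b => Nat.blt (a12 tb_c b) 1782) 1782 = true := by decide +kernel
set_option maxRecDepth 100000 in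
theorem pc_c : presChk MT.get 1782 (H35.NSuz.net .c) tb_c = true := by decide +kernel
set_option maxRecDepth 100000 in
theorem nt_d : chkNetTab (H35.NSuz.net .d) 11 1782 tb_d = true := by decide +kernel
set_option maxRecDepth 100000 in
theorem lt_d : allN (fun b => Nat.blt (a12 tb_d b) 1782) 1782 = true := by decide +kernel
set_option maxRecDepth 100000 in
theorem pc_d : presChk MT.get 1782 (H35.NSuz.net .d) tb_d = true := by decide +kernel
set_option maxRecDepth 100000 in
theorem nt_e : chkNetTab (H35.NSuz.net .e) 11 1782 tb_e = true := by decide +kernel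
set_option maxRecDepth 100000 in
theorem lt_e : allN (fun b => Nat.blt (a12 tb_e b) 1782) 1782 = true := by decide +kernel
set_option maxRecDepth 100000 in
theorem pc_e : presChk MT.get 1782 (H35.NSuz.net .e) tb_e = true := by decide +kernel
set_option maxRecDepth 100000 in
theorem nt_f : chkNetTab (H35.NSuz.net .f) 11 1782 tb_f = true := by decide +kernel
set_option maxRecDepth 100000 in
theorem lt_f : allN (fun b => Nat.blt (a12 tb_f b) 1782) 1782 = true := by decide +kernel
set_option maxRecDepth 100000 in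
theorem pc_f : presChk MT.get 1782 (H35.NSuz.net .f) tb_f = true := by decide +kernel
set_option maxRecDepth 100000 in
theorem nt_g : chkNetTab (H35.NSuz.net .g) 11 1782 tb_g = true := by decide +kernel
set_option maxRecDepth 100000 in
theorem lt_g : allN (fun b => Nat.blt (a12 tb_g b) 1782) 1782 = true := by decide +kernel
set_option maxRecDepth 100000 in
theorem pc_g : presChk MT.get 1782 (H35.NSuz.net .g) tb_g = true := by decide +kernel

theorem tl_val : ∀ a : LA, ∀ b < 1782, a12 (TL a) b = H35.NSuz.π a b := by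
  intro a
  cases a
  · exact netTab (H35.NSuz.hbp .a) (by norm_num) (by norm_num) lt_a (H35.NSuz.pres .a) nt_a
  · exact netTab (H35.NSuz.hbp .b) (by norm_num) (by norm_num) lt_b (H35.NSuz.pres .b) nt_b
  · exact netTab (H35.NSuz.hbp .c) (by norm_num) (by norm_num) lt_c (H35.NSuz.pres .c) nt_c
  · exact netTab (H35.NSuz.hbp .d) (by norm_num) (by norm_num) lt_d (H35.NSuz.pres .d) nt_d
  · exact netTab (H35.NSuz.hbp .e) (by norm_num) (by norm_num) lt_e (H35.NSuz.pres .e) nt_e
  · exact netTab (H35.NSuz.hbp .f) (by norm_num) (by norm_num) lt_f (H35.NSuz.pres .f) nt_f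
  · exact netTab (H35.NSuz.hbp .g) (by norm_num) (by norm_num) lt_g (H35.NSuz.pres .g) nt_g

theorem psi_letter (a : LA) (b : Fin 1782) : (ψ (gP a) b : ℕ) = H35.NSuz.π a b := by rw [ψ_val, hφ]

theorem rl (a : LA) : Rp 1782 (TL a) (ψ (gP a)) := fun i => by rw [tl_val a i i.2, psi_letter]

theorem pres_letter (a : LA) : Pres MT.get (ψ (gP a)) := by
  cases a
  · exact pres_of_net (H35.NSuz.hbp .a) (tl_val .a) (psi_letter .a) pc_a
  · exact pres_of_net (H35.NSuz.hbp .b) (tl_val .b) (psi_letter .b) pc_b
  · exact pres_of_net (H35.NSuz.hbp .c) (tl_val .c) (psi_letter .c) pc_c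
  · exact pres_of_net (H35.NSuz.hbp .d) (tl_val .d) (psi_letter .d) pc_d
  · exact pres_of_net (H35.NSuz.hbp .e) (tl_val .e) (psi_letter .e) pc_e
  · exact pres_of_net (H35.NSuz.hbp .f) (tl_val .f) (psi_letter .f) pc_f
  · exact pres_of_net (H35.NSuz.hbp .g) (tl_val .g) (psi_letter .g) pc_g

theorem pres (g : G) : Pres MT.get (ψ g) := pres_gen genP pres_letter g

/-- word -/
def wx : List LA := [.b, .c, .d, .e, .f, .g]
/-- word -/
def wy : List LA := [.a, .b, .f, .g, .b, .a, .c, .b, .d, .c, .e, .d, .c, .b, .a, .b, .f, .g, .d, .c, .b, .f, .c, .d, .e, .d, .c, .d, .c, .b, .a]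
/-- word -/
def wt : List LA := [.c, .b, .d, .c, .e, .g, .b, .f, .b, .c, .d, .c, .b, .d, .e, .d, .a, .b, .c, .d, .c, .b, .f, .g, .b, .c, .d, .b, .c, .b]
/-- word -/
def wz : List LA := [.b, .d, .c, .b, .d, .c, .b, .e, .d, .g, .b, .f, .b, .c, .d, .b, .c, .a, .b, .f, .g, .c, .d, .e, .d, .c, .d, .c, .b]
/-- element of order 11 -/
noncomputable def x : G := (wx.map gP).prod
/-- element of order 10 -/
noncomputable def y : G := (wy.map gP).prod
/-- third generator -/
noncomputable def t : G := (wt.map gP).prod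
/-- involution commuting with `y` -/
noncomputable def z : G := (wz.map gP).prod

set_option maxRecDepth 100000 in
theorem cw_x : chkWord 1782 te_x TL wx = true := by decide +kernel
theorem r_x : Rp 1782 te_x (ψ x) := by
  have h := Rp_word rl cw_x
  rwa [← psi_word] at h
set_option maxRecDepth 100000 in
theorem cw_y : chkWord 1782 te_y TL wy = true := by decide +kernel
theorem r_y : Rp 1782 te_y (ψ y) := by
  have h := Rp_word rl cw_y
  rwa [← psi_word] at h
set_option maxRecDepth 100000 in
theorem cw_t : chkWord 1782 te_t TL wt = true := by decide +kernel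
theorem r_t : Rp 1782 te_t (ψ t) := by
  have h := Rp_word rl cw_t
  rwa [← psi_word] at h
set_option maxRecDepth 100000 in
theorem cw_z : chkWord 1782 te_z TL wz = true := by decide +kernel
theorem r_z : Rp 1782 te_z (ψ z) := by
  have h := Rp_word rl cw_z
  rwa [← psi_word] at h
set_option maxRecDepth 100000 in
theorem ci_X : allN (fun i => Nat.beq (a12 te_X (a12 te_x i)) i) 1782 = true := by decide +kernel
theorem r_X : Rp 1782 te_X (ψ x⁻¹) := by
  rw [map_inv]
  exact Rp_inv r_x ci_X
set_option maxRecDepth 100000 in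
theorem ci_Y : allN (fun i => Nat.beq (a12 te_Y (a12 te_y i)) i) 1782 = true := by decide +kernel
theorem r_Y : Rp 1782 te_Y (ψ y⁻¹) := by
  rw [map_inv]
  exact Rp_inv r_y ci_Y
set_option maxRecDepth 100000 in
theorem ci_T : allN (fun i => Nat.beq (a12 te_T (a12 te_t i)) i) 1782 = true := by decide +kernel
theorem r_T : Rp 1782 te_T (ψ t⁻¹) := by
  rw [map_inv]
  exact Rp_inv r_t ci_T

/-- tables of the elements -/
def TE : Lx → ℕ
  | .x => te_x
  | .X => te_X
  | .y => te_y
  | .Y => te_Y
  | .t => te_t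
  | .T => te_T
  | .z => te_z

theorem re (a : Lx) : Rp 1782 (TE a) (ψ (elx x y t z a)) := by
  cases a
  exacts [r_x, r_X, r_y, r_Y, r_t, r_T, r_z]

set_option maxRecDepth 100000 in
theorem e_xp : eqWord 1782 TE (List.replicate 11 .x) [] = true := by decide +kernel
set_option maxRecDepth 100000 in
theorem e_yq : eqWord 1782 TE (List.replicate 10 .y) [] = true := by decide +kernel
set_option maxRecDepth 100000 in
theorem e_yx : eqWord 1782 TE [.y, .x] (List.replicate 2 .x ++ [.y]) = true := by decide +kernel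
set_option maxRecDepth 100000 in
theorem e_ty : eqWord 1782 TE [.t, .y] (List.replicate 3 .y ++ [.t]) = true := by decide +kernel
set_option maxRecDepth 100000 in
theorem e_zz : eqWord 1782 TE [.z, .z] [] = true := by decide +kernel
set_option maxRecDepth 100000 in
theorem n_x : Nat.beq (evw TE [.x] 0) (evw TE [] 0) = false := by decide +kernel
set_option maxRecDepth 100000 in
theorem n_yx : Nat.beq (evw TE [.y, .x] 0) (evw TE [.x, .y] 0) = false := by decide +kernel

theorem x_pow : x ^ 11 = 1 := by
  have h := group_eq ψ_inj re e_xp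
  simp only [List.map_replicate, List.prod_replicate, List.map_nil, List.prod_nil, elx] at h
  exact h

theorem y_pow : y ^ 10 = 1 := by
  have h := group_eq ψ_inj re e_yq
  simp only [List.map_replicate, List.prod_replicate, List.map_nil, List.prod_nil, elx] at h
  exact h

theorem y_x : y * x * y⁻¹ = x ^ 2 := by
  have h := group_eq ψ_inj re e_yx
  simp only [List.map_append, List.map_cons, List.map_nil, List.map_replicate, List.prod_append,
    List.prod_replicate, List.prod_cons, List.prod_nil, mul_one, elx] at h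
  rw [h, mul_inv_cancel_right]

theorem t_y : t * y * t⁻¹ = y ^ 3 := by
  have h := group_eq ψ_inj re e_ty
  simp only [List.map_append, List.map_cons, List.map_nil, List.map_replicate, List.prod_append,
    List.prod_replicate, List.prod_cons, List.prod_nil, mul_one, elx] at h
  rw [h, mul_inv_cancel_right]

theorem z_z : z * z = 1 := by
  have h := group_eq ψ_inj re e_zz
  simpa [elx] using h

theorem x_ne : x ≠ 1 := by
  have h := group_ne re (u := [.x]) (v := []) (by norm_num : 0 < 1782) n_x
  simpa [elx] using h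

theorem yx_ne : y * x ≠ x * y := by
  have h := group_ne re (u := [.y, .x]) (v := [.x, .y]) (by norm_num : 0 < 1782) n_yx
  simpa [elx] using h

instance instPrime : Fact (Nat.Prime 11) := ⟨by norm_num⟩

theorem ord_x : orderOf x = 11 := orderOf_eq_prime x_pow x_ne

theorem card_not : ¬ 11 ^ 2 ∣ Nat.card G := by
  rw [card_inj.1]
  norm_num

set_option maxRecDepth 100000 in
theorem g_a : chkWord 1782 tb_a TE [.T, .x, .T, .X, .T, .Y, .x, .t, .t, .x, .t, .y, .y, .x, .t, .X, .t] = true := by decide +kernel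
set_option maxRecDepth 100000 in
theorem g_b : chkWord 1782 tb_b TE [.t, .X, .y, .T, .X, .T, .y, .x, .t, .y, .t, .X, .T, .x, .t, .Y, .x, .T] = true := by decide +kernel
set_option maxRecDepth 100000 in
theorem g_c : chkWord 1782 tb_c TE [.x, .t, .x, .T, .X, .T, .y, .X, .t, .t, .Y, .X, .T, .x, .t, .X, .T, .X] = true := by decide +kernel
set_option maxRecDepth 100000 in
theorem g_d : chkWord 1782 tb_d TE [.T, .x, .T, .X, .t, .x, .T, .T, .X, .t, .X, .Y, .t, .X, .T, .x, .t, .y, .x, .t, .y, .X, .X] = true := by decide +kernel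
set_option maxRecDepth 100000 in
theorem g_e : chkWord 1782 tb_e TE [.X, .T, .X, .X, .T, .Y, .x, .t, .Y, .x, .T, .X, .Y, .t, .x, .t, .X, .X, .T, .x, .T, .X, .T, .X] = true := by decide +kernel
set_option maxRecDepth 100000 in
theorem g_f : chkWord 1782 tb_f TE [.X, .T, .X, .Y, .t, .X, .t, .x, .t, .y, .x, .t, .y, .x, .T, .x, .T, .x, .x, .t, .x, .Y, .t, .x] = true := by decide +kernel
set_option maxRecDepth 100000 in
theorem g_g : chkWord 1782 tb_g TE [.x, .t, .x, .T, .X, .X, .T, .y, .x, .t, .y, .t, .X, .T, .x, .x, .t, .X, .T, .X] = true := by decide +kernel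

theorem gen_xyt : Subgroup.closure ({x, y, t} : Set G) = ⊤ := by
  rw [eq_top_iff, ← genP, Subgroup.closure_le]
  rintro _ ⟨a, rfl⟩
  cases a
  · rw [SetLike.mem_coe, group_word ψ_inj re (rl .a) g_a]
    exact word_mem _ (by decide)
  · rw [SetLike.mem_coe, group_word ψ_inj re (rl .b) g_b]
    exact word_mem _ (by decide)
  · rw [SetLike.mem_coe, group_word ψ_inj re (rl .c) g_c]
    exact word_mem _ (by decide)
  · rw [SetLike.mem_coe, group_word ψ_inj re (rl .d) g_d]
    exact word_mem _ (by decide)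
  · rw [SetLike.mem_coe, group_word ψ_inj re (rl .e) g_e]
    exact word_mem _ (by decide)
  · rw [SetLike.mem_coe, group_word ψ_inj re (rl .f) g_f]
    exact word_mem _ (by decide)
  · rw [SetLike.mem_coe, group_word ψ_inj re (rl .g) g_g]
    exact word_mem _ (by decide)

set_option maxRecDepth 100000 in
theorem FM_eq : FM = 2 ^ 1782 - 1 := by decide +kernel

set_option maxRecDepth 100000 in
theorem root_x : rootChk MT.get 1782 te_x 11 542 (maskOf trx.ch) = true := by decide +kernel
set_option maxRecDepth 100000 in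
theorem root_y : rootChk MT.get 1782 te_y 10 278 (maskOf tryy.ch) = true := by decide +kernel
set_option maxRecDepth 100000 in
theorem chk_x : trx.chk MT.get 1782 FM te_x 11 lfx.get [542, 1576, 1414] [] = true := by decide +kernel
set_option maxRecDepth 100000 in
theorem chk_y : tryy.chk MT.get 1782 FM te_y 10 lfy.get [278, 75, 5] [] = true := by decide +kernel


theorem get_nd (l r : Tr) (k : ℕ) : (Tr.nd l r).get k = l.get (k >>> 1) ∨ (Tr.nd l r).get k = r.get (k >>> 1) := by
  have h : (Tr.nd l r).get k = Bool.rec (motive := fun _ => ℕ) (l.get (Nat.shiftRight k 1))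
    (r.get (Nat.shiftRight k 1)) (Nat.beq (Nat.land k 1) 1) := rfl
  cases hb : Nat.beq (Nat.land k 1) 1 with
  | false => left; rw [h, hb]; rfl
  | true => right; rw [h, hb]; rfl

theorem cent_x (g : G) (hg : g * x = x * g) : ∃ i < 11, ∃ k, Rp 1782 (lfx.get k) (ψ (x ^ i * g)) := by
  have h1 : ψ g * ψ x = ψ x * ψ g := by rw [← map_mul, hg, map_mul]
  obtain ⟨i, hi, k, hk⟩ := CT.main r_x h1 (pres g) (pres x) FM_eq (bs := [542, 1576, 1414]) (by decide) root_x chk_x
  refine ⟨i, hi, k, ?_⟩
  rwa [map_mul, map_pow]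

theorem cent_y (g : G) (hg : g * y = y * g) : ∃ i < 10, ∃ k, Rp 1782 (lfy.get k) (ψ (y ^ i * g)) := by
  have h1 : ψ g * ψ y = ψ y * ψ g := by rw [← map_mul, hg, map_mul]
  obtain ⟨i, hi, k, hk⟩ := CT.main r_y h1 (pres g) (pres y) FM_eq (bs := [278, 75, 5]) (by decide) root_y chk_y
  refine ⟨i, hi, k, ?_⟩
  rwa [map_mul, map_pow]


set_option maxRecDepth 100000 in
theorem th_chk : allN (fun i => band (Nat.blt (a12 th1 i) 1782)
    (band (Nat.blt (a12 th2 i) 1782) (band (Nat.beq (a12 th2 (a12 th1 i)) i) (Nat.beq (a12 th1 (a12 th2 i)) i)))) 1782 =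
    true := by decide +kernel

/-- the outer automorphism as a permutation -/
noncomputable def th : Equiv.Perm (Fin 1782) := (exists_perm th_chk).choose

theorem r_th : Rp 1782 th1 th := (exists_perm th_chk).choose_spec.1

/-- letters with the outer automorphism -/
def TO : Option Lx → ℕ
  | none => th1
  | some a => TE a

/-- permutations of the letters -/
noncomputable def πO : Option Lx → Equiv.Perm (Fin 1782)
  | none => th
  | some a => ψ (elx x y t z a)

theorem ro (a : Option Lx) : Rp 1782 (TO a) (πO a) := by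
  cases a with
  | none => exact r_th
  | some a => exact re a

set_option maxRecDepth 100000 in
theorem o_x : eqWord 1782 TO [none, some .x] (List.replicate 1 (some .x) ++ [none]) = true := by decide +kernel
set_option maxRecDepth 100000 in
theorem o_y : eqWord 1782 TO [none, some .y] [some .y, none] = true := by decide +kernel
set_option maxRecDepth 100000 in
theorem o_t : eqWord 1782 TO [none, some .t] ([some .t] ++ (List.replicate 5 (some .y) ++ (List.replicate 0 (some .z) ++ [none]))) = true := by decide +kernel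

theorem conj_x : th * ψ x * th⁻¹ = ψ (x ^ 1) := by
  have h := eqWord_spec ro o_x
  simp only [List.map_append, List.map_cons, List.map_nil, List.map_replicate, List.prod_append,
    List.prod_replicate, List.prod_cons, List.prod_nil, mul_one, πO, elx] at h
  rw [h, mul_inv_cancel_right, map_pow]

theorem conj_y : th * ψ y * th⁻¹ = ψ y := by
  have h := eqWord_spec ro o_y
  simp only [List.map_append, List.map_cons, List.map_nil, List.map_replicate, List.prod_append,
    List.prod_replicate, List.prod_cons, List.prod_nil, mul_one, πO, elx] at h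
  rw [h, mul_inv_cancel_right]

theorem conj_t : th * ψ t * th⁻¹ = ψ (t * (y ^ 5 * z ^ 0)) := by
  have h := eqWord_spec ro o_t
  simp only [List.map_append, List.map_cons, List.map_nil, List.map_replicate, List.prod_append,
    List.prod_replicate, List.prod_cons, List.prod_nil, mul_one, πO, elx] at h
  rw [h, map_mul, map_mul, map_pow, map_pow]
  group

theorem ex_TH : ∃ TH : MulAut G, ∀ g, ψ (TH g) = th * ψ g * th⁻¹ := by
  apply H63.OA.exists_aut ψ ψ_inj gen_xyt th
  rintro s (rfl | rfl | rfl)
  · exact ⟨_, conj_x.symm⟩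
  · exact ⟨_, conj_y.symm⟩
  · exact ⟨_, conj_t.symm⟩

/-- the outer automorphism -/
noncomputable def TH : MulAut G := ex_TH.choose

theorem TH_x : TH x = x ^ 1 := ψ_inj ((ex_TH.choose_spec x).trans conj_x)
theorem TH_y : TH y = y := ψ_inj ((ex_TH.choose_spec y).trans conj_y)
theorem TH_t : TH t = t * (y ^ 5 * z ^ 0) := ψ_inj ((ex_TH.choose_spec t).trans conj_t)


set_option maxRecDepth 100000 in
theorem id_chk : allN (fun i => Nat.beq (a12 (lfx.get 0) i) i) 1782 = true := by decide +kernel

theorem id_rp : Rp 1782 (lfx.get 0) (ψ 1) := by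
  intro i
  rw [map_one]
  exact Nat.eq_of_beq_eq_true (allN_sound id_chk i i.2)


set_option maxRecDepth 100000 in
theorem th_nofix : allN (fun i => Bool.not (Nat.beq (a12 th1 i) i)) 1782 = true := by decide +kernel
set_option maxRecDepth 100000 in
theorem th_invol : eqWord 1782 TO [none, none] [] = true := by decide +kernel

theorem sign_th : Equiv.Perm.sign th = -1 := by
  apply H63.OT.sign_neg (by norm_num)
  · have h := eqWord_spec ro th_invol
    simpa [πO] using h
  · intro i hi
    have h1 := allN_sound th_nofix i i.2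
    rw [r_th i, hi, Nat.beq_refl] at h1
    exact absurd h1 (by decide)

theorem sign_one (g : G) : Equiv.Perm.sign (ψ g) = 1 :=
  sign_simple simple (by rw [card_inj.1]; norm_num) (Equiv.Perm.sign.comp ψ) g

set_option maxRecDepth 100000 in
theorem lk_x : lfx.get 1 = th1 ∧ lfy.get 0 = lfx.get 0 ∧ lfy.get 1 = te_z ∧ lfy.get 2 = th1 := by decide +kernel

set_option maxRecDepth 100000 in
theorem lk_3 : chkWord 1782 (lfy.get 3) TO [none, some .z] = true := by decide +kernel

theorem C_x (g : G) (hg : g * x = x * g) : g ∈ Subgroup.zpowers x := by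
  obtain ⟨i, _, k, hk⟩ := cent_x g hg
  have key : x ^ i * g = 1 → g ∈ Subgroup.zpowers x := by
    intro h
    have : g = (x ^ i)⁻¹ := (inv_eq_of_mul_eq_one_right h).symm
    rw [this]
    exact inv_mem (Subgroup.pow_mem _ (Subgroup.mem_zpowers x) i)
  have hc : lfx.get k = lfx.get 0 ∨ lfx.get k = lfx.get 1 := by
    rcases get_nd _ _ k with h | h
    · exact Or.inl h
    · exact Or.inr h
  rcases hc with h | h
  · rw [h] at hk
    exact key (ψ_inj (hk.unique id_rp))
  · exfalso
    rw [h, lk_x.1] at hk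
    have h1 := hk.unique r_th
    have h2 := sign_one (x ^ i * g)
    rw [h1, sign_th] at h2
    exact absurd h2 (by decide)

theorem C_y (g : G) (hg : g * y = y * g) : ∃ j < 10, ∃ k < 2, g = y ^ j * z ^ k := by
  obtain ⟨i, hi, k, hk⟩ := cent_y g hg
  have hc : lfy.get k = lfy.get 0 ∨ lfy.get k = lfy.get 1 ∨ lfy.get k = lfy.get 2 ∨ lfy.get k = lfy.get 3 := by
    rcases get_nd _ _ k with h | h <;> rcases get_nd _ _ (k >>> 1) with h' | h'
    · exact Or.inl (h.trans h')
    · exact Or.inr (Or.inr (Or.inl (h.trans h')))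
    · exact Or.inr (Or.inl (h.trans h'))
    · exact Or.inr (Or.inr (Or.inr (h.trans h')))
  have key : ∀ u : G, y ^ i * g = u → g = y ^ ((10 - i) % 10) * u := by
    intro u hu
    rw [← hu, ← mul_assoc, ← pow_add]
    have h1 : (10 - i) % 10 + i = 10 ∨ (10 - i) % 10 + i = 0 := by omega
    rcases h1 with h1 | h1 <;> rw [h1]
    · rw [y_pow, one_mul]
    · rw [pow_zero, one_mul]
  have hj : (10 - i) % 10 < 10 := Nat.mod_lt _ (by norm_num)
  rcases hc with h | h | h | h
  · rw [h, lk_x.2.1] at hk
    exact ⟨_, hj, 0, by norm_num, by rw [pow_zero]; exact key 1 (ψ_inj (hk.unique id_rp))⟩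
  · rw [h, lk_x.2.2.1] at hk
    exact ⟨_, hj, 1, by norm_num, by rw [pow_one]; exact key z (ψ_inj (hk.unique r_z))⟩
  · exfalso
    rw [h, lk_x.2.2.2] at hk
    have h1 := hk.unique r_th
    have h2 := sign_one (y ^ i * g)
    rw [h1, sign_th] at h2
    exact absurd h2 (by decide)
  · exfalso
    rw [h] at hk
    have h1 := hk.unique (Rp_word ro lk_3)
    have h2 := sign_one (y ^ i * g)
    rw [h1] at h2
    simp only [List.map_cons, List.map_nil, List.prod_cons, List.prod_nil, mul_one, πO, elx, map_mul,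
      sign_th, sign_one] at h2
    exact absurd h2 (by decide)

/-- relations -/
def rw0 : ℕ → List Lx
  | _ => [.x, .y, .t, .x, .y, .t, .x, .y, .t, .x, .y, .t, .x, .y, .t, .x, .y, .t, .x, .y, .t, .x, .y, .t]
set_option maxRecDepth 100000 in
theorem rel_0 : eqWord 1782 TE (rw0 0) [] = true := by decide +kernel

theorem rel (i : ℕ) : ((rw0 i).map (elx x y t z)).prod = 1 := by
  exact group_eq ψ_inj re rel_0

/-- relation numbers -/
def rr : Tr := (.nd (.nd (.nd (.nd (.nd (.lf 0) (.lf 0)) (.nd (.lf 0) (.lf 0))) (.nd (.nd (.lf 0) (.lf 0)) (.nd (.lf 0) (.lf 0)))) (.nd (.nd (.nd (.lf 0) (.lf 0)) (.nd (.lf 0) (.lf 0))) (.nd (.nd (.lf 0) (.lf 0)) (.nd (.lf 0) (.lf 0))))) (.nd (.nd (.nd (.nd (.lf 0) (.lf 0)) (.nd (.lf 0) (.lf 0))) (.nd (.nd (.lf 0) (.lf 0)) (.nd (.lf 0) (.lf 0)))) (.nd (.nd (.nd (.lf 0) (.lf 0)) (.nd (.lf 0) (.lf 0))) (.nd (.nd (.lf 0) (.lf 0)) (.nd (.lf 0) (.lf 0))))))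
/-- points -/
def pp : Tr := (.nd (.nd (.nd (.nd (.nd (.lf 0) (.lf 0)) (.nd (.lf 0) (.lf 0))) (.nd (.nd (.lf 0) (.lf 0)) (.nd (.lf 0) (.lf 0)))) (.nd (.nd (.nd (.lf 0) (.lf 0)) (.nd (.lf 0) (.lf 0))) (.nd (.nd (.lf 0) (.lf 0)) (.nd (.lf 0) (.lf 0))))) (.nd (.nd (.nd (.nd (.lf 0) (.lf 0)) (.nd (.lf 0) (.lf 0))) (.nd (.nd (.lf 0) (.lf 0)) (.nd (.lf 0) (.lf 0)))) (.nd (.nd (.nd (.lf 0) (.lf 0)) (.nd (.lf 0) (.lf 0))) (.nd (.nd (.lf 0) (.lf 0)) (.nd (.lf 0) (.lf 0))))))

/-- the values not excluded -/
def alw (m : ℕ) : Bool := Bool.or (Nat.beq m 0) (Nat.beq m 10)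

set_option maxRecDepth 100000 in
theorem kill : allN (fun m => Bool.rec (motive := fun _ => Bool)
    (band (Nat.blt (pp.get m) 1782) (Bool.not (Nat.beq (evw TE (subw (m / 2) (m % 2) (rw0 (rr.get m))) (pp.get m))
      (pp.get m)))) true (alw m)) 20 = true := by decide +kernel

theorem no_z : ∀ i, Lx.z ∉ rw0 i := by
  intro i
  show Lx.z ∉ rw0 0
  decide


theorem key (β : MulAut G) (hx : β x = x) (hy : β y = y) : ∃ j < 10, ∃ k < 2, β t = t * (y ^ j * z ^ k) ∧
    alw (2 * j + k) = true := by
  obtain ⟨j, hj, k, hk, hc⟩ := C_y _ (H63.OA.t_coset hy t_y)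
  have ht : β t = t * (y ^ j * z ^ k) := by rw [← hc]; group
  refine ⟨j, hj, k, hk, ht, ?_⟩
  by_contra hcon
  have h1 := allN_sound kill (2 * j + k) (by omega)
  have h2 : alw (2 * j + k) = false := by
    cases h : alw (2 * j + k) with
    | false => rfl
    | true => exact absurd h hcon
  rw [h2] at h1
  have e1 : (2 * j + k) / 2 = j := by omega
  have e2 : (2 * j + k) % 2 = k := by omega
  rw [e1, e2] at h1
  have h3 : band (Nat.blt (pp.get (2 * j + k)) 1782) (Bool.not (Nat.beq (evw TE (subw j k (rw0 (rr.get (2 * j + k))))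
    (pp.get (2 * j + k))) (pp.get (2 * j + k)))) = true := h1
  rw [band_iff] at h3
  have hb : pp.get (2 * j + k) < 1782 := Nat.le_of_ble_eq_true h3.1
  have h4 : Nat.beq (evw TE (subw j k (rw0 (rr.get (2 * j + k)))) (pp.get (2 * j + k)))
      (evw TE [] (pp.get (2 * j + k))) = false := by
    have : evw TE [] (pp.get (2 * j + k)) = pp.get (2 * j + k) := rfl
    rw [this]
    cases h : Nat.beq (evw TE (subw j k (rw0 (rr.get (2 * j + k)))) (pp.get (2 * j + k))) (pp.get (2 * j + k)) with
    | false => rfl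
    | true => rw [h] at h3; exact absurd h3.2 (by decide)
  refine group_ne re hb h4 ?_
  rw [subw_prod z_z, List.map_nil, List.prod_nil, ← ht]
  exact rel_map hx hy (no_z _) (rel _)


/-- exclusion of inner automorphisms -/
noncomputable def innChk (m : ℕ) : Bool :=
  Bool.or (anyN (fun b => Bool.not (Nat.beq
      (evw TE (List.replicate (m / 2) .y ++ (List.replicate (m % 2) .z ++ [.x])) b)
      (evw TE (List.replicate 1 .x ++ (List.replicate (m / 2) .y ++ List.replicate (m % 2) .z)) b))) 50)
    (anyN (fun b => Bool.not (Nat.beq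
      (evw TE (List.replicate (m / 2) .y ++ (List.replicate (m % 2) .z ++ [.t])) b)
      (evw TE (.t :: (List.replicate 5 .y ++ (List.replicate 0 .z ++ (List.replicate (m / 2) .y ++ List.replicate (m % 2) .z)))) b))) 50)

set_option maxRecDepth 100000 in
theorem inn_chk : allN innChk 20 = true := by decide +kernel

theorem TH_not_inn : TH ∉ Cfsg.Inn G := by
  rintro ⟨g, hg⟩
  have hgx : g * x * g⁻¹ = x ^ 1 := by rw [← TH_x, ← hg]; rfl
  have hgy : g * y * g⁻¹ = y := by
    have := TH_y
    rw [← hg] at this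
    exact this
  have hgt : g * t * g⁻¹ = t * (y ^ 5 * z ^ 0) := by rw [← TH_t, ← hg]; rfl
  obtain ⟨j, hj, k, hk, rfl⟩ := C_y g (by
    calc g * y = (g * y * g⁻¹) * g := by group
      _ = y * g := by rw [hgy])
  have h1 := allN_sound inn_chk (2 * j + k) (by omega)
  have e1 : (2 * j + k) / 2 = j := by omega
  have e2 : (2 * j + k) % 2 = k := by omega
  simp only [innChk, e1, e2] at h1
  have a1 := mul_inv_eq_iff_eq_mul.mp hgx
  have a2 := mul_inv_eq_iff_eq_mul.mp hgt
  have h1' := (Bool.or_eq_true _ _).mp h1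
  rcases h1' with h2 | h2
  · obtain ⟨b, hb, h3⟩ := anyN_sound h2
    refine group_ne re (b := b) (by omega) (Bool.not_eq_true' _ ▸ h3) ?_
    simp only [List.map_append, List.map_cons, List.map_nil, List.map_replicate, List.prod_append,
      List.prod_replicate, List.prod_cons, List.prod_nil, mul_one, elx]
    rw [← mul_assoc]
    exact a1
  · obtain ⟨b, hb, h3⟩ := anyN_sound h2
    refine group_ne re (b := b) (by omega) (Bool.not_eq_true' _ ▸ h3) ?_
    simp only [List.map_append, List.map_cons, List.map_nil, List.map_replicate, List.prod_append,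
      List.prod_replicate, List.prod_cons, List.prod_nil, mul_one, elx]
    rw [← mul_assoc, a2]
    simp only [mul_assoc]


theorem K_chk : ∀ j, 0 < j → j < 11 → ∃ m < 11, j * 2 ^ m % 11 ∈ ([1] : List ℕ) := by
  intro j h0 h1
  interval_cases j <;> decide

theorem S_ext {α β : MulAut G} (hx : α x = β x) (hy : α y = β y) (ht : α t = β t) : α = β := by
  apply H63.OA.aut_ext gen_xyt
  rintro s (rfl | rfl | rfl)
  · exact hx
  · exact hy
  · exact ht


theorem upper (α : MulAut G) : ∃ g : G, MulAut.conj g * α = 1 ∨ MulAut.conj g * α = TH := by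
  obtain ⟨g, κ, hκ, h1, h2⟩ := H63.OA.adjust2 ord_x card_not y_x yx_ne C_x K_chk α
  rw [List.mem_singleton] at hκ
  rw [hκ, pow_one] at h1
  refine ⟨g, ?_⟩
  obtain ⟨j, hj, k, hk, ht, hal⟩ := key _ h1 h2
  have h3 : 2 * j + k = 0 ∨ 2 * j + k = 10 := by
    have := (Bool.or_eq_true _ _).mp hal
    rcases this with h | h
    · exact Or.inl (Nat.eq_of_beq_eq_true h)
    · exact Or.inr (Nat.eq_of_beq_eq_true h)
  rcases h3 with h3 | h3
  · left
    have hj0 : j = 0 := by omega
    have hk0 : k = 0 := by omega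
    rw [hj0, hk0, pow_zero, pow_zero, mul_one, mul_one] at ht
    exact S_ext h1 h2 ht
  · right
    have hj0 : j = 5 := by omega
    have hk0 : k = 0 := by omega
    rw [hj0, hk0] at ht
    exact S_ext (by rw [h1, TH_x, pow_one]) (by rw [h2, TH_y]) (by rw [ht, TH_t])


theorem card_out : Nat.card (Cfsg.Out Cfsg.Spor.Suz) = 2 := H63.OA.card_out_two TH upper TH_not_inn

end H63.OutSuz
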