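import Cfsg.Agent.Lib.H63.PermList
import Cfsg.Agent.Lib.H35.NetKit

set_option autoImplicit false

/-! Packed tables (12 bits per entry), invariant relations given by rows of bits, and kernel-checked
determination of the permutations which preserve the relation and commute with a given permutation. -/

namespace H63.OT

open H63.PC

/-- entry `i` of a packed table with 12 bits per entry -/
noncomputable def a12 (T i : ℕ) : ℕ := Nat.land (Nat.shiftRight T (Nat.mul 12 i)) 4095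

/-- the table `T` represents `σ` -/
def Rp (n T : ℕ) (σ : Equiv.Perm (Fin n)) : Prop := ∀ i : Fin n, a12 T i = (σ i : ℕ)

theorem Rp.unique {n T : ℕ} {σ τ : Equiv.Perm (Fin n)} (h1 : Rp n T σ) (h2 : Rp n T τ) : σ = τ := by
  ext i
  rw [← h1 i, h2 i]

/-- application of a word of letters with tables `TL` -/
noncomputable def evw {L : Type} (TL : L → ℕ) (w : List L) (i : ℕ) : ℕ :=
  List.rec (motive := fun _ => ℕ) i (fun a _ ih => a12 (TL a) ih) w

theorem evw_spec {L : Type} {n : ℕ} {TL : L → ℕ} {π : L → Equiv.Perm (Fin n)}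
    (h : ∀ a, Rp n (TL a) (π a)) (w : List L) (i : Fin n) : evw TL w i = ((w.map π).prod i : ℕ) := by
  induction w with
  | nil => rfl
  | cons a w ih =>
    have e : evw TL (a :: w) i = a12 (TL a) (evw TL w i) := rfl
    rw [e, ih, h a, List.map_cons, List.prod_cons]
    rfl

/-- the table `T` is the product of a word -/
noncomputable def chkWord {L : Type} (n T : ℕ) (TL : L → ℕ) (w : List L) : Bool :=
  allN (fun i => Nat.beq (a12 T i) (evw TL w i)) n

theorem Rp_word {L : Type} {n T : ℕ} {TL : L → ℕ} {π : L → Equiv.Perm (Fin n)}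
    (h : ∀ a, Rp n (TL a) (π a)) {w : List L} (hc : chkWord n T TL w = true) :
    Rp n T ((w.map π).prod) := by
  intro i
  rw [Nat.eq_of_beq_eq_true (allN_sound hc i i.2), evw_spec h]

/-- equality of the products of two words -/
noncomputable def eqWord {L : Type} (n : ℕ) (TL : L → ℕ) (u v : List L) : Bool :=
  allN (fun i => Nat.beq (evw TL u i) (evw TL v i)) n

theorem eqWord_spec {L : Type} {n : ℕ} {TL : L → ℕ} {π : L → Equiv.Perm (Fin n)}
    (h : ∀ a, Rp n (TL a) (π a)) {u v : List L} (hc : eqWord n TL u v = true) :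
    (u.map π).prod = (v.map π).prod := by
  ext i
  rw [← evw_spec h, ← evw_spec h]
  exact Nat.eq_of_beq_eq_true (allN_sound hc i i.2)

/-- inverse tables -/
theorem Rp_inv {n T T' : ℕ} {σ : Equiv.Perm (Fin n)} (h : Rp n T σ)
    (hc : allN (fun i => Nat.beq (a12 T' (a12 T i)) i) n = true) : Rp n T' σ⁻¹ := by
  intro i
  have h1 := Nat.eq_of_beq_eq_true (allN_sound hc (σ⁻¹ i : Fin n) (σ⁻¹ i).2)
  rw [h (σ⁻¹ i)] at h1
  have h2 : σ (σ⁻¹ i) = i := σ.apply_symm_apply i
  rw [h2] at h1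
  exact h1

/-- a permutation from a table and an inverse table -/
theorem exists_perm {n T T' : ℕ} (hc : allN (fun i => band (Nat.blt (a12 T i) n)
    (band (Nat.blt (a12 T' i) n) (band (Nat.beq (a12 T' (a12 T i)) i) (Nat.beq (a12 T (a12 T' i)) i)))) n =
    true) : ∃ σ : Equiv.Perm (Fin n), Rp n T σ ∧ Rp n T' σ⁻¹ := by
  have h : ∀ i < n, a12 T i < n ∧ a12 T' i < n ∧ a12 T' (a12 T i) = i ∧ a12 T (a12 T' i) = i := by
    intro i hi
    have h1 := allN_sound hc i hi
    rw [band_iff, band_iff, band_iff] at h1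
    exact ⟨Nat.le_of_ble_eq_true h1.1, Nat.le_of_ble_eq_true h1.2.1, Nat.eq_of_beq_eq_true h1.2.2.1,
      Nat.eq_of_beq_eq_true h1.2.2.2⟩
  exact ⟨⟨fun i => ⟨a12 T i, (h i i.2).1⟩, fun i => ⟨a12 T' i, (h i i.2).2.1⟩,
    fun i => Fin.ext (h i i.2).2.2.1, fun i => Fin.ext (h i i.2).2.2.2⟩, fun i => rfl, fun i => rfl⟩

/-! ### bits -/

/-- bit `b` of `W` -/
noncomputable def bt (W b : ℕ) : ℕ := Nat.land (Nat.shiftRight W b) 1

theorem bt_eq (W b : ℕ) : bt W b = if W.testBit b then 1 else 0 := by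
  have h : bt W b = (W >>> b) % 2 := by
    show (W >>> b) &&& 1 = _
    exact Nat.and_one_is_mod _
  rw [h, Nat.testBit_eq_decide_div_mod_eq, Nat.shiftRight_eq_div_pow]
  have h2 := Nat.mod_two_eq_zero_or_one (W / 2 ^ b)
  rcases h2 with h2 | h2 <;> simp [h2]

theorem bt_eq_iff {W b W' b' : ℕ} : bt W b = bt W' b' ↔ (W.testBit b = W'.testBit b') := by
  rw [bt_eq, bt_eq]
  cases W.testBit b <;> cases W'.testBit b' <;> simp

theorem bt_one {W b : ℕ} : bt W b = 1 ↔ W.testBit b = true := by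
  rw [bt_eq]
  cases W.testBit b <;> simp

/-! ### tables of network letters -/

section net
open H35.TC H35.Net

/-- the table `T` agrees with the network `f` of `2 ^ k` positions on the positions `< n` -/
noncomputable def chkNetTab (f : ℕ → ℕ) (k n T : ℕ) : Bool :=
  allN (fun r => force (f (ipl r k)) fun P => allN (fun b => Nat.beq (bt P b) (bt (a12 T b) r)) n) k

theorem netTab {f : ℕ → ℕ} {k n T : ℕ} {π : Equiv.Perm ℕ} (hf : BP (2 ^ k) f π) (hk : k ≤ 12) (hn : n ≤ 2 ^ k)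
    (hlt : allN (fun b => Nat.blt (a12 T b) n) n = true) (hpres : ∀ b, π b < n ↔ b < n)
    (h : chkNetTab f k n T = true) (b : ℕ) (hb : b < n) : a12 T b = π b := by
  have h1 : a12 T b < 2 ^ k := lt_of_lt_of_le (Nat.le_of_ble_eq_true (allN_sound hlt b hb)) hn
  have h2 : π b < 2 ^ k := lt_of_lt_of_le ((hpres b).mpr hb) hn
  apply Nat.eq_of_testBit_eq
  intro r
  by_cases hr : r < k
  · have h3 := allN_sound h r hr
    simp only [force_eq] at h3
    have h4 := Nat.eq_of_beq_eq_true (allN_sound h3 b hb)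
    rw [bt_eq_iff, hf.bit, ipl_bit r k _ h2] at h4
    exact h4.symm
  · have h3 : 2 ^ k ≤ 2 ^ r := Nat.pow_le_pow_right (by norm_num) (by omega)
    rw [Nat.testBit_lt_two_pow (lt_of_lt_of_le h1 h3), Nat.testBit_lt_two_pow (lt_of_lt_of_le h2 h3)]

end net

/-! ### invariant relation -/

/-- `σ` preserves the relation with rows `M` -/
def Pres {n : ℕ} (M : ℕ → ℕ) (σ : Equiv.Perm (Fin n)) : Prop :=
  ∀ u v : Fin n, (M (σ u)).testBit (σ v) = (M u).testBit v

theorem Pres.one {n : ℕ} (M : ℕ → ℕ) : Pres M (1 : Equiv.Perm (Fin n)) := fun _ _ => rfl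

theorem Pres.mul {n : ℕ} {M : ℕ → ℕ} {σ τ : Equiv.Perm (Fin n)} (h1 : Pres M σ) (h2 : Pres M τ) :
    Pres M (σ * τ) := fun u v => by
  rw [Equiv.Perm.mul_apply, Equiv.Perm.mul_apply, h1, h2]

theorem Pres.inv {n : ℕ} {M : ℕ → ℕ} {σ : Equiv.Perm (Fin n)} (h : Pres M σ) : Pres M σ⁻¹ := fun u v => by
  have h1 := h (σ⁻¹ u) (σ⁻¹ v)
  rw [show σ (σ⁻¹ u) = u from σ.apply_symm_apply u, show σ (σ⁻¹ v) = v from σ.apply_symm_apply v] at h1
  exact h1.symm

theorem Pres.pow {n : ℕ} {M : ℕ → ℕ} {σ : Equiv.Perm (Fin n)} (h : Pres M σ) (i : ℕ) : Pres M (σ ^ i) := by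
  induction i with
  | zero => rw [pow_zero]; exact Pres.one M
  | succ i ih => rw [pow_succ]; exact ih.mul h

/-- iterated application -/
noncomputable def itx (X i c : ℕ) : ℕ := Nat.rec (motive := fun _ => ℕ) c (fun _ r => a12 X r) i

theorem itx_spec {n X : ℕ} {τ : Equiv.Perm (Fin n)} (h : Rp n X τ) (i : ℕ) (c : Fin n) :
    itx X i c = ((τ ^ i) c : ℕ) := by
  induction i with
  | zero => rfl
  | succ i ih =>
    have e : itx X (i + 1) c = a12 X (itx X i c) := rfl
    rw [e, ih, h, pow_succ']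
    rfl

/-- candidates for the image of `v`, if `b` is mapped to `c` -/
noncomputable def cand (M : ℕ → ℕ) (F X q b c v : ℕ) : ℕ :=
  Nat.rec (motive := fun _ => ℕ) F (fun i acc => Nat.land acc
    (Bool.rec (motive := fun _ => ℕ) (Nat.xor F (M (itx X i c))) (M (itx X i c))
      (Nat.beq (bt (M (itx X i b)) v) 1))) q

section
variable {n : ℕ} {M : ℕ → ℕ} {X : ℕ} {τ σ : Equiv.Perm (Fin n)}

theorem cand_spec (hX : Rp n X τ) (hcomm : σ * τ = τ * σ) (hP : Pres M σ) (q : ℕ) (b v : Fin n) :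
    (cand M (2 ^ n - 1) X q b (σ b) v).testBit (σ v) = true := by
  have hc : ∀ i : ℕ, σ ((τ ^ i) b) = (τ ^ i) (σ b) := by
    intro i
    have h1 : Commute σ τ := hcomm
    have h2 := (h1.pow_right i).eq
    have h3 := congrArg (fun ρ : Equiv.Perm (Fin n) => ρ b) h2
    exact h3
  induction q with
  | zero =>
    show (2 ^ n - 1 : ℕ).testBit (σ v) = true
    rw [Nat.testBit_two_pow_sub_one]
    simp
  | succ q ih =>
    show (Nat.land (cand M (2 ^ n - 1) X q b (σ b) v)
      (Bool.rec (motive := fun _ => ℕ) (Nat.xor (2 ^ n - 1) (M (itx X q (σ b)))) (M (itx X q (σ b)))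
      (Nat.beq (bt (M (itx X q b)) v) 1))).testBit (σ v) = true
    have e : ∀ a b : ℕ, Nat.land a b = a &&& b := fun _ _ => rfl
    rw [e, Nat.testBit_and, ih, Bool.true_and, itx_spec hX, itx_spec hX, ← hc]
    have h1 := hP ((τ ^ q) b) v
    cases hb : Nat.beq (bt (M ((τ ^ q) b : Fin n)) v) 1 with
    | true =>
      have h2 := bt_one.mp (Nat.eq_of_beq_eq_true hb)
      show (M (σ ((τ ^ q) b))).testBit (σ v) = true
      rw [h1, h2]
    | false =>
      have h2 : (M ((τ ^ q) b : Fin n)).testBit v = false := by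
        cases hh : (M ((τ ^ q) b : Fin n)).testBit v with
        | false => rfl
        | true => rw [bt_one.mpr hh] at hb; exact absurd hb (by decide)
      show ((2 ^ n - 1) ^^^ (M (σ ((τ ^ q) b)))).testBit (σ v) = true
      rw [Nat.testBit_xor, h1, h2, Nat.testBit_two_pow_sub_one]
      simp

/-- candidates from several base points -/
noncomputable def candL (M : ℕ → ℕ) (F X q : ℕ) (l : List (ℕ × ℕ)) (v : ℕ) : ℕ :=
  List.rec (motive := fun _ => ℕ) F (fun p _ ih => Nat.land (cand M F X q p.1 p.2 v) ih) l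

theorem candL_spec (hX : Rp n X τ) (hcomm : σ * τ = τ * σ) (hP : Pres M σ) (q : ℕ) (l : List (ℕ × ℕ))
    (hl : ∀ p ∈ l, ∃ b : Fin n, p.1 = b ∧ p.2 = σ b) (v : Fin n) :
    (candL M (2 ^ n - 1) X q l v).testBit (σ v) = true := by
  induction l with
  | nil =>
    show (2 ^ n - 1 : ℕ).testBit (σ v) = true
    rw [Nat.testBit_two_pow_sub_one]
    simp
  | cons p l ih =>
    show (Nat.land (cand M (2 ^ n - 1) X q p.1 p.2 v) (candL M (2 ^ n - 1) X q l v)).testBit (σ v) = true
    have e : ∀ a b : ℕ, Nat.land a b = a &&& b := fun _ _ => rfl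
    obtain ⟨b, h1, h2⟩ := hl p (by simp)
    rw [e, Nat.testBit_and, ih (fun p hp => hl p (by simp [hp])), Bool.and_true, h1, h2]
    exact cand_spec hX hcomm hP q b v

/-- mask of a list -/
noncomputable def maskOf (l : List ℕ) : ℕ :=
  List.rec (motive := fun _ => ℕ) 0 (fun a _ ih => Nat.lor (Nat.shiftLeft 1 a) ih) l

theorem maskOf_mem {l : List ℕ} {v : ℕ} (h : (maskOf l).testBit v = true) : v ∈ l := by
  induction l with
  | nil =>
    have : (0 : ℕ).testBit v = true := h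
    simp at this
  | cons a l ih =>
    have h1 : ((1 <<< a) ||| maskOf l).testBit v = true := h
    rw [Nat.testBit_or, Bool.or_eq_true] at h1
    rcases h1 with h1 | h1
    · rw [Nat.testBit_shiftLeft] at h1
      simp only [Bool.and_eq_true, decide_eq_true_eq] at h1
      have h2 : v - a = 0 := by
        by_contra hne
        have : (1 : ℕ).testBit (v - a) = false := Nat.testBit_lt_two_pow (Nat.one_lt_two_pow hne)
        rw [this] at h1
        exact absurd h1.2 (by decide)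
      have : v = a := by omega
      rw [this]
      simp
    · exact List.mem_cons_of_mem _ (ih h1)

theorem node (hX : Rp n X τ) (hcomm : σ * τ = τ * σ) (hP : Pres M σ) {F q : ℕ} (hF : F = 2 ^ n - 1)
    {l : List (ℕ × ℕ)} {b : ℕ} (hb : b < n) {ch : List ℕ}
    (hc : Nat.beq (candL M F X q l b) (maskOf ch) = true)
    (hl : ∀ p ∈ l, ∃ b : Fin n, p.1 = b ∧ p.2 = σ b) : (σ ⟨b, hb⟩ : ℕ) ∈ ch := by
  subst hF
  have h1 := candL_spec hX hcomm hP q l hl ⟨b, hb⟩
  have h2 : candL M (2 ^ n - 1) X q l ((⟨b, hb⟩ : Fin n) : ℕ) = maskOf ch := Nat.eq_of_beq_eq_true hc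
  rw [h2] at h1
  exact maskOf_mem h1

/-- leaf check -/
noncomputable def leafChk (M : ℕ → ℕ) (n F X q : ℕ) (l : List (ℕ × ℕ)) (T : ℕ) : Bool :=
  allN (fun v => Nat.beq (candL M F X q l v) (Nat.shiftLeft 1 (a12 T v))) n

theorem leaf (hX : Rp n X τ) (hcomm : σ * τ = τ * σ) (hP : Pres M σ) {F q : ℕ} (hF : F = 2 ^ n - 1)
    {l : List (ℕ × ℕ)} {T : ℕ} (hc : leafChk M n F X q l T = true)
    (hl : ∀ p ∈ l, ∃ b : Fin n, p.1 = b ∧ p.2 = σ b) : Rp n T σ := by
  subst hF
  intro v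
  have h1 := candL_spec hX hcomm hP q l hl v
  rw [Nat.eq_of_beq_eq_true (allN_sound hc v v.2)] at h1
  have h2 : (1 <<< (a12 T v)).testBit (σ v) = true := h1
  rw [Nat.testBit_shiftLeft] at h2
  simp only [Bool.and_eq_true, decide_eq_true_eq] at h2
  have h3 : (σ v : ℕ) - a12 T v = 0 := by
    by_contra hne
    have : (1 : ℕ).testBit ((σ v : ℕ) - a12 T v) = false := Nat.testBit_lt_two_pow (Nat.one_lt_two_pow hne)
    rw [this] at h2
    exact absurd h2.2 (by decide)
  omega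

/-- self pattern -/
noncomputable def selfP (M : ℕ → ℕ) (X q b c : ℕ) : Bool :=
  allN (fun i => Nat.beq (bt (M (itx X i c)) c) (bt (M (itx X i b)) b)) q

/-- some `k < m` -/
noncomputable def anyN (f : ℕ → Bool) (m : ℕ) : Bool :=
  Nat.rec (motive := fun _ => Bool) false (fun k ih => Bool.rec (motive := fun _ => Bool) ih true (f k)) m

theorem anyN_sound {f : ℕ → Bool} {m : ℕ} (h : anyN f m = true) : ∃ k < m, f k = true := by
  induction m with
  | zero =>
    have h0 : false = true := h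
    exact absurd h0 (by decide)
  | succ m ih =>
    have h1 : Bool.rec (motive := fun _ => Bool) (anyN f m) true (f m) = true := h
    cases hb : f m with
    | true => exact ⟨m, Nat.lt_succ_self m, hb⟩
    | false =>
      rw [hb] at h1
      obtain ⟨k, hk, h2⟩ := ih h1
      exact ⟨k, Nat.lt_succ_of_lt hk, h2⟩

/-- first level check -/
noncomputable def rootChk (M : ℕ → ℕ) (n X q b : ℕ) (reps : ℕ) : Bool :=
  allN (fun c => Bool.rec (motive := fun _ => Bool) true
    (anyN (fun i => Nat.beq (bt reps (itx X i c)) 1) q) (selfP M X q b c)) n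

theorem root (hX : Rp n X τ) (hcomm : σ * τ = τ * σ) (hP : Pres M σ) {q : ℕ} {b : ℕ} (hb : b < n)
    {ch : List ℕ} (hc : rootChk M n X q b (maskOf ch) = true) :
    ∃ i < q, ((τ ^ i * σ) ⟨b, hb⟩ : ℕ) ∈ ch := by
  have h1 := allN_sound hc (σ ⟨b, hb⟩ : Fin n) (σ ⟨b, hb⟩).2
  have hcc : ∀ i : ℕ, σ ((τ ^ i) ⟨b, hb⟩) = (τ ^ i) (σ ⟨b, hb⟩) := by
    intro i
    have h1 : Commute σ τ := hcomm
    have h2 := (h1.pow_right i).eq
    have h3 := congrArg (fun ρ : Equiv.Perm (Fin n) => ρ ⟨b, hb⟩) h2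
    exact h3
  have h2 : selfP M X q b (σ ⟨b, hb⟩ : Fin n) = true := by
    have key : ∀ k < q, Nat.beq (bt (M (itx X k (σ ⟨b, hb⟩ : Fin n))) (σ ⟨b, hb⟩ : Fin n))
        (bt (M (itx X k b)) b) = true := by
      intro k _
      have e1 : itx X k b = ((τ ^ k) ⟨b, hb⟩ : Fin n) := itx_spec hX k ⟨b, hb⟩
      rw [itx_spec hX, e1, ← hcc]
      have h3 := hP ((τ ^ k) ⟨b, hb⟩) ⟨b, hb⟩
      have h4 : bt (M (σ ((τ ^ k) ⟨b, hb⟩) : Fin n)) (σ ⟨b, hb⟩ : Fin n) =
        bt (M ((τ ^ k) ⟨b, hb⟩ : Fin n)) b := bt_eq_iff.mpr h3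
      rw [h4]
      exact Nat.beq_refl _
    exact allN_complete key
  rw [h2] at h1
  obtain ⟨i, hi, h3⟩ := anyN_sound h1
  refine ⟨i, hi, ?_⟩
  have h4 := bt_one.mp (Nat.eq_of_beq_eq_true h3)
  rw [itx_spec hX] at h4
  exact maskOf_mem h4

/-- the check that a letter preserves the relation, by its network -/
noncomputable def presChk (M : ℕ → ℕ) (n : ℕ) (f : ℕ → ℕ) (T : ℕ) : Bool :=
  allN (fun u => Nat.beq (f (M (a12 T u))) (M u)) n

theorem pres_of_net {S : ℕ} {f : ℕ → ℕ} {π : Equiv.Perm ℕ} (hf : H35.Net.BP S f π) {T : ℕ}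
    (hT : ∀ b < n, a12 T b = π b) (hσ : ∀ b : Fin n, (σ b : ℕ) = π b)
    (hc : presChk M n f T = true) : Pres M σ := by
  intro u v
  have h1 := Nat.eq_of_beq_eq_true (allN_sound hc u u.2)
  rw [hT u u.2] at h1
  rw [hσ, hσ, ← h1, hf.bit]

end

end H63.OT
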