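import Cfsg.Agent.Lib.H63.OutTab
import Cfsg.Agent.Lib.H63.OutAbs

set_option autoImplicit false

/-! Search trees certifying the permutations which commute with a given one and preserve a relation;
groups with tables. -/

namespace H63.OT

open H63.PC

/-- search trees: `leaf k`, or a list of siblings `br c sub next` ended by `nil` -/
inductive CT : Type
  | leaf (k : ℕ) : CT
  | nil : CT
  | br (c : ℕ) (sub next : CT) : CT

/-- labels of the siblings -/
noncomputable def CT.ch (t : CT) : List ℕ :=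
  CT.rec (motive := fun _ => List ℕ) (fun _ => []) [] (fun c _ _ _ ih => c :: ih) t

/-- head of a list -/
noncomputable def hd (l : List ℕ) : ℕ := List.rec (motive := fun _ => ℕ) 0 (fun a _ _ => a) l

/-- tail of a list -/
noncomputable def tl (l : List ℕ) : List ℕ := List.rec (motive := fun _ => List ℕ) [] (fun _ l _ => l) l

/-- the children of `t` are the candidates -/
noncomputable def CT.nodeOK (M : ℕ → ℕ) (F X q : ℕ) (t : CT) (bs : List ℕ) (l : List (ℕ × ℕ)) : Bool :=
  CT.rec (motive := fun _ => Bool) (fun _ => true) (Nat.beq (candL M F X q l (hd bs)) 0)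
    (fun _ _ _ _ _ => Nat.beq (candL M F X q l (hd bs)) (maskOf t.ch)) t

/-- tree check -/
noncomputable def CT.chk (M : ℕ → ℕ) (n F X q : ℕ) (Tb : ℕ → ℕ) (t : CT) : List ℕ → List (ℕ × ℕ) → Bool :=
  CT.rec (motive := fun _ => List ℕ → List (ℕ × ℕ) → Bool)
    (fun k _ l => leafChk M n F X q l (Tb k))
    (fun _ _ => true)
    (fun c sub _ ihs ihn bs l => band (Nat.blt (hd bs) n) (band (sub.nodeOK M F X q (tl bs) ((hd bs, c) :: l))
      (band (ihs (tl bs) ((hd bs, c) :: l)) (band (Nat.blt (hd (tl bs)) n) (ihn bs l))))) t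

section
variable {n : ℕ} {M : ℕ → ℕ} {X : ℕ} {τ σ : Equiv.Perm (Fin n)}

/-- the pairs of the list are points and images -/
def Good (σ : Equiv.Perm (Fin n)) (l : List (ℕ × ℕ)) : Prop :=
  ∀ p ∈ l, ∃ b : Fin n, p.1 = b ∧ p.2 = σ b

theorem Good.nil (σ : Equiv.Perm (Fin n)) : Good σ [] := fun p hp => by simp at hp

theorem Good.cons {l : List (ℕ × ℕ)} (h : Good σ l) {b c : ℕ} (hb : b < n) (e : (σ ⟨b, hb⟩ : ℕ) = c) :
    Good σ ((b, c) :: l) := by
  intro p hp
  rcases List.mem_cons.mp hp with rfl | hp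
  · exact ⟨⟨b, hb⟩, rfl, e.symm⟩
  · exact h p hp

theorem CT.sound (hX : Rp n X τ) (hcomm : σ * τ = τ * σ) (hP : Pres M σ) {F q : ℕ} (hF : F = 2 ^ n - 1)
    {Tb : ℕ → ℕ} (t : CT) : ∀ (bs : List ℕ) (l : List (ℕ × ℕ)), t.chk M n F X q Tb bs l = true →
    Good σ l → ((∃ k, t = .leaf k) ∨ ∃ hb : hd bs < n, (σ ⟨hd bs, hb⟩ : ℕ) ∈ t.ch) → ∃ k, Rp n (Tb k) σ := by
  induction t with
  | leaf k =>
    intro bs l h hg _
    exact ⟨k, H63.OT.leaf hX hcomm hP hF h hg⟩
  | nil =>
    rintro bs l h hg (⟨k, hk⟩ | ⟨_, hm⟩)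
    · exact absurd hk (by simp)
    · exact absurd hm (List.not_mem_nil)
  | br c sub next ihs ihn =>
    intro bs l h hg hm
    have h' : band (Nat.blt (hd bs) n) (band (sub.nodeOK M F X q (tl bs) ((hd bs, c) :: l))
      (band (sub.chk M n F X q Tb (tl bs) ((hd bs, c) :: l)) (band (Nat.blt (hd (tl bs)) n)
        (next.chk M n F X q Tb bs l)))) = true := h
    rw [band_iff, band_iff, band_iff, band_iff] at h'
    obtain ⟨h0, h1, h2, h2', h3⟩ := h'
    have hb : hd bs < n := Nat.le_of_ble_eq_true h0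
    have hb' : hd (tl bs) < n := Nat.le_of_ble_eq_true h2'
    rcases hm with ⟨k, hk⟩ | ⟨_, hm⟩
    · exact absurd hk (by simp)
    have hm' : (σ ⟨hd bs, hb⟩ : ℕ) ∈ c :: next.ch := hm
    rcases List.mem_cons.mp hm' with hm1 | hm1
    · have hg' : Good σ ((hd bs, c) :: l) := hg.cons hb hm1
      apply ihs (tl bs) ((hd bs, c) :: l) h2 hg'
      cases sub with
      | leaf k => exact Or.inl ⟨k, rfl⟩
      | nil =>
        exfalso
        have h4 : Nat.beq (candL M F X q ((hd bs, c) :: l) (hd (tl bs))) (maskOf []) = true := h1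
        have h5 := node hX hcomm hP hF hb' h4 hg'
        simp at h5
      | br c' sub' next' =>
        right
        have h4 : Nat.beq (candL M F X q ((hd bs, c) :: l) (hd (tl bs))) (maskOf (CT.br c' sub' next').ch) =
          true := h1
        exact ⟨hb', node hX hcomm hP hF hb' h4 hg'⟩
    · exact ihn bs l h3 hg (Or.inr ⟨hb, hm1⟩)

/-- complete determination of the commuting permutations -/
theorem CT.main (hX : Rp n X τ) (hcomm : σ * τ = τ * σ) (hP : Pres M σ) (hPτ : Pres M τ) {F q : ℕ}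
    (hF : F = 2 ^ n - 1) {Tb : ℕ → ℕ} {t : CT} {bs : List ℕ} (hb : hd bs < n)
    (hr : rootChk M n X q (hd bs) (maskOf t.ch) = true) (hc : t.chk M n F X q Tb bs [] = true) :
    ∃ i < q, ∃ k, Rp n (Tb k) (τ ^ i * σ) := by
  obtain ⟨i, hi, h1⟩ := root hX hcomm hP hb hr
  have h2 : (τ ^ i * σ) * τ = τ * (τ ^ i * σ) := by
    rw [mul_assoc, hcomm, ← mul_assoc, ← mul_assoc, ← pow_succ, ← pow_succ']
  exact ⟨i, hi, CT.sound hX h2 ((hPτ.pow i).mul hP) hF t bs [] hc (Good.nil _) (Or.inr ⟨hb, h1⟩)⟩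

end

/-! ### groups with tables -/

section
variable {G : Type} [Group G]

theorem exists_psi (φ : G →* Equiv.Perm ℕ) (hinj : Function.Injective φ) (n : ℕ)
    (hp : ∀ g b, φ g b < n ↔ b < n) (hf : ∀ g b, n ≤ b → φ g b = b) :
    ∃ ψ : G →* Equiv.Perm (Fin n), Function.Injective ψ ∧ ∀ g (i : Fin n), (ψ g i : ℕ) = φ g i := by
  let ψ : G →* Equiv.Perm (Fin n) :=
    { toFun := fun g =>
        { toFun := fun i => ⟨φ g i, (hp g i).mpr i.2⟩
          invFun := fun i => ⟨φ g⁻¹ i, (hp g⁻¹ i).mpr i.2⟩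
          left_inv := fun i => Fin.ext (by
            show φ g⁻¹ (φ g i) = i
            rw [← Equiv.Perm.mul_apply, ← map_mul, inv_mul_cancel, map_one]; rfl)
          right_inv := fun i => Fin.ext (by
            show φ g (φ g⁻¹ i) = i
            rw [← Equiv.Perm.mul_apply, ← map_mul, mul_inv_cancel, map_one]; rfl) }
      map_one' := by ext i; show φ 1 i = i; rw [map_one]; rfl
      map_mul' := fun g h => by ext i; show φ (g * h) i = φ g (φ h i); rw [map_mul]; rfl }
  refine ⟨ψ, ?_, fun g i => rfl⟩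
  intro g h hgh
  apply hinj
  ext b
  rcases Nat.lt_or_ge b n with hb | hb
  · have h1 := congrArg (fun σ : Equiv.Perm (Fin n) => (σ ⟨b, hb⟩ : ℕ)) hgh
    exact h1
  · rw [hf g b hb, hf h b hb]

/-- letters for three generators and a commuting involution -/
inductive Lx | x | X | y | Y | t | T | z
  deriving DecidableEq

/-- elements of the letters -/
def elx (x y t z : G) : Lx → G
  | .x => x
  | .X => x⁻¹
  | .y => y
  | .Y => y⁻¹
  | .t => t
  | .T => t⁻¹
  | .z => z

theorem word_mem {x y t z : G} (w : List Lx) (hw : ∀ a ∈ w, a ≠ Lx.z) :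
    (w.map (elx x y t z)).prod ∈ Subgroup.closure ({x, y, t} : Set G) := by
  apply Subgroup.list_prod_mem
  intro g hg
  obtain ⟨a, ha, rfl⟩ := List.mem_map.mp hg
  have hx : x ∈ Subgroup.closure ({x, y, t} : Set G) := Subgroup.subset_closure (by simp)
  have hy : y ∈ Subgroup.closure ({x, y, t} : Set G) := Subgroup.subset_closure (by simp)
  have ht : t ∈ Subgroup.closure ({x, y, t} : Set G) := Subgroup.subset_closure (by simp)
  cases a with
  | x => exact hx
  | X => exact inv_mem hx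
  | y => exact hy
  | Y => exact inv_mem hy
  | t => exact ht
  | T => exact inv_mem ht
  | z => exact absurd rfl (hw _ ha)

variable {n : ℕ} {ψ : G →* Equiv.Perm (Fin n)}

theorem psi_word {L : Type} (gL : L → G) (w : List L) :
    ψ ((w.map gL).prod) = (w.map (fun a => ψ (gL a))).prod := by
  rw [map_list_prod, List.map_map]
  rfl

theorem group_eq (hψ : Function.Injective ψ) {L : Type} {gL : L → G} {TL : L → ℕ}
    (h : ∀ a, Rp n (TL a) (ψ (gL a))) {u v : List L} (hc : eqWord n TL u v = true) :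
    (u.map gL).prod = (v.map gL).prod := by
  apply hψ
  rw [psi_word, psi_word]
  exact eqWord_spec h hc

theorem group_word (hψ : Function.Injective ψ) {L : Type} {gL : L → G} {TL : L → ℕ}
    (h : ∀ a, Rp n (TL a) (ψ (gL a))) {w : List L} {T : ℕ} {g : G} (hg : Rp n T (ψ g))
    (hc : chkWord n T TL w = true) : g = (w.map gL).prod := by
  apply hψ
  rw [psi_word]
  exact hg.unique (Rp_word h hc)

theorem group_ne {L : Type} {gL : L → G} {TL : L → ℕ}
    (h : ∀ a, Rp n (TL a) (ψ (gL a))) {u v : List L} {b : ℕ} (hb : b < n)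
    (hc : Nat.beq (evw TL u b) (evw TL v b) = false) : (u.map gL).prod ≠ (v.map gL).prod := by
  intro he
  have h1 := evw_spec h u ⟨b, hb⟩
  have h2 := evw_spec h v ⟨b, hb⟩
  rw [← psi_word, he, psi_word] at h1
  have h3 : evw TL u b = evw TL v b := h1.trans h2.symm
  rw [h3, Nat.beq_refl] at hc
  exact absurd hc (by decide)

theorem pres_gen {L : Type} {gL : L → G} (hgen : Subgroup.closure (Set.range gL) = ⊤) {M : ℕ → ℕ}
    (h : ∀ a, Pres M (ψ (gL a))) (g : G) : Pres M (ψ g) := by
  have hg : g ∈ Subgroup.closure (Set.range gL) := by rw [hgen]; exact Subgroup.mem_top g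
  induction hg using Subgroup.closure_induction with
  | mem s hs => obtain ⟨a, rfl⟩ := hs; exact h a
  | one => rw [map_one]; exact Pres.one M
  | mul a b _ _ ha hb => rw [map_mul]; exact ha.mul hb
  | inv a _ ha => rw [map_inv]; exact ha.inv

end

end H63.OT
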