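import Cfsg.Agent.Lib.H63.OutSign

set_option autoImplicit false

/-! Search trees with words at the leaves. -/

namespace H63.OT

open H63.PC

/-- the list of pairs is the graph of `W` on `B` -/
def matchB (W : ℕ → ℕ) : List ℕ → List (ℕ × ℕ) → Bool
  | [], [] => true
  | b :: B, (b', c) :: l => band (Nat.beq b b') (band (Nat.beq (W b) c) (matchB W B l))
  | _, _ => false

theorem matchB_spec {W : ℕ → ℕ} : ∀ {B : List ℕ} {l : List (ℕ × ℕ)}, matchB W B l = true →
    l = B.map (fun b => (b, W b))
  | [], [], _ => rfl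
  | b :: B, (b', c) :: l, h => by
    rw [matchB, band_iff, band_iff] at h
    rw [List.map_cons, ← matchB_spec h.2.2, Nat.eq_of_beq_eq_true h.1,
      ← Nat.eq_of_beq_eq_true h.2.1, Nat.eq_of_beq_eq_true h.1]
  | [], _ :: _, h => by simp [matchB] at h
  | _ :: _, [], h => by simp [matchB] at h

/-- tree check with values of known permutations at the leaves -/
noncomputable def CT.chk2 (M : ℕ → ℕ) (n F X q : ℕ) (K : ℕ) (W : ℕ → ℕ → ℕ) (B : List ℕ) (t : CT) :
    List ℕ → List (ℕ × ℕ) → Bool :=
  CT.rec (motive := fun _ => List ℕ → List (ℕ × ℕ) → Bool)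
    (fun k _ l => band (Nat.blt k K) (matchB (W k) B l))
    (fun _ _ => true)
    (fun c sub _ ihs ihn bs l => band (Nat.blt (hd bs) n) (band (sub.nodeOK M F X q (tl bs) ((hd bs, c) :: l))
      (band (ihs (tl bs) ((hd bs, c) :: l)) (band (Nat.blt (hd (tl bs)) n) (ihn bs l))))) t

/-- the list of the pairs `(b, b)` -/
noncomputable def dupL (B : List ℕ) : List (ℕ × ℕ) :=
  List.rec (motive := fun _ => List (ℕ × ℕ)) [] (fun b _ ih => (b, b) :: ih) B

/-- only the identity fixes `B` -/
noncomputable def idChk (M : ℕ → ℕ) (n F X q : ℕ) (B : List ℕ) : Bool :=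
  allN (fun v => Nat.beq (candL M F X q (dupL B) v) (Nat.shiftLeft 1 v)) n

section
variable {n : ℕ} {M : ℕ → ℕ} {X : ℕ} {τ σ : Equiv.Perm (Fin n)}

theorem good_dupL {ρ : Equiv.Perm (Fin n)} {B : List ℕ} (h : ∀ b ∈ B, ∃ b' : Fin n, b = b' ∧ ρ b' = b') :
    Good ρ (dupL B) := by
  induction B with
  | nil => exact Good.nil ρ
  | cons b B ih =>
    intro p hp
    have hp' : p ∈ (b, b) :: dupL B := hp
    rcases List.mem_cons.mp hp' with rfl | hp'
    · obtain ⟨b', h1, h2⟩ := h b (by simp)
      exact ⟨b', h1, by rw [h2]; exact h1⟩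
    · exact ih (fun b hb => h b (by simp [hb])) p hp'

theorem id_of_fix {ρ : Equiv.Perm (Fin n)} (hX : Rp n X τ) (hcomm : ρ * τ = τ * ρ) (hP : Pres M ρ) {F q : ℕ}
    (hF : F = 2 ^ n - 1) {B : List ℕ} (hc : idChk M n F X q B = true)
    (h : ∀ b ∈ B, ∃ b' : Fin n, b = b' ∧ ρ b' = b') : ρ = 1 := by
  subst hF
  ext v
  have h1 := candL_spec hX hcomm hP q (dupL B) (good_dupL h) v
  have hc' : allN (fun v => Nat.beq (candL M (2 ^ n - 1) X q (dupL B) v) (Nat.shiftLeft 1 v)) n = true := hc
  have h0 := allN_sound hc' v v.2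
  rw [Nat.eq_of_beq_eq_true h0] at h1
  have h2 : (1 <<< (v : ℕ)).testBit (ρ v) = true := h1
  rw [Nat.testBit_shiftLeft] at h2
  simp only [Bool.and_eq_true, decide_eq_true_eq] at h2
  have h3 : (ρ v : ℕ) - v = 0 := by
    by_contra hne
    have : (1 : ℕ).testBit ((ρ v : ℕ) - v) = false := Nat.testBit_lt_two_pow (Nat.one_lt_two_pow hne)
    rw [this] at h2
    exact absurd h2.2 (by decide)
  rw [Equiv.Perm.one_apply]
  omega

theorem CT.sound2 (hX : Rp n X τ) (hcomm : σ * τ = τ * σ) (hP : Pres M σ) {F q : ℕ} (hF : F = 2 ^ n - 1)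
    {K : ℕ} {W : ℕ → ℕ → ℕ} {B : List ℕ} (hid : idChk M n F X q B = true)
    (P : ℕ → Equiv.Perm (Fin n)) (hW : ∀ k < K, ∀ b : Fin n, W k b = (P k b : ℕ))
    (hPc : ∀ k < K, P k * τ = τ * P k) (hPP : ∀ k < K, Pres M (P k)) (t : CT) :
    ∀ (bs : List ℕ) (l : List (ℕ × ℕ)), t.chk2 M n F X q K W B bs l = true →
    Good σ l → ((∃ k, t = .leaf k) ∨ ∃ hb : hd bs < n, (σ ⟨hd bs, hb⟩ : ℕ) ∈ t.ch) → ∃ k < K, σ = P k := by
  induction t with
  | leaf k =>
    intro bs l h hg _
    have h' : band (Nat.blt k K) (matchB (W k) B l) = true := h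
    rw [band_iff] at h'
    have hk : k < K := Nat.le_of_ble_eq_true h'.1
    have hl := matchB_spec h'.2
    refine ⟨k, hk, ?_⟩
    have h1 : ((P k)⁻¹ * σ) = 1 := by
      apply id_of_fix hX ?_ ((hPP k hk).inv.mul hP) hF hid
      · intro b hb
        have hmem : (b, W k b) ∈ l := by
          rw [hl]
          exact List.mem_map.mpr ⟨b, hb, rfl⟩
        obtain ⟨b', h1, h2⟩ := hg _ hmem
        have h1' : b = b' := h1
        have h2' : W k b = σ b' := h2
        refine ⟨b', h1', ?_⟩
        rw [Equiv.Perm.mul_apply]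
        have : σ b' = P k b' := by
          apply Fin.ext
          rw [← h2', h1', hW k hk]
        rw [this]
        exact (P k).symm_apply_apply b'
      · have h3 : (P k)⁻¹ * τ = τ * (P k)⁻¹ := by
          have h4 : Commute (P k) τ := hPc k hk
          exact h4.inv_left.eq
        rw [mul_assoc, hcomm, ← mul_assoc, h3, mul_assoc]
    calc σ = P k * ((P k)⁻¹ * σ) := by rw [← mul_assoc, mul_inv_cancel, one_mul]
      _ = P k := by rw [h1, mul_one]
  | nil =>
    rintro bs l h hg (⟨k, hk⟩ | ⟨_, hm⟩)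
    · exact absurd hk (by simp)
    · exact absurd hm (List.not_mem_nil)
  | br c sub next ihs ihn =>
    intro bs l h hg hm
    have h' : band (Nat.blt (hd bs) n) (band (sub.nodeOK M F X q (tl bs) ((hd bs, c) :: l))
      (band (sub.chk2 M n F X q K W B (tl bs) ((hd bs, c) :: l)) (band (Nat.blt (hd (tl bs)) n)
        (next.chk2 M n F X q K W B bs l)))) = true := h
    rw [band_iff, band_iff, band_iff, band_iff] at h'
    obtain ⟨h0, h1, h2, h2', h3⟩ := h'
    have hb : hd bs < n := Nat.le_of_ble_eq_true h0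
    have hb' : hd (tl bs) < n := Nat.le_of_ble_eq_true h2'
    rcases hm with ⟨k, hk⟩ | ⟨_, hm⟩
    · exact absurd hk (by simp)
    have hm' : (σ ⟨hd bs, hb⟩ : ℕ) ∈ c :: next.ch := hm
    rcases List.mem_cons.mp hm' with hm1 | hm1
    · have hg' : Good σ ((hd bs, c) :: l) := hg.cons hb hm1
      apply ihs (tl bs) ((hd bs, c) :: l) h2 hg'
      cases sub with
      | leaf k => exact Or.inl ⟨k, rfl⟩
      | nil =>
        exfalso
        have h4 : Nat.beq (candL M F X q ((hd bs, c) :: l) (hd (tl bs))) (maskOf []) = true := h1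
        have h5 := node hX hcomm hP hF hb' h4 hg'
        simp at h5
      | br c' sub' next' =>
        right
        have h4 : Nat.beq (candL M F X q ((hd bs, c) :: l) (hd (tl bs))) (maskOf (CT.br c' sub' next').ch) =
          true := h1
        exact ⟨hb', node hX hcomm hP hF hb' h4 hg'⟩
    · exact ihn bs l h3 hg (Or.inr ⟨hb, hm1⟩)

/-- complete determination of the commuting permutations -/
theorem CT.main2 (hX : Rp n X τ) (hcomm : σ * τ = τ * σ) (hP : Pres M σ) (hPτ : Pres M τ) {F q : ℕ}
    (hF : F = 2 ^ n - 1) {K : ℕ} {W : ℕ → ℕ → ℕ} {B : List ℕ} (hid : idChk M n F X q B = true)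
    (P : ℕ → Equiv.Perm (Fin n)) (hW : ∀ k < K, ∀ b : Fin n, W k b = (P k b : ℕ))
    (hPc : ∀ k < K, P k * τ = τ * P k) (hPP : ∀ k < K, Pres M (P k)) {t : CT} {bs : List ℕ} (hb : hd bs < n)
    (hr : rootChk M n X q (hd bs) (maskOf t.ch) = true) (hc : t.chk2 M n F X q K W B bs [] = true) :
    ∃ i < q, ∃ k < K, τ ^ i * σ = P k := by
  obtain ⟨i, hi, h1⟩ := root hX hcomm hP hb hr
  have h2 : (τ ^ i * σ) * τ = τ * (τ ^ i * σ) := by
    rw [mul_assoc, hcomm, ← mul_assoc, ← mul_assoc, ← pow_succ, ← pow_succ']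
  exact ⟨i, hi, CT.sound2 hX h2 ((hPτ.pow i).mul hP) hF hid P hW hPc hPP t bs [] hc (Good.nil _) (Or.inr ⟨hb, h1⟩)⟩

end

/-! ### signs -/

/-- number of `i < m` with `f i`, with accumulator -/
noncomputable def cntA (f : ℕ → Bool) (m : ℕ) : ℕ → ℕ :=
  Nat.rec (motive := fun _ => ℕ → ℕ) (fun a => a)
    (fun k ih a => Bool.rec (motive := fun _ => ℕ) (ih a) (ih (Nat.succ a)) (f k)) m

theorem cntA_spec (f : ℕ → Bool) (m a : ℕ) : cntA f m a = a + ∑ i ∈ Finset.range m, if f i = true then 1 else 0 := by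
  induction m generalizing a with
  | zero => rfl
  | succ m ih =>
    have e : cntA f (m + 1) a = Bool.rec (motive := fun _ => ℕ) (cntA f m a) (cntA f m (Nat.succ a)) (f m) := rfl
    rw [e, Finset.sum_range_succ]
    cases hf : f m with
    | false => 
      show cntA f m a = _
      rw [ih]; simp
    | true => 
      show cntA f m (Nat.succ a) = _
      rw [ih]; simp; ring

theorem sign_neg2 {n T f : ℕ} {θ : Equiv.Perm (Fin n)} (hT : Rp n T θ) (h2 : θ * θ = 1)
    (hf : cntA (fun i => Nat.beq (a12 T i) i) n 0 = f) (hn : (n - f) % 4 = 2) : Equiv.Perm.sign θ = -1 := by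
  have hfix : (Finset.univ.filter (fun i : Fin n => θ i = i)).card = f := by
    rw [← hf, cntA_spec, zero_add, Finset.card_filter,
      Finset.sum_range (fun i => if (Nat.beq (a12 T i) i) = true then 1 else 0)]
    apply Finset.sum_congr rfl
    intro i _
    congr 1
    rw [hT i]
    apply propext
    constructor
    · intro h
      rw [h]
      exact Nat.beq_refl _
    · intro h
      exact Fin.ext (Nat.eq_of_beq_eq_true h)
  have hsup : θ.support.card = n - f := by
    have h3 : θ.support = Finset.univ \ (Finset.univ.filter (fun i : Fin n => θ i = i)) := by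
      ext i
      simp [Equiv.Perm.mem_support]
    rw [h3, Finset.card_sdiff_of_subset (Finset.filter_subset _ _), hfix, Finset.card_univ, Fintype.card_fin]
  have h1 : θ ≠ 1 := by
    intro h
    rw [h, Equiv.Perm.support_one, Finset.card_empty] at hsup
    rw [← hsup] at hn
    exact absurd hn (by decide)
  have ho : orderOf θ = 2 := orderOf_eq_prime (by rw [pow_two, h2]) h1
  obtain ⟨m, hm⟩ := Equiv.Perm.cycleType_prime_order (σ := θ) (by rw [ho]; exact Nat.prime_two)
  have hs := Equiv.Perm.sum_cycleType θ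
  rw [hsup] at hs
  have hs' := hs
  rw [hm, ho, Multiset.sum_replicate, smul_eq_mul] at hs'
  rw [Equiv.Perm.sign_of_cycleType, hs, hm, ho, Multiset.card_replicate]
  have h3 : Odd (n - f + (m + 1)) := by
    rw [Nat.odd_iff]
    omega
  exact h3.neg_one_pow

/-! ### letters -/

/-- letters for three generators and four further elements commuting with `y` -/
inductive Lz | x | X | y | Y | t | T | a | b | c | d
  deriving DecidableEq

section
variable {G : Type} [Group G]

/-- elements of the letters -/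
def elz (x y t a b c d : G) : Lz → G
  | .x => x
  | .X => x⁻¹
  | .y => y
  | .Y => y⁻¹
  | .t => t
  | .T => t⁻¹
  | .a => a
  | .b => b
  | .c => c
  | .d => d

/-- letters of the three generators -/
def Lz.basic : Lz → Bool
  | .x | .X | .y | .Y | .t | .T => true
  | _ => false

theorem wordz_mem {x y t a b c d : G} (w : List Lz) (hw : ∀ l ∈ w, l.basic = true) :
    (w.map (elz x y t a b c d)).prod ∈ Subgroup.closure ({x, y, t} : Set G) := by
  apply Subgroup.list_prod_mem
  intro g hg
  obtain ⟨l, hl, rfl⟩ := List.mem_map.mp hg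
  have hx : x ∈ Subgroup.closure ({x, y, t} : Set G) := Subgroup.subset_closure (by simp)
  have hy : y ∈ Subgroup.closure ({x, y, t} : Set G) := Subgroup.subset_closure (by simp)
  have ht : t ∈ Subgroup.closure ({x, y, t} : Set G) := Subgroup.subset_closure (by simp)
  have h1 := hw l hl
  cases l with
  | x => exact hx
  | X => exact inv_mem hx
  | y => exact hy
  | Y => exact inv_mem hy
  | t => exact ht
  | T => exact inv_mem ht
  | a => exact absurd h1 (by decide)
  | b => exact absurd h1 (by decide)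
  | c => exact absurd h1 (by decide)
  | d => exact absurd h1 (by decide)

/-- substitution of `t` -/
def sub2 (cw : List Lz) : Lz → List Lz
  | .t => .t :: cw
  | a => [a]

/-- substitution in a word -/
def subz (cw w : List Lz) : List Lz := w.flatMap (sub2 cw)

theorem subz_prod {x y t a b c d : G} (cw w : List Lz) (hw : Lz.T ∉ w) :
    ((subz cw w).map (elz x y t a b c d)).prod =
    (w.map (elz x y (t * (cw.map (elz x y t a b c d)).prod) a b c d)).prod := by
  induction w with
  | nil => rfl
  | cons l w ih =>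
    have e : subz cw (l :: w) = sub2 cw l ++ subz cw w := rfl
    rw [e, List.map_append, List.prod_append, ih (fun h => hw (List.mem_cons_of_mem _ h)), List.map_cons,
      List.prod_cons]
    congr 1
    cases l with
    | T => exact absurd (List.mem_cons_self) hw
    | _ => simp [sub2, elz]

theorem rel_mapz {x y t a b c d : G} {β : MulAut G} (hx : β x = x) (hy : β y = y) {w : List Lz}
    (hw : ∀ l ∈ w, l.basic = true) (h : (w.map (elz x y t a b c d)).prod = 1) :
    (w.map (elz x y (β t) a b c d)).prod = 1 := by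
  have h1 : β ((w.map (elz x y t a b c d)).prod) = 1 := by rw [h, map_one]
  rw [map_list_prod, List.map_map] at h1
  rw [← h1]
  congr 1
  apply List.map_congr_left
  intro l hl
  have h2 := hw l hl
  cases l with
  | x => exact hx.symm
  | X => show x⁻¹ = β x⁻¹; rw [map_inv, hx]
  | y => exact hy.symm
  | Y => show y⁻¹ = β y⁻¹; rw [map_inv, hy]
  | t => rfl
  | T => show (β t)⁻¹ = β t⁻¹; rw [map_inv]
  | a => exact absurd h2 (by decide)
  | b => exact absurd h2 (by decide)
  | c => exact absurd h2 (by decide)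
  | d => exact absurd h2 (by decide)

/-- permutations commuting with `τ` and preserving the relation -/
def goodSub {n : ℕ} (M : ℕ → ℕ) (τ : Equiv.Perm (Fin n)) : Submonoid (Equiv.Perm (Fin n)) where
  carrier := {σ | σ * τ = τ * σ ∧ Pres M σ}
  one_mem' := ⟨by rw [one_mul, mul_one], Pres.one M⟩
  mul_mem' := fun {a b} ha hb => ⟨by
    have h1 : Commute a τ := ha.1
    have h2 : Commute b τ := hb.1
    exact (h1.mul_left h2).eq, ha.2.mul hb.2⟩

theorem good_prod {n : ℕ} {M : ℕ → ℕ} {τ : Equiv.Perm (Fin n)} {L : Type} {π : L → Equiv.Perm (Fin n)}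
    (w : List L) (h : ∀ l ∈ w, π l * τ = τ * π l ∧ Pres M (π l)) :
    (w.map π).prod * τ = τ * (w.map π).prod ∧ Pres M (w.map π).prod := by
  have : (w.map π).prod ∈ goodSub M τ := by
    apply Submonoid.list_prod_mem
    intro s hs
    obtain ⟨l, hl, rfl⟩ := List.mem_map.mp hs
    exact h l hl
  exact this

end

end H63.OT
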