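import Cfsg.Agent.Lib.H63.FrobeniusFix
import Cfsg.Agent.Lib.H63.PGroupBasics

/-! Three primes in a normal chain: one of the three products of two is an element order (helper63). -/

namespace H63.ThreePrimes

open Subgroup

/-- Elements of order `p` and `q` (distinct primes) that commute give an element of order `p * q`. -/
theorem exists_orderOf_mul {G : Type*} [Group G] {p q : ℕ} (hp : p.Prime) (hq : q.Prime) (hpq : p ≠ q)
    {a b : G} (ha : orderOf a = p) (hb : orderOf b = q) (hab : a * b = b * a) :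
    ∃ x : G, orderOf x = p * q := by
  refine ⟨a * b, ?_⟩
  have hc : Commute a b := hab
  rw [hc.orderOf_mul_eq_mul_orderOf_of_coprime, ha, hb]
  rw [ha, hb]
  exact (Nat.coprime_primes hp hq).mpr hpq

theorem exists_pow_orderOf_eq {Q : Type*} [Group Q] {q : ℕ} [Fact q.Prime] (hQ : IsPGroup q Q) {w : Q}
    (hw : w ≠ 1) : ∃ n : ℕ, orderOf (w ^ n) = q := by
  have hq : q.Prime := Fact.out
  obtain ⟨n, hn⟩ := (IsPGroup.iff_orderOf.mp hQ) w
  have hn0 : n ≠ 0 := by
    rintro rfl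
    rw [pow_zero, orderOf_eq_one_iff] at hn
    exact hw hn
  obtain ⟨m, rfl⟩ := Nat.exists_eq_succ_of_ne_zero hn0
  refine ⟨q ^ m, ?_⟩
  rw [orderOf_pow_of_dvd (pow_ne_zero _ hq.ne_zero) (by rw [hn]; exact pow_dvd_pow q (Nat.le_succ m)), hn,
      Nat.pow_div (Nat.le_succ m) hq.pos]
  simp

theorem exists_pow_orderOf_eq' {G : Type*} [Group G] {Q : Subgroup G} {q : ℕ} [Fact q.Prime]
    (hQ : IsPGroup q Q) {w : G} (hwQ : w ∈ Q) (hw : w ≠ 1) : ∃ n : ℕ, orderOf (w ^ n) = q := by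
  obtain ⟨n, hn⟩ := exists_pow_orderOf_eq hQ (w := ⟨w, hwQ⟩) (fun h => hw (congrArg Subtype.val h))
  refine ⟨n, ?_⟩
  rw [← hn, ← Subgroup.orderOf_coe]
  rfl

theorem core {G : Type*} [Group G] [Finite G] {p q r : ℕ} (hp : p.Prime) (hq : q.Prime) (hr : r.Prime)
    (hpq : p ≠ q) (hpr : p ≠ r) (hqr : q ≠ r) (P Q : Subgroup G) (hP : IsPGroup p P) (hPne : P ≠ ⊥)
    (hQ : IsPGroup q Q) (hQne : Q ≠ ⊥) (hQP : Q ≤ normalizer (P : Set G)) (x : G) (hx : orderOf x = r)
    (hxP : x ∈ normalizer (P : Set G)) (hxQ : x ∈ normalizer (Q : Set G)) :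
    (∃ y : G, orderOf y = p * q) ∨ (∃ y : G, orderOf y = p * r) ∨ (∃ y : G, orderOf y = q * r) := by
  have : Fact p.Prime := ⟨hp⟩
  have : Fact q.Prime := ⟨hq⟩
  by_contra hcon
  push Not at hcon
  obtain ⟨c1, c2, c3⟩ := hcon
  -- the subgroup V
  let V : Subgroup G :=
    { carrier := {v | v ∈ P ∧ (∀ u ∈ P, u * v = v * u) ∧ v ^ p = 1}
      mul_mem' := by
        rintro a b ⟨ha, ha', ha''⟩ ⟨hb, hb', hb''⟩
        refine ⟨P.mul_mem ha hb, ?_, ?_⟩
        · intro u hu
          rw [← mul_assoc, ha' u hu, mul_assoc, hb' u hu, mul_assoc]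
        · have : Commute a b := (hb' a ha)
          rw [this.mul_pow, ha'', hb'', one_mul]
      one_mem' := ⟨P.one_mem, fun u _ => by rw [mul_one, one_mul], one_pow _⟩
      inv_mem' := by
        rintro a ⟨ha, ha', ha''⟩
        refine ⟨P.inv_mem ha, ?_, ?_⟩
        · intro u hu
          have : Commute u a := ha' u hu
          exact this.inv_right.eq
        · rw [inv_pow, ha'', inv_one] }
  have hVmem : ∀ v, v ∈ V ↔ v ∈ P ∧ (∀ u ∈ P, u * v = v * u) ∧ v ^ p = 1 := fun v => Iff.rfl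
  have hPtop : (⊤ : Subgroup P) ≠ ⊥ := by
    intro h
    apply hPne
    rw [eq_bot_iff]
    intro u hu
    have : (⟨u, hu⟩ : P) ∈ (⊤ : Subgroup P) := trivial
    rw [h, Subgroup.mem_bot] at this
    exact Subgroup.mem_bot.mpr (congrArg Subtype.val this)
  obtain ⟨v0, -, hv0, hv0c⟩ := H63.PGroupBasics.exists_central_orderOf_eq hP (⊤ : Subgroup P) hPtop
  have hv0' : orderOf (v0 : G) = p := by rw [Subgroup.orderOf_coe, hv0]
  have hv0V : (v0 : G) ∈ V := by
    refine ⟨v0.2, ?_, ?_⟩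
    · intro u hu
      exact congrArg Subtype.val (hv0c ⟨u, hu⟩)
    · exact orderOf_dvd_iff_pow_eq_one.mp (dvd_of_eq hv0')
  have hVord : ∀ v ∈ V, v ≠ 1 → orderOf v = p := fun v hv hv1 => orderOf_eq_prime hv.2.2 hv1
  have hnorm : ∀ g ∈ normalizer (P : Set G), ∀ v ∈ V, g * v * g⁻¹ ∈ V := by
    intro g hg v hv
    refine ⟨(Subgroup.mem_normalizer_iff.mp hg v).mp hv.1, ?_, ?_⟩
    · intro u hu
      have hu' : g⁻¹ * u * g ∈ P := by
        have := (Subgroup.mem_normalizer_iff.mp (Subgroup.inv_mem _ hg) u).mp hu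
        rwa [inv_inv] at this
      have := hv.2.1 _ hu'
      calc u * (g * v * g⁻¹) = g * ((g⁻¹ * u * g) * v) * g⁻¹ := by group
        _ = g * (v * (g⁻¹ * u * g)) * g⁻¹ := by rw [this]
        _ = g * v * g⁻¹ * u := by group
    · rw [conj_pow, hv.2.2, mul_one, mul_inv_cancel]
  have hnormV : ∀ g ∈ normalizer (P : Set G), g ∈ normalizer (V : Set G) := by
    intro g hg
    rw [Subgroup.mem_normalizer_iff]
    intro v
    constructor
    · exact hnorm g hg v
    · intro hv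
      have := hnorm g⁻¹ (Subgroup.inv_mem _ hg) _ hv
      have e : g⁻¹ * (g * v * g⁻¹) * g⁻¹⁻¹ = v := by group
      rwa [e] at this
  obtain ⟨w0, hw0Q, hw0⟩ : ∃ w ∈ Q, orderOf w = q := by
    obtain ⟨w, hw, hw1⟩ := (Subgroup.ne_bot_iff_exists_ne_one.mp hQne) |> fun ⟨a, ha⟩ =>
      (⟨a, a.2, fun h => ha (Subtype.ext h)⟩ : ∃ w ∈ Q, w ≠ (1 : G))
    obtain ⟨n, hn⟩ := exists_pow_orderOf_eq' hQ hw hw1
    exact ⟨w ^ n, Q.pow_mem hw n, hn⟩
  have key := H63.FrobeniusFix.pow_card_eq_one V Q x r hr.pos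
    (orderOf_dvd_iff_pow_eq_one.mp (dvd_of_eq hx))
    (fun a ha b hb => hb.2.1 a ha.1)
    (fun w hw => hnormV w (hQP hw)) (hnormV x hxP)
    (fun w hw => (Subgroup.mem_normalizer_iff.mp hxQ w).mp hw)
    (by
      intro v hv hcomm
      by_contra hv1
      obtain ⟨y, hy⟩ := exists_orderOf_mul hp hq hpq (hVord v hv hv1) hw0 (hcomm w0 hw0Q).symm
      exact c1 y hy)
    (by
      intro v hv hcomm
      by_contra hv1
      obtain ⟨y, hy⟩ := exists_orderOf_mul hp hr hpr (hVord v hv hv1) hx hcomm.symm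
      exact c2 y hy)
    (by
      intro i hi hir w hw hcomm
      by_contra hw1
      obtain ⟨n, hn⟩ := exists_pow_orderOf_eq' hQ hw hw1
      have hxi : orderOf (x ^ i) = r := by
        rw [orderOf_pow, hx]
        have : Nat.gcd r i = 1 := by
          exact (Nat.coprime_of_lt_prime (by omega) hir hr)
        rw [this, Nat.div_one]
      have hc : Commute (x ^ i) (w ^ n) := (show Commute (x ^ i) w from hcomm).pow_right n
      obtain ⟨y, hy⟩ := exists_orderOf_mul hq hr hqr hn hxi hc.eq.symm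
      exact c3 y hy)
    v0 hv0V
  have hdvd : p ∣ Nat.card Q := by
    rw [← hv0']
    exact orderOf_dvd_of_pow_eq_one key
  obtain ⟨n, hn⟩ := IsPGroup.iff_card.mp hQ
  rw [hn] at hdvd
  exact hpq ((Nat.prime_dvd_prime_iff_eq hp hq).mp (hp.dvd_of_dvd_pow hdvd))

/-- Three distinct primes dividing successive factors of a normal chain. -/
theorem chain {G : Type*} [Group G] [Finite G] (K M : Subgroup G) [K.Normal] [M.Normal] (hKM : K ≤ M)
    {p q r : ℕ} (hp : p.Prime) (hq : q.Prime) (hr : r.Prime) (hpq : p ≠ q) (hpr : p ≠ r) (hqr : q ≠ r)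
    (hpK : p ∣ Nat.card K) (hqM : q ∣ K.relIndex M) (hrG : r ∣ M.index) :
    (∃ y : G, orderOf y = p * q) ∨ (∃ y : G, orderOf y = p * r) ∨ (∃ y : G, orderOf y = q * r) := by
  have : Fact p.Prime := ⟨hp⟩
  have : Fact q.Prime := ⟨hq⟩
  have : Fact r.Prime := ⟨hr⟩
  obtain ⟨P0⟩ : Nonempty (Sylow p K) := inferInstance
  let P : Subgroup G := (P0 : Subgroup K).map K.subtype
  have hPp : IsPGroup p P := P0.isPGroup'.map K.subtype
  have hfr := Sylow.normalizer_sup_eq_top P0
  have hPne : P ≠ ⊥ := by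
    intro h
    have h1 : (P0 : Subgroup K) = ⊥ := by
      rwa [Subgroup.map_eq_bot_iff_of_injective _ K.subtype_injective] at h
    have h2 := P0.not_dvd_index
    rw [h1, Subgroup.index_bot] at h2
    exact h2 hpK
  let G1 : Subgroup G := normalizer (P : Set G)
  have hG1K : G1 ⊔ K = ⊤ := hfr
  have hG1M : G1 ⊔ M = ⊤ := by
    rw [eq_top_iff, ← hG1K]
    exact sup_le_sup_left hKM G1
  -- q divides |M ⊓ G1|
  have hM : (M ⊓ G1) ⊔ K = M := by
    apply le_antisymm (sup_le inf_le_left hKM)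
    intro m hm
    have hm' : m ∈ G1 ⊔ K := by rw [hG1K]; trivial
    obtain ⟨g, hg, k, hk, hgk⟩ := Subgroup.mem_sup_of_normal_right.mp hm'
    rw [← hgk]
    apply Subgroup.mul_mem_sup _ hk
    refine ⟨?_, hg⟩
    have : g = m * k⁻¹ := by rw [← hgk]; group
    rw [this]
    exact M.mul_mem hm (M.inv_mem (hKM hk))
  have hqMG : q ∣ Nat.card (M ⊓ G1 : Subgroup G) := by
    have h1 : K.relIndex M = K.relIndex (M ⊓ G1) := by
      conv_lhs => rw [← hM]
      exact Subgroup.relIndex_sup_right _ _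
    rw [h1] at hqM
    exact hqM.trans (Subgroup.relIndex_dvd_card _ _)
  -- work inside G1
  let M1 : Subgroup G1 := M.subgroupOf G1
  have hM1n : M1.Normal := inferInstance
  have hqM1 : q ∣ Nat.card M1 := by
    have : Nat.card M1 = Nat.card (M ⊓ G1 : Subgroup G) := by
      have h1 : M1 = (M ⊓ G1).subgroupOf G1 := by
        show M.subgroupOf G1 = _
        rw [Subgroup.inf_subgroupOf_right]
      rw [h1]
      exact Nat.card_congr (Subgroup.subgroupOfEquivOfLe inf_le_right).toEquiv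
    rwa [this]
  obtain ⟨Q0⟩ : Nonempty (Sylow q M1) := inferInstance
  let Q1 : Subgroup G1 := (Q0 : Subgroup M1).map M1.subtype
  have hQ1q : IsPGroup q Q1 := Q0.isPGroup'.map M1.subtype
  have hfr2 := Sylow.normalizer_sup_eq_top Q0
  have hQ1ne : Q1 ≠ ⊥ := by
    intro h
    have h1 : (Q0 : Subgroup M1) = ⊥ := by
      rwa [Subgroup.map_eq_bot_iff_of_injective _ M1.subtype_injective] at h
    have h2 := Q0.not_dvd_index
    rw [h1, Subgroup.index_bot] at h2
    exact h2 hqM1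
  let G2 : Subgroup G1 := normalizer (Q1 : Set G1)
  have hG2 : G2 ⊔ M1 = ⊤ := hfr2
  have hrM1 : r ∣ M1.index := by
    have h1 : M.index = M.relIndex G1 := by
      rw [← Subgroup.relIndex_top_right, ← hG1M]
      exact Subgroup.relIndex_sup_right _ _
    rw [h1] at hrG
    exact hrG
  have hrG2 : r ∣ Nat.card G2 := by
    have h1 : M1.index = M1.relIndex G2 := by
      rw [← Subgroup.relIndex_top_right, ← hG2]
      exact Subgroup.relIndex_sup_right _ _
    rw [h1] at hrM1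
    exact hrM1.trans (Subgroup.relIndex_dvd_card _ _)
  obtain ⟨x, hx⟩ := exists_prime_orderOf_dvd_card' r hrG2
  have hx1 : orderOf (x : G1) = r := by rw [Subgroup.orderOf_coe, hx]
  have hres := core hp hq hr hpq hpr hqr (P.subgroupOf G1) Q1
    (hPp.comap_subtype) (by
      intro h
      apply hPne
      have hle : P ≤ G1 := Subgroup.le_normalizer
      rw [Subgroup.subgroupOf_eq_bot] at h
      rw [eq_bot_iff]
      have := h.le_bot
      intro u hu
      exact this ⟨hu, hle hu⟩) hQ1q hQ1ne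
    (by
      intro w hw
      rw [Subgroup.mem_normalizer_iff]
      intro u
      exact Subgroup.mem_normalizer_iff.mp w.2 (u : G)) (x : G1) hx1
    (by
      rw [Subgroup.mem_normalizer_iff]
      intro u
      exact Subgroup.mem_normalizer_iff.mp (x : G1).2 (u : G)) x.2
  rcases hres with ⟨y, hy⟩ | ⟨y, hy⟩ | ⟨y, hy⟩
  · left; exact ⟨y, by rw [Subgroup.orderOf_coe, hy]⟩
  · right; left; exact ⟨y, by rw [Subgroup.orderOf_coe, hy]⟩
  · right; right; exact ⟨y, by rw [Subgroup.orderOf_coe, hy]⟩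

end H63.ThreePrimes
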